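import Groth.Prelude.Def_FibCat2

/-!
# Helper65: equivalences over the base category — a fully-faithful + essentially-surjective criterion
-/

set_option autoImplicit false
set_option backward.isDefEq.respectTransparency false
set_option backward.isDefEq.respectTransparency.types false

universe v₅ u₅ v₄ u₄ v₃ u₃ v₂ u₂ v u

open CategoryTheory CategoryTheory.Functor

namespace Groth.Agent.Lib.Helper65

open FibCat

variable {C : Type u} [Category.{v} C]
variable {𝒳 : BasedCategory.{v₂, u₂} C} {𝒴 : BasedCategory.{v₃, u₃} C} {𝒵 : BasedCategory.{v₄, u₄} C}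

/-- Essential surjectivity over the base: every object of the target is isomorphic, by an isomorphism lying
over an identity, to an object in the image. -/
def EssSurjOver (F : 𝒳 ⥤ᵇ 𝒴) : Prop :=
  ∀ y : 𝒴.obj, ∃ (x : 𝒳.obj) (ε : F.obj x ≅ y), 𝒴.p.IsHomLift (𝟙 (𝒴.p.obj y)) ε.hom

/-- Transport of `IsHomLift (𝟙 S)` along an equality of objects of the base. -/
theorem isHomLift_id_of_eq {𝒲 : Type*} [Category 𝒲] (p : 𝒲 ⥤ C) {S S' : C} (h : S = S') {a b : 𝒲} (φ : a ⟶ b)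
    [p.IsHomLift (𝟙 S) φ] : p.IsHomLift (𝟙 S') φ := by
  subst h; infer_instance

theorem isEquivOver_of_ff_ess (F : 𝒳 ⥤ᵇ 𝒴) [F.toFunctor.Full] [F.toFunctor.Faithful]
    (hF : EssSurjOver F) : IsEquivOver F := by
  classical
  choose G₀ ε hε using hF
  have hGp : ∀ y, 𝒳.p.obj (G₀ y) = 𝒴.p.obj y := fun y => by
    haveI := hε y
    rw [← F.w_obj]
    exact IsHomLift.domain_eq 𝒴.p (𝟙 (𝒴.p.obj y)) (ε y).hom
  let Gfun : 𝒴.obj ⥤ 𝒳.obj :=
    { obj := G₀
      map := fun {y y'} φ => F.toFunctor.preimage ((ε y).hom ≫ φ ≫ (ε y').inv)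
      map_id := fun y => by
        apply F.toFunctor.map_injective
        simp
      map_comp := fun {y y' y''} φ ψ => by
        apply F.toFunctor.map_injective
        simp }
  have hGmap : ∀ {y y' : 𝒴.obj} (φ : y ⟶ y'), F.map (Gfun.map φ) = (ε y).hom ≫ φ ≫ (ε y').inv :=
    fun φ => F.toFunctor.map_preimage _
  have hlift : ∀ {y y' : 𝒴.obj} (φ : y ⟶ y'), 𝒳.p.IsHomLift (𝒴.p.map φ) (Gfun.map φ) := by
    intro y y' φ
    rw [← BasedFunctor.isHomLift_iff F, hGmap]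
    haveI := hε y
    haveI := hε y'
    infer_instance
  let G : 𝒴 ⥤ᵇ 𝒳 :=
    { toFunctor := Gfun
      w := Functor.ext hGp (fun y y' φ => by
        haveI := hlift φ
        exact IsHomLift.fac' 𝒳.p (𝒴.p.map φ) (Gfun.map φ)) }
  refine ⟨G, ⟨?_⟩, ⟨?_⟩⟩
  · -- F ⋙ G ≅ id
    refine BasedNatIso.mkNatIso
      (NatIso.ofComponents (fun x => F.toFunctor.preimageIso (ε (F.obj x))) ?_) ?_
    · intro x x' f
      apply F.toFunctor.map_injective
      change F.map (Gfun.map (F.map f) ≫ _) = F.map (_ ≫ f)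
      rw [F.map_comp, F.map_comp, hGmap]
      simp
    · intro x
      change 𝒳.p.IsHomLift (𝟙 (𝒳.p.obj x)) (F.toFunctor.preimage (ε (F.obj x)).hom)
      rw [← BasedFunctor.isHomLift_iff F, F.toFunctor.map_preimage]
      haveI := hε (F.obj x)
      exact isHomLift_id_of_eq 𝒴.p (F.w_obj x) _
  · -- G ⋙ F ≅ id
    refine BasedNatIso.mkNatIso (NatIso.ofComponents ε ?_) ?_
    · intro y y' φ
      change F.map (Gfun.map φ) ≫ _ = _ ≫ φ
      rw [hGmap]
      simp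
    · intro y
      exact hε y

theorem isEquivOver_full_faithful_ess (F : 𝒳 ⥤ᵇ 𝒴) (hF : IsEquivOver F) :
    F.toFunctor.Full ∧ F.toFunctor.Faithful ∧ EssSurjOver F := by
  obtain ⟨G, ⟨η⟩, ⟨ε⟩⟩ := hF
  let η' : F.toFunctor ⋙ G.toFunctor ≅ 𝟭 𝒳.obj := (BasedNatTrans.forgetful _ _).mapIso η
  let ε' : G.toFunctor ⋙ F.toFunctor ≅ 𝟭 𝒴.obj := (BasedNatTrans.forgetful _ _).mapIso ε
  let E : 𝒳.obj ≌ 𝒴.obj := CategoryTheory.Equivalence.mk F.toFunctor G.toFunctor η'.symm ε'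
  have hE : E.functor = F.toFunctor := rfl
  haveI : F.toFunctor.IsEquivalence := hE ▸ E.isEquivalence_functor
  refine ⟨inferInstance, inferInstance, ?_⟩
  intro y
  refine ⟨G.obj y, ε'.app y, ?_⟩
  exact ε.hom.isHomLift' y

theorem isEquivOver_iff (F : 𝒳 ⥤ᵇ 𝒴) :
    IsEquivOver F ↔ F.toFunctor.Full ∧ F.toFunctor.Faithful ∧ EssSurjOver F :=
  ⟨isEquivOver_full_faithful_ess F, fun ⟨h1, h2, h3⟩ => @isEquivOver_of_ff_ess _ _ _ _ F h1 h2 h3⟩

end Groth.Agent.Lib.Helper65
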