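import Groth.Prelude.Def_AlgSt
import Groth.Agent.Lib.Helper31.FibCat
import Groth.Agent.Lib.Helper65.BasedEquiv

/-!
# Helper65: postcomposition with a functor over the base, transfer of fibred-in-groupoids / setoids and
of the stack conditions along an equivalence over the base.
-/

set_option autoImplicit false
set_option backward.isDefEq.respectTransparency false
set_option backward.isDefEq.respectTransparency.types false

universe v₅ u₅ v₄ u₄ v₃ u₃ v₂ u₂ v u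

open CategoryTheory CategoryTheory.Functor

namespace Groth.Agent.Lib.Helper65

open FibCat Groth.Agent.Lib.Helper31

variable {C : Type u} [Category.{v} C]
variable {𝒳 : BasedCategory.{v₂, u₂} C} {𝒴 : BasedCategory.{v₃, u₃} C} {𝒵 : BasedCategory.{v₄, u₄} C}

section Transfer

/-- Being fibred in groupoids transfers along an equivalence over the base. -/
theorem isFibGrpd_of_equivOver (F : 𝒳 ⥤ᵇ 𝒴) (hF : IsEquivOver F) (h𝒳 : IsFibGrpd 𝒳.p) :
    IsFibGrpd 𝒴.p := by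
  haveI : 𝒳.p.IsFibered := isFibered_of_isFibGrpd 𝒳.p h𝒳
  haveI : 𝒴.p.IsFibered := isFibered_of_equivOver F hF
  obtain ⟨G, ⟨e₁⟩, ⟨e₂⟩⟩ := hF
  have hG : IsEquivOver G := isEquivOver_symm e₁ e₂
  haveI : G.toFunctor.IsEquivalence := isEquivalence_of_isEquivOver G hG
  apply isFibGrpd_of_isFibered_of_isGroupoid
  intro U
  constructor
  intro X Y φ
  have h2 : 𝒴.p.IsHomLift (𝟙 U) φ.1 := φ.2
  have h3 : 𝒳.p.IsHomLift (𝟙 U) (G.map φ.1) := inferInstance
  have hiso : IsIso (𝒳.p.map (G.map φ.1)) := by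
    rw [IsHomLift.fac' 𝒳.p (𝟙 U) (G.map φ.1)]; infer_instance
  have h4 : IsIso (G.map φ.1) := isIso_of_isFibGrpd 𝒳.p h𝒳 (G.map φ.1)
  have h5 : IsIso φ.1 := isIso_of_reflects_iso φ.1 G.toFunctor
  refine ⟨⟨⟨inv φ.1, inferInstance⟩, ?_, ?_⟩⟩
  · apply Fiber.hom_ext
    exact IsIso.hom_inv_id φ.1
  · apply Fiber.hom_ext
    exact IsIso.inv_hom_id φ.1

theorem isFibGrpd_iff_of_equivOver (F : 𝒳 ⥤ᵇ 𝒴) (hF : IsEquivOver F) :
    IsFibGrpd 𝒳.p ↔ IsFibGrpd 𝒴.p := by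
  refine ⟨isFibGrpd_of_equivOver F hF, ?_⟩
  obtain ⟨G, ⟨e₁⟩, ⟨e₂⟩⟩ := hF
  exact isFibGrpd_of_equivOver G (isEquivOver_symm e₁ e₂)

/-- Having thin fibres transfers along a functor over the base with faithful underlying functor. -/
theorem isThin_fiber_of_faithful (G : 𝒴 ⥤ᵇ 𝒳) [G.toFunctor.Faithful]
    (h : ∀ U : C, Quiver.IsThin (𝒳.p.Fiber U)) (U : C) : Quiver.IsThin (𝒴.p.Fiber U) := by
  intro X Y
  refine ⟨fun φ ψ => ?_⟩
  have h2 : 𝒴.p.IsHomLift (𝟙 U) φ.1 := φ.2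
  have h3 : 𝒴.p.IsHomLift (𝟙 U) ψ.1 := ψ.2
  have hthin := h U
  have := Subsingleton.elim (Functor.Fiber.homMk 𝒳.p U (G.map φ.1))
    (Functor.Fiber.homMk 𝒳.p U (G.map ψ.1))
  have h4 : G.map φ.1 = G.map ψ.1 := congrArg (Functor.Fiber.fiberInclusion.map) this
  apply Fiber.hom_ext
  exact G.toFunctor.map_injective h4

/-- Being fibred in setoids transfers along an equivalence over the base. -/
theorem isFibSetoid_of_equivOver (F : 𝒳 ⥤ᵇ 𝒴) (hF : IsEquivOver F) (h𝒳 : IsFibSetoid 𝒳.p) :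
    IsFibSetoid 𝒴.p := by
  refine ⟨isFibGrpd_of_equivOver F hF h𝒳.1, ?_⟩
  obtain ⟨G, ⟨e₁⟩, ⟨e₂⟩⟩ := hF
  have hG : IsEquivOver G := isEquivOver_symm e₁ e₂
  haveI : G.toFunctor.IsEquivalence := isEquivalence_of_isEquivOver G hG
  exact isThin_fiber_of_faithful G h𝒳.2

theorem isFibSetoid_iff_of_equivOver (F : 𝒳 ⥤ᵇ 𝒴) (hF : IsEquivOver F) :
    IsFibSetoid 𝒳.p ↔ IsFibSetoid 𝒴.p := by
  refine ⟨isFibSetoid_of_equivOver F hF, ?_⟩
  obtain ⟨G, ⟨e₁⟩, ⟨e₂⟩⟩ := hF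
  exact isFibSetoid_of_equivOver G (isEquivOver_symm e₁ e₂)

end Transfer

section Post

variable (𝒜 : BasedCategory.{v₅, u₅} C)

/-- Postcomposition with a functor over the base, as a functor between categories of functors over the base. -/
def post (F : 𝒳 ⥤ᵇ 𝒴) : (𝒜 ⥤ᵇ 𝒳) ⥤ (𝒜 ⥤ᵇ 𝒴) where
  obj G := BasedFunctor.comp G F
  map α := BasedCategory.whiskerRight α F
  map_id G := by
    apply BasedNatTrans.homCategory.ext
    ext a
    exact F.toFunctor.map_id _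
  map_comp α β := by
    apply BasedNatTrans.homCategory.ext
    ext a
    exact F.toFunctor.map_comp _ _

@[simp] theorem post_obj (F : 𝒳 ⥤ᵇ 𝒴) (G : 𝒜 ⥤ᵇ 𝒳) : (post 𝒜 F).obj G = BasedFunctor.comp G F := rfl

@[simp] theorem post_map_app (F : 𝒳 ⥤ᵇ 𝒴) {G G' : 𝒜 ⥤ᵇ 𝒳} (α : G ⟶ G') (a : 𝒜.obj) :
    ((post 𝒜 F).map α).toNatTrans.app a = F.map (α.toNatTrans.app a) := rfl

/-- A 2-isomorphism over the base induces an isomorphism of postcomposition functors. -/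
def postIso {F F' : 𝒳 ⥤ᵇ 𝒴} (e : F ≅ F') : post 𝒜 F ≅ post 𝒜 F' :=
  NatIso.ofComponents
    (fun G =>
      { hom := BasedCategory.whiskerLeft G e.hom
        inv := BasedCategory.whiskerLeft G e.inv
        hom_inv_id := by
          apply BasedNatTrans.homCategory.ext
          ext a
          exact (basedIsoToNatIso e).hom_inv_id_app (G.obj a)
        inv_hom_id := by
          apply BasedNatTrans.homCategory.ext
          ext a
          exact (basedIsoToNatIso e).inv_hom_id_app (G.obj a) })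
    (fun {G G'} α => by
      apply BasedNatTrans.homCategory.ext
      ext a
      change F.map (α.toNatTrans.app a) ≫ e.hom.toNatTrans.app (G'.obj a) =
        e.hom.toNatTrans.app (G.obj a) ≫ F'.map (α.toNatTrans.app a)
      exact (e.hom.toNatTrans.naturality (α.toNatTrans.app a)))

theorem post_id : post 𝒜 (BasedFunctor.id 𝒳) = 𝟭 (𝒜 ⥤ᵇ 𝒳) := by
  refine CategoryTheory.Functor.ext (fun G => rfl) (fun G G' α => ?_)
  apply BasedNatTrans.homCategory.ext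
  ext a
  simp
  rfl

theorem post_comp (F : 𝒳 ⥤ᵇ 𝒴) (G : 𝒴 ⥤ᵇ 𝒵) :
    post 𝒜 (BasedFunctor.comp F G) = post 𝒜 F ⋙ post 𝒜 G := by
  refine CategoryTheory.Functor.ext (fun H => rfl) (fun H H' α => ?_)
  apply BasedNatTrans.homCategory.ext
  ext a
  simp
  rfl

/-- Postcomposition with an equivalence over the base is an equivalence of categories. -/
theorem post_isEquivalence (F : 𝒳 ⥤ᵇ 𝒴) (hF : IsEquivOver F) : (post 𝒜 F).IsEquivalence := by
  obtain ⟨G, ⟨e₁⟩, ⟨e₂⟩⟩ := hF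
  let η : 𝟭 (𝒜 ⥤ᵇ 𝒳) ≅ post 𝒜 F ⋙ post 𝒜 G :=
    eqToIso (post_id 𝒜).symm ≪≫ (postIso 𝒜 e₁).symm ≪≫ eqToIso (post_comp 𝒜 F G)
  let ε : post 𝒜 G ⋙ post 𝒜 F ≅ 𝟭 (𝒜 ⥤ᵇ 𝒴) :=
    eqToIso (post_comp 𝒜 G F).symm ≪≫ postIso 𝒜 e₂ ≪≫ eqToIso (post_id 𝒜)
  exact (CategoryTheory.Equivalence.mk (post 𝒜 F) (post 𝒜 G) η ε).isEquivalence_functor

end Post

section Stack

open Stk

variable {ℬ : BasedCategory.{v₄, u₄} C} {𝒜 : BasedCategory.{v₅, u₅} C}

theorem restr_post (ι : 𝒜 ⥤ᵇ ℬ) (F : 𝒳 ⥤ᵇ 𝒴) :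
    Stk.restr ι 𝒳 ⋙ post 𝒜 F = post ℬ F ⋙ Stk.restr ι 𝒴 := by
  refine CategoryTheory.Functor.ext (fun G => rfl) (fun G G' α => ?_)
  apply BasedNatTrans.homCategory.ext
  ext a
  simp [Stk.restr]

/-- Restriction along `ι` being an equivalence is invariant under equivalences over the base of the target. -/
theorem restr_isEquivalence_of_equivOver (ι : 𝒜 ⥤ᵇ ℬ) (F : 𝒳 ⥤ᵇ 𝒴) (hF : IsEquivOver F)
    (h : (Stk.restr ι 𝒳).IsEquivalence) : (Stk.restr ι 𝒴).IsEquivalence := by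
  have := post_isEquivalence 𝒜 F hF
  have := post_isEquivalence ℬ F hF
  have := h
  have : (post ℬ F ⋙ Stk.restr ι 𝒴).IsEquivalence := by
    rw [← restr_post]; infer_instance
  exact Functor.isEquivalence_of_comp_left (post ℬ F) (Stk.restr ι 𝒴)

theorem restr_full_of_equivOver (ι : 𝒜 ⥤ᵇ ℬ) (F : 𝒳 ⥤ᵇ 𝒴) (hF : IsEquivOver F)
    (h : (Stk.restr ι 𝒳).Full) : (Stk.restr ι 𝒴).Full := by
  have := post_isEquivalence 𝒜 F hF
  have := post_isEquivalence ℬ F hF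
  have := h
  have h1 : (post ℬ F ⋙ Stk.restr ι 𝒴).Full := by
    rw [← restr_post]; infer_instance
  refine CategoryTheory.Functor.full_of_comp_essSurj (Stk.restr ι 𝒴) (post ℬ F) (fun X₁ X₂ φ => ?_)
  obtain ⟨g, hg⟩ := (post ℬ F ⋙ Stk.restr ι 𝒴).map_surjective φ
  exact ⟨(post ℬ F).map g, hg⟩

theorem restr_faithful_of_equivOver (ι : 𝒜 ⥤ᵇ ℬ) (F : 𝒳 ⥤ᵇ 𝒴) (hF : IsEquivOver F)
    (h : (Stk.restr ι 𝒳).Faithful) : (Stk.restr ι 𝒴).Faithful := by
  have := post_isEquivalence 𝒜 F hF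
  have := post_isEquivalence ℬ F hF
  have := h
  have h1 : (post ℬ F ⋙ Stk.restr ι 𝒴).Faithful := by
    rw [← restr_post]; infer_instance
  refine CategoryTheory.Functor.faithful_of_comp_essSurj (Stk.restr ι 𝒴) (post ℬ F) (fun X₁ X₂ f g hfg => ?_)
  obtain ⟨f', rfl⟩ := (post ℬ F).map_surjective f
  obtain ⟨g', rfl⟩ := (post ℬ F).map_surjective g
  congr 1
  exact (post ℬ F ⋙ Stk.restr ι 𝒴).map_injective hfg

theorem isPrestackFor_of_equivOver {U : C} (R : Sieve U) (F : 𝒳 ⥤ᵇ 𝒴) (hF : IsEquivOver F)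
    (h : Stk.IsPrestackFor R 𝒳) : Stk.IsPrestackFor R 𝒴 :=
  ⟨restr_full_of_equivOver (Stk.sieveIncl R) F hF h.1,
    restr_faithful_of_equivOver (Stk.sieveIncl R) F hF h.2⟩

theorem isStackFor_of_equivOver {U : C} (R : Sieve U) (F : 𝒳 ⥤ᵇ 𝒴) (hF : IsEquivOver F)
    (h : Stk.IsStackFor R 𝒳) : Stk.IsStackFor R 𝒴 :=
  restr_isEquivalence_of_equivOver (Stk.sieveIncl R) F hF h

theorem isStack_of_equivOver (J : GrothendieckTopology C) (F : 𝒳 ⥤ᵇ 𝒴) (hF : IsEquivOver F)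
    (h : Stk.IsStack J 𝒳) : Stk.IsStack J 𝒴 :=
  ⟨isFibGrpd_of_equivOver F hF h.1, fun _ R hR => isStackFor_of_equivOver R F hF (h.2 R hR)⟩

theorem isStack_iff_of_equivOver (J : GrothendieckTopology C) (F : 𝒳 ⥤ᵇ 𝒴) (hF : IsEquivOver F) :
    Stk.IsStack J 𝒳 ↔ Stk.IsStack J 𝒴 := by
  refine ⟨isStack_of_equivOver J F hF, ?_⟩
  obtain ⟨G, ⟨e₁⟩, ⟨e₂⟩⟩ := hF
  exact isStack_of_equivOver J G (isEquivOver_symm e₁ e₂)

end Stack

end Groth.Agent.Lib.Helper65

namespace Groth.Agent.Lib.Helper65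

open FibCat Groth.Agent.Lib.Helper31

section PostFF

variable {C : Type u} [Category.{v} C]
variable {𝒳 : BasedCategory.{v₂, u₂} C} {𝒴 : BasedCategory.{v₃, u₃} C}
variable (𝒜 : BasedCategory.{v₅, u₅} C)

theorem post_faithful (F : 𝒳 ⥤ᵇ 𝒴) [F.toFunctor.Faithful] : (post 𝒜 F).Faithful where
  map_injective := by
    intro G G' α β h
    apply BasedNatTrans.homCategory.ext
    apply NatTrans.ext
    funext a
    apply F.toFunctor.map_injective
    have := congrArg (fun t => t.toNatTrans.app a) h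
    exact this

theorem post_full (F : 𝒳 ⥤ᵇ 𝒴) [F.toFunctor.Full] [F.toFunctor.Faithful] : (post 𝒜 F).Full where
  map_surjective := by
    intro G G' γ
    let α : G ⟶ G' :=
      { toNatTrans :=
          { app := fun a => F.toFunctor.preimage (γ.toNatTrans.app a)
            naturality := fun a a' k => by
              apply F.toFunctor.map_injective
              rw [Functor.map_comp, Functor.map_comp, F.toFunctor.map_preimage, F.toFunctor.map_preimage]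
              exact γ.toNatTrans.naturality k }
        isHomLift' := fun a => by
          rw [← BasedFunctor.isHomLift_iff F]
          change 𝒴.p.IsHomLift (𝟙 (𝒜.p.obj a)) (F.toFunctor.map (F.toFunctor.preimage (γ.toNatTrans.app a)))
          rw [F.toFunctor.map_preimage]
          exact γ.isHomLift' a }
    refine ⟨α, ?_⟩
    apply BasedNatTrans.homCategory.ext
    apply NatTrans.ext
    funext a
    exact F.toFunctor.map_preimage (γ.toNatTrans.app a)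

end PostFF

end Groth.Agent.Lib.Helper65

namespace Groth.Agent.Lib.Helper65

open FibCat Groth.Agent.Lib.Helper31

section PrestackInv

variable {C : Type u} [Category.{v} C]
variable {𝒳 : BasedCategory.{v₂, u₂} C} {𝒴 : BasedCategory.{v₃, u₃} C}

theorem isPrestack_of_equivOver (J : GrothendieckTopology C) (F : 𝒳 ⥤ᵇ 𝒴) (hF : IsEquivOver F)
    (h : Stk.IsPrestack J 𝒳) : Stk.IsPrestack J 𝒴 :=
  ⟨isFibGrpd_of_equivOver F hF h.1, fun _ R hR => isPrestackFor_of_equivOver R F hF (h.2 R hR)⟩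

theorem isPrestack_iff_of_equivOver (J : GrothendieckTopology C) (F : 𝒳 ⥤ᵇ 𝒴) (hF : IsEquivOver F) :
    Stk.IsPrestack J 𝒳 ↔ Stk.IsPrestack J 𝒴 := by
  refine ⟨isPrestack_of_equivOver J F hF, ?_⟩
  obtain ⟨G, ⟨e₁⟩, ⟨e₂⟩⟩ := hF
  exact isPrestack_of_equivOver J G (isEquivOver_symm e₁ e₂)

end PrestackInv

end Groth.Agent.Lib.Helper65
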