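import Groth.Prelude.Def_FibCat2
import Groth.Agent.Lib.Helper31.FibCat
import Groth.Agent.Lib.Helper65.BasedEquiv

/-!
# Helper65: functoriality of the 2-fibre product over the base, and pasting of 2-fibre products
-/

set_option autoImplicit false
set_option backward.isDefEq.respectTransparency false
set_option backward.isDefEq.respectTransparency.types false

universe v₇ u₇ v₆ u₆ v₅ u₅ v₄ u₄ v₃ u₃ v₂ u₂ v u

open CategoryTheory CategoryTheory.Functor CategoryTheory.Limits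

namespace Groth.Agent.Lib.Helper65

open FibCat Groth.Agent.Lib.Helper31

variable {C : Type u} [Category.{v} C]
variable {𝒳 : BasedCategory.{v₂, u₂} C} {𝒴 : BasedCategory.{v₃, u₃} C} {𝒮 : BasedCategory.{v₄, u₄} C}

section Basics

variable (F : 𝒳 ⥤ᵇ 𝒮) (G : 𝒴 ⥤ᵇ 𝒮)

/-- Constructor for objects of the 2-fibre product over the base. -/
def fpObjMk (x : 𝒳.obj) (y : 𝒴.obj) (ι : F.obj x ≅ G.obj y)
    (h : 𝒮.p.IsHomLift (𝟙 (𝒳.p.obj x)) ι.hom) : (fp F G).obj :=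
  ⟨⟨x, y, ι⟩, h⟩

@[simp] theorem fpObjMk_fst (x : 𝒳.obj) (y : 𝒴.obj) (ι : F.obj x ≅ G.obj y)
    (h : 𝒮.p.IsHomLift (𝟙 (𝒳.p.obj x)) ι.hom) : (fpObjMk F G x y ι h).obj.fst = x := rfl

@[simp] theorem fpObjMk_snd (x : 𝒳.obj) (y : 𝒴.obj) (ι : F.obj x ≅ G.obj y)
    (h : 𝒮.p.IsHomLift (𝟙 (𝒳.p.obj x)) ι.hom) : (fpObjMk F G x y ι h).obj.snd = y := rfl

@[simp] theorem fpObjMk_iso (x : 𝒳.obj) (y : 𝒴.obj) (ι : F.obj x ≅ G.obj y)
    (h : 𝒮.p.IsHomLift (𝟙 (𝒳.p.obj x)) ι.hom) : (fpObjMk F G x y ι h).obj.iso = ι := rfl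

variable {F G}

/-- Constructor for morphisms of the 2-fibre product over the base. -/
def fpHomMk {X Y : (fp F G).obj} (a : X.obj.fst ⟶ Y.obj.fst) (b : X.obj.snd ⟶ Y.obj.snd)
    (w : F.map a ≫ Y.obj.iso.hom = X.obj.iso.hom ≫ G.map b) : X ⟶ Y :=
  ObjectProperty.homMk ⟨a, b, w⟩

@[simp] theorem fpHomMk_fst {X Y : (fp F G).obj} (a : X.obj.fst ⟶ Y.obj.fst) (b : X.obj.snd ⟶ Y.obj.snd)
    (w : F.map a ≫ Y.obj.iso.hom = X.obj.iso.hom ≫ G.map b) : (fpHomMk a b w).hom.fst = a := rfl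

@[simp] theorem fpHomMk_snd {X Y : (fp F G).obj} (a : X.obj.fst ⟶ Y.obj.fst) (b : X.obj.snd ⟶ Y.obj.snd)
    (w : F.map a ≫ Y.obj.iso.hom = X.obj.iso.hom ≫ G.map b) : (fpHomMk a b w).hom.snd = b := rfl

theorem fp_hom_ext {X Y : (fp F G).obj} {φ ψ : X ⟶ Y} (h1 : φ.hom.fst = ψ.hom.fst)
    (h2 : φ.hom.snd = ψ.hom.snd) : φ = ψ := by
  apply ObjectProperty.hom_ext
  apply CategoricalPullback.hom_ext
  · exact h1
  · exact h2

theorem fp_hom_w {X Y : (fp F G).obj} (φ : X ⟶ Y) :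
    F.map φ.hom.fst ≫ Y.obj.iso.hom = X.obj.iso.hom ≫ G.map φ.hom.snd := φ.hom.w

@[simp] theorem fp_comp_fst {X Y Z : (fp F G).obj} (φ : X ⟶ Y) (ψ : Y ⟶ Z) :
    (φ ≫ ψ).hom.fst = φ.hom.fst ≫ ψ.hom.fst := rfl

@[simp] theorem fp_comp_snd {X Y Z : (fp F G).obj} (φ : X ⟶ Y) (ψ : Y ⟶ Z) :
    (φ ≫ ψ).hom.snd = φ.hom.snd ≫ ψ.hom.snd := rfl

@[simp] theorem fp_id_fst (X : (fp F G).obj) : (𝟙 X : X ⟶ X).hom.fst = 𝟙 X.obj.fst := rfl

@[simp] theorem fp_id_snd (X : (fp F G).obj) : (𝟙 X : X ⟶ X).hom.snd = 𝟙 X.obj.snd := rfl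

/-- Constructor for isomorphisms of the 2-fibre product over the base. -/
def fpIsoMk {X Y : (fp F G).obj} (a : X.obj.fst ≅ Y.obj.fst) (b : X.obj.snd ≅ Y.obj.snd)
    (w : F.map a.hom ≫ Y.obj.iso.hom = X.obj.iso.hom ≫ G.map b.hom) : X ≅ Y :=
  (fpProp F G).isoMk (CategoricalPullback.mkIso a b w)

@[simp] theorem fpIsoMk_hom_fst {X Y : (fp F G).obj} (a : X.obj.fst ≅ Y.obj.fst) (b : X.obj.snd ≅ Y.obj.snd)
    (w : F.map a.hom ≫ Y.obj.iso.hom = X.obj.iso.hom ≫ G.map b.hom) :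
    (fpIsoMk a b w).hom.hom.fst = a.hom := rfl

@[simp] theorem fpIsoMk_hom_snd {X Y : (fp F G).obj} (a : X.obj.fst ≅ Y.obj.fst) (b : X.obj.snd ≅ Y.obj.snd)
    (w : F.map a.hom ≫ Y.obj.iso.hom = X.obj.iso.hom ≫ G.map b.hom) :
    (fpIsoMk a b w).hom.hom.snd = b.hom := rfl

/-- The base object of the second component of an object of the fibre product. -/
theorem fp_snd_obj (X : (fp F G).obj) : 𝒴.p.obj X.obj.snd = 𝒳.p.obj X.obj.fst :=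
  (fpSnd F G).w_obj X

theorem fp_p_obj (X : (fp F G).obj) : (fp F G).p.obj X = 𝒳.p.obj X.obj.fst := rfl

/-- Essential surjectivity over the base of a functor into a 2-fibre product, componentwise. -/
theorem essSurjOver_fp_of {𝒲 : BasedCategory.{v₅, u₅} C} (Φ : 𝒲 ⥤ᵇ fp F G)
    (h : ∀ Y : (fp F G).obj, ∃ (W : 𝒲.obj) (a : (Φ.obj W).obj.fst ≅ Y.obj.fst)
      (b : (Φ.obj W).obj.snd ≅ Y.obj.snd),
      𝒳.p.IsHomLift (𝟙 (𝒳.p.obj Y.obj.fst)) a.hom ∧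
      F.map a.hom ≫ Y.obj.iso.hom = (Φ.obj W).obj.iso.hom ≫ G.map b.hom) :
    EssSurjOver Φ := by
  intro Y
  obtain ⟨W, a, b, ha, w⟩ := h Y
  refine ⟨W, fpIsoMk a b w, ?_⟩
  rw [fp_isHomLift_iff]
  exact ha

end Basics

section Map

variable {𝒳' : BasedCategory.{v₅, u₅} C} {𝒴' : BasedCategory.{v₆, u₆} C} {𝒮' : BasedCategory.{v₇, u₇} C}
variable {F : 𝒳 ⥤ᵇ 𝒮} {G : 𝒴 ⥤ᵇ 𝒮} {F' : 𝒳' ⥤ᵇ 𝒮'} {G' : 𝒴' ⥤ᵇ 𝒮'}
  (a : 𝒳 ⥤ᵇ 𝒳') (b : 𝒴 ⥤ᵇ 𝒴') (c : 𝒮 ⥤ᵇ 𝒮')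
  (α : BasedFunctor.comp F c ≅ BasedFunctor.comp a F') (β : BasedFunctor.comp G c ≅ BasedFunctor.comp b G')

/-- The component isomorphism of `fpMap`. -/
def fpMapCompIso (X : (fp F G).obj) : F'.obj (a.obj X.obj.fst) ≅ G'.obj (b.obj X.obj.snd) :=
  ((basedIsoToNatIso α).app X.obj.fst).symm ≪≫ c.toFunctor.mapIso X.obj.iso ≪≫
    (basedIsoToNatIso β).app X.obj.snd

theorem fpMapCompIso_hom (X : (fp F G).obj) :
    (fpMapCompIso a b c α β X).hom =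
      α.inv.toNatTrans.app X.obj.fst ≫ c.map X.obj.iso.hom ≫ β.hom.toNatTrans.app X.obj.snd := rfl

theorem fpMapCompIso_isHomLift (X : (fp F G).obj) :
    𝒮'.p.IsHomLift (𝟙 (𝒳.p.obj X.obj.fst)) (fpMapCompIso a b c α β X).hom := by
  rw [fpMapCompIso_hom]
  have h1 : 𝒮'.p.IsHomLift (𝟙 (𝒳.p.obj X.obj.fst)) (α.inv.toNatTrans.app X.obj.fst) :=
    α.inv.isHomLift' X.obj.fst
  have h2 : 𝒮.p.IsHomLift (𝟙 (𝒳.p.obj X.obj.fst)) X.obj.iso.hom := X.property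
  have h3 : 𝒮'.p.IsHomLift (𝟙 (𝒳.p.obj X.obj.fst)) (c.map X.obj.iso.hom) := inferInstance
  have h4 : 𝒮'.p.IsHomLift (𝟙 (𝒳.p.obj X.obj.fst)) (β.hom.toNatTrans.app X.obj.snd) :=
    BasedNatTrans.isHomLift β.hom (fp_snd_obj X)
  have : 𝒮'.p.IsHomLift (𝟙 (𝒳.p.obj X.obj.fst) ≫ 𝟙 (𝒳.p.obj X.obj.fst) ≫ 𝟙 (𝒳.p.obj X.obj.fst))
    (α.inv.toNatTrans.app X.obj.fst ≫ c.map X.obj.iso.hom ≫ β.hom.toNatTrans.app X.obj.snd) :=
    inferInstance
  simpa using this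

theorem fpMapCompIso_naturality {X Y : (fp F G).obj} (φ : X ⟶ Y) :
    F'.map (a.map φ.hom.fst) ≫ (fpMapCompIso a b c α β Y).hom =
      (fpMapCompIso a b c α β X).hom ≫ G'.map (b.map φ.hom.snd) := by
  rw [fpMapCompIso_hom, fpMapCompIso_hom]
  have n1 : F'.map (a.map φ.hom.fst) ≫ α.inv.toNatTrans.app Y.obj.fst =
      α.inv.toNatTrans.app X.obj.fst ≫ c.map (F.map φ.hom.fst) :=
    α.inv.toNatTrans.naturality φ.hom.fst
  have n2 : c.map (G.map φ.hom.snd) ≫ β.hom.toNatTrans.app Y.obj.snd =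
      β.hom.toNatTrans.app X.obj.snd ≫ G'.map (b.map φ.hom.snd) :=
    β.hom.toNatTrans.naturality φ.hom.snd
  have n3 : c.map (F.map φ.hom.fst) ≫ c.map Y.obj.iso.hom =
      c.map X.obj.iso.hom ≫ c.map (G.map φ.hom.snd) := by
    rw [← c.map_comp, ← c.map_comp, fp_hom_w]
  rw [reassoc_of% n1, reassoc_of% n3, n2]
  simp only [Category.assoc]

/-- The 2-isomorphism used to define `fpMap`. -/
def fpMapIso : BasedFunctor.comp (BasedFunctor.comp (fpFst F G) a) F' ≅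
    BasedFunctor.comp (BasedFunctor.comp (fpSnd F G) b) G' :=
  BasedNatIso.mkNatIso
    (NatIso.ofComponents (fun X => fpMapCompIso a b c α β X)
      (fun {X Y} φ => fpMapCompIso_naturality a b c α β φ))
    (fun X => fpMapCompIso_isHomLift a b c α β X)

/-- Functoriality of the 2-fibre product over the base: functors `a`, `b`, `c` and 2-isomorphisms
`F ⋙ c ≅ a ⋙ F'`, `G ⋙ c ≅ b ⋙ G'` induce a functor `𝒳 ×_𝒮 𝒴 ⟶ 𝒳' ×_𝒮' 𝒴'` over the base. -/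
def fpMap : fp F G ⥤ᵇ fp F' G' :=
  fpLift (BasedFunctor.comp (fpFst F G) a) (BasedFunctor.comp (fpSnd F G) b) (fpMapIso a b c α β)

@[simp] theorem fpMap_obj_fst (X : (fp F G).obj) :
    ((fpMap a b c α β).obj X).obj.fst = a.obj X.obj.fst := rfl

@[simp] theorem fpMap_obj_snd (X : (fp F G).obj) :
    ((fpMap a b c α β).obj X).obj.snd = b.obj X.obj.snd := rfl

theorem fpMap_obj_iso_hom (X : (fp F G).obj) :
    ((fpMap a b c α β).obj X).obj.iso.hom =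
      α.inv.toNatTrans.app X.obj.fst ≫ c.map X.obj.iso.hom ≫ β.hom.toNatTrans.app X.obj.snd := rfl

@[simp] theorem fpMap_map_fst {X Y : (fp F G).obj} (φ : X ⟶ Y) :
    ((fpMap a b c α β).map φ).hom.fst = a.map φ.hom.fst := rfl

@[simp] theorem fpMap_map_snd {X Y : (fp F G).obj} (φ : X ⟶ Y) :
    ((fpMap a b c α β).map φ).hom.snd = b.map φ.hom.snd := rfl

theorem fpMap_comp_fpFst :
    BasedFunctor.comp (fpMap a b c α β) (fpFst F' G') = BasedFunctor.comp (fpFst F G) a := rfl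

theorem fpMap_comp_fpSnd :
    BasedFunctor.comp (fpMap a b c α β) (fpSnd F' G') = BasedFunctor.comp (fpSnd F G) b := rfl

instance fpMap_faithful [a.toFunctor.Faithful] [b.toFunctor.Faithful] :
    (fpMap a b c α β).toFunctor.Faithful where
  map_injective := by
    intro X Y φ ψ h
    apply fp_hom_ext
    · apply a.toFunctor.map_injective
      exact congrArg (fun t => t.hom.fst) h
    · apply b.toFunctor.map_injective
      exact congrArg (fun t => t.hom.snd) h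

theorem fpMap_full [a.toFunctor.Full] [b.toFunctor.Full] [c.toFunctor.Faithful] :
    (fpMap a b c α β).toFunctor.Full where
  map_surjective := by
    intro X Y ψ
    obtain ⟨φ₁, hφ₁⟩ := a.toFunctor.map_surjective ψ.hom.fst
    obtain ⟨φ₂, hφ₂⟩ := b.toFunctor.map_surjective ψ.hom.snd
    have hw := fp_hom_w ψ
    rw [fpMap_obj_iso_hom, fpMap_obj_iso_hom] at hw
    have n1 : F'.map (a.map φ₁) ≫ α.inv.toNatTrans.app Y.obj.fst =
        α.inv.toNatTrans.app X.obj.fst ≫ c.map (F.map φ₁) :=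
      α.inv.toNatTrans.naturality φ₁
    have n2 : c.map (G.map φ₂) ≫ β.hom.toNatTrans.app Y.obj.snd =
        β.hom.toNatTrans.app X.obj.snd ≫ G'.map (b.map φ₂) :=
      β.hom.toNatTrans.naturality φ₂
    have hφ₁' : a.map φ₁ = ψ.hom.fst := hφ₁
    have hφ₂' : b.map φ₂ = ψ.hom.snd := hφ₂
    have w : F.map φ₁ ≫ Y.obj.iso.hom = X.obj.iso.hom ≫ G.map φ₂ := by
      apply c.toFunctor.map_injective
      change c.map (F.map φ₁ ≫ Y.obj.iso.hom) = c.map (X.obj.iso.hom ≫ G.map φ₂)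
      rw [c.map_comp, c.map_comp]
      have i1 : IsIso (α.inv.toNatTrans.app X.obj.fst) :=
        inferInstanceAs (IsIso ((basedIsoToNatIso α).symm.app X.obj.fst).hom)
      have i2 : IsIso (β.hom.toNatTrans.app Y.obj.snd) :=
        inferInstanceAs (IsIso ((basedIsoToNatIso β).app Y.obj.snd).hom)
      rw [← cancel_epi (α.inv.toNatTrans.app X.obj.fst), ← cancel_mono (β.hom.toNatTrans.app Y.obj.snd)]
      simp only [Category.assoc]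
      rw [n2, ← reassoc_of% n1, hφ₁', hφ₂']
      simpa only [Category.assoc] using hw
    refine ⟨fpHomMk φ₁ φ₂ w, ?_⟩
    apply fp_hom_ext
    · exact hφ₁
    · exact hφ₂

theorem fpMap_essSurjOver (ha : EssSurjOver a) (hb : EssSurjOver b) [c.toFunctor.Full]
    [c.toFunctor.Faithful] : EssSurjOver (fpMap a b c α β) := by
  apply essSurjOver_fp_of
  intro Y
  obtain ⟨x, ε₁, hε₁⟩ := ha Y.obj.fst
  obtain ⟨y, ε₂, hε₂⟩ := hb Y.obj.snd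
  have hY : 𝒮'.p.IsHomLift (𝟙 (𝒳'.p.obj Y.obj.fst)) Y.obj.iso.hom := Y.property
  have hε₂' : 𝒴'.p.IsHomLift (𝟙 (𝒳'.p.obj Y.obj.fst)) ε₂.hom :=
    isHomLift_id_of_eq 𝒴'.p (fp_snd_obj Y) _
  have hε₂inv : 𝒴'.p.IsHomLift (𝟙 (𝒳'.p.obj Y.obj.fst)) ε₂.inv := inferInstance
  have hx : 𝒳'.p.obj Y.obj.fst = 𝒳.p.obj x := by
    rw [← a.w_obj]
    exact (IsHomLift.domain_eq 𝒳'.p (𝟙 (𝒳'.p.obj Y.obj.fst)) ε₁.hom).symm
  have hy : 𝒳'.p.obj Y.obj.fst = 𝒴.p.obj y := by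
    rw [← b.w_obj]
    exact (IsHomLift.domain_eq 𝒴'.p (𝟙 (𝒳'.p.obj Y.obj.fst)) ε₂.hom).symm
  -- the isomorphism `c (F x) ≅ c (G y)` over the identity
  let κ : c.obj (F.obj x) ≅ c.obj (G.obj y) :=
    (basedIsoToNatIso α).app x ≪≫ F'.toFunctor.mapIso ε₁ ≪≫ Y.obj.iso ≪≫
      G'.toFunctor.mapIso ε₂.symm ≪≫ ((basedIsoToNatIso β).app y).symm
  have hκ : κ.hom = α.hom.toNatTrans.app x ≫ F'.map ε₁.hom ≫ Y.obj.iso.hom ≫ G'.map ε₂.inv ≫
      β.inv.toNatTrans.app y := rfl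
  have hκlift : 𝒮'.p.IsHomLift (𝟙 (𝒳.p.obj x)) κ.hom := by
    rw [hκ]
    have h1 : 𝒮'.p.IsHomLift (𝟙 (𝒳'.p.obj Y.obj.fst)) (α.hom.toNatTrans.app x) :=
      BasedNatTrans.isHomLift α.hom hx.symm
    have h5 : 𝒮'.p.IsHomLift (𝟙 (𝒳'.p.obj Y.obj.fst)) (β.inv.toNatTrans.app y) :=
      BasedNatTrans.isHomLift β.inv hy.symm
    have : 𝒮'.p.IsHomLift (𝟙 (𝒳'.p.obj Y.obj.fst) ≫ 𝟙 (𝒳'.p.obj Y.obj.fst) ≫ 𝟙 (𝒳'.p.obj Y.obj.fst) ≫
        𝟙 (𝒳'.p.obj Y.obj.fst) ≫ 𝟙 (𝒳'.p.obj Y.obj.fst))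
      (α.hom.toNatTrans.app x ≫ F'.map ε₁.hom ≫ Y.obj.iso.hom ≫ G'.map ε₂.inv ≫
        β.inv.toNatTrans.app y) := inferInstance
    simp only [Category.comp_id] at this
    exact isHomLift_id_of_eq 𝒮'.p hx _
  let ι : F.obj x ≅ G.obj y := c.toFunctor.preimageIso κ
  have hι : c.map ι.hom = κ.hom := c.toFunctor.map_preimage κ.hom
  have hιlift : 𝒮.p.IsHomLift (𝟙 (𝒳.p.obj x)) ι.hom := by
    rw [← BasedFunctor.isHomLift_iff c, hι]
    exact hκlift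
  refine ⟨fpObjMk F G x y ι hιlift, ε₁, ε₂, hε₁, ?_⟩
  rw [fpMap_obj_iso_hom]
  change F'.map ε₁.hom ≫ Y.obj.iso.hom =
    (α.inv.toNatTrans.app x ≫ c.map ι.hom ≫ β.hom.toNatTrans.app y) ≫ G'.map ε₂.hom
  rw [hι, hκ]
  have e1 : α.inv.toNatTrans.app x ≫ α.hom.toNatTrans.app x = 𝟙 _ :=
    (basedIsoToNatIso α).inv_hom_id_app x
  have e2 : β.inv.toNatTrans.app y ≫ β.hom.toNatTrans.app y = 𝟙 _ :=
    (basedIsoToNatIso β).inv_hom_id_app y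
  simp only [Category.assoc]
  rw [reassoc_of% e1, reassoc_of% e2, ← G'.map_comp, Iso.inv_hom_id]
  simp

/-- `fpMap` of equivalences over the base is an equivalence over the base. -/
theorem fpMap_isEquivOver (ha : IsEquivOver a) (hb : IsEquivOver b) (hc : IsEquivOver c) :
    IsEquivOver (fpMap a b c α β) := by
  obtain ⟨ha1, ha2, ha3⟩ := isEquivOver_full_faithful_ess a ha
  obtain ⟨hb1, hb2, hb3⟩ := isEquivOver_full_faithful_ess b hb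
  obtain ⟨hc1, hc2, hc3⟩ := isEquivOver_full_faithful_ess c hc
  haveI := fpMap_full a b c α β
  exact isEquivOver_of_ff_ess _ (fpMap_essSurjOver a b c α β ha3 hb3)

end Map

end Groth.Agent.Lib.Helper65
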