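import Groth.Prelude.Def_AlgSt
import Groth.Agent.Lib.Helper65.BasedEquiv
import Groth.Agent.Lib.Helper65.FpMap

/-!
# Helper65: functors into the category fibred in sets of a presheaf
-/

set_option autoImplicit false
set_option backward.isDefEq.respectTransparency false
set_option backward.isDefEq.respectTransparency.types false

universe w v₅ u₅ v₄ u₄ v₃ u₃ v₂ u₂ v u

open CategoryTheory CategoryTheory.Functor CategoryTheory.Limits Opposite

namespace Groth.Agent.Lib.Helper65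

open FibCat Groth.Agent.Lib.Helper31

variable {C : Type u} [Category.{v} C] {P : Cᵒᵖ ⥤ Type w} {𝒜 : BasedCategory.{v₂, u₂} C}

section SecOf

theorem base_eq (Φ : 𝒜 ⥤ᵇ Stk.ofPsh P) (a : 𝒜.obj) : (Φ.obj a).base = 𝒜.p.obj a := Φ.w_obj a

theorem psh_map_map (P : Cᵒᵖ ⥤ Type w) {X Y Z : C} (f : X ⟶ Y) (g : Y ⟶ Z) (s : P.obj (op Z)) :
    P.map f.op (P.map g.op s) = P.map (f ≫ g).op s := by
  rw [op_comp, Functor.map_comp]; rfl

theorem psh_map_id (P : Cᵒᵖ ⥤ Type w) {X : C} (s : P.obj (op X)) : P.map (𝟙 X).op s = s := by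
  rw [op_id, P.map_id]; rfl

/-- The family of sections attached to a functor over `C` into `ofPsh P`. -/
def secOf (Φ : 𝒜 ⥤ᵇ Stk.ofPsh P) (a : 𝒜.obj) : P.obj (op (𝒜.p.obj a)) :=
  P.map (eqToHom (base_eq Φ a).symm).op (Φ.obj a).sec

theorem map_hom_eq (Φ : 𝒜 ⥤ᵇ Stk.ofPsh P) {a b : 𝒜.obj} (k : a ⟶ b) :
    (Φ.map k).hom = eqToHom (base_eq Φ a) ≫ 𝒜.p.map k ≫ eqToHom (base_eq Φ b).symm := by
  have : (Stk.ofPsh P).p.IsHomLift (𝒜.p.map k) (Φ.map k) := BasedFunctor.preserves_isHomLift Φ _ k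
  exact IsHomLift.fac' (Stk.ofPsh P).p (𝒜.p.map k) (Φ.map k)

theorem secOf_compat (Φ : 𝒜 ⥤ᵇ Stk.ofPsh P) {a b : 𝒜.obj} (k : a ⟶ b) :
    P.map (𝒜.p.map k).op (secOf Φ b) = secOf Φ a := by
  have h1 : P.map (Φ.map k).hom.op (Φ.obj b).sec = (Φ.obj a).sec := (Φ.map k).map_sec
  have h2 : eqToHom (base_eq Φ a).symm ≫ (Φ.map k).hom = 𝒜.p.map k ≫ eqToHom (base_eq Φ b).symm := by
    rw [map_hom_eq]; simp
  unfold secOf
  rw [← h1, psh_map_map, psh_map_map, h2]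

/-- The functor over `C` into `ofPsh P` attached to a compatible family of sections. -/
def ofSec (s : ∀ a : 𝒜.obj, P.obj (op (𝒜.p.obj a)))
    (hs : ∀ {a b : 𝒜.obj} (k : a ⟶ b), P.map (𝒜.p.map k).op (s b) = s a) : 𝒜 ⥤ᵇ Stk.ofPsh P where
  toFunctor :=
    { obj := fun a => ⟨𝒜.p.obj a, s a⟩
      map := fun {a b} k => ⟨𝒜.p.map k, hs k⟩
      map_id := fun a => Stk.EltObj.hom_ext (𝒜.p.map_id a)
      map_comp := fun k l => Stk.EltObj.hom_ext (𝒜.p.map_comp k l) }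
  w := rfl

@[simp] theorem secOf_ofSec (s : ∀ a : 𝒜.obj, P.obj (op (𝒜.p.obj a)))
    (hs : ∀ {a b : 𝒜.obj} (k : a ⟶ b), P.map (𝒜.p.map k).op (s b) = s a) (a : 𝒜.obj) :
    secOf (ofSec s hs) a = s a := by
  change P.map (eqToHom rfl).op (s a) = s a
  exact psh_map_id P (s a)

theorem app_hom_eq {Φ Ψ : 𝒜 ⥤ᵇ Stk.ofPsh P} (α : Φ ⟶ Ψ) (a : 𝒜.obj) :
    (α.toNatTrans.app a).hom = eqToHom ((base_eq Φ a).trans (base_eq Ψ a).symm) := by
  have h1 : (Stk.ofPsh P).p.IsHomLift (𝟙 (𝒜.p.obj a)) (α.toNatTrans.app a) := α.isHomLift' a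
  have e1 : (α.toNatTrans.app a).hom = eqToHom (base_eq Φ a) ≫ 𝟙 _ ≫ eqToHom (base_eq Ψ a).symm :=
    IsHomLift.fac' (Stk.ofPsh P).p (𝟙 (𝒜.p.obj a)) (α.toNatTrans.app a)
  rw [e1]; simp

/-- Morphisms between functors into `ofPsh P` are unique. -/
instance subsingleton_hom_ofPsh (Φ Ψ : 𝒜 ⥤ᵇ Stk.ofPsh P) : Subsingleton (Φ ⟶ Ψ) where
  allEq := by
    intro α β
    apply BasedNatTrans.homCategory.ext
    apply NatTrans.ext
    funext a
    apply Stk.EltObj.hom_ext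
    rw [app_hom_eq, app_hom_eq]

theorem secOf_eq_of_hom {Φ Ψ : 𝒜 ⥤ᵇ Stk.ofPsh P} (α : Φ ⟶ Ψ) (a : 𝒜.obj) : secOf Φ a = secOf Ψ a := by
  have h2 : P.map (α.toNatTrans.app a).hom.op (Ψ.obj a).sec = (Φ.obj a).sec :=
    (α.toNatTrans.app a).map_sec
  unfold secOf
  rw [← h2, psh_map_map, app_hom_eq]
  simp

/-- Functors into `ofPsh P` with the same sections admit a 2-morphism. -/
def homOfSecEq {Φ Ψ : 𝒜 ⥤ᵇ Stk.ofPsh P} (h : ∀ a, secOf Φ a = secOf Ψ a) : Φ ⟶ Ψ where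
  toNatTrans :=
    { app := fun a => ⟨eqToHom ((base_eq Φ a).trans (base_eq Ψ a).symm), by
        have := h a
        unfold secOf at this
        have e : (Φ.obj a).sec = P.map (eqToHom (base_eq Φ a)).op
            (P.map (eqToHom (base_eq Φ a).symm).op (Φ.obj a).sec) := by
          rw [psh_map_map]; simp only [eqToHom_trans, eqToHom_refl]; exact (psh_map_id P _).symm
        rw [e, this, psh_map_map]
        simp⟩
      naturality := fun {a b} k => by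
        apply Stk.EltObj.hom_ext
        change (Φ.map k).hom ≫ eqToHom ((base_eq Φ b).trans (base_eq Ψ b).symm) =
          eqToHom ((base_eq Φ a).trans (base_eq Ψ a).symm) ≫ (Ψ.map k).hom
        rw [map_hom_eq, map_hom_eq]
        simp }
  isHomLift' := fun a => by
    apply IsHomLift.of_fac' (Stk.ofPsh P).p (𝟙 (𝒜.p.obj a)) _ (base_eq Φ a) (base_eq Ψ a)
    change eqToHom ((base_eq Φ a).trans (base_eq Ψ a).symm) = _
    simp

/-- Functors into `ofPsh P` with the same sections are (uniquely) 2-isomorphic. -/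
def isoOfSecEq {Φ Ψ : 𝒜 ⥤ᵇ Stk.ofPsh P} (h : ∀ a, secOf Φ a = secOf Ψ a) : Φ ≅ Ψ where
  hom := homOfSecEq h
  inv := homOfSecEq (fun a => (h a).symm)
  hom_inv_id := Subsingleton.elim _ _
  inv_hom_id := Subsingleton.elim _ _

end SecOf

end Groth.Agent.Lib.Helper65
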