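import Groth.Prelude.Def_AlgSt
import Groth.Agent.Lib.Helper65.OfPsh
import Groth.Agent.Lib.Helper65.BasedPost
import Groth.Agent.Lib.Helper31.Yoneda2
import Mathlib.CategoryTheory.Sites.SheafOfTypes

/-!
# Helper65: `ofPsh P` is a stack iff `P` is a sheaf
-/

set_option autoImplicit false
set_option backward.isDefEq.respectTransparency false
set_option backward.isDefEq.respectTransparency.types false

universe w v₅ u₅ v₄ u₄ v₃ u₃ v₂ u₂ v u

open CategoryTheory CategoryTheory.Functor CategoryTheory.Limits Opposite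

namespace Groth.Agent.Lib.Helper65

open FibCat Groth.Agent.Lib.Helper31

variable {C : Type u} [Category.{v} C] {P : Cᵒᵖ ⥤ Type w}

section

variable {U : C}

/-- The section of `Y : C/U ⟶ ofPsh P` at `a` is the restriction of its section at `𝟙_U`. -/
theorem secOf_over (Y : overCat U ⥤ᵇ Stk.ofPsh P) (a : Over U) :
    secOf Y a = P.map a.hom.op (secOf Y (Over.mk (𝟙 U))) :=
  (secOf_compat Y (toId a)).symm

/-- The functor `C/U ⟶ ofPsh P` attached to a section over `U`. -/
def ofElt (t : P.obj (op U)) : overCat U ⥤ᵇ Stk.ofPsh P :=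
  ofSec (𝒜 := overCat U) (fun a => P.map a.hom.op t) (fun {a b} k => by
    change P.map k.left.op (P.map b.hom.op t) = P.map a.hom.op t
    rw [psh_map_map, Over.w])

@[simp] theorem secOf_ofElt (t : P.obj (op U)) (a : Over U) : secOf (ofElt t) a = P.map a.hom.op t := by
  change P.map (eqToHom rfl).op (P.map a.hom.op t) = P.map a.hom.op t
  exact psh_map_id P _

theorem secOf_over_mk (Y : overCat U ⥤ᵇ Stk.ofPsh P) {V : C} (f : V ⟶ U) :
    P.map f.op (secOf Y (Over.mk (𝟙 U))) = secOf Y (Over.mk f) :=
  (secOf_over Y (Over.mk f)).symm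

variable (R : Sieve U)

theorem secOf_restr (Y : overCat U ⥤ᵇ Stk.ofPsh P) (b : (Stk.sieveCat R).obj) :
    secOf ((Stk.resSieve R (Stk.ofPsh P)).obj Y) b = secOf Y b.obj := rfl

/-- The object of the sieve category attached to an arrow of the sieve. -/
def sieveObj {V : C} (f : V ⟶ U) (hf : R f) : (Stk.sieveCat R).obj := ⟨Over.mk f, hf⟩

/-- The family of elements attached to a functor on the sieve. -/
def famOf (Z : Stk.sieveCat R ⥤ᵇ Stk.ofPsh P) : Presieve.FamilyOfElements P (R : Presieve U) :=
  fun _ f hf => secOf Z (sieveObj R f hf)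

theorem famOf_compatible (Z : Stk.sieveCat R ⥤ᵇ Stk.ofPsh P) : (famOf R Z).Compatible := by
  rw [Presieve.compatible_iff_sieveCompatible]
  intro V W f g hf
  let k : sieveObj R (g ≫ f) (R.downward_closed hf g) ⟶ sieveObj R f hf :=
    ObjectProperty.homMk (Over.homMk g rfl)
  exact (secOf_compat Z k).symm

theorem famOf_eq (Z : Stk.sieveCat R ⥤ᵇ Stk.ofPsh P) (b : (Stk.sieveCat R).obj) :
    famOf R Z b.obj.hom b.property = secOf Z b := rfl

/-- The functor on the sieve attached to a compatible family. -/
def ofFam (x : Presieve.FamilyOfElements P (R : Presieve U)) (hx : x.Compatible) :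
    Stk.sieveCat R ⥤ᵇ Stk.ofPsh P :=
  ofSec (𝒜 := Stk.sieveCat R) (fun b => x b.obj.hom b.property) (fun {a b} k => by
    have := hx k.hom.left (𝟙 _) b.property a.property (by
      rw [Category.id_comp]; exact Over.w k.hom)
    rw [psh_map_id] at this
    exact this)

theorem secOf_ofFam (x : Presieve.FamilyOfElements P (R : Presieve U)) (hx : x.Compatible)
    (b : (Stk.sieveCat R).obj) : secOf (ofFam R x hx) b = x b.obj.hom b.property := by
  change P.map (eqToHom rfl).op (x b.obj.hom b.property) = x b.obj.hom b.property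
  exact psh_map_id P _

end

/-- `ofPsh P` is a stack for `J` iff `P` is a `J`-sheaf. -/
theorem isStack_ofPsh_iff (J : GrothendieckTopology C) (P : Cᵒᵖ ⥤ Type w) :
    Stk.IsStack J (Stk.ofPsh P) ↔ Presieve.IsSheaf J P := by
  constructor
  · intro hS U R hR
    have hE : (Stk.resSieve R (Stk.ofPsh P)).IsEquivalence := hS.2 R hR
    intro x hx
    obtain ⟨Y, ⟨ι⟩⟩ := Functor.EssSurj.mem_essImage (Stk.resSieve R (Stk.ofPsh P)) (ofFam R x hx)
    refine ⟨secOf Y (Over.mk (𝟙 U)), ?_, ?_⟩
    · intro V f hf
      change P.map f.op (secOf Y (Over.mk (𝟙 U))) = x f hf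
      have h1 := secOf_eq_of_hom ι.hom (sieveObj R f hf)
      rw [secOf_restr, secOf_ofFam] at h1
      exact (secOf_over_mk Y f).trans h1
    · intro t' ht'
      have hsec : ∀ b, secOf ((Stk.resSieve R (Stk.ofPsh P)).obj (ofElt t')) b =
          secOf ((Stk.resSieve R (Stk.ofPsh P)).obj Y) b := by
        intro b
        have h1 := secOf_eq_of_hom ι.hom b
        rw [secOf_ofFam] at h1
        rw [h1, secOf_restr, secOf_ofElt]
        exact ht' b.obj.hom b.property
      let α := (Stk.resSieve R (Stk.ofPsh P)).preimage (homOfSecEq hsec)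
      have h2 := secOf_eq_of_hom α (Over.mk (𝟙 U))
      rw [secOf_ofElt] at h2
      rw [← h2]
      exact (psh_map_id P t').symm
  · intro hP
    refine ⟨Stk.isFibGrpd_ofPsh P, ?_⟩
    intro U R hR
    have hsh := hP R hR
    refine { faithful := ⟨fun _ => Subsingleton.elim _ _⟩, full := ⟨?_⟩, essSurj := ⟨?_⟩ }
    · intro Y Y' α
      have hy : secOf Y (Over.mk (𝟙 U)) = secOf Y' (Over.mk (𝟙 U)) := by
        apply hsh.isSeparatedFor (fun V f _ => P.map f.op (secOf Y (Over.mk (𝟙 U))))
        · intro V f hf; rfl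
        · intro V f hf
          change P.map f.op (secOf Y' (Over.mk (𝟙 U))) = P.map f.op (secOf Y (Over.mk (𝟙 U)))
          exact (secOf_over_mk Y' f).trans
            ((secOf_eq_of_hom α (sieveObj R f hf)).symm.trans (secOf_over_mk Y f).symm)
      have hsec : ∀ a, secOf Y a = secOf Y' a := by
        intro a
        rw [secOf_over Y a, secOf_over Y' a, hy]
      exact ⟨homOfSecEq hsec, Subsingleton.elim _ _⟩
    · intro Z
      obtain ⟨t, ht, -⟩ := hsh (famOf R Z) (famOf_compatible R Z)
      refine ⟨ofElt t, ⟨isoOfSecEq ?_⟩⟩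
      intro b
      rw [secOf_restr, secOf_ofElt, ← famOf_eq]
      exact ht b.obj.hom b.property

end Groth.Agent.Lib.Helper65

namespace Groth.Agent.Lib.Helper65

open FibCat Groth.Agent.Lib.Helper31

section OverYoneda

variable {C : Type u} [Category.{v} C] (U : C)

/-- The identification of the slice `C/U` with the category of the representable presheaf `h_U`. -/
def overToYoneda : overCat U ⥤ᵇ Stk.ofPsh (yoneda.obj U) where
  toFunctor :=
    { obj := fun a => ⟨a.left, a.hom⟩
      map := fun {a b} k => ⟨k.left, Over.w k⟩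
      map_id := fun a => Stk.EltObj.hom_ext rfl
      map_comp := fun k l => Stk.EltObj.hom_ext rfl }
  w := rfl

instance overToYoneda_faithful : (overToYoneda U).toFunctor.Faithful where
  map_injective := by
    intro a b k l h
    apply Over.OverMorphism.ext
    exact congrArg (fun t => t.hom) h

instance overToYoneda_full : (overToYoneda U).toFunctor.Full where
  map_surjective := by
    intro a b ψ
    exact ⟨Over.homMk ψ.hom ψ.map_sec, Stk.EltObj.hom_ext rfl⟩

theorem overToYoneda_isEquivOver : IsEquivOver (overToYoneda U) := by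
  apply isEquivOver_of_ff_ess
  intro x
  refine ⟨Over.mk x.sec, Iso.refl x, ?_⟩
  exact IsHomLift.id rfl

/-- `C/U` is a stack for `J` iff `h_U` is a `J`-sheaf. -/
theorem isStack_overCat_iff (J : GrothendieckTopology C) :
    Stk.IsStack J (overCat U) ↔ Presieve.IsSheaf J (yoneda.obj U) :=
  (isStack_iff_of_equivOver J (overToYoneda U) (overToYoneda_isEquivOver U)).trans
    (isStack_ofPsh_iff J (yoneda.obj U))

end OverYoneda

end Groth.Agent.Lib.Helper65
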