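import Groth.Agent.Lib.Helper65.RepWithP
import Groth.Agent.Lib.Helper65.OfPshStack
import Groth.Agent.S9907
import Groth.Agent.S9984
import Groth.Agent.S10209

/-!
# Helper65: a category representable by an algebraic space is a Deligne–Mumford stack
-/

set_option autoImplicit false
set_option backward.isDefEq.respectTransparency false
set_option backward.isDefEq.respectTransparency.types false

universe u

open CategoryTheory CategoryTheory.Functor CategoryTheory.Limits Opposite AlgebraicGeometry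

namespace Groth.Agent.Lib.Helper65

open FibCat Groth.Agent.Lib.Helper31

variable {S : Scheme.{u}}

theorem stableBC_isSurjectiveMor : StableBC (AlgSp.IsSurjectiveMor (S := S)) := by
  intro X₁ Y₁ X₂ Y₂ h1 h2 h3 h4 a b a' b' sq ha
  exact Groth.Agent.S9907.result (X := ⟨X₁, h1⟩) (Y := ⟨Y₁, h2⟩) (Y' := ⟨Y₂, h4⟩)
    (ObjectProperty.homMk a) (ObjectProperty.homMk b) b' a' sq ha

theorem stableBC_locP_smooth : StableBC (AlgSp.LocP (S := S) @Smooth) := by
  intro X₁ Y₁ X₂ Y₂ h1 h2 h3 h4 a b a' b' sq ha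
  exact Groth.Agent.S9984.result @Smooth (Or.inr (Or.inr (Or.inr (Or.inl rfl))))
    (X := ⟨X₁, h1⟩) (Y := ⟨Y₁, h2⟩) (Y' := ⟨Y₂, h4⟩) (X' := ⟨X₂, h3⟩)
    (ObjectProperty.homMk a) (ObjectProperty.homMk b) (ObjectProperty.homMk b') (ObjectProperty.homMk a')
    sq ha

theorem stableBC_isEtaleMor : StableBC (AlgSp.IsEtaleMor (S := S)) := by
  intro X₁ Y₁ X₂ Y₂ h1 h2 h3 h4 a b a' b' sq ha
  exact Groth.Agent.S10209.result (X := ⟨X₁, h1⟩) (Y := ⟨Y₁, h2⟩) (Z := ⟨Y₂, h4⟩) (P := ⟨X₂, h3⟩)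
    (ObjectProperty.homMk a) (ObjectProperty.homMk b) (ObjectProperty.homMk a') (ObjectProperty.homMk b')
    sq.flip ha

/-- A map `h_U ⟶ F` to an algebraic space with `Q` (as a morphism of algebraic spaces), `Q` stable under base
change, gives a functor `(Sch/U) ⟶ ofSp F` representable by algebraic spaces with `Q`. -/
theorem repByAlgSpWith_of_prop (Q : MorphismProperty (AlgSp.Sp S)) (hQb : StableBC Q) (F : AlgSp.Space S)
    (U : Over S) (p : (AlgSp.yon S).obj U ⟶ F.obj) (hp : Q p) :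
    AlgSt.RepByAlgSpWith Q (BasedFunctor.comp (AlgSt.ofOverCat U) (AlgSt.ofSpMap p)) := by
  have h1 : AlgSp.RepBySpWith Q p.hom :=
    repBySpWith_of_prop Q hQb (V := ⟨(AlgSp.yon S).obj U, AlgSp.IsAlgSpace.yon_obj U⟩) (Z := F) p hp
  have h2 : AlgSt.RepByAlgSpWith Q (Stk.ofPshMap p.hom) := repByAlgSpWith_of_repBySpWith p.hom Q h1
  exact repByAlgSpWith_of_square Q (Stk.ofPshMap p.hom)
    (BasedFunctor.comp (AlgSt.ofOverCat U) (AlgSt.ofSpMap p)) (AlgSt.ofOverCat U) (BasedFunctor.id _)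
    (ofOverCat_isEquivOver U) (isEquivOver_id _) (Iso.refl _) h2

theorem isDM_ofSp (F : AlgSp.Space S) : AlgSt.IsDM Scheme.fppfPrecoverage (AlgSt.ofSp F.obj) := by
  obtain ⟨U, p, hpe, hps⟩ := F.property.atlas
  have hsurj : AlgSp.IsSurjectiveMor p := Groth.Agent.H52.surjective_points_of_repWith_surjective p hps
  have het : AlgSp.IsEtaleMor p := fun T φ hφ =>
    (AlgSp.repWith_isMultiplicative (S := S) @Etale).comp_mem _ _ hφ hpe
  have hsm : AlgSp.LocP @Smooth p := by
    have := Groth.Agent.Lib.Helper54.isMultiplicative_smooth.{u}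
    have h := Groth.Agent.Lib.Helper54.locP_yon_map_comp (S := S) @Smooth
      (fun A B φ hφ => by have : Etale φ := hφ; exact (inferInstance : Smooth φ))
      (𝟙 U) (inferInstanceAs (Smooth (𝟙 U.left))) p hpe
    rwa [(AlgSp.yon S).map_id, Category.id_comp] at h
  have hS := repByAlgSpWith_of_prop _ stableBC_isSurjectiveMor F U p hsurj
  refine ⟨⟨?_, ?_, ⟨U, _, repByAlgSpWith_of_prop _ stableBC_locP_smooth F U p hsm, hS⟩⟩,
    ⟨U, _, repByAlgSpWith_of_prop _ stableBC_isEtaleMor F U p het, hS⟩⟩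
  · exact (isStack_ofPsh_iff _ _).2 ((isSheaf_iff_isSheaf_of_type _ _).1 F.obj.property)
  · exact repByAlgSp1_diag_of_all (fun V x => repByAlgSp1_of_repByAlgSp x (repByAlgSp_overCat V)
      ⟨F, BasedFunctor.id _, isEquivOver_id _⟩)

end Groth.Agent.Lib.Helper65
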