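import Groth.Agent.Lib.Helper65.RepBC
import Groth.Agent.Lib.Helper65.SpaceDM

/-!
# Helper65: descent of properties of morphisms representable by algebraic spaces along fppf coverings
-/

set_option autoImplicit false
set_option backward.isDefEq.respectTransparency false
set_option backward.isDefEq.respectTransparency.types false

universe u

open CategoryTheory CategoryTheory.Functor CategoryTheory.Limits Opposite AlgebraicGeometry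

namespace Groth.Agent.Lib.Helper65

open FibCat Groth.Agent.Lib.Helper31

variable {S : Scheme.{u}}

section Basic

/-- Every functor `ofSp F ⟶ (Sch/U)` over `(Sch/S)` comes from its map of sheaves. -/
def isoSpMapOfOver {F : AlgSp.Sp S} {U : Over S} (Φ : AlgSt.ofSp F ⥤ᵇ FibCat.overCat U) :
    Φ ≅ BasedFunctor.comp (AlgSt.ofSpMap (AlgSt.spMapOfOver Φ)) (AlgSt.toOverCat U) :=
  bWhiskerRightIso
    (isoOfSecEq (Φ := BasedFunctor.comp Φ (AlgSt.ofOverCat U))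
      (Ψ := AlgSt.ofSpMap (AlgSt.spMapOfOver Φ)) (fun a => by
        rw [secOf_ofPshMap]
        rfl))
    (AlgSt.toOverCat U)

theorem StableBC.precomp_iso {Q : MorphismProperty (AlgSp.Sp S)} (hQb : StableBC Q) {X Y Z : AlgSp.Sp S}
    (hY : AlgSp.IsAlgSpace Y) (hZ : AlgSp.IsAlgSpace Z) (e : X ≅ Y) (f : Y ⟶ Z) (hf : Q f) :
    Q (e.hom ≫ f) :=
  hQb hY hZ (hY.of_iso e.symm) hZ f (𝟙 Z) (e.hom ≫ f) e.hom (IsPullback.of_horiz_isIso ⟨by simp⟩) hf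

theorem stableBC_locP (P : MorphismProperty Scheme.{u})
    (hP : P = @LocallyOfFiniteType ∨ P = @LocallyOfFinitePresentation ∨ P = @Flat ∨ P = @Smooth ∨ P = @Etale ∨
      (∀ ⦃A B : Scheme.{u}⦄ (g : A ⟶ B), P g ↔ (LocallyQuasiFinite g ∧ LocallyOfFiniteType g)) ∨
      (∀ ⦃A B : Scheme.{u}⦄ (g : A ⟶ B), P g ↔ (LocallyOfFiniteType g ∧ FormallyUnramified g))) :
    StableBC (AlgSp.LocP (S := S) P) := by
  intro X₁ Y₁ X₂ Y₂ h1 h2 h3 h4 a b a' b' sq ha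
  exact Groth.Agent.S9984.result P hP
    (X := ⟨X₁, h1⟩) (Y := ⟨Y₁, h2⟩) (Y' := ⟨Y₂, h4⟩) (X' := ⟨X₂, h3⟩)
    (ObjectProperty.homMk a) (ObjectProperty.homMk b) (ObjectProperty.homMk b') (ObjectProperty.homMk a')
    sq ha

/-- Two algebraic spaces representing the same category over `(Sch/U)` are isomorphic over `h_U`. -/
theorem exists_iso_spMapOfOver {𝒲 : AlgSt.Cat S} {U : Over S} (Φ : 𝒲 ⥤ᵇ FibCat.overCat U)
    {G G' : AlgSp.Sp S} (e : AlgSt.ofSp G ⥤ᵇ 𝒲) (he : IsEquivOver e)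
    (e' : AlgSt.ofSp G' ⥤ᵇ 𝒲) (he' : IsEquivOver e') :
    ∃ ι : G ≅ G', AlgSt.spMapOfOver (BasedFunctor.comp e Φ) =
      ι.hom ≫ AlgSt.spMapOfOver (BasedFunctor.comp e' Φ) := by
  obtain ⟨e'', he'', ⟨c₁⟩, ⟨c₂⟩⟩ := exists_inverse_equivOver e' he'
  let E : AlgSt.ofSp G ⥤ᵇ AlgSt.ofSp G' := BasedFunctor.comp e e''
  have hE : IsEquivOver E := isEquivOver_comp e e'' he he''
  obtain ⟨ι₀, hι₀⟩ := nonempty_iso_of_equivOver E hE
  let ι : G ≅ G' :=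
    (fullyFaithfulSheafToPresheaf (AlgSp.J S) _).preimageIso (X := G) (Y := G') ι₀
  have hι : ι.hom.hom = ι₀.hom :=
    (fullyFaithfulSheafToPresheaf (AlgSp.J S) _).map_preimage (X := G) (Y := G') ι₀.hom
  refine ⟨ι, ?_⟩
  have k : BasedFunctor.comp e Φ ≅
      BasedFunctor.comp (AlgSt.ofSpMap ι.hom) (BasedFunctor.comp e' Φ) := by
    have k1 : BasedFunctor.comp e Φ ≅ BasedFunctor.comp (BasedFunctor.comp E e') Φ :=
      bWhiskerRightIso (bWhiskerLeftIso e c₂.symm) Φ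
    have k2 : BasedFunctor.comp (BasedFunctor.comp E e') Φ ≅
        BasedFunctor.comp (BasedFunctor.comp (Stk.ofPshMap (pshMapOf E)) e') Φ :=
      bWhiskerRightIso (bWhiskerRightIso (isoOfPshMap E) e') Φ
    have e3 : BasedFunctor.comp (BasedFunctor.comp (Stk.ofPshMap (pshMapOf E)) e') Φ =
        BasedFunctor.comp (AlgSt.ofSpMap ι.hom) (BasedFunctor.comp e' Φ) := by
      change BasedFunctor.comp (BasedFunctor.comp (Stk.ofPshMap (pshMapOf E)) e') Φ =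
        BasedFunctor.comp (BasedFunctor.comp (Stk.ofPshMap ι.hom.hom) e') Φ
      rw [hι, hι₀]
    exact k1 ≪≫ k2 ≪≫ eqToIso e3
  rw [spMapOfOver_congr k, spMapOfOver_ofSpMap_comp]

end Basic

section Desc

variable {𝒳 𝒴 : AlgSt.Cat S}

/-- The base change of a morphism representable by algebraic spaces to an algebraic space, with its projection. -/
theorem exists_space_fp (h𝒳 : IsFibGrpd 𝒳.p) (h𝒴 : IsFibGrpd 𝒴.p) (f : 𝒳 ⥤ᵇ 𝒴) (hf : AlgSt.RepByAlgSp1 f)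
    (Z : AlgSp.Space S) (z : AlgSt.ofSp Z.obj ⥤ᵇ 𝒴) :
    ∃ (V : AlgSp.Space S) (a : V ⟶ Z) (E : AlgSt.ofSp V.obj ⥤ᵇ fp z f), IsEquivOver E ∧
      Nonempty (BasedFunctor.comp E (fpFst z f) ≅ AlgSt.ofSpMap a.hom) := by
  have hπ : AlgSt.RepByAlgSp1 (fpFst z f) :=
    (repByAlgSp1_iff_top _).2 (repByAlgSpWith_fpFst ⊤ f z ((repByAlgSp1_iff_top f).1 hf))
  have hfib : IsFibGrpd (fp z f).p := isFibGrpd_fp z f (Stk.isFibGrpd_ofPsh _) h𝒳 h𝒴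
  exact exists_space_of_repByAlgSp1_ofSp hfib Z (fpFst z f) hπ

/-- Descent: if `P` holds for the base changes of `F₁ ⟶ G₁` (the base change of `f` to `G₁`) along an fppf
covering of `G₁`, it holds for `F₁ ⟶ G₁`. -/
theorem prop_of_cover (P : MorphismProperty (AlgSp.Sp S))
    (hP : AlgSp.IsLocalOnBase AlgSp.IsFppfCover P) (f : 𝒳 ⥤ᵇ 𝒴)
    {G₁ F₁ : AlgSp.Space S} (y₁ : AlgSt.ofSp G₁.obj ⥤ᵇ 𝒴) (E₁ : AlgSt.ofSp F₁.obj ⥤ᵇ fp y₁ f)
    (hE₁ : IsEquivOver E₁) (a₁ : F₁ ⟶ G₁)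
    (i₁ : BasedFunctor.comp E₁ (fpFst y₁ f) ≅ AlgSt.ofSpMap a₁.hom)
    {ι : Type u} (G : ι → AlgSp.Space S) (b : ∀ i, G i ⟶ G₁)
    (hcov : AlgSp.IsFppfCover (fun i => (G i).obj) (fun i => (b i).hom))
    (H : ∀ i, ∃ (y₂ : AlgSt.ofSp (G i).obj ⥤ᵇ 𝒴)
      (_ : y₂ ≅ BasedFunctor.comp (AlgSt.ofSpMap (b i).hom) y₁) (F₂ : AlgSp.Space S) (a₂ : F₂ ⟶ G i)
      (E₂ : AlgSt.ofSp F₂.obj ⥤ᵇ fp y₂ f), IsEquivOver E₂ ∧
        Nonempty (BasedFunctor.comp E₂ (fpFst y₂ f) ≅ AlgSt.ofSpMap a₂.hom) ∧ P a₂.hom) :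
    P a₁.hom := by
  choose y₂ j F₂ a₂ E₂ hE₂ i₂ hPa₂ using H
  have hsq : ∀ i, ∃ b' : (F₂ i).obj ⟶ F₁.obj, IsPullback b' (a₂ i).hom a₁.hom (b i).hom := fun i =>
    exists_isPullback_of_fp f y₁ E₁ hE₁ a₁.hom i₁ (b i).hom (y₂ i) (j i) (E₂ i) (hE₂ i) (a₂ i).hom
      (i₂ i).some
  choose b' hb' using hsq
  exact (hP (fun i => (G i).obj) (fun i => (b i).hom) G₁.property (fun i => (G i).property) hcov
    a₁.hom F₁.property (fun i => (F₂ i).obj) (fun i => (a₂ i).hom) b' (fun i => (F₂ i).property)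
    hb').2 hPa₂

end Desc

section FlatCover

variable {𝒳 𝒴 : AlgSt.Cat S}

/-- A property of `f` may be checked after base change to one flat, locally finitely presented and surjective
`w : W ⟶ 𝒴` from an algebraic space. -/
theorem repByAlgSpWith_of_flat_cover (P : MorphismProperty (AlgSp.Sp S)) (hPb : StableBC P)
    (hP : AlgSp.IsLocalOnBase AlgSp.IsFppfCover P) (h𝒳 : IsFibGrpd 𝒳.p) (h𝒴 : IsFibGrpd 𝒴.p)
    (f : 𝒳 ⥤ᵇ 𝒴) (hf : AlgSt.RepByAlgSp1 f) (W : AlgSp.Space S) (w : AlgSt.ofSp W.obj ⥤ᵇ 𝒴)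
    (hw₁ : AlgSt.RepByAlgSpWith (AlgSp.LocP @Flat) w)
    (hw₂ : AlgSt.RepByAlgSpWith (AlgSp.LocP @LocallyOfFinitePresentation) w)
    (hw₃ : AlgSt.RepByAlgSpWith AlgSp.IsSurjectiveMor w)
    (V : AlgSp.Space S) (a : V ⟶ W) (e : AlgSt.ofSp V.obj ⥤ᵇ fp w f) (he : IsEquivOver e)
    (i : BasedFunctor.comp e (fpFst w f) ≅ AlgSt.ofSpMap a.hom) (hPa : P a.hom) :
    AlgSt.RepByAlgSpWith P f := by
  intro U y
  let Z : AlgSp.Space S := ⟨(AlgSp.yon S).obj U, AlgSp.IsAlgSpace.yon_obj U⟩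
  let y₁ : AlgSt.ofSp Z.obj ⥤ᵇ 𝒴 := BasedFunctor.comp (AlgSt.toOverCat U) y
  obtain ⟨F, c, E₁, hE₁, ⟨i₁⟩⟩ := exists_space_fp h𝒳 h𝒴 f hf Z y₁
  let Φ : fp y₁ f ⥤ᵇ fp y f :=
    fpMap (F := y₁) (G := f) (F' := y) (G' := f) (AlgSt.toOverCat U)
      (BasedFunctor.id _) (BasedFunctor.id _) (Iso.refl _) (Iso.refl _)
  have hΦ : IsEquivOver Φ :=
    fpMap_isEquivOver _ _ _ _ _ (toOverCat_isEquivOver U) (isEquivOver_id _) (isEquivOver_id _)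
  refine ⟨F, BasedFunctor.comp E₁ Φ, isEquivOver_comp E₁ Φ hE₁ hΦ, ?_⟩
  have j : BasedFunctor.comp (BasedFunctor.comp E₁ Φ) (fpFst y f) ≅
      BasedFunctor.comp (AlgSt.ofSpMap c.hom) (AlgSt.toOverCat U) :=
    bWhiskerRightIso i₁ (AlgSt.toOverCat U)
  rw [spMapOfOver_congr j, spMapOfOver_ofSpMap_toOverCat]
  -- the covering `G = (Sch/U) ×_𝒴 W ⟶ U`
  obtain ⟨G, eG, heG, hd1⟩ := hw₁ U y
  obtain ⟨G₂, eG₂, heG₂, hd2⟩ := hw₂ U y
  obtain ⟨G₃, eG₃, heG₃, hd3⟩ := hw₃ U y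
  let d : G ⟶ Z := ObjectProperty.homMk (AlgSt.spMapOfOver (BasedFunctor.comp eG (fpFst y w)))
  have hd2' : AlgSp.LocP @LocallyOfFinitePresentation d.hom := by
    obtain ⟨ι, hι⟩ := exists_iso_spMapOfOver (fpFst y w) eG heG eG₂ heG₂
    change AlgSp.LocP @LocallyOfFinitePresentation
      (AlgSt.spMapOfOver (BasedFunctor.comp eG (fpFst y w)))
    rw [hι]
    exact (stableBC_locP _ (Or.inr (Or.inl rfl))).precomp_iso G₂.property Z.property ι _ hd2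
  have hd3' : AlgSp.IsSurjectiveMor d.hom := by
    obtain ⟨ι, hι⟩ := exists_iso_spMapOfOver (fpFst y w) eG heG eG₃ heG₃
    change AlgSp.IsSurjectiveMor (AlgSt.spMapOfOver (BasedFunctor.comp eG (fpFst y w)))
    rw [hι]
    exact stableBC_isSurjectiveMor.precomp_iso G₃.property Z.property ι _ hd3
  have hcov : AlgSp.IsFppfCover (fun _ : PUnit.{u + 1} => G.obj) (fun _ => d.hom) :=
    ⟨fun _ => ⟨hd1, hd2'⟩, fun x => ⟨PUnit.unit, hd3' x⟩⟩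
  let gW : G.obj ⟶ W.obj := ObjectProperty.homMk (pshMapOf (BasedFunctor.comp eG (fpSnd y w)))
  let y₂ : AlgSt.ofSp G.obj ⥤ᵇ 𝒴 := BasedFunctor.comp (BasedFunctor.comp eG (fpSnd y w)) w
  have iB : y₂ ≅ BasedFunctor.comp (AlgSt.ofSpMap gW) w :=
    bWhiskerRightIso (isoOfPshMap (BasedFunctor.comp eG (fpSnd y w))) w
  have iA : y₂ ≅ BasedFunctor.comp (AlgSt.ofSpMap d.hom) y₁ := by
    have k1 : y₂ ≅ BasedFunctor.comp eG (BasedFunctor.comp (fpFst y w) y) :=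
      bWhiskerLeftIso eG (fpIso y w).symm
    have k2 : BasedFunctor.comp (BasedFunctor.comp eG (fpFst y w)) y ≅
        BasedFunctor.comp (BasedFunctor.comp (AlgSt.ofSpMap d.hom) (AlgSt.toOverCat U)) y :=
      bWhiskerRightIso (isoSpMapOfOver (BasedFunctor.comp eG (fpFst y w))) y
    exact k1 ≪≫ k2
  obtain ⟨F₂, a₂, E₂, hE₂, ⟨i₂⟩⟩ := exists_space_fp h𝒳 h𝒴 f hf G y₂
  obtain ⟨b', hb'⟩ := exists_isPullback_of_fp f w e he a.hom i gW y₂ iB E₂ hE₂ a₂.hom i₂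
  have hPa₂ : P a₂.hom :=
    hPb V.property W.property F₂.property G.property a.hom gW a₂.hom b' hb' hPa
  exact prop_of_cover P hP f y₁ E₁ hE₁ c i₁ (fun _ : PUnit.{u + 1} => G) (fun _ => d) hcov
    (fun _ => ⟨y₂, iA, F₂, a₂, E₂, hE₂, ⟨i₂⟩, hPa₂⟩)

end FlatCover

end Groth.Agent.Lib.Helper65
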