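import Groth.Agent.Lib.Helper65.LocalProps
import Groth.Agent.Lib.Helper54.SourceLocal
import Groth.Agent.S10567

/-!
# Helper65: flatness of morphisms of algebraic spaces is smooth local on source-and-target
-/

set_option autoImplicit false
set_option backward.isDefEq.respectTransparency false
set_option backward.isDefEq.respectTransparency.types false

universe u

open CategoryTheory CategoryTheory.Functor CategoryTheory.Limits Opposite AlgebraicGeometry

namespace Groth.Agent.Lib.Helper65

variable {S : Scheme.{u}}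

/-- A smooth covering is an fppf covering. -/
theorem isFppfCover_of_isSmCover {ι : Type u} {X : AlgSp.Sp S} (Y : ι → AlgSp.Sp S) (g : ∀ i, Y i ⟶ X)
    (h : AlgSp.IsSmCover Y g) : AlgSp.IsFppfCover Y g :=
  ⟨fun i => ⟨locP_mono smooth_le_flat _ (h.1 i), locP_mono smooth_le_lfp _ (h.1 i)⟩, h.2⟩

/-- fppf local on the base implies smooth local on the base. -/
theorem isLocalOnBase_sm_of_fppf {P : MorphismProperty (AlgSp.Sp S)}
    (h : AlgSp.IsLocalOnBase AlgSp.IsFppfCover P) : AlgSp.IsLocalOnBase AlgSp.IsSmCover P := by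
  intro ι Y Yi g hY hYi hcov X f hX Xi p q hXi sq
  exact h Yi g hY hYi (isFppfCover_of_isSmCover Yi g hcov) f hX Xi p q hXi sq

/-- Flatness is local on the source for jointly surjective families of flat morphisms. -/
theorem locP_flat_of_flat_cover {X Y : AlgSp.Sp S} (hX : AlgSp.IsAlgSpace X) (hY : AlgSp.IsAlgSpace Y)
    {ι : Type u} {Xi : ι → AlgSp.Sp S} (hXi : ∀ i, AlgSp.IsAlgSpace (Xi i)) (g : ∀ i, Xi i ⟶ X)
    (hg : ∀ i, AlgSp.LocP @Flat (g i))
    (hsurj : ∀ x : AlgSp.Points X, ∃ i, x ∈ Set.range (AlgSp.Points.map (g i))) (f : X ⟶ Y)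
    (hf : ∀ i, AlgSp.LocP @Flat (g i ≫ f)) : AlgSp.LocP @Flat f := by
  refine Groth.Agent.Lib.Helper54.locP_of_source_cover Groth.Agent.Lib.Helper54.etLocal_flat
    Groth.Agent.Lib.Helper54.etLocal_flat ?_ hX hY hXi g hg hsurj f hf
  intro ι' U V Ui k h hk hsurj hkh
  exact Groth.Agent.Lib.Helper54.flat_of_flat_comp_of_family Ui k h hk hsurj hkh

/-- Flatness is local on the source for smooth coverings. -/
theorem isLocalOnSource_sm_locP_flat :
    AlgSp.IsLocalOnSource AlgSp.IsSmCover (AlgSp.LocP (S := S) @Flat) := by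
  intro ι X Xi g hX hXi hcov Y f hY
  constructor
  · intro hf i
    exact stableComp_locP @Flat (Or.inr (Or.inr (Or.inl rfl))) (hXi i) hX hY (g i) f
      (locP_mono smooth_le_flat _ (hcov.1 i)) hf
  · intro hf
    exact locP_flat_of_flat_cover hX hY hXi g (fun i => locP_mono smooth_le_flat _ (hcov.1 i)) hcov.2 f hf

/-- Flatness of morphisms of algebraic spaces is smooth local on source-and-target. -/
theorem isSmoothLocalST_locP_flat : AlgSp.IsSmoothLocalST (AlgSp.LocP (S := S) @Flat) := by
  refine Groth.Agent.S10567.result _ isLocalOnSource_sm_locP_flat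
    (isLocalOnBase_sm_of_fppf isLocalOnBase_fppf_locP_flat) ?_
  intro X Y Z f g hf hg
  exact stableComp_locP @Flat (Or.inr (Or.inr (Or.inl rfl))) X.property Y.property Z.property f.hom g.hom hf
    (locP_mono smooth_le_flat _ hg)

end Groth.Agent.Lib.Helper65
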