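import Groth.Prelude.Def_FibCat2
import Groth.Agent.Lib.Helper31.FibCat
import Groth.Agent.Lib.Helper65.BasedEquiv
import Groth.Agent.Lib.Helper65.FpMap

/-!
# Helper65: composition of equivalences over the base, invariance of representability, pasting of 2-fibre products
-/

set_option autoImplicit false
set_option backward.isDefEq.respectTransparency false
set_option backward.isDefEq.respectTransparency.types false

universe v₇ u₇ v₆ u₆ v₅ u₅ v₄ u₄ v₃ u₃ v₂ u₂ v u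

open CategoryTheory CategoryTheory.Functor CategoryTheory.Limits

namespace Groth.Agent.Lib.Helper65

open FibCat Groth.Agent.Lib.Helper31

variable {C : Type u} [Category.{v} C]
variable {𝒳 : BasedCategory.{v₂, u₂} C} {𝒴 : BasedCategory.{v₃, u₃} C} {𝒵 : BasedCategory.{v₄, u₄} C}

section EquivCalculus

theorem isEquivOver_id (𝒳 : BasedCategory.{v₂, u₂} C) : IsEquivOver (BasedFunctor.id 𝒳) :=
  ⟨BasedFunctor.id 𝒳, ⟨Iso.refl _⟩, ⟨Iso.refl _⟩⟩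

theorem essSurjOver_comp (F : 𝒳 ⥤ᵇ 𝒴) (G : 𝒴 ⥤ᵇ 𝒵) (hF : EssSurjOver F) (hG : EssSurjOver G) :
    EssSurjOver (BasedFunctor.comp F G) := by
  intro z
  obtain ⟨y, ε, hε⟩ := hG z
  obtain ⟨x, δ, hδ⟩ := hF y
  have hy : 𝒴.p.obj y = 𝒵.p.obj z := by
    rw [← G.w_obj]
    exact IsHomLift.domain_eq 𝒵.p (𝟙 (𝒵.p.obj z)) ε.hom
  have hδ' : 𝒴.p.IsHomLift (𝟙 (𝒵.p.obj z)) δ.hom := isHomLift_id_of_eq 𝒴.p hy _
  refine ⟨x, G.toFunctor.mapIso δ ≪≫ ε, ?_⟩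
  have : 𝒵.p.IsHomLift (𝟙 (𝒵.p.obj z) ≫ 𝟙 (𝒵.p.obj z)) (G.map δ.hom ≫ ε.hom) := inferInstance
  simpa using this

theorem isEquivOver_comp (F : 𝒳 ⥤ᵇ 𝒴) (G : 𝒴 ⥤ᵇ 𝒵) (hF : IsEquivOver F) (hG : IsEquivOver G) :
    IsEquivOver (BasedFunctor.comp F G) := by
  obtain ⟨hF1, hF2, hF3⟩ := isEquivOver_full_faithful_ess F hF
  obtain ⟨hG1, hG2, hG3⟩ := isEquivOver_full_faithful_ess G hG
  haveI : (BasedFunctor.comp F G).toFunctor.Full :=
    inferInstanceAs (F.toFunctor ⋙ G.toFunctor).Full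
  haveI : (BasedFunctor.comp F G).toFunctor.Faithful :=
    inferInstanceAs (F.toFunctor ⋙ G.toFunctor).Faithful
  exact isEquivOver_of_ff_ess _ (essSurjOver_comp F G hF3 hG3)

/-- A functor over the base 2-isomorphic to an equivalence over the base is one. -/
theorem isEquivOver_of_iso {F F' : 𝒳 ⥤ᵇ 𝒴} (e : F ≅ F') (hF : IsEquivOver F) : IsEquivOver F' := by
  obtain ⟨hF1, hF2, hF3⟩ := isEquivOver_full_faithful_ess F hF
  haveI : F'.toFunctor.Full := Functor.Full.of_iso (basedIsoToNatIso e)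
  haveI : F'.toFunctor.Faithful := Functor.Faithful.of_iso (basedIsoToNatIso e)
  apply isEquivOver_of_ff_ess
  intro y
  obtain ⟨x, ε, hε⟩ := hF3 y
  have hx : 𝒳.p.obj x = 𝒴.p.obj y := by
    rw [← F.w_obj]
    exact IsHomLift.domain_eq 𝒴.p (𝟙 (𝒴.p.obj y)) ε.hom
  have h1 : 𝒴.p.IsHomLift (𝟙 (𝒴.p.obj y)) (e.inv.toNatTrans.app x) :=
    BasedNatTrans.isHomLift e.inv hx
  refine ⟨x, ((basedIsoToNatIso e).app x).symm ≪≫ ε, ?_⟩
  have : 𝒴.p.IsHomLift (𝟙 (𝒴.p.obj y) ≫ 𝟙 (𝒴.p.obj y)) (e.inv.toNatTrans.app x ≫ ε.hom) :=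
    inferInstance
  simpa using this

theorem exists_inverse_equivOver (F : 𝒳 ⥤ᵇ 𝒴) (hF : IsEquivOver F) :
    ∃ G : 𝒴 ⥤ᵇ 𝒳, IsEquivOver G ∧ Nonempty (BasedFunctor.comp F G ≅ BasedFunctor.id 𝒳) ∧
      Nonempty (BasedFunctor.comp G F ≅ BasedFunctor.id 𝒴) := by
  obtain ⟨G, ⟨e₁⟩, ⟨e₂⟩⟩ := hF
  exact ⟨G, isEquivOver_symm e₁ e₂, ⟨e₁⟩, ⟨e₂⟩⟩

theorem isRepresentable_of_equivOver (H : 𝒳 ⥤ᵇ 𝒴) (hH : IsEquivOver H) (h : IsRepresentable 𝒴) :
    IsRepresentable 𝒳 := by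
  obtain ⟨U, E, hE⟩ := h
  exact ⟨U, BasedFunctor.comp H E, isEquivOver_comp H E hH hE⟩

theorem isRepresentable_iff_of_equivOver (H : 𝒳 ⥤ᵇ 𝒴) (hH : IsEquivOver H) :
    IsRepresentable 𝒳 ↔ IsRepresentable 𝒴 := by
  refine ⟨?_, isRepresentable_of_equivOver H hH⟩
  obtain ⟨G, hG, -, -⟩ := exists_inverse_equivOver H hH
  exact isRepresentable_of_equivOver G hG

end EquivCalculus

section PasteFst

variable {𝒲 : BasedCategory.{v₅, u₅} C} (h : 𝒲 ⥤ᵇ 𝒵) (g : 𝒵 ⥤ᵇ 𝒴) (f : 𝒳 ⥤ᵇ 𝒴)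

/-- The component isomorphism of `fpPasteFst`. -/
def fpPasteFstCompIso (T : (fp h (fpFst g f)).obj) :
    g.obj (h.obj T.obj.fst) ≅ f.obj T.obj.snd.obj.snd :=
  g.toFunctor.mapIso T.obj.iso ≪≫ T.obj.snd.obj.iso

theorem fpPasteFstCompIso_hom (T : (fp h (fpFst g f)).obj) :
    (fpPasteFstCompIso h g f T).hom = g.map T.obj.iso.hom ≫ T.obj.snd.obj.iso.hom := rfl

/-- The 2-isomorphism defining `fpPasteFst`. -/
def fpPasteFstIso : BasedFunctor.comp (fpFst h (fpFst g f)) (BasedFunctor.comp h g) ≅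
    BasedFunctor.comp (BasedFunctor.comp (fpSnd h (fpFst g f)) (fpSnd g f)) f :=
  BasedNatIso.mkNatIso
    (NatIso.ofComponents (fun T => fpPasteFstCompIso h g f T)
      (fun {T T'} φ => by
        change g.map (h.map φ.hom.fst) ≫ (fpPasteFstCompIso h g f T').hom =
          (fpPasteFstCompIso h g f T).hom ≫ f.map φ.hom.snd.hom.snd
        rw [fpPasteFstCompIso_hom, fpPasteFstCompIso_hom]
        have w1 : h.map φ.hom.fst ≫ T'.obj.iso.hom = T.obj.iso.hom ≫ φ.hom.snd.hom.fst := fp_hom_w φ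
        have w2 := fp_hom_w φ.hom.snd
        rw [← Category.assoc, ← g.map_comp, w1, g.map_comp, Category.assoc, w2, Category.assoc]))
    (fun T => by
      change 𝒴.p.IsHomLift (𝟙 (𝒲.p.obj T.obj.fst)) (fpPasteFstCompIso h g f T).hom
      rw [fpPasteFstCompIso_hom]
      have h1 : 𝒵.p.IsHomLift (𝟙 (𝒲.p.obj T.obj.fst)) T.obj.iso.hom := T.property
      have h2 : 𝒴.p.IsHomLift (𝟙 (𝒵.p.obj T.obj.snd.obj.fst)) T.obj.snd.obj.iso.hom := T.obj.snd.property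
      have e : 𝒵.p.obj T.obj.snd.obj.fst = 𝒲.p.obj T.obj.fst := fp_snd_obj T
      have h2' : 𝒴.p.IsHomLift (𝟙 (𝒲.p.obj T.obj.fst)) T.obj.snd.obj.iso.hom :=
        isHomLift_id_of_eq 𝒴.p e _
      have : 𝒴.p.IsHomLift (𝟙 (𝒲.p.obj T.obj.fst) ≫ 𝟙 (𝒲.p.obj T.obj.fst))
        (g.map T.obj.iso.hom ≫ T.obj.snd.obj.iso.hom) := inferInstance
      simpa using this)

/-- Pasting of 2-fibre products, first form: `𝒲 ×_𝒵 (𝒵 ×_𝒴 𝒳) ⟶ 𝒲 ×_𝒴 𝒳`. -/
def fpPasteFst : fp h (fpFst g f) ⥤ᵇ fp (BasedFunctor.comp h g) f :=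
  fpLift (fpFst h (fpFst g f)) (BasedFunctor.comp (fpSnd h (fpFst g f)) (fpSnd g f))
    (fpPasteFstIso h g f)

@[simp] theorem fpPasteFst_obj_fst (T : (fp h (fpFst g f)).obj) :
    ((fpPasteFst h g f).obj T).obj.fst = T.obj.fst := rfl

@[simp] theorem fpPasteFst_obj_snd (T : (fp h (fpFst g f)).obj) :
    ((fpPasteFst h g f).obj T).obj.snd = T.obj.snd.obj.snd := rfl

theorem fpPasteFst_obj_iso_hom (T : (fp h (fpFst g f)).obj) :
    ((fpPasteFst h g f).obj T).obj.iso.hom = g.map T.obj.iso.hom ≫ T.obj.snd.obj.iso.hom := rfl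

@[simp] theorem fpPasteFst_map_fst {T T' : (fp h (fpFst g f)).obj} (φ : T ⟶ T') :
    ((fpPasteFst h g f).map φ).hom.fst = φ.hom.fst := rfl

@[simp] theorem fpPasteFst_map_snd {T T' : (fp h (fpFst g f)).obj} (φ : T ⟶ T') :
    ((fpPasteFst h g f).map φ).hom.snd = φ.hom.snd.hom.snd := rfl

theorem fpPasteFst_comp_fpFst :
    BasedFunctor.comp (fpPasteFst h g f) (fpFst (BasedFunctor.comp h g) f) = fpFst h (fpFst g f) := rfl

instance fpPasteFst_faithful : (fpPasteFst h g f).toFunctor.Faithful where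
  map_injective := by
    intro T T' φ ψ hφψ
    have e1 : φ.hom.fst = ψ.hom.fst := congrArg (fun t => t.hom.fst) hφψ
    have e2 : φ.hom.snd.hom.snd = ψ.hom.snd.hom.snd := congrArg (fun t => t.hom.snd) hφψ
    have w1 : h.map φ.hom.fst ≫ T'.obj.iso.hom = T.obj.iso.hom ≫ φ.hom.snd.hom.fst := fp_hom_w φ
    have w2 : h.map ψ.hom.fst ≫ T'.obj.iso.hom = T.obj.iso.hom ≫ ψ.hom.snd.hom.fst := fp_hom_w ψ
    apply fp_hom_ext e1
    apply fp_hom_ext _ e2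
    rw [← cancel_epi T.obj.iso.hom, ← w1, ← w2, e1]

instance fpPasteFst_full : (fpPasteFst h g f).toFunctor.Full where
  map_surjective := by
    intro T T' ψ
    have hw := fp_hom_w ψ
    rw [fpPasteFst_obj_iso_hom, fpPasteFst_obj_iso_hom] at hw
    let s : T.obj.fst ⟶ T'.obj.fst := ψ.hom.fst
    let r : T.obj.snd.obj.snd ⟶ T'.obj.snd.obj.snd := ψ.hom.snd
    let t : T.obj.snd.obj.fst ⟶ T'.obj.snd.obj.fst := T.obj.iso.inv ≫ h.map s ≫ T'.obj.iso.hom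
    have w2 : g.map t ≫ T'.obj.snd.obj.iso.hom = T.obj.snd.obj.iso.hom ≫ f.map r := by
      change g.map (T.obj.iso.inv ≫ h.map s ≫ T'.obj.iso.hom) ≫ _ = _
      rw [g.map_comp, g.map_comp, Category.assoc, Category.assoc]
      have hw' : g.map (h.map s) ≫ g.map T'.obj.iso.hom ≫ T'.obj.snd.obj.iso.hom =
          (g.map T.obj.iso.hom ≫ T.obj.snd.obj.iso.hom) ≫ f.map r := hw
      rw [hw', ← Category.assoc, ← Category.assoc, ← g.map_comp, Iso.inv_hom_id, g.map_id,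
        Category.id_comp]
    let tr : T.obj.snd ⟶ T'.obj.snd := fpHomMk t r w2
    have w1 : h.map s ≫ T'.obj.iso.hom = T.obj.iso.hom ≫ (fpFst g f).map tr := by
      change h.map s ≫ T'.obj.iso.hom = T.obj.iso.hom ≫ (T.obj.iso.inv ≫ h.map s ≫ T'.obj.iso.hom)
      rw [Iso.hom_inv_id_assoc]
    refine ⟨fpHomMk s tr w1, ?_⟩
    apply fp_hom_ext <;> rfl

theorem fpPasteFst_essSurjOver : EssSurjOver (fpPasteFst h g f) := by
  apply essSurjOver_fp_of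
  intro Y
  have hY : 𝒴.p.IsHomLift (𝟙 (𝒲.p.obj Y.obj.fst)) Y.obj.iso.hom := Y.property
  have hY' : 𝒴.p.IsHomLift (𝟙 (𝒵.p.obj (h.obj Y.obj.fst))) Y.obj.iso.hom :=
    isHomLift_id_of_eq 𝒴.p (h.w_obj Y.obj.fst).symm _
  let Z : (fp g f).obj := fpObjMk g f (h.obj Y.obj.fst) Y.obj.snd Y.obj.iso hY'
  have hid : 𝒵.p.IsHomLift (𝟙 (𝒲.p.obj Y.obj.fst)) (Iso.refl (h.obj Y.obj.fst)).hom := by
    change 𝒵.p.IsHomLift (𝟙 (𝒲.p.obj Y.obj.fst)) (𝟙 (h.obj Y.obj.fst))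
    infer_instance
  let T : (fp h (fpFst g f)).obj := fpObjMk h (fpFst g f) Y.obj.fst Z (Iso.refl _) hid
  refine ⟨T, Iso.refl _, Iso.refl _, ?_, ?_⟩
  · change 𝒲.p.IsHomLift (𝟙 (𝒲.p.obj Y.obj.fst)) (𝟙 Y.obj.fst)
    infer_instance
  · rw [fpPasteFst_obj_iso_hom]
    change g.map (h.map (𝟙 _)) ≫ Y.obj.iso.hom = (g.map (𝟙 _) ≫ Y.obj.iso.hom) ≫ f.map (𝟙 _)
    simp

theorem fpPasteFst_isEquivOver : IsEquivOver (fpPasteFst h g f) :=
  isEquivOver_of_ff_ess _ (fpPasteFst_essSurjOver h g f)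

end PasteFst

section PasteSnd

variable {𝒲 : BasedCategory.{v₅, u₅} C} (G : 𝒲 ⥤ᵇ 𝒵) (g : 𝒴 ⥤ᵇ 𝒵) (f : 𝒳 ⥤ᵇ 𝒴)

/-- The component isomorphism of `fpPasteSnd`. -/
def fpPasteSndCompIso (T : (fp (fpSnd G g) f).obj) :
    G.obj T.obj.fst.obj.fst ≅ g.obj (f.obj T.obj.snd) :=
  T.obj.fst.obj.iso ≪≫ g.toFunctor.mapIso T.obj.iso

theorem fpPasteSndCompIso_hom (T : (fp (fpSnd G g) f).obj) :
    (fpPasteSndCompIso G g f T).hom = T.obj.fst.obj.iso.hom ≫ g.map T.obj.iso.hom := rfl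

/-- The 2-isomorphism defining `fpPasteSnd`. -/
def fpPasteSndIso : BasedFunctor.comp (BasedFunctor.comp (fpFst (fpSnd G g) f) (fpFst G g)) G ≅
    BasedFunctor.comp (fpSnd (fpSnd G g) f) (BasedFunctor.comp f g) :=
  BasedNatIso.mkNatIso
    (NatIso.ofComponents (fun T => fpPasteSndCompIso G g f T)
      (fun {T T'} φ => by
        change G.map φ.hom.fst.hom.fst ≫ (fpPasteSndCompIso G g f T').hom =
          (fpPasteSndCompIso G g f T).hom ≫ g.map (f.map φ.hom.snd)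
        rw [fpPasteSndCompIso_hom, fpPasteSndCompIso_hom]
        have w1 : φ.hom.fst.hom.snd ≫ T'.obj.iso.hom = T.obj.iso.hom ≫ f.map φ.hom.snd := fp_hom_w φ
        have w2 := fp_hom_w φ.hom.fst
        rw [← Category.assoc, w2, Category.assoc, ← g.map_comp, w1, g.map_comp, Category.assoc]))
    (fun T => by
      change 𝒵.p.IsHomLift (𝟙 (𝒲.p.obj T.obj.fst.obj.fst)) (fpPasteSndCompIso G g f T).hom
      rw [fpPasteSndCompIso_hom]
      have h1 : 𝒵.p.IsHomLift (𝟙 (𝒲.p.obj T.obj.fst.obj.fst)) T.obj.fst.obj.iso.hom :=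
        T.obj.fst.property
      have h2 : 𝒴.p.IsHomLift (𝟙 (𝒲.p.obj T.obj.fst.obj.fst)) T.obj.iso.hom := T.property
      have : 𝒵.p.IsHomLift (𝟙 (𝒲.p.obj T.obj.fst.obj.fst) ≫ 𝟙 (𝒲.p.obj T.obj.fst.obj.fst))
        (T.obj.fst.obj.iso.hom ≫ g.map T.obj.iso.hom) := inferInstance
      simpa using this)

/-- Pasting of 2-fibre products, second form: `(𝒲 ×_𝒵 𝒴) ×_𝒴 𝒳 ⟶ 𝒲 ×_𝒵 𝒳`. -/
def fpPasteSnd : fp (fpSnd G g) f ⥤ᵇ fp G (BasedFunctor.comp f g) :=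
  fpLift (BasedFunctor.comp (fpFst (fpSnd G g) f) (fpFst G g)) (fpSnd (fpSnd G g) f)
    (fpPasteSndIso G g f)

@[simp] theorem fpPasteSnd_obj_fst (T : (fp (fpSnd G g) f).obj) :
    ((fpPasteSnd G g f).obj T).obj.fst = T.obj.fst.obj.fst := rfl

@[simp] theorem fpPasteSnd_obj_snd (T : (fp (fpSnd G g) f).obj) :
    ((fpPasteSnd G g f).obj T).obj.snd = T.obj.snd := rfl

theorem fpPasteSnd_obj_iso_hom (T : (fp (fpSnd G g) f).obj) :
    ((fpPasteSnd G g f).obj T).obj.iso.hom = T.obj.fst.obj.iso.hom ≫ g.map T.obj.iso.hom := rfl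

@[simp] theorem fpPasteSnd_map_fst {T T' : (fp (fpSnd G g) f).obj} (φ : T ⟶ T') :
    ((fpPasteSnd G g f).map φ).hom.fst = φ.hom.fst.hom.fst := rfl

@[simp] theorem fpPasteSnd_map_snd {T T' : (fp (fpSnd G g) f).obj} (φ : T ⟶ T') :
    ((fpPasteSnd G g f).map φ).hom.snd = φ.hom.snd := rfl

theorem fpPasteSnd_comp_fpFst :
    BasedFunctor.comp (fpPasteSnd G g f) (fpFst G (BasedFunctor.comp f g)) =
      BasedFunctor.comp (fpFst (fpSnd G g) f) (fpFst G g) := rfl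

instance fpPasteSnd_faithful : (fpPasteSnd G g f).toFunctor.Faithful where
  map_injective := by
    intro T T' φ ψ hφψ
    have e1 : φ.hom.fst.hom.fst = ψ.hom.fst.hom.fst := congrArg (fun t => t.hom.fst) hφψ
    have e2 : φ.hom.snd = ψ.hom.snd := congrArg (fun t => t.hom.snd) hφψ
    have w1 : φ.hom.fst.hom.snd ≫ T'.obj.iso.hom = T.obj.iso.hom ≫ f.map φ.hom.snd := fp_hom_w φ
    have w2 : ψ.hom.fst.hom.snd ≫ T'.obj.iso.hom = T.obj.iso.hom ≫ f.map ψ.hom.snd := fp_hom_w ψ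
    apply fp_hom_ext _ e2
    apply fp_hom_ext e1
    rw [← cancel_mono T'.obj.iso.hom, w1, w2, e2]

instance fpPasteSnd_full : (fpPasteSnd G g f).toFunctor.Full where
  map_surjective := by
    intro T T' ψ
    have hw := fp_hom_w ψ
    rw [fpPasteSnd_obj_iso_hom, fpPasteSnd_obj_iso_hom] at hw
    let s : T.obj.fst.obj.fst ⟶ T'.obj.fst.obj.fst := ψ.hom.fst
    let t : T.obj.snd ⟶ T'.obj.snd := ψ.hom.snd
    let r : T.obj.fst.obj.snd ⟶ T'.obj.fst.obj.snd := T.obj.iso.hom ≫ f.map t ≫ T'.obj.iso.inv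
    have w2 : G.map s ≫ T'.obj.fst.obj.iso.hom = T.obj.fst.obj.iso.hom ≫ g.map r := by
      change _ = _ ≫ g.map (T.obj.iso.hom ≫ f.map t ≫ T'.obj.iso.inv)
      rw [g.map_comp, g.map_comp]
      have hw' : G.map s ≫ T'.obj.fst.obj.iso.hom ≫ g.map T'.obj.iso.hom =
          (T.obj.fst.obj.iso.hom ≫ g.map T.obj.iso.hom) ≫ g.map (f.map t) := hw
      rw [← cancel_mono (g.map T'.obj.iso.hom)]
      simp only [Category.assoc]
      rw [hw', ← g.map_comp T'.obj.iso.inv, Iso.inv_hom_id, g.map_id, Category.comp_id,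
        Category.assoc]
    let sr : T.obj.fst ⟶ T'.obj.fst := fpHomMk s r w2
    have w1 : (fpSnd G g).map sr ≫ T'.obj.iso.hom = T.obj.iso.hom ≫ f.map t := by
      change (T.obj.iso.hom ≫ f.map t ≫ T'.obj.iso.inv) ≫ T'.obj.iso.hom = _
      simp
    refine ⟨fpHomMk sr t w1, ?_⟩
    apply fp_hom_ext <;> rfl

theorem fpPasteSnd_essSurjOver : EssSurjOver (fpPasteSnd G g f) := by
  apply essSurjOver_fp_of
  intro Y
  have hY : 𝒵.p.IsHomLift (𝟙 (𝒲.p.obj Y.obj.fst)) Y.obj.iso.hom := Y.property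
  let Z : (fp G g).obj := fpObjMk G g Y.obj.fst (f.obj Y.obj.snd) Y.obj.iso hY
  have hid : 𝒴.p.IsHomLift (𝟙 (𝒲.p.obj Y.obj.fst)) (Iso.refl (f.obj Y.obj.snd)).hom := by
    change 𝒴.p.IsHomLift (𝟙 (𝒲.p.obj Y.obj.fst)) (𝟙 (f.obj Y.obj.snd))
    have e : 𝒴.p.obj (f.obj Y.obj.snd) = 𝒲.p.obj Y.obj.fst := by
      rw [f.w_obj]; exact fp_snd_obj Y
    exact IsHomLift.id e
  let T : (fp (fpSnd G g) f).obj := fpObjMk (fpSnd G g) f Z Y.obj.snd (Iso.refl _) hid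
  refine ⟨T, Iso.refl _, Iso.refl _, ?_, ?_⟩
  · change 𝒲.p.IsHomLift (𝟙 (𝒲.p.obj Y.obj.fst)) (𝟙 Y.obj.fst)
    infer_instance
  · rw [fpPasteSnd_obj_iso_hom]
    change G.map (𝟙 _) ≫ Y.obj.iso.hom = (Y.obj.iso.hom ≫ g.map (𝟙 _)) ≫ g.map (f.map (𝟙 _))
    simp only [Functor.map_id, Category.id_comp, Category.comp_id]
    exact (Category.comp_id _).symm

theorem fpPasteSnd_isEquivOver : IsEquivOver (fpPasteSnd G g f) :=
  isEquivOver_of_ff_ess _ (fpPasteSnd_essSurjOver G g f)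

end PasteSnd

section Whisker

variable {𝒲 : BasedCategory.{v₅, u₅} C}

/-- Left whiskering of a 2-isomorphism over the base. -/
def bWhiskerLeftIso (H : 𝒲 ⥤ᵇ 𝒳) {F F' : 𝒳 ⥤ᵇ 𝒴} (e : F ≅ F') :
    BasedFunctor.comp H F ≅ BasedFunctor.comp H F' :=
  BasedNatIso.mkNatIso (isoWhiskerLeft H.toFunctor (basedIsoToNatIso e))
    (fun a => BasedNatTrans.isHomLift e.hom (H.w_obj a))

/-- Right whiskering of a 2-isomorphism over the base. -/
def bWhiskerRightIso {F F' : 𝒲 ⥤ᵇ 𝒳} (e : F ≅ F') (H : 𝒳 ⥤ᵇ 𝒴) :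
    BasedFunctor.comp F H ≅ BasedFunctor.comp F' H :=
  BasedNatIso.mkNatIso (isoWhiskerRight (basedIsoToNatIso e) H.toFunctor)
    (fun a => by
      change 𝒴.p.IsHomLift (𝟙 (𝒲.p.obj a)) (H.map (e.hom.toNatTrans.app a))
      infer_instance)

end Whisker

section Rep1

variable {𝒳' : BasedCategory.{v₅, u₅} C} {𝒴' : BasedCategory.{v₆, u₆} C}

/-- Representable 1-morphisms are stable under base change. -/
theorem isRepresentable1_fpFst (f : 𝒳 ⥤ᵇ 𝒴) (g : 𝒵 ⥤ᵇ 𝒴) (hf : IsRepresentable1 f) :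
    IsRepresentable1 (fpFst g f) := fun U G =>
  isRepresentable_of_equivOver (fpPasteFst G g f) (fpPasteFst_isEquivOver G g f)
    (hf U (BasedFunctor.comp G g))

/-- Representable 1-morphisms are stable under composition. -/
theorem isRepresentable1_comp (f : 𝒳 ⥤ᵇ 𝒴) (g : 𝒴 ⥤ᵇ 𝒵) (hf : IsRepresentable1 f)
    (hg : IsRepresentable1 g) : IsRepresentable1 (BasedFunctor.comp f g) := by
  intro U G
  obtain ⟨V, E, hE⟩ := hg U G
  obtain ⟨E', hE', -, -⟩ := exists_inverse_equivOver E hE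
  have h1 : IsRepresentable (fp (BasedFunctor.comp E' (fpSnd G g)) f) := hf V _
  let Φ : fp (BasedFunctor.comp E' (fpSnd G g)) f ⥤ᵇ fp (fpSnd G g) f :=
    fpMap (F := BasedFunctor.comp E' (fpSnd G g)) (G := f) (F' := fpSnd G g) (G' := f)
      E' (BasedFunctor.id 𝒳) (BasedFunctor.id 𝒴) (Iso.refl _) (Iso.refl _)
  have hΦ : IsEquivOver Φ := fpMap_isEquivOver _ _ _ _ _ hE' (isEquivOver_id _) (isEquivOver_id _)
  have h2 : IsRepresentable (fp (fpSnd G g) f) := (isRepresentable_iff_of_equivOver Φ hΦ).mp h1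
  exact (isRepresentable_iff_of_equivOver (fpPasteSnd G g f) (fpPasteSnd_isEquivOver G g f)).mp h2

/-- Invariance of representable 1-morphisms under equivalences, one direction. -/
theorem isRepresentable1_of_square (f : 𝒳 ⥤ᵇ 𝒴) (f' : 𝒳' ⥤ᵇ 𝒴') (a : 𝒳' ⥤ᵇ 𝒳) (b : 𝒴' ⥤ᵇ 𝒴)
    (ha : IsEquivOver a) (hb : IsEquivOver b)
    (e : BasedFunctor.comp f' b ≅ BasedFunctor.comp a f) (hf : IsRepresentable1 f) :
    IsRepresentable1 f' := by
  intro U G'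
  let Φ : fp G' f' ⥤ᵇ fp (BasedFunctor.comp G' b) f :=
    fpMap (F := G') (G := f') (F' := BasedFunctor.comp G' b) (G' := f)
      (BasedFunctor.id _) a b (Iso.refl _) e
  have hΦ : IsEquivOver Φ := fpMap_isEquivOver _ _ _ _ _ (isEquivOver_id _) ha hb
  exact isRepresentable_of_equivOver Φ hΦ (hf U _)

theorem isRepresentable1_of_square' (f : 𝒳 ⥤ᵇ 𝒴) (f' : 𝒳' ⥤ᵇ 𝒴') (a : 𝒳' ⥤ᵇ 𝒳) (b : 𝒴' ⥤ᵇ 𝒴)
    (ha : IsEquivOver a) (hb : IsEquivOver b)
    (e : BasedFunctor.comp f' b ≅ BasedFunctor.comp a f) (hf' : IsRepresentable1 f') :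
    IsRepresentable1 f := by
  intro U G
  obtain ⟨b', hb', -, ⟨e₂⟩⟩ := exists_inverse_equivOver b hb
  let α : BasedFunctor.comp (BasedFunctor.comp G b') b ≅ BasedFunctor.comp (BasedFunctor.id _) G :=
    bWhiskerLeftIso G e₂
  let Φ : fp (BasedFunctor.comp G b') f' ⥤ᵇ fp G f :=
    fpMap (F := BasedFunctor.comp G b') (G := f') (F' := G) (G' := f)
      (BasedFunctor.id _) a b α e
  have hΦ : IsEquivOver Φ := fpMap_isEquivOver _ _ _ _ _ (isEquivOver_id _) ha hb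
  exact (isRepresentable_iff_of_equivOver Φ hΦ).mp (hf' U _)

end Rep1

end Groth.Agent.Lib.Helper65

namespace Groth.Agent.Lib.Helper65

open FibCat Groth.Agent.Lib.Helper31

section DiagSquare

variable {C : Type u} [Category.{v} C]
variable {𝒳 : BasedCategory.{v₂, u₂} C} {𝒮 : BasedCategory.{v₃, u₃} C}
variable {𝒳' : BasedCategory.{v₄, u₄} C} {𝒮' : BasedCategory.{v₅, u₅} C}

theorem basedFunctor_ext {F G : 𝒳 ⥤ᵇ 𝒮} (h : F.toFunctor = G.toFunctor) : F = G := by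
  cases F; cases G; cases h; rfl

/-- The structure functor is compatible with any functor over the base. -/
def toSelfIso (e : 𝒳 ⥤ᵇ 𝒳') :
    BasedFunctor.comp (toSelf 𝒳) (BasedFunctor.id (selfOver C)) ≅ BasedFunctor.comp e (toSelf 𝒳') :=
  eqToIso (basedFunctor_ext (by
    change 𝒳.p ⋙ 𝟭 C = e.toFunctor ⋙ 𝒳'.p
    rw [e.w]; rfl))

/-- The diagonal commutes with the functor induced on 2-fibre products. -/
def diagSquare {F : 𝒳 ⥤ᵇ 𝒮} {F' : 𝒳' ⥤ᵇ 𝒮'} (a : 𝒳 ⥤ᵇ 𝒳') (c : 𝒮 ⥤ᵇ 𝒮')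
    (α : BasedFunctor.comp F c ≅ BasedFunctor.comp a F') :
    BasedFunctor.comp (diag F) (fpMap a a c α α) ≅ BasedFunctor.comp a (diag F') :=
  BasedNatIso.mkNatIso
    (NatIso.ofComponents
      (fun x => fpIsoMk (X := (fpMap a a c α α).obj ((diag F).obj x)) (Y := (diag F').obj (a.obj x))
        (Iso.refl _) (Iso.refl _) (by
          rw [fpMap_obj_iso_hom]
          change F'.map (𝟙 _) ≫ 𝟙 _ = (α.inv.toNatTrans.app x ≫ c.map (𝟙 _) ≫ α.hom.toNatTrans.app x) ≫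
            F'.map (𝟙 _)
          have e1 : α.inv.toNatTrans.app x ≫ α.hom.toNatTrans.app x = 𝟙 _ :=
            (basedIsoToNatIso α).inv_hom_id_app x
          have l : F'.map (𝟙 (a.obj x)) ≫ 𝟙 (F'.obj (a.obj x)) = 𝟙 (F'.obj (a.obj x)) := by
            rw [F'.map_id]; exact Category.comp_id _
          have r : (α.inv.toNatTrans.app x ≫ c.map (𝟙 (F.obj x)) ≫ α.hom.toNatTrans.app x) ≫
              F'.map (𝟙 (a.obj x)) = 𝟙 (F'.obj (a.obj x)) := by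
            rw [F'.map_id, c.map_id]
            calc (α.inv.toNatTrans.app x ≫ 𝟙 (c.obj (F.obj x)) ≫ α.hom.toNatTrans.app x) ≫
                  𝟙 (F'.obj (a.obj x))
                = α.inv.toNatTrans.app x ≫ 𝟙 (c.obj (F.obj x)) ≫ α.hom.toNatTrans.app x :=
                  Category.comp_id _
              _ = α.inv.toNatTrans.app x ≫ α.hom.toNatTrans.app x :=
                  congrArg (fun t => α.inv.toNatTrans.app x ≫ t) (Category.id_comp _)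
              _ = 𝟙 _ := e1
          exact l.trans r.symm))
      (fun {x y} k => by
        apply fp_hom_ext
        · change a.map k ≫ 𝟙 _ = 𝟙 _ ≫ a.map k
          simp
        · change a.map k ≫ 𝟙 _ = 𝟙 _ ≫ a.map k
          simp))
    (fun x => by
      change (fp F' F').p.IsHomLift (𝟙 (𝒳.p.obj x)) (fpIsoMk _ _ _).hom
      rw [fp_isHomLift_iff]
      change 𝒳'.p.IsHomLift (𝟙 (𝒳.p.obj x)) (𝟙 (a.obj x))
      infer_instance)

end DiagSquare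

end Groth.Agent.Lib.Helper65
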