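import Groth.Prelude.Def_FibCat2
import Groth.Agent.Lib.Helper65.FpPaste
import Groth.Agent.Lib.Helper90.LiftSqFp

/-!
# Helper65: the symmetry `𝒳 ×_𝒮 𝒴 ≃ 𝒴 ×_𝒮 𝒳` of the 2-fibre product
-/

set_option autoImplicit false
set_option backward.isDefEq.respectTransparency false
set_option backward.isDefEq.respectTransparency.types false

universe v₄ u₄ v₃ u₃ v₂ u₂ v u

open CategoryTheory CategoryTheory.Functor CategoryTheory.Limits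

namespace Groth.Agent.Lib.Helper65

open FibCat Groth.Agent.Lib.Helper31

variable {C : Type u} [Category.{v} C]
variable {𝒳 : BasedCategory.{v₂, u₂} C} {𝒴 : BasedCategory.{v₃, u₃} C} {𝒮 : BasedCategory.{v₄, u₄} C}

/-- The symmetry of the 2-fibre product. -/
def fpSwap (F : 𝒳 ⥤ᵇ 𝒮) (G : 𝒴 ⥤ᵇ 𝒮) : fp F G ⥤ᵇ fp G F :=
  fpLift (fpSnd F G) (fpFst F G) (fpIso F G).symm

theorem fpSwap_comp_fpFst (F : 𝒳 ⥤ᵇ 𝒮) (G : 𝒴 ⥤ᵇ 𝒮) :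
    BasedFunctor.comp (fpSwap F G) (fpFst G F) = fpSnd F G := rfl

theorem fpSwap_comp_fpSnd (F : 𝒳 ⥤ᵇ 𝒮) (G : 𝒴 ⥤ᵇ 𝒮) :
    BasedFunctor.comp (fpSwap F G) (fpSnd G F) = fpFst F G := rfl

/-- The symmetry is an involution up to 2-isomorphism. -/
def fpSwapSwapIso (F : 𝒳 ⥤ᵇ 𝒮) (G : 𝒴 ⥤ᵇ 𝒮) :
    BasedFunctor.comp (fpSwap F G) (fpSwap G F) ≅ BasedFunctor.id (fp F G) :=
  Groth.Agent.Lib.Helper90.LiftSqFp.fpIsoMk (Iso.refl _) (Iso.refl _) (fun w => by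
    change F.map (𝟙 _) ≫ w.obj.iso.hom = w.obj.iso.hom ≫ G.map (𝟙 _)
    rw [F.map_id, G.map_id, Category.id_comp, Category.comp_id])

theorem fpSwap_isEquivOver (F : 𝒳 ⥤ᵇ 𝒮) (G : 𝒴 ⥤ᵇ 𝒮) : IsEquivOver (fpSwap F G) :=
  ⟨fpSwap G F, ⟨fpSwapSwapIso F G⟩, ⟨fpSwapSwapIso G F⟩⟩

end Groth.Agent.Lib.Helper65
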