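import Groth.Prelude.Def_FibCat2
import Groth.Agent.Lib.Helper31.FibCat
import Groth.Agent.Lib.Helper65.FpMap

/-!
# Helper65: 2-fibre products of categories fibred in groupoids (any universes), faithfulness of projections
-/

set_option autoImplicit false
set_option backward.isDefEq.respectTransparency false
set_option backward.isDefEq.respectTransparency.types false

universe v₇ u₇ v₆ u₆ v₅ u₅ v₄ u₄ v₃ u₃ v₂ u₂ v u

open CategoryTheory CategoryTheory.Functor CategoryTheory.Limits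

namespace Groth.Agent.Lib.Helper65

open FibCat Groth.Agent.Lib.Helper31

variable {C : Type u} [Category.{v} C]
variable {𝒳 : BasedCategory.{v₂, u₂} C} {𝒴 : BasedCategory.{v₃, u₃} C} {𝒮 : BasedCategory.{v₄, u₄} C}

/-- lifts with a propositionally given codomain -/
theorem exists_lift_of_eq (h𝒴 : IsFibGrpd 𝒴.p) {y : 𝒴.obj} {V U : C} (hU : 𝒴.p.obj y = U) (f : V ⟶ U) :
    ∃ (y₀ : 𝒴.obj) (b : y₀ ⟶ y), 𝒴.p.IsHomLift f b := by
  subst hU
  exact h𝒴.exists_lift f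

/-- The 2-fibre product over the base of categories fibred in groupoids is fibred in groupoids
(universe-polymorphic form of S6401). -/
theorem isFibGrpd_fp (F : 𝒳 ⥤ᵇ 𝒮) (G : 𝒴 ⥤ᵇ 𝒮) (h𝒳 : IsFibGrpd 𝒳.p) (h𝒴 : IsFibGrpd 𝒴.p)
    (h𝒮 : IsFibGrpd 𝒮.p) : IsFibGrpd (fp F G).p := by
  refine ⟨?_, ?_⟩
  · intro Y V f₀
    obtain ⟨f, hf⟩ : ∃ f : V ⟶ 𝒳.p.obj Y.obj.fst, f = f₀ := ⟨f₀, rfl⟩
    obtain ⟨x₀, a, ha⟩ := h𝒳.exists_lift (x := Y.obj.fst) f
    have hY : 𝒴.p.obj Y.obj.snd = 𝒳.p.obj Y.obj.fst := (fpSnd F G).w_obj Y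
    obtain ⟨y₀, b, hb⟩ := exists_lift_of_eq h𝒴 hY f
    have hV : 𝒳.p.obj x₀ = V := IsHomLift.domain_eq 𝒳.p f a
    subst hV
    have hFa : 𝒮.p.IsStronglyCartesian f (F.map a) := isStronglyCartesian_of_isFibGrpd 𝒮.p h𝒮 _ _
    have hGb : 𝒮.p.IsStronglyCartesian f (G.map b) := isStronglyCartesian_of_isFibGrpd 𝒮.p h𝒮 _ _
    have hι := fp_iso_isHomLift F G Y
    obtain ⟨ι₀, hι₀, w⟩ := fp_exists_iso F G Y.obj.iso f a b
    let X : (fp F G).obj := ⟨⟨x₀, y₀, ι₀⟩, hι₀⟩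
    let Φ : X ⟶ Y := ObjectProperty.homMk ⟨a, b, w⟩
    refine ⟨X, Φ, ?_⟩
    rw [← hf]
    exact (fp_isHomLift_iff F G f Φ).mpr ha
  · intro X Y Φ
    have k1 := h𝒳.isStronglyCartesian Φ.hom.fst
    have k2 : 𝒴.p.IsStronglyCartesian (𝒳.p.map Φ.hom.fst) Φ.hom.snd := by
      have : 𝒴.p.IsHomLift (𝒳.p.map Φ.hom.fst) Φ.hom.snd := fp_snd_isHomLift F G _ Φ
      exact isStronglyCartesian_of_isFibGrpd 𝒴.p h𝒴 _ _
    have k3 : 𝒮.p.IsStronglyCartesian (𝒳.p.map Φ.hom.fst) (G.map Φ.hom.snd) :=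
      isStronglyCartesian_of_isFibGrpd 𝒮.p h𝒮 _ _
    exact fp_isStronglyCartesian F G (𝒳.p.map Φ.hom.fst) Φ

/-- The base category over itself is fibred in groupoids. -/
theorem isFibGrpd_selfOver : IsFibGrpd (selfOver C).p := by
  refine ⟨?_, ?_⟩
  · intro x V f
    exact ⟨V, f, inferInstanceAs ((𝟭 C).IsHomLift ((𝟭 C).map f) f)⟩
  · intro y x φ
    refine { toIsHomLift := inferInstanceAs ((𝟭 C).IsHomLift ((𝟭 C).map φ) φ), universal_property' := ?_ }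
    intro a' g φ' hφ'
    have hφ'' : (𝟭 C).IsHomLift (g ≫ (𝟭 C).map φ) φ' := hφ'
    have h1 : g ≫ φ = φ' := IsHomLift.eq_of_isHomLift (𝟭 C) (g ≫ (𝟭 C).map φ) φ'
    refine ⟨g, ⟨inferInstanceAs ((𝟭 C).IsHomLift ((𝟭 C).map g) g), h1⟩, ?_⟩
    rintro χ ⟨hχ, -⟩
    have hχ' : (𝟭 C).IsHomLift g χ := hχ
    exact (IsHomLift.eq_of_isHomLift (𝟭 C) g χ).symm

/-- The product over the base of categories fibred in groupoids is fibred in groupoids. -/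
theorem isFibGrpd_prod (h𝒳 : IsFibGrpd 𝒳.p) (h𝒴 : IsFibGrpd 𝒴.p) :
    IsFibGrpd (fp (toSelf 𝒳) (toSelf 𝒴)).p :=
  isFibGrpd_fp _ _ h𝒳 h𝒴 isFibGrpd_selfOver

/-- The projection `(C/U) ×_𝒴 𝒳 ⟶ C/U` is fibred in groupoids (universe-polymorphic form of S6411). -/
theorem isFibGrpd_fpFst_over (h𝒳 : IsFibGrpd 𝒳.p) (h𝒴 : IsFibGrpd 𝒴.p) (F : 𝒳 ⥤ᵇ 𝒴) (U : C)
    (G : overCat U ⥤ᵇ 𝒴) : IsFibGrpd (fpFst G F).toFunctor := by
  apply isFibGrpd_of_comp_overForget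
  have h1 : IsFibGrpd (fp G F).p := isFibGrpd_fp G F (isFibGrpd_overForget U) h𝒳 h𝒴
  exact h1

/-- The first projection of a 2-fibre product along a faithful functor is faithful. -/
instance fpFst_faithful (G : 𝒴 ⥤ᵇ 𝒮) (F : 𝒳 ⥤ᵇ 𝒮) [F.toFunctor.Faithful] :
    (fpFst G F).toFunctor.Faithful where
  map_injective := by
    intro T T' φ ψ h
    have h1 : φ.hom.fst = ψ.hom.fst := h
    apply fp_hom_ext h1
    apply F.toFunctor.map_injective
    have w1 := fp_hom_w φ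
    have w2 := fp_hom_w ψ
    rw [h1] at w1
    have : T.obj.iso.hom ≫ F.map φ.hom.snd = T.obj.iso.hom ≫ F.map ψ.hom.snd := w1.symm.trans w2
    exact (cancel_epi _).mp this

/-- The second projection of a 2-fibre product along a faithful functor is faithful. -/
instance fpSnd_faithful (G : 𝒴 ⥤ᵇ 𝒮) (F : 𝒳 ⥤ᵇ 𝒮) [G.toFunctor.Faithful] :
    (fpSnd G F).toFunctor.Faithful where
  map_injective := by
    intro T T' φ ψ h
    have h1 : φ.hom.snd = ψ.hom.snd := h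
    apply fp_hom_ext _ h1
    apply G.toFunctor.map_injective
    have w1 := fp_hom_w φ
    have w2 := fp_hom_w ψ
    rw [h1] at w1
    have : G.map φ.hom.fst ≫ T'.obj.iso.hom = G.map ψ.hom.fst ≫ T'.obj.iso.hom := w1.trans w2.symm
    exact (cancel_mono _).mp this

/-- The diagonal is faithful. -/
instance diag_faithful (F : 𝒳 ⥤ᵇ 𝒮) : (diag F).toFunctor.Faithful where
  map_injective := by
    intro x y φ ψ h
    exact congrArg (fun t => t.hom.fst) h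

/-- A faithful functor has thin fibres. -/
theorem isThin_fiber_of_faithful_functor {𝒜 : Type u₅} [Category.{v₅} 𝒜] {ℬ : Type u₆} [Category.{v₆} ℬ]
    (p : 𝒜 ⥤ ℬ) [p.Faithful] (b : ℬ) : Quiver.IsThin (p.Fiber b) := by
  intro X Y
  refine ⟨fun φ ψ => ?_⟩
  have h2 : p.IsHomLift (𝟙 b) φ.1 := φ.2
  have h3 : p.IsHomLift (𝟙 b) ψ.1 := ψ.2
  apply Fiber.hom_ext
  apply p.map_injective
  have e1 := IsHomLift.fac' p (𝟙 b) φ.1
  have e2 := IsHomLift.fac' p (𝟙 b) ψ.1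
  exact e1.trans e2.symm

end Groth.Agent.Lib.Helper65
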