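import Groth.Prelude.Def_AlgSt
import Groth.Agent.Lib.Helper31.FibCat
import Groth.Agent.Lib.Helper65.FpPaste
import Groth.Agent.Lib.Helper65.FpFib
import Groth.Agent.Lib.Helper65.BasedPost

/-!
# Helper65: the 2-fibre product of stacks over a prestack is a stack
-/

set_option autoImplicit false
set_option backward.isDefEq.respectTransparency false
set_option backward.isDefEq.respectTransparency.types false

universe v₇ u₇ v₆ u₆ v₅ u₅ v₄ u₄ v₃ u₃ v₂ u₂ v u

open CategoryTheory CategoryTheory.Functor CategoryTheory.Limits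

namespace Groth.Agent.Lib.Helper65

open FibCat Groth.Agent.Lib.Helper31

variable {C : Type u} [Category.{v} C]
variable {𝒳 : BasedCategory.{v₂, u₂} C} {𝒴 : BasedCategory.{v₃, u₃} C} {𝒮 : BasedCategory.{v₄, u₄} C}
variable {𝒜 : BasedCategory.{v₅, u₅} C} {ℬ : BasedCategory.{v₆, u₆} C}
variable (ι : 𝒜 ⥤ᵇ ℬ) (F : 𝒳 ⥤ᵇ 𝒮) (G : 𝒴 ⥤ᵇ 𝒮)

theorem restr_map_app {𝒵 : BasedCategory.{v₇, u₇} C} {H H' : ℬ ⥤ᵇ 𝒵} (α : H ⟶ H') (a : 𝒜.obj) :
    ((Stk.restr ι 𝒵).map α).toNatTrans.app a = α.toNatTrans.app (ι.obj a) := rfl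

theorem basedNatTrans_congr_app {𝒵 : BasedCategory.{v₇, u₇} C} {H H' : ℬ ⥤ᵇ 𝒵} {α β : H ⟶ H'} (h : α = β)
    (b : ℬ.obj) : α.toNatTrans.app b = β.toNatTrans.app b := by rw [h]

theorem restr_fp_faithful [(Stk.restr ι 𝒳).Faithful] [(Stk.restr ι 𝒴).Faithful] :
    (Stk.restr ι (fp F G)).Faithful where
  map_injective := by
    intro H H' α β h
    have hc : ∀ a : 𝒜.obj, α.toNatTrans.app (ι.obj a) = β.toNatTrans.app (ι.obj a) := fun a =>
      basedNatTrans_congr_app h a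
    have h1 : (post ℬ (fpFst F G)).map α = (post ℬ (fpFst F G)).map β := by
      apply (Stk.restr ι 𝒳).map_injective
      apply BasedNatTrans.homCategory.ext
      ext a
      change (α.toNatTrans.app (ι.obj a)).hom.fst = (β.toNatTrans.app (ι.obj a)).hom.fst
      rw [hc]
    have h2 : (post ℬ (fpSnd F G)).map α = (post ℬ (fpSnd F G)).map β := by
      apply (Stk.restr ι 𝒴).map_injective
      apply BasedNatTrans.homCategory.ext
      ext a
      change (α.toNatTrans.app (ι.obj a)).hom.snd = (β.toNatTrans.app (ι.obj a)).hom.snd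
      rw [hc]
    apply BasedNatTrans.homCategory.ext
    apply NatTrans.ext
    funext b
    apply fp_hom_ext
    · exact basedNatTrans_congr_app h1 b
    · exact basedNatTrans_congr_app h2 b

theorem restr_fp_full [(Stk.restr ι 𝒳).Full] [(Stk.restr ι 𝒴).Full] [(Stk.restr ι 𝒮).Faithful] :
    (Stk.restr ι (fp F G)).Full where
  map_surjective := by
    intro H H' γ
    let γ₁ : (Stk.restr ι 𝒳).obj (BasedFunctor.comp H (fpFst F G)) ⟶
        (Stk.restr ι 𝒳).obj (BasedFunctor.comp H' (fpFst F G)) := (post 𝒜 (fpFst F G)).map γ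
    let γ₂ : (Stk.restr ι 𝒴).obj (BasedFunctor.comp H (fpSnd F G)) ⟶
        (Stk.restr ι 𝒴).obj (BasedFunctor.comp H' (fpSnd F G)) := (post 𝒜 (fpSnd F G)).map γ
    obtain ⟨α₁, hα₁⟩ := (Stk.restr ι 𝒳).map_surjective γ₁
    obtain ⟨α₂, hα₂⟩ := (Stk.restr ι 𝒴).map_surjective γ₂
    have hα₁' : ∀ a : 𝒜.obj, α₁.toNatTrans.app (ι.obj a) = (γ.toNatTrans.app a).hom.fst := fun a =>
      basedNatTrans_congr_app hα₁ a
    have hα₂' : ∀ a : 𝒜.obj, α₂.toNatTrans.app (ι.obj a) = (γ.toNatTrans.app a).hom.snd := fun a =>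
      basedNatTrans_congr_app hα₂ a
    let L : BasedFunctor.comp (BasedFunctor.comp H (fpFst F G)) F ⟶
        BasedFunctor.comp (BasedFunctor.comp H' (fpSnd F G)) G :=
      BasedCategory.whiskerRight α₁ F ≫ BasedCategory.whiskerLeft H' (fpIso F G).hom
    let R : BasedFunctor.comp (BasedFunctor.comp H (fpFst F G)) F ⟶
        BasedFunctor.comp (BasedFunctor.comp H' (fpSnd F G)) G :=
      BasedCategory.whiskerLeft H (fpIso F G).hom ≫ BasedCategory.whiskerRight α₂ G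
    have hLR : L = R := by
      apply (Stk.restr ι 𝒮).map_injective
      apply BasedNatTrans.homCategory.ext
      ext a
      change F.map (α₁.toNatTrans.app (ι.obj a)) ≫ (H'.obj (ι.obj a)).obj.iso.hom =
        (H.obj (ι.obj a)).obj.iso.hom ≫ G.map (α₂.toNatTrans.app (ι.obj a))
      rw [hα₁', hα₂']
      exact fp_hom_w (γ.toNatTrans.app a)
    have compat : ∀ b : ℬ.obj, F.map (α₁.toNatTrans.app b) ≫ (H'.obj b).obj.iso.hom =
        (H.obj b).obj.iso.hom ≫ G.map (α₂.toNatTrans.app b) := fun b =>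
      basedNatTrans_congr_app hLR b
    let α : H ⟶ H' :=
      { toNatTrans :=
          { app := fun b => fpHomMk (α₁.toNatTrans.app b) (α₂.toNatTrans.app b) (compat b)
            naturality := fun b b' k => by
              apply fp_hom_ext
              · exact α₁.toNatTrans.naturality k
              · exact α₂.toNatTrans.naturality k }
        isHomLift' := fun b => by
          rw [fp_isHomLift_iff]
          exact α₁.isHomLift' b }
    refine ⟨α, ?_⟩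
    apply BasedNatTrans.homCategory.ext
    apply NatTrans.ext
    funext a
    apply fp_hom_ext
    · exact hα₁' a
    · exact hα₂' a

theorem restr_fp_essSurj [(Stk.restr ι 𝒳).EssSurj] [(Stk.restr ι 𝒴).EssSurj] [(Stk.restr ι 𝒮).Full]
    [(Stk.restr ι 𝒮).Faithful] : (Stk.restr ι (fp F G)).EssSurj where
  mem_essImage := by
    intro K
    let H₁ : ℬ ⥤ᵇ 𝒳 := (Stk.restr ι 𝒳).objPreimage (BasedFunctor.comp K (fpFst F G))
    let e₁ : BasedFunctor.comp ι H₁ ≅ BasedFunctor.comp K (fpFst F G) :=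
      (Stk.restr ι 𝒳).objObjPreimageIso (BasedFunctor.comp K (fpFst F G))
    let H₂ : ℬ ⥤ᵇ 𝒴 := (Stk.restr ι 𝒴).objPreimage (BasedFunctor.comp K (fpSnd F G))
    let e₂ : BasedFunctor.comp ι H₂ ≅ BasedFunctor.comp K (fpSnd F G) :=
      (Stk.restr ι 𝒴).objObjPreimageIso (BasedFunctor.comp K (fpSnd F G))
    let κ₁ : BasedFunctor.comp (BasedFunctor.comp ι H₁) F ≅
        BasedFunctor.comp (BasedFunctor.comp K (fpFst F G)) F := bWhiskerRightIso e₁ F
    let κ₂ : BasedFunctor.comp (BasedFunctor.comp K (fpFst F G)) F ≅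
        BasedFunctor.comp (BasedFunctor.comp K (fpSnd F G)) G := bWhiskerLeftIso K (fpIso F G)
    let κ₃ : BasedFunctor.comp (BasedFunctor.comp ι H₂) G ≅
        BasedFunctor.comp (BasedFunctor.comp K (fpSnd F G)) G := bWhiskerRightIso e₂ G
    let κ : (Stk.restr ι 𝒮).obj (BasedFunctor.comp H₁ F) ≅ (Stk.restr ι 𝒮).obj (BasedFunctor.comp H₂ G) :=
      κ₁ ≪≫ κ₂ ≪≫ κ₃.symm
    let θ : BasedFunctor.comp H₁ F ≅ BasedFunctor.comp H₂ G := (Stk.restr ι 𝒮).preimageIso κ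
    have hθ : (Stk.restr ι 𝒮).map θ.hom = κ.hom := (Stk.restr ι 𝒮).map_preimage κ.hom
    have hθ' : ∀ a : 𝒜.obj, θ.hom.toNatTrans.app (ι.obj a) =
        F.map (e₁.hom.toNatTrans.app a) ≫ (K.obj a).obj.iso.hom ≫ G.map (e₂.inv.toNatTrans.app a) :=
      fun a => basedNatTrans_congr_app hθ a
    let H : ℬ ⥤ᵇ fp F G := fpLift H₁ H₂ θ
    have hHiso : ∀ b : ℬ.obj, (H.obj b).obj.iso.hom = θ.hom.toNatTrans.app b := fun b => rfl
    have e₂id : ∀ a : 𝒜.obj, e₂.inv.toNatTrans.app a ≫ e₂.hom.toNatTrans.app a = 𝟙 _ := fun a =>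
      (basedIsoToNatIso e₂).inv_hom_id_app a
    have w : ∀ a : 𝒜.obj, F.map (e₁.hom.toNatTrans.app a) ≫ (K.obj a).obj.iso.hom =
        (H.obj (ι.obj a)).obj.iso.hom ≫ G.map (e₂.hom.toNatTrans.app a) := by
      intro a
      rw [hHiso, hθ']
      have hG : G.map (e₂.inv.toNatTrans.app a) ≫ G.map (e₂.hom.toNatTrans.app a) = 𝟙 _ := by
        rw [← G.map_comp, e₂id]
        exact G.map_id _
      simp only [Category.assoc, hG]
      exact congrArg (fun t => F.map (e₁.hom.toNatTrans.app a) ≫ t) (Category.comp_id _).symm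
    refine ⟨H, ⟨?_⟩⟩
    refine BasedNatIso.mkNatIso
      (NatIso.ofComponents
        (fun a => fpIsoMk (X := H.obj (ι.obj a)) (Y := K.obj a)
          ((basedIsoToNatIso e₁).app a) ((basedIsoToNatIso e₂).app a) (w a)) ?_) ?_
    · intro a a' k
      apply fp_hom_ext
      · exact e₁.hom.toNatTrans.naturality k
      · exact e₂.hom.toNatTrans.naturality k
    · intro a
      change (fp F G).p.IsHomLift (𝟙 (𝒜.p.obj a))
        (fpIsoMk (X := H.obj (ι.obj a)) (Y := K.obj a)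
          ((basedIsoToNatIso e₁).app a) ((basedIsoToNatIso e₂).app a) (w a)).hom
      rw [fp_isHomLift_iff]
      exact e₁.hom.isHomLift' a

/-- The 2-fibre product over the base of two stacks over a prestack is a stack. -/
theorem isStack_fp (J : GrothendieckTopology C) (h𝒳 : Stk.IsStack J 𝒳) (h𝒴 : Stk.IsStack J 𝒴)
    (h𝒮 : Stk.IsPrestack J 𝒮) : Stk.IsStack J (fp F G) := by
  refine ⟨isFibGrpd_fp F G h𝒳.1 h𝒴.1 h𝒮.1, ?_⟩
  intro U R hR
  have h1 : (Stk.restr (Stk.sieveIncl R) 𝒳).IsEquivalence := h𝒳.2 R hR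
  have h2 : (Stk.restr (Stk.sieveIncl R) 𝒴).IsEquivalence := h𝒴.2 R hR
  obtain ⟨h3, h4⟩ := h𝒮.2 R hR
  have h3' : (Stk.restr (Stk.sieveIncl R) 𝒮).Full := h3
  have h4' : (Stk.restr (Stk.sieveIncl R) 𝒮).Faithful := h4
  have k1 := restr_fp_faithful (Stk.sieveIncl R) F G
  have k2 := restr_fp_full (Stk.sieveIncl R) F G
  have k3 := restr_fp_essSurj (Stk.sieveIncl R) F G
  exact { }

theorem isPrestack_of_isStack (J : GrothendieckTopology C) (h𝒮 : Stk.IsStack J 𝒮) : Stk.IsPrestack J 𝒮 := by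
  refine ⟨h𝒮.1, fun U R hR => ?_⟩
  have h1 : (Stk.restr (Stk.sieveIncl R) 𝒮).IsEquivalence := h𝒮.2 R hR
  exact ⟨inferInstance, inferInstance⟩

/-- Two morphisms over the same identity in a category with thin fibres are equal. -/
theorem eq_of_isThin_fiber (hthin : ∀ U : C, Quiver.IsThin (𝒴.p.Fiber U)) {U : C} {a b : 𝒴.obj}
    (α β : a ⟶ b) [hα : 𝒴.p.IsHomLift (𝟙 U) α] [hβ : 𝒴.p.IsHomLift (𝟙 U) β] : α = β := by
  have := hthin U
  have h := Subsingleton.elim (Functor.Fiber.homMk 𝒴.p U α) (Functor.Fiber.homMk 𝒴.p U β)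
  exact congrArg (Functor.Fiber.fiberInclusion.map) h

/-- The 2-fibre product of categories fibred in setoids (over a category fibred in groupoids) is fibred
in setoids. -/
theorem isFibSetoid_fp (h𝒳 : IsFibSetoid 𝒳.p) (h𝒴 : IsFibSetoid 𝒴.p) (h𝒮 : IsFibGrpd 𝒮.p) :
    IsFibSetoid (fp F G).p := by
  refine ⟨isFibGrpd_fp F G h𝒳.1 h𝒴.1 h𝒮, fun U => fun a b => ⟨fun φ ψ => ?_⟩⟩
  have hφ : (fp F G).p.IsHomLift (𝟙 U) φ.1 := φ.2
  have hψ : (fp F G).p.IsHomLift (𝟙 U) ψ.1 := ψ.2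
  have hφ1 : 𝒳.p.IsHomLift (𝟙 U) φ.1.hom.fst := (fp_isHomLift_iff F G (𝟙 U) φ.1).mp hφ
  have hψ1 : 𝒳.p.IsHomLift (𝟙 U) ψ.1.hom.fst := (fp_isHomLift_iff F G (𝟙 U) ψ.1).mp hψ
  have hφ2 : 𝒴.p.IsHomLift (𝟙 U) φ.1.hom.snd := fp_snd_isHomLift F G (𝟙 U) φ.1
  have hψ2 : 𝒴.p.IsHomLift (𝟙 U) ψ.1.hom.snd := fp_snd_isHomLift F G (𝟙 U) ψ.1
  apply Functor.Fiber.hom_ext
  apply fp_hom_ext
  · exact @eq_of_isThin_fiber _ _ _ h𝒳.2 U _ _ φ.1.hom.fst ψ.1.hom.fst hφ1 hψ1
  · exact @eq_of_isThin_fiber _ _ _ h𝒴.2 U _ _ φ.1.hom.snd ψ.1.hom.snd hφ2 hψ2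

end Groth.Agent.Lib.Helper65
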