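import Groth.Prelude.Def_AlgSt
import Groth.Agent.Lib.Helper31.Yoneda2
import Groth.Agent.Lib.Helper31.FibCatFiber
import Groth.Agent.Lib.Helper65.FpStack

/-!
# Helper65: a fully faithful functor between stacks which is locally essentially surjective is an
equivalence over the base
-/

set_option autoImplicit false
set_option backward.isDefEq.respectTransparency false
set_option backward.isDefEq.respectTransparency.types false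

universe v₅ u₅ v₄ u₄ v₃ u₃ v₂ u₂ v u

open CategoryTheory CategoryTheory.Functor CategoryTheory.Limits

namespace Groth.Agent.Lib.Helper65

open FibCat Groth.Agent.Lib.Helper31

variable {C : Type u} [Category.{v} C]
variable {𝒳 : BasedCategory.{v₂, u₂} C} {𝒴 : BasedCategory.{v₃, u₃} C}

/-- A functor over the base all of whose values are, over identities, in the essential image of a fully
faithful functor `F` over the base factors through `F` up to 2-isomorphism. -/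
theorem exists_lift_of_ff {𝒜 : BasedCategory.{v₄, u₄} C} (F : 𝒳 ⥤ᵇ 𝒴) [F.toFunctor.Full]
    [F.toFunctor.Faithful] (H : 𝒜 ⥤ᵇ 𝒴)
    (h : ∀ a : 𝒜.obj, ∃ (x : 𝒳.obj) (ε : F.obj x ≅ H.obj a), 𝒴.p.IsHomLift (𝟙 (𝒜.p.obj a)) ε.hom) :
    ∃ K : 𝒜 ⥤ᵇ 𝒳, Nonempty (BasedFunctor.comp K F ≅ H) := by
  classical
  choose G₀ ε hε using h
  have hGp : ∀ a, 𝒳.p.obj (G₀ a) = 𝒜.p.obj a := fun a => by
    haveI := hε a
    rw [← F.w_obj]
    exact IsHomLift.domain_eq 𝒴.p (𝟙 (𝒜.p.obj a)) (ε a).hom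
  let Kfun : 𝒜.obj ⥤ 𝒳.obj :=
    { obj := G₀
      map := fun {a a'} φ => F.toFunctor.preimage ((ε a).hom ≫ H.map φ ≫ (ε a').inv)
      map_id := fun a => by
        apply F.toFunctor.map_injective
        simp
      map_comp := fun {a a' a''} φ ψ => by
        apply F.toFunctor.map_injective
        simp }
  have hKmap : ∀ {a a' : 𝒜.obj} (φ : a ⟶ a'),
      F.map (Kfun.map φ) = (ε a).hom ≫ H.map φ ≫ (ε a').inv :=
    fun φ => F.toFunctor.map_preimage _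
  have hlift : ∀ {a a' : 𝒜.obj} (φ : a ⟶ a'), 𝒳.p.IsHomLift (𝒜.p.map φ) (Kfun.map φ) := by
    intro a a' φ
    rw [← BasedFunctor.isHomLift_iff F, hKmap]
    haveI := hε a
    haveI := hε a'
    haveI : 𝒴.p.IsHomLift (𝟙 (𝒜.p.obj a')) (ε a').inv := inferInstance
    haveI : 𝒴.p.IsHomLift (𝒜.p.map φ) (H.map φ) := inferInstance
    have : 𝒴.p.IsHomLift (𝟙 (𝒜.p.obj a) ≫ 𝒜.p.map φ ≫ 𝟙 (𝒜.p.obj a'))
      ((ε a).hom ≫ H.map φ ≫ (ε a').inv) := inferInstance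
    simpa using this
  let K : 𝒜 ⥤ᵇ 𝒳 :=
    { toFunctor := Kfun
      w := CategoryTheory.Functor.ext hGp (fun a a' φ => by
        haveI := hlift φ
        exact IsHomLift.fac' 𝒳.p (𝒜.p.map φ) (Kfun.map φ)) }
  refine ⟨K, ⟨?_⟩⟩
  refine BasedNatIso.mkNatIso (NatIso.ofComponents ε ?_) ?_
  · intro a a' φ
    change F.map (Kfun.map φ) ≫ _ = _ ≫ H.map φ
    rw [hKmap]
    simp
  · intro a
    exact hε a

/-- Local essential surjectivity (in the form of the statement rows). -/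
def LocallyEssSurj (J : GrothendieckTopology C) (F : 𝒳 ⥤ᵇ 𝒴) : Prop :=
  ∀ y : 𝒴.obj, ∃ R ∈ J (𝒴.p.obj y), ∀ ⦃V : C⦄ (f : V ⟶ 𝒴.p.obj y), R f →
    ∃ (x : 𝒳.obj) (φ : F.obj x ⟶ y), 𝒴.p.IsHomLift f φ

/-- For `Y : C/U ⟶ 𝒴` with `Y(𝟙_U) ≅ y`, a local lift of `y` along `f` gives an object whose image is isomorphic
over the identity to `Y(f)`. -/
theorem exists_iso_of_local_lift (h𝒴 : IsFibGrpd 𝒴.p) (F : 𝒳 ⥤ᵇ 𝒴) {U : C} (Y : overCat U ⥤ᵇ 𝒴) {y : 𝒴.obj}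
    (ι : Y.obj (Over.mk (𝟙 U)) ≅ y) [hι : 𝒴.p.IsHomLift (𝟙 U) ι.hom] (a : Over U)
    (x : 𝒳.obj) (φ : F.obj x ⟶ y) [hφ : 𝒴.p.IsHomLift a.hom φ] :
    ∃ (ε : F.obj x ≅ Y.obj a), 𝒴.p.IsHomLift (𝟙 a.left) ε.hom ∧ ε.hom ≫ Y.map (toId a) ≫ ι.hom = φ := by
  have h1 : 𝒴.p.IsHomLift a.hom (Y.map (toId a)) := map_toId_isHomLift Y a
  have hψ : 𝒴.p.IsHomLift a.hom (Y.map (toId a) ≫ ι.hom) := by
    have : 𝒴.p.IsHomLift (a.hom ≫ 𝟙 U) (Y.map (toId a) ≫ ι.hom) := inferInstance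
    rw [Category.comp_id] at this
    exact this
  have c1 : 𝒴.p.IsStronglyCartesian a.hom φ := isStronglyCartesian_of_isFibGrpd 𝒴.p h𝒴 _ _
  have c2 : 𝒴.p.IsStronglyCartesian a.hom (Y.map (toId a) ≫ ι.hom) :=
    isStronglyCartesian_of_isFibGrpd 𝒴.p h𝒴 _ _
  have c1' : 𝒴.p.IsCartesian a.hom φ := inferInstance
  have c2' : 𝒴.p.IsCartesian a.hom (Y.map (toId a) ≫ ι.hom) := inferInstance
  refine ⟨IsCartesian.domainUniqueUpToIso 𝒴.p a.hom (Y.map (toId a) ≫ ι.hom) φ, inferInstance, ?_⟩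
  exact IsCartesian.fac 𝒴.p a.hom (Y.map (toId a) ≫ ι.hom) φ

/-- A fully faithful functor over the base between stacks in groupoids which is locally essentially
surjective is essentially surjective over the base. -/
theorem essSurjOver_of_locallyEssSurj (J : GrothendieckTopology C) (h𝒳 : Stk.IsStack J 𝒳)
    (h𝒴 : Stk.IsStack J 𝒴) (F : 𝒳 ⥤ᵇ 𝒴) [F.toFunctor.Full] [F.toFunctor.Faithful]
    (hloc : LocallyEssSurj J F) : EssSurjOver F := by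
  intro y
  obtain ⟨R, hR, hloc'⟩ := hloc y
  have hE : (evalAtId 𝒴 (𝒴.p.obj y)).IsEquivalence := evalAtId_isEquivalence_of_isFibGrpd h𝒴.1 _
  obtain ⟨Y, ⟨ι₀⟩⟩ := Functor.EssSurj.mem_essImage (evalAtId 𝒴 (𝒴.p.obj y))
    (⟨y, rfl⟩ : 𝒴.p.Fiber (𝒴.p.obj y))
  let ι : Y.obj (Over.mk (𝟙 (𝒴.p.obj y))) ≅ y :=
    (Functor.Fiber.fiberInclusion (p := 𝒴.p) (S := 𝒴.p.obj y)).mapIso ι₀
  have hι : 𝒴.p.IsHomLift (𝟙 (𝒴.p.obj y)) ι.hom := ι₀.hom.2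
  -- the restriction of `Y` to the sieve factors through `F`
  have hH : ∀ a : (Stk.sieveCat R).obj, ∃ (x : 𝒳.obj)
      (ε : F.obj x ≅ (BasedFunctor.comp (Stk.sieveIncl R) Y).obj a),
      𝒴.p.IsHomLift (𝟙 ((Stk.sieveCat R).p.obj a)) ε.hom := by
    intro a
    obtain ⟨x, φ, hφ⟩ := hloc' a.obj.hom a.property
    obtain ⟨ε, hε, -⟩ := exists_iso_of_local_lift h𝒴.1 F Y ι a.obj x φ
    exact ⟨x, ε, hε⟩
  obtain ⟨K, ⟨κ⟩⟩ := exists_lift_of_ff F (BasedFunctor.comp (Stk.sieveIncl R) Y) hH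
  -- glue `K`
  have hS𝒳 : (Stk.restr (Stk.sieveIncl R) 𝒳).IsEquivalence := h𝒳.2 R hR
  have hS𝒴 : (Stk.restr (Stk.sieveIncl R) 𝒴).IsEquivalence := h𝒴.2 R hR
  obtain ⟨G, ⟨γ⟩⟩ := Functor.EssSurj.mem_essImage (Stk.restr (Stk.sieveIncl R) 𝒳) K
  -- `γ : ι ⋙ G ≅ K`
  let γ' : BasedFunctor.comp (Stk.sieveIncl R) G ≅ K := γ
  let θ₀ : (Stk.restr (Stk.sieveIncl R) 𝒴).obj (BasedFunctor.comp G F) ≅
      (Stk.restr (Stk.sieveIncl R) 𝒴).obj Y :=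
    (bWhiskerRightIso γ' F : BasedFunctor.comp (BasedFunctor.comp (Stk.sieveIncl R) G) F ≅
      BasedFunctor.comp K F) ≪≫ κ
  let θ : BasedFunctor.comp G F ≅ Y := (Stk.restr (Stk.sieveIncl R) 𝒴).preimageIso θ₀
  refine ⟨G.obj (Over.mk (𝟙 (𝒴.p.obj y))),
    (basedIsoToNatIso θ).app (Over.mk (𝟙 (𝒴.p.obj y))) ≪≫ ι, ?_⟩
  have h1 : 𝒴.p.IsHomLift (𝟙 (𝒴.p.obj y)) (θ.hom.toNatTrans.app (Over.mk (𝟙 (𝒴.p.obj y)))) :=
    θ.hom.isHomLift' (Over.mk (𝟙 (𝒴.p.obj y)))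
  have : 𝒴.p.IsHomLift (𝟙 (𝒴.p.obj y) ≫ 𝟙 (𝒴.p.obj y))
    (θ.hom.toNatTrans.app (Over.mk (𝟙 (𝒴.p.obj y))) ≫ ι.hom) := inferInstance
  rw [Category.comp_id] at this
  exact this

/-- An equivalence over the base is locally essentially surjective (for any topology). -/
theorem locallyEssSurj_of_isEquivOver (J : GrothendieckTopology C) (h𝒳 : IsFibGrpd 𝒳.p) (F : 𝒳 ⥤ᵇ 𝒴)
    (hF : IsEquivOver F) : LocallyEssSurj J F := by
  obtain ⟨-, -, hess⟩ := isEquivOver_full_faithful_ess F hF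
  intro y
  obtain ⟨x, ε, hε⟩ := hess y
  refine ⟨⊤, J.top_mem _, fun V f _ => ?_⟩
  have hx : 𝒳.p.obj x = 𝒴.p.obj y := by
    rw [← F.w_obj]
    exact IsHomLift.domain_eq 𝒴.p (𝟙 (𝒴.p.obj y)) ε.hom
  obtain ⟨x', ψ, hψ⟩ := exists_lift_of_eq h𝒳 hx f
  refine ⟨x', F.map ψ ≫ ε.hom, ?_⟩
  have : 𝒴.p.IsHomLift (f ≫ 𝟙 (𝒴.p.obj y)) (F.map ψ ≫ ε.hom) := inferInstance
  rw [Category.comp_id] at this
  exact this

theorem isEquivOver_iff_locallyEssSurj (J : GrothendieckTopology C) (h𝒳 : Stk.IsStack J 𝒳)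
    (h𝒴 : Stk.IsStack J 𝒴) (F : 𝒳 ⥤ᵇ 𝒴) [F.toFunctor.Full] [F.toFunctor.Faithful] :
    IsEquivOver F ↔ LocallyEssSurj J F :=
  ⟨locallyEssSurj_of_isEquivOver J h𝒳.1 F,
    fun h => isEquivOver_of_ff_ess F (essSurjOver_of_locallyEssSurj J h𝒳 h𝒴 F h)⟩

end Groth.Agent.Lib.Helper65

namespace Groth.Agent.Lib.Helper65

open FibCat Groth.Agent.Lib.Helper31

section FpSndEquiv

variable {C : Type u} [Category.{v} C]
variable {𝒳 : BasedCategory.{v₂, u₂} C} {𝒴 : BasedCategory.{v₃, u₃} C} {𝒮 : BasedCategory.{v₄, u₄} C}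

theorem fpSnd_full (F : 𝒳 ⥤ᵇ 𝒮) (G : 𝒴 ⥤ᵇ 𝒮) [F.toFunctor.Full] : (fpSnd F G).toFunctor.Full where
  map_surjective := by
    intro T T' b
    obtain ⟨b', hb'⟩ : ∃ b' : T.obj.snd ⟶ T'.obj.snd, b' = b := ⟨b, rfl⟩
    obtain ⟨a, ha⟩ := F.toFunctor.map_surjective (T.obj.iso.hom ≫ G.map b' ≫ T'.obj.iso.inv)
    have ha' : F.map a = T.obj.iso.hom ≫ G.map b' ≫ T'.obj.iso.inv := ha
    have w : F.map a ≫ T'.obj.iso.hom = T.obj.iso.hom ≫ G.map b' := by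
      rw [ha']; simp
    exact ⟨fpHomMk a b' w, hb'⟩

theorem fpSnd_essSurjOver (F : 𝒳 ⥤ᵇ 𝒮) (G : 𝒴 ⥤ᵇ 𝒮) (hF : EssSurjOver F) : EssSurjOver (fpSnd F G) := by
  intro t
  obtain ⟨x, ε, hε⟩ := hF (G.obj t)
  have hx : 𝒳.p.obj x = 𝒮.p.obj (G.obj t) := by
    rw [← F.w_obj]
    exact IsHomLift.domain_eq 𝒮.p (𝟙 (𝒮.p.obj (G.obj t))) ε.hom
  have hε' : 𝒮.p.IsHomLift (𝟙 (𝒳.p.obj x)) ε.hom := isHomLift_id_of_eq 𝒮.p hx.symm _
  refine ⟨fpObjMk F G x t ε hε', Iso.refl _, ?_⟩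
  change 𝒴.p.IsHomLift (𝟙 (𝒴.p.obj t)) (𝟙 t)
  infer_instance

/-- The base change of an equivalence over the base is an equivalence over the base. -/
theorem fpSnd_isEquivOver (F : 𝒳 ⥤ᵇ 𝒮) (G : 𝒴 ⥤ᵇ 𝒮) (hF : IsEquivOver F) : IsEquivOver (fpSnd F G) := by
  obtain ⟨h1, h2, h3⟩ := isEquivOver_full_faithful_ess F hF
  haveI := fpSnd_full F G
  haveI : (fpSnd F G).toFunctor.Faithful := fpSnd_faithful F G
  exact isEquivOver_of_ff_ess _ (fpSnd_essSurjOver F G h3)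

end FpSndEquiv

end Groth.Agent.Lib.Helper65
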