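import Groth.Agent.Lib.Helper65.SubStPts
import Groth.Agent.Lib.Helper65.LocalEss
import Groth.Agent.Lib.Helper65.FpSwap
import Groth.Agent.Lib.Helper31.Diag

/-!
# Helper65: equivalences are representable; the open substack which is the image of an open subspace of a chart
-/

set_option autoImplicit false
set_option backward.isDefEq.respectTransparency false
set_option backward.isDefEq.respectTransparency.types false

universe u

open CategoryTheory CategoryTheory.Functor CategoryTheory.Limits Opposite AlgebraicGeometry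

namespace Groth.Agent.Lib.Helper65

open FibCat Groth.Agent.Lib.Helper31

variable {S : Scheme.{u}} {𝒳 𝒴 : AlgSt.Cat S}

/-- An equivalence over the base is representable by algebraic spaces with every property containing the
identities of representable sheaves. -/
theorem repByAlgSpWith_of_isEquivOver (P : MorphismProperty (AlgSp.Sp S))
    (hP : ∀ U : Over S, P (𝟙 ((AlgSp.yon S).obj U))) (E : 𝒳 ⥤ᵇ 𝒴) (hE : IsEquivOver E) :
    AlgSt.RepByAlgSpWith P E := by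
  intro U y
  have h1 : IsEquivOver (fpFst y E) :=
    isEquivOver_comp _ _ (fpSwap_isEquivOver y E) (fpSnd_isEquivOver E y hE)
  obtain ⟨Ψ, hΨ, -, ⟨i₂⟩⟩ := exists_inverse_equivOver _ h1
  refine ⟨⟨(AlgSp.yon S).obj U, AlgSp.IsAlgSpace.yon_obj U⟩, BasedFunctor.comp (AlgSt.toOverCat U) Ψ,
    isEquivOver_comp _ _ (toOverCat_isEquivOver U) hΨ, ?_⟩
  have h2 : AlgSt.spMapOfOver (BasedFunctor.comp (BasedFunctor.comp (AlgSt.toOverCat U) Ψ) (fpFst y E)) =
      AlgSt.spMapOfOver (BasedFunctor.comp (AlgSt.ofSpMap (𝟙 ((AlgSp.yon S).obj U))) (AlgSt.toOverCat U)) :=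
    spMapOfOver_congr (bWhiskerLeftIso (AlgSt.toOverCat U) i₂)
  rw [h2, spMapOfOver_ofSpMap_toOverCat]
  exact hP U

theorem ptsProp_range_map {𝒲 : AlgSt.Cat S} (h𝒲 : IsFibGrpd 𝒲.p) (h𝒳 : IsFibGrpd 𝒳.p) (f : 𝒲 ⥤ᵇ 𝒳)
    (w : 𝒲.obj) : ptsProp (Set.range (AlgSt.Points.map f)) (f.obj w) := by
  intro p c
  let β : Over.mk p.str ⟶ 𝒲.p.obj w := eqToHom p.lies.symm ≫ 𝒳.p.map c ≫ eqToHom (f.w_obj w)
  have hc : 𝒳.p.IsHomLift β c := IsHomLift.of_fac _ _ _ p.lies (f.w_obj w) rfl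
  obtain ⟨w', k, hk⟩ := h𝒲.exists_lift (x := w) β
  have hk' : 𝒳.p.IsHomLift β (f.map k) := inferInstance
  obtain ⟨ι, -, -⟩ := exists_comparison h𝒳 β (f.map k) hk' c hc
  refine ⟨AlgSt.Points.mk { K := p.K, str := p.str, obj := w', lies := IsHomLift.domain_eq 𝒲.p β k }, ?_⟩
  exact (AlgSt.Points.sound ⟨p, 𝟙 _, ι.hom, trivial⟩).symm

theorem stableComp_locP_smooth : StableComp (AlgSp.LocP (S := S) @Smooth) :=
  stableComp_locP _ (Or.inr (Or.inr (Or.inr (Or.inl rfl))))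

/-- The image of an open subspace of a smooth chart is an open substack, smoothly covered by that subspace. -/
theorem exists_open_image (h𝒳 : AlgSt.IsAlgStack Scheme.fppfPrecoverage 𝒳) (U : AlgSp.Space S)
    (u : AlgSt.ofSp U.obj ⥤ᵇ 𝒳) (hu₁ : AlgSt.RepByAlgSpWith (AlgSp.LocP @Smooth) u)
    (V : AlgSp.Space S) (j : V ⟶ U) (hj : AlgSp.RepWith @IsOpenImmersion j.hom) :
    ∃ (𝒴 : AlgSt.Cat S) (i : 𝒴 ⥤ᵇ 𝒳) (g : AlgSt.ofSp V.obj ⥤ᵇ 𝒴),
      AlgSt.IsAlgStack Scheme.fppfPrecoverage 𝒴 ∧ AlgSt.IsOpenImm i ∧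
        AlgSt.RepByAlgSpWith (AlgSp.LocP @Smooth) g ∧ AlgSt.RepByAlgSpWith AlgSp.IsSurjectiveMor g ∧
          Nonempty (BasedFunctor.comp g i ≅ BasedFunctor.comp (AlgSt.ofSpMap j.hom) u) := by
  have hfV : IsFibGrpd (AlgSt.ofSp V.obj).p := Stk.isFibGrpd_ofPsh _
  have hfU : IsFibGrpd (AlgSt.ofSp U.obj).p := Stk.isFibGrpd_ofPsh _
  have hjsm : AlgSp.LocP @Smooth j.hom :=
    Groth.Agent.Lib.Helper54.locP_smooth_of_isEtaleMor
      (Groth.Agent.Lib.Helper54.isEtaleMor_of_repWith_isOpenImmersion hj)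
  have hjs : AlgSt.RepByAlgSpWith (AlgSp.LocP @Smooth) (AlgSt.ofSpMap j.hom) :=
    repByAlgSpWith_of_repBySpWith j.hom.hom _
      (repBySpWith_of_prop _ stableBC_locP_smooth (V := V) (Z := U) j.hom hjsm)
  have hv : AlgSt.RepByAlgSpWith (AlgSp.LocP @Smooth) (BasedFunctor.comp (AlgSt.ofSpMap j.hom) u) :=
    repByAlgSpWith_comp _ stableBC_locP_smooth stableComp_locP_smooth isLocalOnBase_fppf_locP_smooth
      hfV hfU _ _ hjs hu₁
  let T : Set (AlgSt.Points 𝒳) := Set.range (AlgSt.Points.map (BasedFunctor.comp (AlgSt.ofSpMap j.hom) u))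
  have hT : IsOpen T :=
    (isOpenMap_points_map_space h𝒳.isStack.1 V _ (repByAlgSpWith_mono (locP_mono smooth_le_flat) _ hv)
      (repByAlgSpWith_mono (locP_mono smooth_le_lfp) _ hv)).isOpen_range
  have hsub := isOpenSubstack_ptsProp T h𝒳 hT
  let g : AlgSt.ofSp V.obj ⥤ᵇ AlgSt.fullSub 𝒳 (ptsProp T) :=
    liftFullSub (ptsProp T) (BasedFunctor.comp (AlgSt.ofSpMap j.hom) u)
      (fun w => ptsProp_range_map hfV h𝒳.isStack.1 _ w)
  have hfull : (AlgSt.subIncl 𝒳 (ptsProp T)).toFunctor.Full :=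
    inferInstanceAs (ObjectProperty.ι (ptsProp T)).Full
  have hfaith : (AlgSt.subIncl 𝒳 (ptsProp T)).toFunctor.Faithful :=
    inferInstanceAs (ObjectProperty.ι (ptsProp T)).Faithful
  have hΔ : IsEquivOver (FibCat.diag (AlgSt.subIncl 𝒳 (ptsProp T))) :=
    diag_isEquivOver_of_fullyFaithful _
  have hgs : AlgSt.RepByAlgSpWith (AlgSp.LocP @Smooth) g :=
    Groth.Agent.Lib.Helper66.AlgStCancel.repByAlgSpWith_of_comp_of_diag _ stableBC_locP_smooth
      stableComp_locP_smooth isLocalOnBase_fppf_locP_smooth hfV hsub.2.1.isStack.1 h𝒳.isStack.1 g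
      (AlgSt.subIncl 𝒳 (ptsProp T)) hv
      (repByAlgSpWith_of_isEquivOver _ (fun U => Groth.Agent.Lib.Helper54.locP_smooth_id _) _ hΔ)
  refine ⟨AlgSt.fullSub 𝒳 (ptsProp T), AlgSt.subIncl 𝒳 (ptsProp T), g, hsub.2.1, hsub.2.2, hgs, ?_,
    ⟨Iso.refl _⟩⟩
  refine repByAlgSpWith_isSurjectiveMor_of_isSurjective hfV hsub.2.1.isStack.1 g
    (repByAlgSp1_of_repByAlgSpWith hgs) ?_
  intro w
  have hw : AlgSt.Points.map (AlgSt.subIncl 𝒳 (ptsProp T)) w ∈ T :=
    (range_subIncl_ptsProp T).subset ⟨w, rfl⟩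
  obtain ⟨z, hz⟩ := hw
  refine ⟨z, points_map_injective_of_full hsub.2.1.isStack.1 h𝒳.isStack.1
    (AlgSt.subIncl 𝒳 (ptsProp T)) hfull ?_⟩
  rw [← points_map_comp]
  exact hz

end Groth.Agent.Lib.Helper65
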