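import Groth.Prelude.Def_AlgSt
import Groth.Agent.Lib.Helper31.Yoneda2
import Groth.Agent.Lib.Helper31.FibCatFiber
import Groth.Agent.Lib.Helper65.LocalEss

/-!
# Helper65: in a prestack, morphisms which agree locally agree; faithfulness descends along a locally
essentially surjective functor
-/

set_option autoImplicit false
set_option backward.isDefEq.respectTransparency false
set_option backward.isDefEq.respectTransparency.types false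

universe v₅ u₅ v₄ u₄ v₃ u₃ v₂ u₂ v u

open CategoryTheory CategoryTheory.Functor CategoryTheory.Limits

namespace Groth.Agent.Lib.Helper65

open FibCat Groth.Agent.Lib.Helper31

variable {C : Type u} [Category.{v} C]
variable {𝒳 : BasedCategory.{v₂, u₂} C} {𝒴 : BasedCategory.{v₃, u₃} C}

/-- In a category fibred in groupoids for which restriction to the sieve `R` is faithful, an endomorphism
of `t` over the identity which is locally (on `R`) trivial is trivial. -/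
theorem eq_id_of_locally (h𝒳 : IsFibGrpd 𝒳.p) (t : 𝒳.obj) (R : Sieve (𝒳.p.obj t))
    (hR : (Stk.resSieve R 𝒳).Faithful) (χ : t ⟶ t) [hχ : 𝒳.p.IsHomLift (𝟙 (𝒳.p.obj t)) χ]
    (hloc : ∀ ⦃V : C⦄ (f : V ⟶ 𝒳.p.obj t), R f → ∀ (s : 𝒳.obj) (ψ : s ⟶ t),
      𝒳.p.IsHomLift f ψ → ψ ≫ χ = ψ) : χ = 𝟙 t := by
  have hE : (evalAtId 𝒳 (𝒳.p.obj t)).IsEquivalence := evalAtId_isEquivalence_of_isFibGrpd h𝒳 _
  obtain ⟨T, ⟨ι₀⟩⟩ := Functor.EssSurj.mem_essImage (evalAtId 𝒳 (𝒳.p.obj t))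
    (⟨t, rfl⟩ : 𝒳.p.Fiber (𝒳.p.obj t))
  let ι : T.obj (Over.mk (𝟙 (𝒳.p.obj t))) ≅ t :=
    (Functor.Fiber.fiberInclusion (p := 𝒳.p) (S := 𝒳.p.obj t)).mapIso ι₀
  have hι : 𝒳.p.IsHomLift (𝟙 (𝒳.p.obj t)) ι.hom := ι₀.hom.2
  have hιi : 𝒳.p.IsHomLift (𝟙 (𝒳.p.obj t)) ι.inv := ι₀.inv.2
  have hT := cartAtId_of_isFibGrpd h𝒳 T
  have hχ' : 𝒳.p.IsHomLift (𝟙 (𝒳.p.obj t)) (ι.hom ≫ χ ≫ ι.inv) := by
    have : 𝒳.p.IsHomLift (𝟙 (𝒳.p.obj t) ≫ 𝟙 (𝒳.p.obj t) ≫ 𝟙 (𝒳.p.obj t)) (ι.hom ≫ χ ≫ ι.inv) :=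
      inferInstance
    rw [Category.comp_id, Category.comp_id] at this
    exact this
  let Χ : T ⟶ T := yonedaNatTrans T T hT (ι.hom ≫ χ ≫ ι.inv)
  have hΧ : Χ.toNatTrans.app (Over.mk (𝟙 (𝒳.p.obj t))) = ι.hom ≫ χ ≫ ι.inv :=
    yonedaNatTrans_app_id T T hT (ι.hom ≫ χ ≫ ι.inv)
  have hres : (Stk.resSieve R 𝒳).map Χ = (Stk.resSieve R 𝒳).map (𝟙 T) := by
    apply BasedNatTrans.homCategory.ext
    apply NatTrans.ext
    funext a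
    change yonedaApp T T hT (ι.hom ≫ χ ≫ ι.inv) a.obj = 𝟙 (T.obj a.obj)
    have := hT a.obj
    have h1 := yonedaApp_isHomLift T T hT (ι.hom ≫ χ ≫ ι.inv) a.obj
    have h1' : 𝒳.p.IsHomLift (𝟙 a.obj.left) (𝟙 (T.obj a.obj)) :=
      IsHomLift.id (IsHomLift.domain_eq 𝒳.p (𝟙 a.obj.left) (yonedaApp T T hT (ι.hom ≫ χ ≫ ι.inv) a.obj))
    apply IsStronglyCartesian.ext 𝒳.p a.obj.hom (T.map (toId a.obj)) (𝟙 a.obj.left)
    rw [yonedaApp_fac, Category.id_comp]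
    have h2 : 𝒳.p.IsHomLift a.obj.hom (T.map (toId a.obj) ≫ ι.hom) := by
      have h3 := map_toId_isHomLift T a.obj
      have : 𝒳.p.IsHomLift (a.obj.hom ≫ 𝟙 (𝒳.p.obj t)) (T.map (toId a.obj) ≫ ι.hom) := inferInstance
      rw [Category.comp_id] at this
      exact this
    have h4 := hloc a.obj.hom a.property (T.obj a.obj) (T.map (toId a.obj) ≫ ι.hom) h2
    rw [← Category.assoc, ← Category.assoc, h4, Category.assoc, ι.hom_inv_id, Category.comp_id]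
  have hΧ1 : Χ = 𝟙 T := hR.map_injective hres
  have h5 : ι.hom ≫ χ ≫ ι.inv = 𝟙 _ := by
    rw [← hΧ, hΧ1]
    rfl
  calc χ = ι.inv ≫ (ι.hom ≫ χ ≫ ι.inv) ≫ ι.hom := by simp
    _ = 𝟙 t := by rw [h5]; simp

/-- A functor over the base between categories fibred in groupoids which reflects identities among the
endomorphisms over identities is faithful. -/
theorem faithful_of_aut_trivial (h𝒳 : IsFibGrpd 𝒳.p) (h𝒴 : IsFibGrpd 𝒴.p) (G : 𝒳 ⥤ᵇ 𝒴)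
    (h : ∀ (t : 𝒳.obj) (χ : t ⟶ t), 𝒳.p.IsHomLift (𝟙 (𝒳.p.obj t)) χ → G.map χ = 𝟙 (G.obj t) → χ = 𝟙 t) :
    G.toFunctor.Faithful := by
  constructor
  intro x y φ ψ hφψ
  have hψ := h𝒳.isStronglyCartesian ψ
  have h1 : 𝒴.p.IsHomLift (𝒳.p.map ψ) (G.map φ) := by
    rw [hφψ]; infer_instance
  have h2 : 𝒳.p.IsHomLift (𝟙 (𝒳.p.obj x) ≫ 𝒳.p.map ψ) φ := by
    rw [Category.id_comp]; exact BasedFunctor.isHomLift_map G _ φ
  let χ : x ⟶ x := IsStronglyCartesian.map 𝒳.p (𝒳.p.map ψ) ψ (g := 𝟙 _) rfl φ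
  have hχ1 : 𝒳.p.IsHomLift (𝟙 (𝒳.p.obj x)) χ := inferInstance
  have hχ2 : χ ≫ ψ = φ := IsStronglyCartesian.fac _ _ _ _ _
  have hGψ : 𝒴.p.IsStronglyCartesian (𝒳.p.map ψ) (G.map ψ) :=
    isStronglyCartesian_of_isFibGrpd 𝒴.p h𝒴 _ _
  have e2 : G.map χ = 𝟙 (G.obj x) := by
    apply IsStronglyCartesian.ext 𝒴.p (𝒳.p.map ψ) (G.map ψ) (𝟙 (𝒳.p.obj x))
    rw [← G.map_comp, hχ2, hφψ, Category.id_comp]
  have e5 : χ = 𝟙 x := h x χ hχ1 e2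
  rw [← hχ2, e5, Category.id_comp]

variable {𝒮 : BasedCategory.{v₄, u₄} C}

/-- If `F` is locally essentially surjective and the base change `fpFst F G` of `G` along `F` is faithful,
then `G` is faithful (`G`'s source being a prestack). -/
theorem faithful_of_fpFst_faithful (J : GrothendieckTopology C) (h𝒮 : IsFibGrpd 𝒮.p)
    (h𝒴 : IsFibGrpd 𝒴.p) (h𝒴' : ∀ ⦃U : C⦄ (R : Sieve U), R ∈ J U → (Stk.resSieve R 𝒴).Faithful)
    (F : 𝒳 ⥤ᵇ 𝒮) (G : 𝒴 ⥤ᵇ 𝒮) (hF : LocallyEssSurj J F)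
    (hG' : (fpFst F G).toFunctor.Faithful) : G.toFunctor.Faithful := by
  apply faithful_of_aut_trivial h𝒴 h𝒮 G
  intro t χ hχ hGχ
  -- transport the covering sieve to `𝒴.p.obj t`
  have hF' : ∀ (y : 𝒮.obj) (U : C) (hU : 𝒮.p.obj y = U), ∃ R ∈ J U, ∀ ⦃V : C⦄ (f : V ⟶ U), R f →
      ∃ (x : 𝒳.obj) (φ : F.obj x ⟶ y), 𝒮.p.IsHomLift f φ := by
    intro y U hU
    subst hU
    exact hF y
  obtain ⟨R, hR, hloc⟩ := hF' (G.obj t) (𝒴.p.obj t) (G.w_obj t)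
  apply eq_id_of_locally h𝒴 t R (h𝒴' R hR) χ
  intro V f hf s ψ hψ
  obtain ⟨x, φ, hφ⟩ := hloc f hf
  have hGψ : 𝒮.p.IsHomLift f (G.map ψ) := inferInstance
  have cGψ : 𝒮.p.IsStronglyCartesian f (G.map ψ) := isStronglyCartesian_of_isFibGrpd 𝒮.p h𝒮 _ _
  have cψ : 𝒴.p.IsStronglyCartesian f ψ := isStronglyCartesian_of_isFibGrpd 𝒴.p h𝒴 _ _
  have hφ' : 𝒮.p.IsHomLift (𝟙 V ≫ f) φ := by rw [Category.id_comp]; exact hφ
  let ε : F.obj x ⟶ G.obj s := IsStronglyCartesian.map 𝒮.p f (G.map ψ) (g := 𝟙 V) rfl φ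
  have hε : 𝒮.p.IsHomLift (𝟙 V) ε := inferInstance
  have hxV : 𝒳.p.obj x = V := by
    rw [← F.w_obj]
    exact IsHomLift.domain_eq 𝒮.p f φ
  have hεiso : IsIso ε := by
    haveI : IsIso (𝒮.p.map ε) := by
      rw [IsHomLift.fac' 𝒮.p (𝟙 V) ε]
      infer_instance
    exact isIso_of_isFibGrpd 𝒮.p h𝒮 ε
  have hψχ : 𝒴.p.IsHomLift (𝟙 V ≫ f) (ψ ≫ χ) := by
    have : 𝒴.p.IsHomLift (f ≫ 𝟙 (𝒴.p.obj t)) (ψ ≫ χ) := inferInstance
    rw [Category.comp_id] at this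
    rw [Category.id_comp]
    exact this
  let χs : s ⟶ s := IsStronglyCartesian.map 𝒴.p f ψ (g := 𝟙 V) rfl (ψ ≫ χ)
  have hχs : 𝒴.p.IsHomLift (𝟙 V) χs := inferInstance
  have hχs2 : χs ≫ ψ = ψ ≫ χ := IsStronglyCartesian.fac _ _ _ _ _
  have hGχs : G.map χs = 𝟙 (G.obj s) := by
    have h1' : 𝒮.p.IsHomLift (𝟙 V) (𝟙 (G.obj s)) :=
      IsHomLift.id (IsHomLift.domain_eq 𝒮.p f (G.map ψ))
    apply IsStronglyCartesian.ext 𝒮.p f (G.map ψ) (𝟙 V)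
    rw [← G.map_comp, hχs2, G.map_comp, hGχ, Category.id_comp, Category.comp_id]
  have hε' : 𝒮.p.IsHomLift (𝟙 (𝒳.p.obj x)) (asIso ε).hom := by
    rw [hxV]; exact hε
  let X : (fp F G).obj := fpObjMk F G x s (asIso ε) hε'
  let m : X ⟶ X := fpHomMk (𝟙 x) χs (by
    change F.map (𝟙 x) ≫ ε = ε ≫ G.map χs
    rw [hGχs, F.map_id, Category.id_comp, Category.comp_id])
  have hm : (fpFst F G).map m = (fpFst F G).map (𝟙 X) := rfl
  have hm' : m = 𝟙 X := hG'.map_injective hm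
  have : χs = 𝟙 s := congrArg (fun k => k.hom.snd) hm'
  rw [← hχs2, this, Category.id_comp]

end Groth.Agent.Lib.Helper65
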