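import Groth.Prelude.Def_StGerb
import Groth.Agent.Lib.Helper65.LocalEq
import Groth.Agent.Lib.Helper65.FpFib

/-!
# Helper65: basic calculus of `Gerb.IsGerbeOver` (composition, equivalences, base change, descent)
-/

set_option autoImplicit false
set_option backward.isDefEq.respectTransparency false
set_option backward.isDefEq.respectTransparency.types false

universe v₅ u₅ v₄ u₄ v₃ u₃ v₂ u₂ v u

open CategoryTheory CategoryTheory.Functor CategoryTheory.Limits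

namespace Groth.Agent.Lib.Helper65

open FibCat Groth.Agent.Lib.Helper31 Gerb

variable {C : Type u} [Category.{v} C] (J : GrothendieckTopology C)
variable {𝒳 : BasedCategory.{v₂, u₂} C} {𝒴 : BasedCategory.{v₃, u₃} C} {𝒵 : BasedCategory.{v₄, u₄} C}

section Sieves

variable (h𝒳 : IsFibGrpd 𝒳.p) (F : 𝒳 ⥤ᵇ 𝒴)

/-- Composite lifts: `IsHomLift (l ≫ f) (a ≫ g)`. -/
theorem isHomLift_comp' {𝒲 : Type*} [Category 𝒲] (p : 𝒲 ⥤ C) {W V U : C} (l : W ⟶ V) (f : V ⟶ U)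
    {a b c : 𝒲} (φ : a ⟶ b) (ψ : b ⟶ c) (hφ : p.IsHomLift l φ) (hψ : p.IsHomLift f ψ) :
    p.IsHomLift (l ≫ f) (φ ≫ ψ) := inferInstance

theorem isHomLift_comp_id_left {𝒲 : Type*} [Category 𝒲] (p : 𝒲 ⥤ C) {V U : C} (f : V ⟶ U)
    {a b c : 𝒲} (φ : a ⟶ b) (ψ : b ⟶ c) (hφ : p.IsHomLift (𝟙 V) φ) (hψ : p.IsHomLift f ψ) :
    p.IsHomLift f (φ ≫ ψ) := by
  have : p.IsHomLift (𝟙 V ≫ f) (φ ≫ ψ) := inferInstance
  rw [Category.id_comp] at this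
  exact this

theorem isHomLift_comp_id_right {𝒲 : Type*} [Category 𝒲] (p : 𝒲 ⥤ C) {V U : C} (f : V ⟶ U)
    {a b c : 𝒲} (φ : a ⟶ b) (ψ : b ⟶ c) (hφ : p.IsHomLift f φ) (hψ : p.IsHomLift (𝟙 U) ψ) :
    p.IsHomLift f (φ ≫ ψ) := by
  have : p.IsHomLift (f ≫ 𝟙 U) (φ ≫ ψ) := inferInstance
  rw [Category.comp_id] at this
  exact this

/-- The sieve of arrows along which `y` lifts to `𝒳`. -/
def objSieve (y : 𝒴.obj) {U : C} (_hU : 𝒴.p.obj y = U) : Sieve U where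
  arrows V f := ∃ (x : 𝒳.obj) (g : F.obj x ⟶ y), 𝒴.p.IsHomLift f g
  downward_closed := by
    rintro V W f ⟨x, g, hg⟩ l
    have hx : 𝒳.p.obj x = V := by
      rw [← F.w_obj]; exact IsHomLift.domain_eq 𝒴.p f g
    obtain ⟨x', a, ha⟩ := exists_lift_of_eq h𝒳 hx l
    have hFa : 𝒴.p.IsHomLift l (F.map a) := inferInstance
    exact ⟨x', F.map a ≫ g, isHomLift_comp' 𝒴.p l f _ _ hFa hg⟩

theorem objSieve_mem (hF : LocSurjObj J F) (y : 𝒴.obj) {U : C} (hU : 𝒴.p.obj y = U) :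
    objSieve h𝒳 F y hU ∈ J U := by
  subst hU
  obtain ⟨R, hR, h⟩ := hF y
  exact J.superset_covering (fun V f hf => h f hf) hR

theorem locSurjObj_of_objSieve (h : ∀ y : 𝒴.obj, objSieve h𝒳 F y rfl ∈ J (𝒴.p.obj y)) :
    LocSurjObj J F := fun y => ⟨objSieve h𝒳 F y rfl, h y, fun _ _ hf => hf⟩

/-- The sieve of arrows along which `b : F x ⟶ F x'` lifts to `𝒳`. -/
def homSieve (x x' : 𝒳.obj) {U : C} (_hU : 𝒳.p.obj x = U) (b : F.obj x ⟶ F.obj x') : Sieve U where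
  arrows V f := ∃ (x₀ : 𝒳.obj) (φ : x₀ ⟶ x) (ψ : x₀ ⟶ x'),
    𝒳.p.IsHomLift f φ ∧ 𝒳.p.IsHomLift f ψ ∧ F.map φ ≫ b = F.map ψ
  downward_closed := by
    rintro V W f ⟨x₀, φ, ψ, hφ, hψ, h⟩ l
    have hx : 𝒳.p.obj x₀ = V := IsHomLift.domain_eq 𝒳.p f φ
    obtain ⟨x', a, ha⟩ := exists_lift_of_eq h𝒳 hx l
    refine ⟨x', a ≫ φ, a ≫ ψ, isHomLift_comp' 𝒳.p l f _ _ ha hφ, isHomLift_comp' 𝒳.p l f _ _ ha hψ, ?_⟩
    rw [F.map_comp, F.map_comp, Category.assoc, h]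

theorem homSieve_mem (hF : LocSurjHom J F) (x x' : 𝒳.obj) {U : C} (hU : 𝒳.p.obj x = U)
    (b : F.obj x ⟶ F.obj x') (hb : 𝒴.p.IsHomLift (𝟙 U) b) : homSieve h𝒳 F x x' hU b ∈ J U := by
  subst hU
  obtain ⟨R, hR, h⟩ := hF x x' b hb
  exact J.superset_covering (fun V f hf => h f hf) hR

theorem locSurjHom_of_homSieve (h : ∀ (x x' : 𝒳.obj) (b : F.obj x ⟶ F.obj x'),
    𝒴.p.IsHomLift (𝟙 (𝒳.p.obj x)) b → homSieve h𝒳 F x x' rfl b ∈ J (𝒳.p.obj x)) :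
    LocSurjHom J F := fun x x' b hb => ⟨homSieve h𝒳 F x x' rfl b, h x x' b hb, fun _ _ hf => hf⟩

end Sieves

section Comp

variable (h𝒳 : IsFibGrpd 𝒳.p) (h𝒴 : IsFibGrpd 𝒴.p) (F : 𝒳 ⥤ᵇ 𝒴) (G : 𝒴 ⥤ᵇ 𝒵)

include h𝒳 h𝒴 in
theorem locSurjObj_comp (hF : LocSurjObj J F) (hG : LocSurjObj J G) :
    LocSurjObj J (BasedFunctor.comp F G) := by
  apply locSurjObj_of_objSieve J h𝒳
  intro z
  apply J.transitive (objSieve_mem J h𝒴 G hG z rfl)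
  rintro V f ⟨y, g, hg⟩
  have hy : 𝒴.p.obj y = V := by
    rw [← G.w_obj]; exact IsHomLift.domain_eq 𝒵.p f g
  apply J.superset_covering _ (objSieve_mem J h𝒳 F hF y hy)
  rintro W h ⟨x, g', hg'⟩
  have hGg' : 𝒵.p.IsHomLift h (G.map g') := inferInstance
  exact ⟨x, G.map g' ≫ g, isHomLift_comp' 𝒵.p h f _ _ hGg' hg⟩

include h𝒳 h𝒴 in
theorem locSurjHom_comp (hF : IsGerbeOver J F) (hG : LocSurjHom J G) :
    LocSurjHom J (BasedFunctor.comp F G) := by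
  apply locSurjHom_of_homSieve J h𝒳
  intro x x' b hb
  have hb' : 𝒵.p.IsHomLift (𝟙 (𝒳.p.obj x)) (b : G.obj (F.obj x) ⟶ G.obj (F.obj x')) := hb
  have hx' : 𝒳.p.obj x' = 𝒳.p.obj x := by
    rw [← F.w_obj, ← G.w_obj]
    exact IsHomLift.codomain_eq 𝒵.p (𝟙 (𝒳.p.obj x)) b
  apply J.transitive (homSieve_mem J h𝒴 G hG (F.obj x) (F.obj x') (F.w_obj x) b hb')
  rintro V f ⟨y₀, φ, ψ, hφ, hψ, hφψ⟩
  have hy₀ : 𝒴.p.obj y₀ = V := IsHomLift.domain_eq 𝒴.p f φ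
  apply J.transitive (objSieve_mem J h𝒳 F hF.1 y₀ hy₀)
  rintro W h ⟨x₁, g₁, hg₁⟩
  -- pull back `x` and `x'` along `h ≫ f`
  obtain ⟨xW, c, hc⟩ := exists_lift_of_eq h𝒳 (rfl : 𝒳.p.obj x = 𝒳.p.obj x) (h ≫ f)
  obtain ⟨xW', c', hc'⟩ := exists_lift_of_eq h𝒳 hx' (h ≫ f)
  have hFc : 𝒴.p.IsHomLift (h ≫ f) (F.map c) := inferInstance
  have hFc' : 𝒴.p.IsHomLift (h ≫ f) (F.map c') := inferInstance
  have cFc : 𝒴.p.IsStronglyCartesian (h ≫ f) (F.map c) := isStronglyCartesian_of_isFibGrpd 𝒴.p h𝒴 _ _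
  have cFc' : 𝒴.p.IsStronglyCartesian (h ≫ f) (F.map c') :=
    isStronglyCartesian_of_isFibGrpd 𝒴.p h𝒴 _ _
  have h1 : 𝒴.p.IsHomLift (𝟙 W ≫ h ≫ f) (g₁ ≫ φ) := by
    rw [Category.id_comp]; exact isHomLift_comp' 𝒴.p h f _ _ hg₁ hφ
  have h2 : 𝒴.p.IsHomLift (𝟙 W ≫ h ≫ f) (g₁ ≫ ψ) := by
    rw [Category.id_comp]; exact isHomLift_comp' 𝒴.p h f _ _ hg₁ hψ
  let ι : F.obj x₁ ⟶ F.obj xW := IsStronglyCartesian.map 𝒴.p (h ≫ f) (F.map c) (g := 𝟙 W) rfl (g₁ ≫ φ)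
  let ι' : F.obj x₁ ⟶ F.obj xW' :=
    IsStronglyCartesian.map 𝒴.p (h ≫ f) (F.map c') (g := 𝟙 W) rfl (g₁ ≫ ψ)
  have hι : 𝒴.p.IsHomLift (𝟙 W) ι := inferInstance
  have hι' : 𝒴.p.IsHomLift (𝟙 W) ι' := inferInstance
  have eι : ι ≫ F.map c = g₁ ≫ φ := IsStronglyCartesian.fac _ _ _ _ _
  have eι' : ι' ≫ F.map c' = g₁ ≫ ψ := IsStronglyCartesian.fac _ _ _ _ _
  have hιiso : IsIso ι := by
    haveI : IsIso (𝒴.p.map ι) := by
      rw [IsHomLift.fac' 𝒴.p (𝟙 W) ι]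
      infer_instance
    exact isIso_of_isFibGrpd 𝒴.p h𝒴 ι
  have hιinv : 𝒴.p.IsHomLift (𝟙 W) (inv ι) := inferInstance
  have hxW : 𝒳.p.obj xW = W := IsHomLift.domain_eq 𝒳.p (h ≫ f) c
  have hb'' : 𝒴.p.IsHomLift (𝟙 W) (inv ι ≫ ι') := isHomLift_comp_id_left 𝒴.p (𝟙 W) _ _ hιinv hι'
  apply J.superset_covering _ (homSieve_mem J h𝒳 F hF.2 xW xW' hxW (inv ι ≫ ι') hb'')
  rintro W' k ⟨x₀, φ'', ψ'', hφ'', hψ'', e⟩
  refine ⟨x₀, φ'' ≫ c, ψ'' ≫ c', ?_, ?_, ?_⟩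
  · rw [Category.assoc]; exact isHomLift_comp' 𝒳.p k (h ≫ f) _ _ hφ'' hc
  · rw [Category.assoc]; exact isHomLift_comp' 𝒳.p k (h ≫ f) _ _ hψ'' hc'
  · change G.map (F.map (φ'' ≫ c)) ≫ b = G.map (F.map (ψ'' ≫ c'))
    have e1 : F.map c = inv ι ≫ g₁ ≫ φ := by
      rw [← eι, IsIso.inv_hom_id_assoc]
    have e2 : G.map (F.map c) ≫ b = G.map (inv ι ≫ ι' ≫ F.map c') := by
      rw [e1, G.map_comp, G.map_comp, Category.assoc, Category.assoc, hφψ, eι', G.map_comp, G.map_comp]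
    rw [F.map_comp, G.map_comp, Category.assoc, e2, ← G.map_comp, ← Category.assoc, ← Category.assoc,
      Category.assoc (F.map φ''), e, ← F.map_comp]

include h𝒳 h𝒴 in
theorem isGerbeOver_comp (hF : IsGerbeOver J F) (hG : IsGerbeOver J G) :
    IsGerbeOver J (BasedFunctor.comp F G) :=
  ⟨locSurjObj_comp J h𝒳 h𝒴 F G hF.1 hG.1, locSurjHom_comp J h𝒳 h𝒴 F G hF hG.2⟩

end Comp

end Groth.Agent.Lib.Helper65

namespace Groth.Agent.Lib.Helper65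

open FibCat Groth.Agent.Lib.Helper31 Gerb

section GerbeMore

variable {C : Type u} [Category.{v} C] (J : GrothendieckTopology C)
variable {𝒳 : BasedCategory.{v₂, u₂} C} {𝒴 : BasedCategory.{v₃, u₃} C} {𝒵 : BasedCategory.{v₄, u₄} C}

/-- `IsGerbeOver` is invariant under 2-isomorphism. -/
theorem isGerbeOver_of_iso {F F' : 𝒳 ⥤ᵇ 𝒴} (e : F ≅ F') (hF : IsGerbeOver J F) : IsGerbeOver J F' := by
  refine ⟨?_, ?_⟩
  · intro y
    obtain ⟨R, hR, h⟩ := hF.1 y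
    refine ⟨R, hR, fun V f hf => ?_⟩
    obtain ⟨x, g, hg⟩ := h f hf
    have hx : 𝒳.p.obj x = V := by
      rw [← F.w_obj]; exact IsHomLift.domain_eq 𝒴.p f g
    have h1 : 𝒴.p.IsHomLift (𝟙 (𝒳.p.obj x)) (e.inv.toNatTrans.app x) := e.inv.isHomLift' x
    have h2 : 𝒴.p.IsHomLift (𝟙 V) (e.inv.toNatTrans.app x) := isHomLift_id_of_eq 𝒴.p hx _
    exact ⟨x, e.inv.toNatTrans.app x ≫ g, isHomLift_comp_id_left 𝒴.p f _ _ h2 hg⟩
  · intro x x' b' hb'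
    have hx' : 𝒳.p.obj x' = 𝒳.p.obj x := by
      rw [← F'.w_obj]
      exact IsHomLift.codomain_eq 𝒴.p (𝟙 (𝒳.p.obj x)) b'
    have h1 : 𝒴.p.IsHomLift (𝟙 (𝒳.p.obj x)) (e.hom.toNatTrans.app x) := e.hom.isHomLift' x
    have h2 : 𝒴.p.IsHomLift (𝟙 (𝒳.p.obj x')) (e.inv.toNatTrans.app x') := e.inv.isHomLift' x'
    have h2' : 𝒴.p.IsHomLift (𝟙 (𝒳.p.obj x)) (e.inv.toNatTrans.app x') := isHomLift_id_of_eq 𝒴.p hx' _
    have hb : 𝒴.p.IsHomLift (𝟙 (𝒳.p.obj x))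
        (e.hom.toNatTrans.app x ≫ b' ≫ e.inv.toNatTrans.app x') :=
      isHomLift_comp_id_left 𝒴.p _ _ _ h1 (isHomLift_comp_id_left 𝒴.p _ _ _ hb' h2')
    obtain ⟨R, hR, h⟩ := hF.2 x x' _ hb
    refine ⟨R, hR, fun V f hf => ?_⟩
    obtain ⟨x₀, φ, ψ, hφ, hψ, hφψ⟩ := h f hf
    refine ⟨x₀, φ, ψ, hφ, hψ, ?_⟩
    have n1 : F.map φ ≫ e.hom.toNatTrans.app x = e.hom.toNatTrans.app x₀ ≫ F'.map φ :=
      e.hom.toNatTrans.naturality φ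
    have n2 : F.map ψ ≫ e.hom.toNatTrans.app x' = e.hom.toNatTrans.app x₀ ≫ F'.map ψ :=
      e.hom.toNatTrans.naturality ψ
    have i1 : e.inv.toNatTrans.app x' ≫ e.hom.toNatTrans.app x' = 𝟙 _ :=
      (basedIsoToNatIso e).inv_hom_id_app x'
    have i0 : e.inv.toNatTrans.app x₀ ≫ e.hom.toNatTrans.app x₀ = 𝟙 _ :=
      (basedIsoToNatIso e).inv_hom_id_app x₀
    have k : e.hom.toNatTrans.app x₀ ≫ F'.map φ ≫ b' = e.hom.toNatTrans.app x₀ ≫ F'.map ψ :=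
      calc e.hom.toNatTrans.app x₀ ≫ F'.map φ ≫ b'
          = (F.map φ ≫ e.hom.toNatTrans.app x) ≫ b' := by rw [n1, Category.assoc]
        _ = (F.map φ ≫ e.hom.toNatTrans.app x ≫ b' ≫ e.inv.toNatTrans.app x') ≫
              e.hom.toNatTrans.app x' := by
            simp only [Category.assoc]; rw [i1, Category.comp_id]
        _ = F.map ψ ≫ e.hom.toNatTrans.app x' := by rw [hφψ]
        _ = e.hom.toNatTrans.app x₀ ≫ F'.map ψ := n2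
    calc F'.map φ ≫ b' = (e.inv.toNatTrans.app x₀ ≫ e.hom.toNatTrans.app x₀) ≫ F'.map φ ≫ b' := by
          rw [i0, Category.id_comp]
      _ = (e.inv.toNatTrans.app x₀ ≫ e.hom.toNatTrans.app x₀) ≫ F'.map ψ := by
          rw [Category.assoc, k, Category.assoc]
      _ = F'.map ψ := by rw [i0, Category.id_comp]

/-- An equivalence over the base is a gerbe. -/
theorem isGerbeOver_of_isEquivOver (h𝒳 : IsFibGrpd 𝒳.p) (E : 𝒳 ⥤ᵇ 𝒴) (hE : IsEquivOver E) :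
    IsGerbeOver J E := by
  refine ⟨locallyEssSurj_of_isEquivOver J h𝒳 E hE, ?_⟩
  obtain ⟨hfull, hfaith, -⟩ := isEquivOver_full_faithful_ess E hE
  intro x x' b hb
  refine ⟨⊤, J.top_mem _, fun V f _ => ?_⟩
  obtain ⟨β, hβ⟩ := E.toFunctor.map_surjective b
  have hβ1 : 𝒴.p.IsHomLift (𝟙 (𝒳.p.obj x)) (E.map β) := by
    change 𝒴.p.IsHomLift (𝟙 (𝒳.p.obj x)) (E.toFunctor.map β)
    rw [hβ]; exact hb
  have hβ2 : 𝒳.p.IsHomLift (𝟙 (𝒳.p.obj x)) β := BasedFunctor.isHomLift_map E (𝟙 _) β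
  obtain ⟨x₀, φ, hφ⟩ := h𝒳.exists_lift (x := x) f
  refine ⟨x₀, φ, φ ≫ β, hφ, isHomLift_comp_id_right 𝒳.p f _ _ hφ hβ2, ?_⟩
  rw [E.map_comp]
  congr 1
  exact hβ.symm

end GerbeMore

end Groth.Agent.Lib.Helper65

namespace Groth.Agent.Lib.Helper65

open FibCat Groth.Agent.Lib.Helper31 Gerb

section GerbeBaseChange

variable {C : Type u} [Category.{v} C] (J : GrothendieckTopology C)
variable {𝒳 : BasedCategory.{v₂, u₂} C} {𝒴 : BasedCategory.{v₃, u₃} C} {𝒴' : BasedCategory.{v₄, u₄} C}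
variable (h𝒳 : IsFibGrpd 𝒳.p) (h𝒴 : IsFibGrpd 𝒴.p) (h𝒴' : IsFibGrpd 𝒴'.p)
variable (F : 𝒳 ⥤ᵇ 𝒴) (G : 𝒴' ⥤ᵇ 𝒴)

/-- In a category fibred in groupoids a morphism over an identity is an isomorphism. -/
theorem isIso_of_isHomLift_id {𝒲 : BasedCategory.{v₅, u₅} C} (h𝒲 : IsFibGrpd 𝒲.p) {V : C} {a b : 𝒲.obj}
    (ι : a ⟶ b) (hι : 𝒲.p.IsHomLift (𝟙 V) ι) : IsIso ι := by
  haveI : IsIso (𝒲.p.map ι) := by
    rw [IsHomLift.fac' 𝒲.p (𝟙 V) ι]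
    infer_instance
  exact isIso_of_isFibGrpd 𝒲.p h𝒲 ι

/-- Comparison with a cartesian arrow: the induced morphism over the identity. -/
theorem exists_comparison {𝒲 : BasedCategory.{v₅, u₅} C} (h𝒲 : IsFibGrpd 𝒲.p) {V U : C} (f : V ⟶ U)
    {a b c : 𝒲.obj} (φ : b ⟶ c) (hφ : 𝒲.p.IsHomLift f φ) (g : a ⟶ c) (hg : 𝒲.p.IsHomLift f g) :
    ∃ ι : a ≅ b, 𝒲.p.IsHomLift (𝟙 V) ι.hom ∧ ι.hom ≫ φ = g := by
  have cφ : 𝒲.p.IsStronglyCartesian f φ := isStronglyCartesian_of_isFibGrpd 𝒲.p h𝒲 _ _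
  have hg' : 𝒲.p.IsHomLift (𝟙 V ≫ f) g := by rw [Category.id_comp]; exact hg
  let ι : a ⟶ b := IsStronglyCartesian.map 𝒲.p f φ (g := 𝟙 V) rfl g
  have hι : 𝒲.p.IsHomLift (𝟙 V) ι := inferInstance
  have e : ι ≫ φ = g := IsStronglyCartesian.fac _ _ _ _ _
  haveI := isIso_of_isHomLift_id h𝒲 ι hι
  exact ⟨asIso ι, hι, e⟩

include h𝒳 h𝒴 h𝒴' in
/-- Being a gerbe is stable under base change (explicit 2-fibre product). -/
theorem isGerbeOver_fpFst (hF : IsGerbeOver J F) : IsGerbeOver J (fpFst G F) := by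
  have hfp : IsFibGrpd (fp G F).p := isFibGrpd_fp G F h𝒴' h𝒳 h𝒴
  refine ⟨?_, ?_⟩
  · apply locSurjObj_of_objSieve J hfp
    intro y'
    apply J.superset_covering _ (objSieve_mem J h𝒳 F hF.1 (G.obj y') (G.w_obj y'))
    rintro V f ⟨x, g, hg⟩
    obtain ⟨y₀, c, hc⟩ := h𝒴'.exists_lift (x := y') f
    have hGc : 𝒴.p.IsHomLift f (G.map c) := inferInstance
    obtain ⟨ι, hι, eι⟩ := exists_comparison h𝒴 f (G.map c) hGc g hg
    have hy₀ : 𝒴'.p.obj y₀ = V := IsHomLift.domain_eq 𝒴'.p f c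
    have hιinv : 𝒴.p.IsHomLift (𝟙 V) ι.inv := by
      have : 𝒴.p.IsHomLift (𝟙 V) (inv ι.hom) := inferInstance
      simpa using this
    have hprop : 𝒴.p.IsHomLift (𝟙 (𝒴'.p.obj y₀)) ι.symm.hom := by
      rw [hy₀]; exact hιinv
    let X : (fp G F).obj := fpObjMk G F y₀ x ι.symm hprop
    exact ⟨X, c, hc⟩
  · apply locSurjHom_of_homSieve J hfp
    intro X X' b hb
    have hb' : 𝒴'.p.IsHomLift (𝟙 (𝒴'.p.obj X.obj.fst)) b := hb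
    have hGb : 𝒴.p.IsHomLift (𝟙 (𝒴'.p.obj X.obj.fst)) (G.map b) := inferInstance
    have hXi : 𝒴.p.IsHomLift (𝟙 (𝒴'.p.obj X.obj.fst)) X.obj.iso.hom := X.property
    have hXinv : 𝒴.p.IsHomLift (𝟙 (𝒴'.p.obj X.obj.fst)) X.obj.iso.inv := by
      have : 𝒴.p.IsHomLift (𝟙 (𝒴'.p.obj X.obj.fst)) (inv X.obj.iso.hom) := inferInstance
      simpa using this
    have hX'eq : 𝒴'.p.obj X'.obj.fst = 𝒴'.p.obj X.obj.fst :=
      IsHomLift.codomain_eq 𝒴'.p (𝟙 (𝒴'.p.obj X.obj.fst)) b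
    have hX'i : 𝒴.p.IsHomLift (𝟙 (𝒴'.p.obj X.obj.fst)) X'.obj.iso.hom := by
      have : 𝒴.p.IsHomLift (𝟙 (𝒴'.p.obj X'.obj.fst)) X'.obj.iso.hom := X'.property
      exact isHomLift_id_of_eq 𝒴.p hX'eq _
    let β : F.obj X.obj.snd ⟶ F.obj X'.obj.snd := X.obj.iso.inv ≫ G.map b ≫ X'.obj.iso.hom
    have hβ : 𝒴.p.IsHomLift (𝟙 (𝒴'.p.obj X.obj.fst)) β :=
      isHomLift_comp_id_left 𝒴.p _ _ _ hXinv (isHomLift_comp_id_left 𝒴.p _ _ _ hGb hX'i)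
    apply J.superset_covering _
      (homSieve_mem J h𝒳 F hF.2 X.obj.snd X'.obj.snd (fp_snd_obj X) β hβ)
    rintro V f ⟨x₀, φ, ψ, hφ, hψ, hφψ⟩
    obtain ⟨y₀, c, hc⟩ := h𝒴'.exists_lift (x := X.obj.fst) f
    have hGc : 𝒴.p.IsHomLift f (G.map c) := inferInstance
    have hFφ : 𝒴.p.IsHomLift f (F.map φ) := inferInstance
    have hGcX : 𝒴.p.IsHomLift f (G.map c ≫ X.obj.iso.hom) :=
      isHomLift_comp_id_right 𝒴.p f _ _ hGc hXi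
    obtain ⟨ι₀, hι₀, eι₀⟩ := exists_comparison h𝒴 f (F.map φ) hFφ (G.map c ≫ X.obj.iso.hom) hGcX
    have hy₀ : 𝒴'.p.obj y₀ = V := IsHomLift.domain_eq 𝒴'.p f c
    have hprop : 𝒴.p.IsHomLift (𝟙 (𝒴'.p.obj y₀)) ι₀.hom := by
      rw [hy₀]; exact hι₀
    let X₀ : (fp G F).obj := fpObjMk G F y₀ x₀ ι₀ hprop
    let Φ : X₀ ⟶ X := fpHomMk c φ (by
      change G.map c ≫ X.obj.iso.hom = ι₀.hom ≫ F.map φ
      rw [eι₀])
    let Ψ : X₀ ⟶ X' := fpHomMk (c ≫ b) ψ (by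
      change G.map (c ≫ b) ≫ X'.obj.iso.hom = ι₀.hom ≫ F.map ψ
      rw [← hφψ, ← Category.assoc ι₀.hom, eι₀, G.map_comp]
      simp only [β, Category.assoc, Iso.hom_inv_id_assoc])
    refine ⟨X₀, Φ, Ψ, ?_, ?_, rfl⟩
    · rw [fp_isHomLift_iff]; exact hc
    · rw [fp_isHomLift_iff]
      exact isHomLift_comp_id_right 𝒴'.p f _ _ hc hb'

include h𝒳 h𝒴 h𝒴' in
/-- Being a gerbe descends along a base change which is locally surjective on objects. -/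
theorem isGerbeOver_of_fpFst (hG : LocSurjObj J G) (h : IsGerbeOver J (fpFst G F)) :
    IsGerbeOver J F := by
  have hfp : IsFibGrpd (fp G F).p := isFibGrpd_fp G F h𝒴' h𝒳 h𝒴
  refine ⟨?_, ?_⟩
  · apply locSurjObj_of_objSieve J h𝒳
    intro y
    apply J.transitive (objSieve_mem J h𝒴' G hG y rfl)
    rintro V f ⟨y', g, hg⟩
    have hy' : 𝒴'.p.obj y' = V := by
      rw [← G.w_obj]; exact IsHomLift.domain_eq 𝒴.p f g
    apply J.superset_covering _ (objSieve_mem J hfp (fpFst G F) h.1 y' hy')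
    rintro W k ⟨X, a, ha⟩
    have ha' : 𝒴'.p.IsHomLift k (a : X.obj.fst ⟶ y') := ha
    have hGa : 𝒴.p.IsHomLift k (G.map a) := inferInstance
    have hXW : 𝒴'.p.obj X.obj.fst = W := IsHomLift.domain_eq 𝒴'.p k a
    have hXinv : 𝒴.p.IsHomLift (𝟙 W) X.obj.iso.inv := by
      have h1 : 𝒴.p.IsHomLift (𝟙 (𝒴'.p.obj X.obj.fst)) X.obj.iso.hom := X.property
      have : 𝒴.p.IsHomLift (𝟙 (𝒴'.p.obj X.obj.fst)) (inv X.obj.iso.hom) := inferInstance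
      have h2 : 𝒴.p.IsHomLift (𝟙 (𝒴'.p.obj X.obj.fst)) X.obj.iso.inv := by simpa using this
      exact isHomLift_id_of_eq 𝒴.p hXW _
    refine ⟨X.obj.snd, X.obj.iso.inv ≫ G.map a ≫ g, ?_⟩
    exact isHomLift_comp_id_left 𝒴.p _ _ _ hXinv (isHomLift_comp' 𝒴.p k f _ _ hGa hg)
  · apply locSurjHom_of_homSieve J h𝒳
    intro x x' b hb
    have hx' : 𝒳.p.obj x' = 𝒳.p.obj x := by
      rw [← F.w_obj]
      exact IsHomLift.codomain_eq 𝒴.p (𝟙 (𝒳.p.obj x)) b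
    apply J.transitive (objSieve_mem J h𝒴' G hG (F.obj x) (F.w_obj x))
    rintro V f ⟨y', g, hg⟩
    have hy' : 𝒴'.p.obj y' = V := by
      rw [← G.w_obj]; exact IsHomLift.domain_eq 𝒴.p f g
    obtain ⟨xf, c, hc⟩ := h𝒳.exists_lift (x := x) f
    obtain ⟨xf', c', hc'⟩ := exists_lift_of_eq h𝒳 hx' f
    have hFc : 𝒴.p.IsHomLift f (F.map c) := inferInstance
    have hFc' : 𝒴.p.IsHomLift f (F.map c') := inferInstance
    have hgb : 𝒴.p.IsHomLift f (g ≫ b) := isHomLift_comp_id_right 𝒴.p f _ _ hg hb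
    obtain ⟨ι, hι, eι⟩ := exists_comparison h𝒴 f (F.map c) hFc g hg
    obtain ⟨ι', hι', eι'⟩ := exists_comparison h𝒴 f (F.map c') hFc' (g ≫ b) hgb
    have hprop : 𝒴.p.IsHomLift (𝟙 (𝒴'.p.obj y')) ι.hom := by rw [hy']; exact hι
    have hprop' : 𝒴.p.IsHomLift (𝟙 (𝒴'.p.obj y')) ι'.hom := by rw [hy']; exact hι'
    let X : (fp G F).obj := fpObjMk G F y' xf ι hprop
    let X' : (fp G F).obj := fpObjMk G F y' xf' ι' hprop'
    have hid : 𝒴'.p.IsHomLift (𝟙 V) (𝟙 y') := IsHomLift.id hy'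
    apply J.superset_covering _
      (homSieve_mem J hfp (fpFst G F) h.2 X X' hy' (𝟙 y') hid)
    rintro W k ⟨X₀, Φ, Ψ, hΦ, hΨ, hΦΨ⟩
    have hΦΨ' : Φ.hom.fst = Ψ.hom.fst := by
      have : Φ.hom.fst ≫ 𝟙 y' = Ψ.hom.fst := hΦΨ
      exact (Category.comp_id _).symm.trans this
    rw [fp_isHomLift_iff] at hΦ hΨ
    have hΦs : 𝒳.p.IsHomLift k Φ.hom.snd := fp_snd_isHomLift G F k Φ
    have hΨs : 𝒳.p.IsHomLift k Ψ.hom.snd := fp_snd_isHomLift G F k Ψ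
    refine ⟨X₀.obj.snd, Φ.hom.snd ≫ c, Ψ.hom.snd ≫ c', isHomLift_comp' 𝒳.p k f _ _ hΦs hc,
      isHomLift_comp' 𝒳.p k f _ _ hΨs hc', ?_⟩
    have wΦ : G.map Φ.hom.fst ≫ ι.hom = X₀.obj.iso.hom ≫ F.map Φ.hom.snd := fp_hom_w Φ
    have wΨ : G.map Ψ.hom.fst ≫ ι'.hom = X₀.obj.iso.hom ≫ F.map Ψ.hom.snd := fp_hom_w Ψ
    have key : X₀.obj.iso.hom ≫ (F.map (Φ.hom.snd ≫ c) ≫ b) =
        X₀.obj.iso.hom ≫ F.map (Ψ.hom.snd ≫ c') := by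
      rw [F.map_comp, F.map_comp, ← Category.assoc, ← Category.assoc, ← Category.assoc, ← wΦ, ← wΨ,
        Category.assoc, Category.assoc, Category.assoc, eι', ← Category.assoc ι.hom, eι, hΦΨ']
    exact (cancel_epi X₀.obj.iso.hom).1 key

end GerbeBaseChange

end Groth.Agent.Lib.Helper65

namespace Groth.Agent.Lib.Helper65

open FibCat Groth.Agent.Lib.Helper31 Gerb

section GerbeEquiv

variable {C : Type u} [Category.{v} C] (J : GrothendieckTopology C)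
variable {𝒮₁ : BasedCategory.{v₂, u₂} C} {𝒮₂ : BasedCategory.{v₃, u₃} C}

/-- Being a gerbe over the site transfers backwards along an equivalence over the base. -/
theorem isGerbe_of_equivOver (F : 𝒮₁ ⥤ᵇ 𝒮₂) (hF : IsEquivOver F) (h : IsGerbe J 𝒮₂) : IsGerbe J 𝒮₁ := by
  have hst : Stk.IsStack J 𝒮₁ := (isStack_iff_of_equivOver J F hF).2 h.1
  refine ⟨hst, ?_⟩
  have e : toSelf 𝒮₁ = BasedFunctor.comp F (toSelf 𝒮₂) :=
    basedFunctor_ext (by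
      change 𝒮₁.p = F.toFunctor ⋙ 𝒮₂.p
      exact F.w.symm)
  rw [e]
  exact isGerbeOver_comp J hst.1 h.1.1 F (toSelf 𝒮₂) (isGerbeOver_of_isEquivOver J hst.1 F hF) h.2

theorem isGerbe_iff_of_equivOver (F : 𝒮₁ ⥤ᵇ 𝒮₂) (hF : IsEquivOver F) : IsGerbe J 𝒮₁ ↔ IsGerbe J 𝒮₂ := by
  refine ⟨?_, isGerbe_of_equivOver J F hF⟩
  obtain ⟨G, hG, -, -⟩ := exists_inverse_equivOver F hF
  exact isGerbe_of_equivOver J G hG

end GerbeEquiv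

end Groth.Agent.Lib.Helper65
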