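import Groth.Agent.Lib.Helper65.StTop2
import Groth.Agent.Lib.Helper65.GerbeBasic

/-!
# Helper65: monomorphisms of stacks are injective on points
-/

set_option autoImplicit false
set_option backward.isDefEq.respectTransparency false
set_option backward.isDefEq.respectTransparency.types false

universe u

open CategoryTheory CategoryTheory.Functor CategoryTheory.Limits Opposite AlgebraicGeometry

namespace Groth.Agent.Lib.Helper65

open FibCat Groth.Agent.Lib.Helper31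

variable {S : Scheme.{u}} {𝒳 𝒴 : AlgSt.Cat S}

/-- A full functor between categories fibred in groupoids is injective on points. -/
theorem points_map_injective_of_full (h𝒳 : IsFibGrpd 𝒳.p) (h𝒴 : IsFibGrpd 𝒴.p) (f : 𝒳 ⥤ᵇ 𝒴)
    (hfull : f.toFunctor.Full) : Function.Injective (AlgSt.Points.map f) := by
  intro x x' h
  obtain ⟨p, rfl⟩ := AlgSt.Points.mk_surjective x
  obtain ⟨q, rfl⟩ := AlgSt.Points.mk_surjective x'
  obtain ⟨r, a, b, -⟩ := (points_mk_eq_iff h𝒴).1 h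
  let α : Over.mk r.str ⟶ Over.mk p.str := fptBaseHom (p := r) (q := p.map f) a
  let β : Over.mk r.str ⟶ Over.mk q.str := fptBaseHom (p := r) (q := q.map f) b
  have hα : 𝒴.p.IsHomLift α a := fptBaseHom_isHomLift (p := r) (q := p.map f) a
  have hβ : 𝒴.p.IsHomLift β b := fptBaseHom_isHomLift (p := r) (q := q.map f) b
  obtain ⟨o₁, c₁, hc₁⟩ := exists_fpt_lift h𝒳 p α
  obtain ⟨o₂, c₂, hc₂⟩ := exists_fpt_lift h𝒳 q β
  have hfc₁ : 𝒴.p.IsHomLift α (f.map c₁) := inferInstance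
  have hfc₂ : 𝒴.p.IsHomLift β (f.map c₂) := inferInstance
  obtain ⟨ι₁, -, -⟩ := exists_comparison h𝒴 α (f.map c₁) hfc₁ a hα
  obtain ⟨ι₂, -, -⟩ := exists_comparison h𝒴 β (f.map c₂) hfc₂ b hβ
  obtain ⟨k, -⟩ := hfull.map_surjective (ι₁.inv ≫ ι₂.hom)
  apply AlgSt.Points.sound
  exact ⟨{ K := r.K, str := r.str, obj := o₁, lies := IsHomLift.domain_eq 𝒳.p α c₁ }, c₁, k ≫ c₂, trivial⟩

theorem points_map_injective_of_isMono (h𝒳 : IsFibGrpd 𝒳.p) (h𝒴 : IsFibGrpd 𝒴.p) (f : 𝒳 ⥤ᵇ 𝒴)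
    (hf : AlgSt.IsMono f) : Function.Injective (AlgSt.Points.map f) :=
  points_map_injective_of_full h𝒳 h𝒴 f (full_faithful_of_isMono h𝒳 h𝒴 f hf).1

end Groth.Agent.Lib.Helper65
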