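import Groth.Agent.Lib.Helper65.SubSt
import Groth.Agent.Lib.Helper65.StMono
import Groth.Agent.Lib.Helper54.LargestOpen

/-!
# Helper65: flat locally finitely presented morphisms of algebraic stacks are open on points; open immersions
-/

set_option autoImplicit false
set_option backward.isDefEq.respectTransparency false
set_option backward.isDefEq.respectTransparency.types false

universe u

open CategoryTheory CategoryTheory.Functor CategoryTheory.Limits Opposite AlgebraicGeometry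

namespace Groth.Agent.Lib.Helper65

open FibCat Groth.Agent.Lib.Helper31

variable {S : Scheme.{u}} {𝒳 𝒴 : AlgSt.Cat S}

theorem ofChart_comp {U : Over S} (x : FibCat.overCat U ⥤ᵇ 𝒴) (f : 𝒴 ⥤ᵇ 𝒳) (t : ↥U.left) :
    AlgSt.Points.ofChart (BasedFunctor.comp x f) t = AlgSt.Points.map f (AlgSt.Points.ofChart x t) := by
  rw [ofChart_eq, ofChart_eq, points_map_comp]

/-- A flat, locally finitely presented morphism (representable by algebraic spaces) from a stack with a smooth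
atlas is open on points. -/
theorem isOpenMap_points_map (h𝒴 : IsFibGrpd 𝒴.p) (hatlas : AlgSt.HasAtlas (AlgSp.LocP @Smooth) 𝒴)
    (h𝒳 : IsFibGrpd 𝒳.p) (f : 𝒴 ⥤ᵇ 𝒳) (hf₁ : AlgSt.RepByAlgSpWith (AlgSp.LocP @Flat) f)
    (hf₂ : AlgSt.RepByAlgSpWith (AlgSp.LocP @LocallyOfFinitePresentation) f) :
    IsOpenMap (AlgSt.Points.map f) := by
  obtain ⟨V₀, y₀, hy1, hy2⟩ := hatlas
  have hx₁ : AlgSt.RepByAlgSpWith (AlgSp.LocP @Flat) (BasedFunctor.comp y₀ f) :=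
    repByAlgSpWith_comp _ (stableBC_locP _ (Or.inr (Or.inr (Or.inl rfl))))
      (stableComp_locP _ (Or.inr (Or.inr (Or.inl rfl)))) isLocalOnBase_fppf_locP_flat
      (isFibGrpd_overForget V₀) h𝒴 y₀ f
      (repByAlgSpWith_mono (locP_mono smooth_le_flat) _ hy1) hf₁
  have hx₂ : AlgSt.RepByAlgSpWith (AlgSp.LocP @LocallyOfFinitePresentation)
      (BasedFunctor.comp y₀ f) :=
    repByAlgSpWith_comp _ (stableBC_locP _ (Or.inr (Or.inl rfl)))
      (stableComp_locP _ (Or.inr (Or.inl rfl))) isLocalOnBase_fppf_locP_lfp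
      (isFibGrpd_overForget V₀) h𝒴 y₀ f
      (repByAlgSpWith_mono (locP_mono smooth_le_lfp) _ hy1) hf₂
  intro W hW
  have hA : IsOpen (AlgSt.Points.ofChart y₀ ⁻¹' W) := hW V₀ y₀ hy1
  have hsurj := ofChart_surjective h𝒴 y₀ hy2
  have heq : AlgSt.Points.map f '' W =
      AlgSt.Points.ofChart (BasedFunctor.comp y₀ f) '' (AlgSt.Points.ofChart y₀ ⁻¹' W) := by
    ext z
    constructor
    · rintro ⟨w, hw, rfl⟩
      obtain ⟨t, rfl⟩ := hsurj w
      exact ⟨t, hw, ofChart_comp y₀ f t⟩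
    · rintro ⟨t, ht, rfl⟩
      exact ⟨AlgSt.Points.ofChart y₀ t, ht, (ofChart_comp y₀ f t).symm⟩
  rw [heq]
  exact isOpenMap_ofChart h𝒳 _ hx₁ hx₂ _ hA

theorem repWith_isOpenImmersion_le_flat :
    (AlgSp.RepWith (S := S) @IsOpenImmersion) ≤ AlgSp.LocP @Flat := fun _ _ _ hj =>
  (Groth.Agent.Lib.Helper54.covClass_fppf.of_oi _ hj).1

theorem repWith_isOpenImmersion_le_lfp :
    (AlgSp.RepWith (S := S) @IsOpenImmersion) ≤ AlgSp.LocP @LocallyOfFinitePresentation :=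
  fun _ _ _ hj => (Groth.Agent.Lib.Helper54.covClass_fppf.of_oi _ hj).2

/-- An open immersion of stacks is open on points. -/
theorem isOpenMap_of_isOpenImm (h𝒴 : IsFibGrpd 𝒴.p) (hatlas : AlgSt.HasAtlas (AlgSp.LocP @Smooth) 𝒴)
    (h𝒳 : IsFibGrpd 𝒳.p) (f : 𝒴 ⥤ᵇ 𝒳) (hf : AlgSt.IsOpenImm f) : IsOpenMap (AlgSt.Points.map f) :=
  isOpenMap_points_map h𝒴 hatlas h𝒳 f (repByAlgSpWith_mono repWith_isOpenImmersion_le_flat f hf)
    (repByAlgSpWith_mono repWith_isOpenImmersion_le_lfp f hf)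

theorem isOpen_range_of_isOpenImm (h𝒴 : IsFibGrpd 𝒴.p) (hatlas : AlgSt.HasAtlas (AlgSp.LocP @Smooth) 𝒴)
    (h𝒳 : IsFibGrpd 𝒳.p) (f : 𝒴 ⥤ᵇ 𝒳) (hf : AlgSt.IsOpenImm f) :
    IsOpen (Set.range (AlgSt.Points.map f)) :=
  (isOpenMap_of_isOpenImm h𝒴 hatlas h𝒳 f hf).isOpen_range

section OpenSubstacks

universe w

theorem isOpen_range_subIncl (h𝒳 : AlgSt.IsAlgStack Scheme.fppfPrecoverage 𝒳) (Q : 𝒳.obj → Prop)
    (hQ : AlgSt.IsOpenSubstack 𝒳 Q Scheme.fppfPrecoverage) :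
    IsOpen (Set.range (AlgSt.Points.map (AlgSt.subIncl 𝒳 Q))) :=
  isOpen_range_of_isOpenImm hQ.2.1.isStack.1 hQ.2.1.atlas h𝒳.isStack.1 _ hQ.2.2

theorem isCompact_range_subIncl (h𝒳 : AlgSt.IsAlgStack Scheme.fppfPrecoverage 𝒳) (Q : 𝒳.obj → Prop)
    (hQ : AlgSt.IsAlgStack Scheme.fppfPrecoverage (AlgSt.fullSub 𝒳 Q))
    (hqc : AlgSt.IsQuasiCompact (AlgSt.fullSub 𝒳 Q)) :
    IsCompact (Set.range (AlgSt.Points.map (AlgSt.subIncl 𝒳 Q))) := by
  have := compactSpace_points_of_isQuasiCompact hQ.isStack.1 hQ.atlas hqc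
  exact isCompact_range (continuous_points_map h𝒳.isStack.1 h𝒳.atlas (AlgSt.subIncl 𝒳 Q))

theorem exists_finite_subcover_substacks (h𝒳 : AlgSt.IsAlgStack Scheme.fppfPrecoverage 𝒳)
    (Q' : 𝒳.obj → Prop) (hQ' : AlgSt.IsOpenSubstack 𝒳 Q' Scheme.fppfPrecoverage)
    (hqc : AlgSt.IsQuasiCompact (AlgSt.fullSub 𝒳 Q'))
    {ι : Type w} (Q : ι → 𝒳.obj → Prop)
    (hQ : ∀ i, AlgSt.IsOpenSubstack 𝒳 (Q i) Scheme.fppfPrecoverage)
    (hcov : Set.range (AlgSt.Points.map (AlgSt.subIncl 𝒳 Q')) ⊆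
      ⋃ i, Set.range (AlgSt.Points.map (AlgSt.subIncl 𝒳 (Q i)))) :
    ∃ I' : Finset ι, Set.range (AlgSt.Points.map (AlgSt.subIncl 𝒳 Q')) ⊆
      ⋃ i ∈ I', Set.range (AlgSt.Points.map (AlgSt.subIncl 𝒳 (Q i))) :=
  (isCompact_range_subIncl h𝒳 Q' hQ'.2.1 hqc).elim_finite_subcover _
    (fun i => isOpen_range_subIncl h𝒳 (Q i) (hQ i)) hcov

end OpenSubstacks

end Groth.Agent.Lib.Helper65
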