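import Groth.Prelude.Def_ArtFun3
import Mathlib.RingTheory.Artinian.Ring
import Mathlib.RingTheory.HopkinsLevitzki
import Mathlib.RingTheory.LocalRing.MaximalIdeal.Basic

/-!
# Helper65: basic facts on the category `ArtFun.Art Λ k`

* bijective morphisms are isomorphisms;
* socle elements;
* every surjection is a composite of small extensions (induction principle).
-/

set_option autoImplicit false
universe u v
open CategoryTheory

namespace Groth.Agent.Lib.Helper65

open ArtFun ArtFun.Art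

variable {Λ : Type u} {k : Type u} [CommRing Λ] [Field k] [Algebra Λ k]

/-- A bijective morphism of `Art Λ k` is an isomorphism. -/
theorem art_isIso_of_bijective {A B : Art Λ k} (f : B ⟶ A) (hf : Function.Bijective f) : IsIso f := by
  let e : B ≃ₐ[Λ] A := AlgEquiv.ofBijective f.toAlgHom hf
  have he : ∀ b, e b = f b := fun b => rfl
  have hres : B.res.comp (e.symm : A →ₐ[Λ] B) = A.res := by
    apply AlgHom.ext
    intro a
    obtain ⟨b, rfl⟩ := hf.2 a
    change B.res (e.symm (e b)) = A.res (f b)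
    rw [e.symm_apply_apply, Art.res_app]
  refine ⟨⟨⟨(e.symm : A →ₐ[Λ] B), hres⟩, ?_, ?_⟩⟩
  · apply Art.hom_ext
    apply AlgHom.ext
    intro b
    change e.symm (e b) = b
    exact e.symm_apply_apply b
  · apply Art.hom_ext
    apply AlgHom.ext
    intro a
    change e (e.symm a) = a
    exact e.apply_symm_apply a

/-- The kernel of a morphism of `Art Λ k` lies in the maximal ideal. -/
theorem art_ker_le_maximalIdeal {A B : Art Λ k} (f : B ⟶ A) :
    RingHom.ker f.toAlgHom ≤ IsLocalRing.maximalIdeal B := by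
  intro b hb
  rw [Art.mem_maximalIdeal_iff, ← Art.res_app f, (RingHom.mem_ker.1 hb : f.toAlgHom b = 0), map_zero]

/-- The maximal ideal of an Artinian local ring is nilpotent. -/
theorem art_maximalIdeal_nilpotent (B : Art Λ k) : ∃ n : ℕ, IsLocalRing.maximalIdeal B ^ n = ⊥ := by
  have h := IsArtinianRing.isNilpotent_jacobson_bot (R := B)
  rw [IsLocalRing.jacobson_eq_maximalIdeal ⊥ bot_ne_top] at h
  obtain ⟨n, hn⟩ := h
  exact ⟨n, hn⟩

/-- Socle elements: if `K < I` are ideals of an Artinian local ring `B` there is `x ∈ I`, `x ∉ K` with `m x ⊆ K`. -/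
theorem art_exists_socle (B : Art Λ k) {K I : Ideal B} (hKI : K < I) :
    ∃ x ∈ I, x ∉ K ∧ ∀ m ∈ IsLocalRing.maximalIdeal B, m * x ∈ K := by
  classical
  obtain ⟨N, hN⟩ := art_maximalIdeal_nilpotent B
  have hex : ∃ n : ℕ, IsLocalRing.maximalIdeal B ^ n * I ≤ K := ⟨N, by rw [hN]; simp⟩
  have hn0 : Nat.find hex ≠ 0 := by
    intro h0
    have := Nat.find_spec hex
    rw [h0, pow_zero, Ideal.one_eq_top, Ideal.top_mul] at this
    exact (not_le_of_gt hKI) this
  obtain ⟨n, hn⟩ := Nat.exists_eq_succ_of_ne_zero hn0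
  have hnot : ¬ IsLocalRing.maximalIdeal B ^ n * I ≤ K := by
    apply Nat.find_min hex
    omega
  obtain ⟨x, hx, hxK⟩ := SetLike.not_le_iff_exists.1 hnot
  refine ⟨x, Ideal.mul_le_right hx, hxK, fun m hm => ?_⟩
  have hspec := Nat.find_spec hex
  rw [hn, pow_succ', mul_assoc] at hspec
  exact hspec (Ideal.mul_mem_mul hm hx)

end Groth.Agent.Lib.Helper65

namespace Groth.Agent.Lib.Helper65

open ArtFun ArtFun.Art

variable {Λ : Type u} {k : Type u} [CommRing Λ] [Field k] [Algebra Λ k]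

/-- `quotMk b = 0 ↔ b ∈ K`. -/
theorem quotMk_eq_zero_iff (B : Art Λ k) {K : Ideal B} (hK : K ≤ IsLocalRing.maximalIdeal B) (b : B) :
    (quotMk B K hK).toAlgHom b = 0 ↔ b ∈ K :=
  Ideal.Quotient.eq_zero_iff_mem

theorem quotMk_toAlgHom_surjective (B : Art Λ k) {K : Ideal B} (hK : K ≤ IsLocalRing.maximalIdeal B) :
    Function.Surjective (quotMk B K hK).toAlgHom :=
  quotMk_surjective B K hK

theorem quotMk_eq_iff (B : Art Λ k) {K : Ideal B} (hK : K ≤ IsLocalRing.maximalIdeal B) (b₁ b₂ : B) :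
    (quotMk B K hK).toAlgHom b₁ = (quotMk B K hK).toAlgHom b₂ ↔ b₁ - b₂ ∈ K := by
  rw [← sub_eq_zero, ← map_sub, quotMk_eq_zero_iff]

/-- The transition map `B/K ⟶ B/K'` for `K ≤ K'`. -/
noncomputable def quotTrans (B : Art Λ k) {K K' : Ideal B} (hK' : K' ≤ IsLocalRing.maximalIdeal B)
    (hKK' : K ≤ K') : quot B K (hKK'.trans hK') ⟶ quot B K' hK' :=
  quotFactor (hKK'.trans hK') (quotMk B K' hK') (by
    intro b hb
    rw [RingHom.mem_ker]
    exact (quotMk_eq_zero_iff B hK' b).2 (hKK' hb))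

theorem quotTrans_mk (B : Art Λ k) {K K' : Ideal B} (hK' : K' ≤ IsLocalRing.maximalIdeal B)
    (hKK' : K ≤ K') (b : B) :
    (quotTrans B hK' hKK').toAlgHom ((quotMk B K (hKK'.trans hK')).toAlgHom b) =
      (quotMk B K' hK').toAlgHom b := rfl

theorem quotFactor_mk {A B : Art Λ k} (f : B ⟶ A) {K : Ideal B}
    (hK : K ≤ IsLocalRing.maximalIdeal B) (hKf : K ≤ RingHom.ker f.toAlgHom) (b : B) :
    (quotFactor hK f hKf).toAlgHom ((quotMk B K hK).toAlgHom b) = f.toAlgHom b := rfl

theorem quotTrans_quotFactor {A B : Art Λ k} (f : B ⟶ A) {K K' : Ideal B}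
    (hK' : K' ≤ IsLocalRing.maximalIdeal B) (hKK' : K ≤ K') (hK'f : K' ≤ RingHom.ker f.toAlgHom) :
    quotTrans B hK' hKK' ≫ quotFactor hK' f hK'f = quotFactor (hKK'.trans hK') f (hKK'.trans hK'f) := by
  apply Art.hom_ext
  apply AlgHom.ext
  intro y
  obtain ⟨b, rfl⟩ := quotMk_toAlgHom_surjective B (hKK'.trans hK') y
  rfl

/-- Elements of the maximal ideal of `B/K` lift to the maximal ideal of `B`. -/
theorem quot_maximalIdeal_lift (B : Art Λ k) {K : Ideal B} (hK : K ≤ IsLocalRing.maximalIdeal B)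
    (y : quot B K hK) (hy : y ∈ IsLocalRing.maximalIdeal (quot B K hK)) :
    ∃ m ∈ IsLocalRing.maximalIdeal B, (quotMk B K hK).toAlgHom m = y := by
  obtain ⟨m, rfl⟩ := quotMk_toAlgHom_surjective B hK y
  refine ⟨m, ?_, rfl⟩
  rw [Art.mem_maximalIdeal_iff] at hy ⊢
  rw [← Art.res_app (quotMk B K hK)]
  exact hy

/-- Adding a socle element gives a small extension `B/K ⟶ B/(K + (x))`. -/
theorem quotTrans_isSmallExt (B : Art Λ k) {K : Ideal B} (x : B) (hxK : x ∉ K)
    (hx : ∀ m ∈ IsLocalRing.maximalIdeal B, m * x ∈ K)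
    (hK' : K ⊔ Ideal.span {x} ≤ IsLocalRing.maximalIdeal B) :
    IsSmallExt (quotTrans B hK' (le_sup_left : K ≤ K ⊔ Ideal.span {x})) := by
  have hK : K ≤ IsLocalRing.maximalIdeal B := le_sup_left.trans hK'
  set π := (quotMk B K hK).toAlgHom with hπ
  have hker : ∀ y : quot B K hK, y ∈ RingHom.ker (quotTrans B hK' le_sup_left).toAlgHom →
      ∃ c : B, y = π c * π x := by
    intro y hy
    obtain ⟨b, rfl⟩ := quotMk_toAlgHom_surjective B hK y
    have hb : (quotMk B (K ⊔ Ideal.span {x}) hK').toAlgHom b = 0 := RingHom.mem_ker.1 hy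
    rw [quotMk_eq_zero_iff, Submodule.mem_sup] at hb
    obtain ⟨a, ha, z, hz, rfl⟩ := hb
    obtain ⟨c, rfl⟩ := Ideal.mem_span_singleton'.1 hz
    refine ⟨c, ?_⟩
    rw [map_add, (quotMk_eq_zero_iff B hK a).2 ha, zero_add, map_mul]
  have hxker : π x ∈ RingHom.ker (quotTrans B hK' le_sup_left).toAlgHom := by
    rw [RingHom.mem_ker]
    change (quotMk B (K ⊔ Ideal.span {x}) hK').toAlgHom x = 0
    rw [quotMk_eq_zero_iff]
    exact le_sup_right (a := K) (Ideal.subset_span rfl)
  refine ⟨?_, ?_, ?_, ?_⟩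
  · intro y
    obtain ⟨b, rfl⟩ := quotMk_toAlgHom_surjective B hK' y
    exact ⟨π b, rfl⟩
  · intro h
    have : π x ∈ (⊥ : Ideal (quot B K hK)) := h ▸ hxker
    rw [Ideal.mem_bot, hπ, quotMk_eq_zero_iff] at this
    exact hxK this
  · refine ⟨⟨π x, ?_⟩⟩
    apply le_antisymm
    · intro y hy
      obtain ⟨c, rfl⟩ := hker y hy
      exact Ideal.mem_span_singleton'.2 ⟨_, rfl⟩
    · rw [Ideal.submodule_span_eq, Ideal.span_le, Set.singleton_subset_iff]
      exact hxker
  · rw [eq_bot_iff, Ideal.mul_le]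
    intro y hy z hz
    obtain ⟨m, hm, rfl⟩ := quot_maximalIdeal_lift B hK y hy
    obtain ⟨c, rfl⟩ := hker z hz
    rw [Ideal.mem_bot, ← map_mul, ← map_mul, quotMk_eq_zero_iff]
    have : m * (c * x) = c * (m * x) := by ring
    rw [this]
    exact K.mul_mem_left c (hx m hm)

/-- Every surjection of `Art Λ k` is a composite of small extensions: induction principle. -/
theorem art_surjective_induction
    (P : ∀ ⦃A B : ArtFun.Art Λ k⦄, (B ⟶ A) → Prop)
    (hiso : ∀ ⦃A B : ArtFun.Art Λ k⦄ (e : B ⟶ A), IsIso e → P e)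
    (hsmall : ∀ ⦃A B : ArtFun.Art Λ k⦄ (p : B ⟶ A), ArtFun.Art.IsSmallExt p → P p)
    (hcomp : ∀ ⦃A B C : ArtFun.Art Λ k⦄ (p : C ⟶ B) (q : B ⟶ A), P p → P q → P (p ≫ q))
    ⦃A B : ArtFun.Art Λ k⦄ (f : B ⟶ A) (hf : Function.Surjective f) : P f := by
  have hI : RingHom.ker f.toAlgHom ≤ IsLocalRing.maximalIdeal B := art_ker_le_maximalIdeal f
  -- main claim, by Noetherian induction on `K`
  have key : ∀ K : Ideal B, ∀ hK : K ≤ RingHom.ker f.toAlgHom,
      P (quotFactor (hK.trans hI) f hK) := by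
    intro K
    induction K using WellFoundedGT.induction with
    | ind K ih =>
      intro hK
      by_cases hKI : K = RingHom.ker f.toAlgHom
      · -- the factored map is bijective
        apply hiso
        apply art_isIso_of_bijective
        constructor
        · intro y₁ y₂ h
          obtain ⟨b₁, rfl⟩ := quotMk_toAlgHom_surjective B (hK.trans hI) y₁
          obtain ⟨b₂, rfl⟩ := quotMk_toAlgHom_surjective B (hK.trans hI) y₂
          have h' : f.toAlgHom b₁ = f.toAlgHom b₂ := h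
          rw [quotMk_eq_iff, hKI, RingHom.mem_ker, map_sub, sub_eq_zero]
          exact h'
        · intro a
          obtain ⟨b, rfl⟩ := hf a
          exact ⟨(quotMk B K (hK.trans hI)).toAlgHom b, rfl⟩
      · have hlt : K < RingHom.ker f.toAlgHom := lt_of_le_of_ne hK hKI
        obtain ⟨x, hxI, hxK, hx⟩ := art_exists_socle B hlt
        have hK'I : K ⊔ Ideal.span {x} ≤ RingHom.ker f.toAlgHom :=
          sup_le hK (by rw [Ideal.span_le, Set.singleton_subset_iff]; exact hxI)
        have hK' : K ⊔ Ideal.span {x} ≤ IsLocalRing.maximalIdeal B := hK'I.trans hI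
        have hKK' : K < K ⊔ Ideal.span {x} := by
          refine lt_of_le_of_ne le_sup_left fun h => hxK ?_
          rw [h]
          exact le_sup_right (a := K) (Ideal.subset_span rfl)
        have h1 := ih _ hKK' hK'I
        have h2 := hsmall _ (quotTrans_isSmallExt B x hxK hx hK')
        have := hcomp _ _ h2 h1
        rwa [quotTrans_quotFactor] at this
  have h0 := key ⊥ bot_le
  have hmk : P (quotMk B ⊥ ((bot_le : (⊥ : Ideal B) ≤ RingHom.ker f.toAlgHom).trans hI)) := by
    apply hiso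
    apply art_isIso_of_bijective
    constructor
    · intro b₁ b₂ h
      have h' := (quotMk_eq_iff B _ b₁ b₂).1 h
      rw [Ideal.mem_bot, sub_eq_zero] at h'
      exact h'
    · exact quotMk_surjective _ _ _
  have := hcomp _ _ hmk h0
  rwa [quotMk_quotFactor] at this

end Groth.Agent.Lib.Helper65
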