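import Groth.Prelude.Def_ArtFun5
import Mathlib.RingTheory.Nakayama
import Mathlib.RingTheory.AdicCompletion.Functoriality
import Mathlib.RingTheory.LocalRing.MaximalIdeal.Basic

/-!
# Helper65: basic facts on coefficient rings `ArtFun.CRing Λ k`
-/

set_option autoImplicit false
universe u v
open CategoryTheory

namespace Groth.Agent.Lib.Helper65

open ArtFun

variable {Λ : Type u} {k : Type u} [CommRing Λ] [Field k] [Algebra Λ k]

/-- `f(m_R) S ≤ m_S`. -/
theorem cring_map_maximalIdeal_le (R S : CRing Λ k) (f : R.carrier →ₐ[Λ] S.carrier)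
    (hf : S.res.comp f = R.res) :
    Ideal.map f (IsLocalRing.maximalIdeal R.carrier) ≤ IsLocalRing.maximalIdeal S.carrier := by
  rw [Ideal.map_le_iff_le_comap]
  intro a ha
  rw [Ideal.mem_comap, CRing.mem_maximalIdeal_iff]
  have : S.res (f a) = R.res a := congrArg (fun t : R.carrier →ₐ[Λ] k => t a) hf
  rw [this]
  exact (CRing.mem_maximalIdeal_iff R a).1 ha

/-- `m_Λ S ≤ f(m_R) S`. -/
theorem cring_map_kerΛ_le (R S : CRing Λ k) (f : R.carrier →ₐ[Λ] S.carrier) :
    Ideal.map (algebraMap Λ S.carrier) (RingHom.ker (algebraMap Λ k)) ≤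
      Ideal.map f (IsLocalRing.maximalIdeal R.carrier) := by
  rw [Ideal.map_le_iff_le_comap]
  intro r hr
  rw [Ideal.mem_comap]
  have h1 : algebraMap Λ S.carrier r = f (algebraMap Λ R.carrier r) := (f.commutes r).symm
  rw [h1]
  apply Ideal.mem_map_of_mem
  rw [CRing.mem_maximalIdeal_iff, AlgHom.commutes]
  exact hr

/-- If `f` is surjective then `f(m_R) S = m_S`. -/
theorem cring_map_maximalIdeal_eq_of_surjective (R S : CRing Λ k) (f : R.carrier →ₐ[Λ] S.carrier)
    (hf : S.res.comp f = R.res) (hs : Function.Surjective f) :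
    Ideal.map f (IsLocalRing.maximalIdeal R.carrier) = IsLocalRing.maximalIdeal S.carrier := by
  apply le_antisymm (cring_map_maximalIdeal_le R S f hf)
  intro b hb
  obtain ⟨a, rfl⟩ := hs b
  apply Ideal.mem_map_of_mem
  rw [CRing.mem_maximalIdeal_iff] at hb ⊢
  have : S.res (f a) = R.res a := congrArg (fun t : R.carrier →ₐ[Λ] k => t a) hf
  rw [← this]
  exact hb

/-- Cotangent criterion for coefficient rings: if `f(m_R) S + m_S² = m_S` then `f` is surjective. -/
theorem cring_surjective_of_cotangent (R S : CRing Λ k) (f : R.carrier →ₐ[Λ] S.carrier)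
    (hf : S.res.comp f = R.res)
    (h : Ideal.map f (IsLocalRing.maximalIdeal R.carrier) ⊔ IsLocalRing.maximalIdeal S.carrier ^ 2 =
      IsLocalRing.maximalIdeal S.carrier) : Function.Surjective f := by
  have hle := cring_map_maximalIdeal_le R S f hf
  have hfg : (IsLocalRing.maximalIdeal S.carrier).FG := IsNoetherian.noetherian _
  have hge : IsLocalRing.maximalIdeal S.carrier ≤ Ideal.map f (IsLocalRing.maximalIdeal R.carrier) := by
    apply Submodule.le_of_le_smul_of_le_jacobson_bot (I := IsLocalRing.maximalIdeal S.carrier) hfg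
    · exact IsLocalRing.maximalIdeal_le_jacobson _
    · rw [smul_eq_mul, ← pow_two, h]
  have heq : Ideal.map f (IsLocalRing.maximalIdeal R.carrier) = IsLocalRing.maximalIdeal S.carrier :=
    le_antisymm hle hge
  haveI := R.isAdicComplete
  haveI := S.isAdicComplete
  haveI : IsHausdorff ((IsLocalRing.maximalIdeal R.carrier).map (f : R.carrier →+* S.carrier)) S.carrier := by
    have : (IsLocalRing.maximalIdeal R.carrier).map (f : R.carrier →+* S.carrier) =
      IsLocalRing.maximalIdeal S.carrier := heq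
    rw [this]
    infer_instance
  apply surjective_of_mk_map_comp_surjective (f : R.carrier →+* S.carrier)
    (I := IsLocalRing.maximalIdeal R.carrier)
  intro y
  obtain ⟨s, rfl⟩ := Ideal.Quotient.mk_surjective y
  obtain ⟨r, hr⟩ := R.res_surjective (S.res s)
  refine ⟨r, ?_⟩
  change Ideal.Quotient.mk _ (f r) = Ideal.Quotient.mk _ s
  rw [Ideal.Quotient.eq]
  have : (IsLocalRing.maximalIdeal R.carrier).map (f : R.carrier →+* S.carrier) =
      IsLocalRing.maximalIdeal S.carrier := heq
  rw [this, CRing.mem_maximalIdeal_iff, map_sub]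
  have h2 : S.res (f r) = R.res r := congrArg (fun t : R.carrier →ₐ[Λ] k => t r) hf
  rw [h2, hr, sub_self]

end Groth.Agent.Lib.Helper65
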