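import Groth.Agent.Lib.Helper65.ArtBasic

/-!
# Helper65: fibre-product squares in `ArtFun.Art Λ k` and dévissage along small extensions
-/

set_option autoImplicit false
universe u v
open CategoryTheory

namespace Groth.Agent.Lib.Helper65

open ArtFun ArtFun.Art

variable {Λ : Type u} {k : Type u} [CommRing Λ] [Field k] [Algebra Λ k]

/-- If `f''` is bijective in a fibre-product square then `p'` is bijective. -/
theorem isFibreProd_bijective_fst {B A A' A'' : Art Λ k} {p' : B ⟶ A'} {p'' : B ⟶ A''} {f' : A' ⟶ A}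
    {f'' : A'' ⟶ A} (h : IsFibreProd p' p'' f' f'') (hf : Function.Bijective f'') :
    Function.Bijective p' := by
  constructor
  · intro b₁ b₂ hb
    apply h.inj b₁ b₂ hb
    apply hf.1
    rw [← h.w_apply, ← h.w_apply, hb]
  · intro a'
    obtain ⟨a'', ha''⟩ := hf.2 (f' a')
    obtain ⟨b, hb, -⟩ := h.surj a' a'' ha''.symm
    exact ⟨b, hb⟩

/-- Factor a fibre-product square over a composite `pc ≫ q` (with `pc` surjective) into two fibre-product squares. -/
theorem isFibreProd_factor {B A A' C B₀ : Art Λ k} {p' : B ⟶ A'} {p'' : B ⟶ C} {f' : A' ⟶ A}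
    (pc : C ⟶ B₀) (q : B₀ ⟶ A) (hpc : Function.Surjective pc)
    (h : IsFibreProd p' p'' f' (pc ≫ q)) :
    ∃ (B₁ : Art Λ k) (r : B ⟶ B₁) (p₁' : B₁ ⟶ A') (p₁'' : B₁ ⟶ B₀),
      r ≫ p₁' = p' ∧ ∃ (h₁ : IsFibreProd p₁' p₁'' f' q), ∃ (h₂ : IsFibreProd r p'' p₁'' pc), True := by
  set K : Ideal B := RingHom.ker p'.toAlgHom ⊓ RingHom.ker (p'' ≫ pc).toAlgHom with hKdef
  have hK : K ≤ IsLocalRing.maximalIdeal B := inf_le_left.trans (art_ker_le_maximalIdeal p')
  have hr1 : quotMk B K hK ≫ quotFactor hK p' inf_le_left = p' := quotMk_quotFactor hK p' inf_le_left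
  have hr2 : quotMk B K hK ≫ quotFactor hK (p'' ≫ pc) inf_le_right = p'' ≫ pc :=
    quotMk_quotFactor hK (p'' ≫ pc) inf_le_right
  have hw : ∀ b : B, f'.toAlgHom (p'.toAlgHom b) = q.toAlgHom (pc.toAlgHom (p''.toAlgHom b)) :=
    fun b => h.w_apply b
  have hmemK : ∀ b : B, b ∈ K ↔ p'.toAlgHom b = 0 ∧ pc.toAlgHom (p''.toAlgHom b) = 0 := by
    intro b
    rw [hKdef, Ideal.mem_inf, RingHom.mem_ker, RingHom.mem_ker]
    rfl
  have h₁ : IsFibreProd (quotFactor hK p' inf_le_left) (quotFactor hK (p'' ≫ pc) inf_le_right) f' q := by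
    refine ⟨?_, ?_, ?_⟩
    · apply Art.hom_ext
      apply AlgHom.ext
      intro y
      obtain ⟨b, rfl⟩ := quotMk_toAlgHom_surjective B hK y
      exact hw b
    · intro y₁ y₂ e₁ e₂
      obtain ⟨b₁, rfl⟩ := quotMk_toAlgHom_surjective B hK y₁
      obtain ⟨b₂, rfl⟩ := quotMk_toAlgHom_surjective B hK y₂
      have e₁' : p'.toAlgHom b₁ = p'.toAlgHom b₂ := e₁
      have e₂' : pc.toAlgHom (p''.toAlgHom b₁) = pc.toAlgHom (p''.toAlgHom b₂) := e₂
      rw [quotMk_eq_iff, hmemK, map_sub, map_sub, map_sub, e₁', e₂', sub_self, sub_self]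
      exact ⟨rfl, rfl⟩
    · intro a' b₀ e
      obtain ⟨c, rfl⟩ := hpc b₀
      obtain ⟨b, hb₁, hb₂⟩ := h.surj a' c e
      refine ⟨(quotMk B K hK).toAlgHom b, hb₁, ?_⟩
      change pc.toAlgHom (p''.toAlgHom b) = pc.toAlgHom c
      rw [show p''.toAlgHom b = c from hb₂]
  have h₂ : IsFibreProd (quotMk B K hK) p'' (quotFactor hK (p'' ≫ pc) inf_le_right) pc := by
    refine ⟨hr2, ?_, ?_⟩
    · intro b₁ b₂ e₁ e₂
      apply h.inj b₁ b₂ _ e₂
      have := congrArg (quotFactor hK p' inf_le_left).toAlgHom e₁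
      exact this
    · intro y c e
      obtain ⟨b₀, rfl⟩ := quotMk_toAlgHom_surjective B hK y
      have e' : pc.toAlgHom (p''.toAlgHom b₀) = pc.toAlgHom c := e
      have hfc : f' (p'.toAlgHom b₀) = (pc ≫ q) c := by
        change f'.toAlgHom (p'.toAlgHom b₀) = q.toAlgHom (pc.toAlgHom c)
        rw [hw b₀, e']
      obtain ⟨b, hb₁, hb₂⟩ := h.surj (p'.toAlgHom b₀) c hfc
      refine ⟨b, ?_, hb₂⟩
      change (quotMk B K hK).toAlgHom b = (quotMk B K hK).toAlgHom b₀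
      have hb₁' : p'.toAlgHom b = p'.toAlgHom b₀ := hb₁
      have hb₂' : p''.toAlgHom b = c := hb₂
      rw [quotMk_eq_iff, hmemK, map_sub, map_sub, map_sub, hb₁', hb₂', e', sub_self, sub_self]
      exact ⟨rfl, rfl⟩
  exact ⟨quot B K hK, quotMk B K hK, quotFactor hK p' inf_le_left,
    quotFactor hK (p'' ≫ pc) inf_le_right, hr1, h₁, h₂, trivial⟩

section Cmp

variable (F : Art Λ k ⥤ Type v)

/-- The comparison map of a fibre-product square with `f''` an isomorphism is bijective. -/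
theorem cmp_bijective_of_isIso {B A A' A'' : Art Λ k} {p' : B ⟶ A'} {p'' : B ⟶ A''} {f' : A' ⟶ A}
    {f'' : A'' ⟶ A} (h : IsFibreProd p' p'' f' f'') (hf : IsIso f'') :
    Function.Bijective (cmp F h) := by
  have hfb : Function.Bijective f'' := by
    constructor
    · intro a b hab
      have := congrArg (inv f'').toAlgHom hab
      have e : ∀ x, (inv f'').toAlgHom (f''.toAlgHom x) = x := by
        intro x
        change (f'' ≫ inv f'') x = x
        rw [IsIso.hom_inv_id]; rfl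
      rwa [e, e] at this
    · intro a
      refine ⟨(inv f'').toAlgHom a, ?_⟩
      change (inv f'' ≫ f'') a = a
      rw [IsIso.inv_hom_id]; rfl
  haveI : IsIso p' := art_isIso_of_bijective p' (isFibreProd_bijective_fst h hfb)
  have hp'' : p'' = p' ≫ f' ≫ inv f'' := by
    rw [← Category.assoc, h.w, Category.assoc, IsIso.hom_inv_id, Category.comp_id]
  constructor
  · intro z w hzw
    have h1 : F.map p' z = F.map p' w := congrArg (fun t => t.1.1) hzw
    have := congrArg (F.map (inv p')) h1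
    simp only [← FunctorToTypes.map_comp_apply, IsIso.hom_inv_id, FunctorToTypes.map_id_apply] at this
    exact this
  · rintro ⟨⟨x', x''⟩, hx⟩
    refine ⟨F.map (inv p') x', Subtype.ext (Prod.ext ?_ ?_)⟩
    · change F.map p' (F.map (inv p') x') = x'
      rw [← FunctorToTypes.map_comp_apply, IsIso.inv_hom_id, FunctorToTypes.map_id_apply]
    · change F.map p'' (F.map (inv p') x') = x''
      have hx' : F.map f' x' = F.map f'' x'' := hx
      rw [hp'', ← FunctorToTypes.map_comp_apply, IsIso.inv_hom_id_assoc, FunctorToTypes.map_comp_apply,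
        hx', ← FunctorToTypes.map_comp_apply, IsIso.hom_inv_id, FunctorToTypes.map_id_apply]

/-- Surjectivity of the comparison map passes to composites. -/
theorem cmp_surjective_comp {B B₁ A A' C B₀ : Art Λ k} {p' : B ⟶ A'} {p'' : B ⟶ C} {f' : A' ⟶ A}
    {pc : C ⟶ B₀} {q : B₀ ⟶ A} {r : B ⟶ B₁} {p₁' : B₁ ⟶ A'} {p₁'' : B₁ ⟶ B₀}
    (h : IsFibreProd p' p'' f' (pc ≫ q)) (hr : r ≫ p₁' = p')
    (h₁ : IsFibreProd p₁' p₁'' f' q) (h₂ : IsFibreProd r p'' p₁'' pc)
    (s₁ : Function.Surjective (cmp F h₁)) (s₂ : Function.Surjective (cmp F h₂)) :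
    Function.Surjective (cmp F h) := by
  rintro ⟨⟨x', x''⟩, hx⟩
  have hx' : F.map f' x' = F.map q (F.map pc x'') := by
    have : F.map f' x' = F.map (pc ≫ q) x'' := hx
    rw [this, FunctorToTypes.map_comp_apply]
  obtain ⟨z₁, hz₁⟩ := s₁ ⟨(x', F.map pc x''), hx'⟩
  have hz₁a : F.map p₁' z₁ = x' := congrArg (fun t => t.1.1) hz₁
  have hz₁b : F.map p₁'' z₁ = F.map pc x'' := congrArg (fun t => t.1.2) hz₁
  obtain ⟨z, hz⟩ := s₂ ⟨(z₁, x''), hz₁b⟩
  have hza : F.map r z = z₁ := congrArg (fun t => t.1.1) hz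
  have hzb : F.map p'' z = x'' := congrArg (fun t => t.1.2) hz
  refine ⟨z, Subtype.ext (Prod.ext ?_ hzb)⟩
  change F.map p' z = x'
  rw [← hr, FunctorToTypes.map_comp_apply, hza, hz₁a]

/-- Injectivity of the comparison map passes to composites. -/
theorem cmp_injective_comp {B B₁ A A' C B₀ : Art Λ k} {p' : B ⟶ A'} {p'' : B ⟶ C} {f' : A' ⟶ A}
    {pc : C ⟶ B₀} {q : B₀ ⟶ A} {r : B ⟶ B₁} {p₁' : B₁ ⟶ A'} {p₁'' : B₁ ⟶ B₀}
    (h : IsFibreProd p' p'' f' (pc ≫ q)) (hr : r ≫ p₁' = p')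
    (h₁ : IsFibreProd p₁' p₁'' f' q) (h₂ : IsFibreProd r p'' p₁'' pc)
    (s₁ : Function.Injective (cmp F h₁)) (s₂ : Function.Injective (cmp F h₂)) :
    Function.Injective (cmp F h) := by
  intro z w hzw
  have e1 : F.map p' z = F.map p' w := congrArg (fun t => t.1.1) hzw
  have e2 : F.map p'' z = F.map p'' w := congrArg (fun t => t.1.2) hzw
  apply s₂
  apply FibProd.ext _ e2
  apply s₁
  apply FibProd.ext
  · change F.map p₁' (F.map r z) = F.map p₁' (F.map r w)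
    rw [← FunctorToTypes.map_comp_apply, ← FunctorToTypes.map_comp_apply, hr, e1]
  · change F.map p₁'' (F.map r z) = F.map p₁'' (F.map r w)
    rw [← FunctorToTypes.map_comp_apply, ← FunctorToTypes.map_comp_apply, h₂.w,
      FunctorToTypes.map_comp_apply, FunctorToTypes.map_comp_apply, e2]

/-- Dévissage: a property of comparison maps holding for isomorphisms and small extensions and stable under the
two-step factorisation holds for all surjections.  Surjective version. -/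
theorem cmp_surjective_of_smallExt
    (hs : ∀ ⦃B A A' A'' : Art Λ k⦄ (p' : B ⟶ A') (p'' : B ⟶ A'') (f' : A' ⟶ A) (f'' : A'' ⟶ A)
      (h : IsFibreProd p' p'' f' f''), IsSmallExt f'' → Function.Surjective (cmp F h))
    ⦃B A A' A'' : Art Λ k⦄ (p' : B ⟶ A') (p'' : B ⟶ A'') (f' : A' ⟶ A) (f'' : A'' ⟶ A)
    (h : IsFibreProd p' p'' f' f'') (hf : Function.Surjective f'') : Function.Surjective (cmp F h) := by
  have key := art_surjective_induction (Λ := Λ) (k := k)
    (fun A A'' f'' => Function.Surjective f'' ∧ ∀ ⦃B A' : Art Λ k⦄ (p' : B ⟶ A') (p'' : B ⟶ A'') (f' : A' ⟶ A)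
      (h : IsFibreProd p' p'' f' f''), Function.Surjective (cmp F h)) ?_ ?_ ?_ f'' hf
  · exact key.2 p' p'' f' h
  · intro A A'' e he
    refine ⟨?_, fun B A' p' p'' f' h => (cmp_bijective_of_isIso F h he).2⟩
    intro a
    refine ⟨(inv e).toAlgHom a, ?_⟩
    change (inv e ≫ e) a = a
    rw [IsIso.inv_hom_id]; rfl
  · intro A A'' p hp
    exact ⟨hp.1, fun B A' p' p'' f' h => hs p' p'' f' p h hp⟩
  · intro A B₀ C pc q hpc hq
    refine ⟨fun a => ?_, ?_⟩
    · obtain ⟨b, rfl⟩ := hq.1 a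
      obtain ⟨c, rfl⟩ := hpc.1 b
      exact ⟨c, rfl⟩
    · intro B A' p' p'' f' h
      obtain ⟨B₁, r, p₁', p₁'', hr, h₁, h₂, -⟩ := isFibreProd_factor pc q hpc.1 h
      exact cmp_surjective_comp F h hr h₁ h₂ (hq.2 _ _ _ h₁) (hpc.2 _ _ _ h₂)

/-- Bijective version of the dévissage. -/
theorem cmp_bijective_of_smallExt
    (hs : ∀ ⦃B A A' A'' : Art Λ k⦄ (p' : B ⟶ A') (p'' : B ⟶ A'') (f' : A' ⟶ A) (f'' : A'' ⟶ A)
      (h : IsFibreProd p' p'' f' f''), IsSmallExt f'' → Function.Bijective (cmp F h))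
    ⦃B A A' A'' : Art Λ k⦄ (p' : B ⟶ A') (p'' : B ⟶ A'') (f' : A' ⟶ A) (f'' : A'' ⟶ A)
    (h : IsFibreProd p' p'' f' f'') (hf : Function.Surjective f'') : Function.Bijective (cmp F h) := by
  have key := art_surjective_induction (Λ := Λ) (k := k)
    (fun A A'' f'' => Function.Surjective f'' ∧ ∀ ⦃B A' : Art Λ k⦄ (p' : B ⟶ A') (p'' : B ⟶ A'') (f' : A' ⟶ A)
      (h : IsFibreProd p' p'' f' f''), Function.Bijective (cmp F h)) ?_ ?_ ?_ f'' hf
  · exact key.2 p' p'' f' h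
  · intro A A'' e he
    refine ⟨?_, fun B A' p' p'' f' h => cmp_bijective_of_isIso F h he⟩
    intro a
    refine ⟨(inv e).toAlgHom a, ?_⟩
    change (inv e ≫ e) a = a
    rw [IsIso.inv_hom_id]; rfl
  · intro A A'' p hp
    exact ⟨hp.1, fun B A' p' p'' f' h => hs p' p'' f' p h hp⟩
  · intro A B₀ C pc q hpc hq
    refine ⟨fun a => ?_, ?_⟩
    · obtain ⟨b, rfl⟩ := hq.1 a
      obtain ⟨c, rfl⟩ := hpc.1 b
      exact ⟨c, rfl⟩
    · intro B A' p' p'' f' h
      obtain ⟨B₁, r, p₁', p₁'', hr, h₁, h₂, -⟩ := isFibreProd_factor pc q hpc.1 h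
      exact ⟨cmp_injective_comp F h hr h₁ h₂ (hq.2 _ _ _ h₁).1 (hpc.2 _ _ _ h₂).1,
        cmp_surjective_comp F h hr h₁ h₂ (hq.2 _ _ _ h₁).2 (hpc.2 _ _ _ h₂).2⟩

end Cmp

end Groth.Agent.Lib.Helper65

namespace Groth.Agent.Lib.Helper65

open ArtFun ArtFun.Art

variable {Λ : Type u} {k : Type u} [CommRing Λ] [Field k] [Algebra Λ k]

/-- Universal property of a fibre-product square of `Art Λ k` with respect to augmented algebra maps. -/
theorem isFibreProd_lift {R : Type u} [CommRing R] [Algebra Λ R] {resR : R →ₐ[Λ] k}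
    {B A A' A'' : Art Λ k} {p' : B ⟶ A'} {p'' : B ⟶ A''} {f' : A' ⟶ A} {f'' : A'' ⟶ A}
    (h : IsFibreProd p' p'' f' f'') (ψ' : HomSet R resR A') (ψ'' : HomSet R resR A'')
    (e : HomSet.map f' ψ' = HomSet.map f'' ψ'') :
    ∃ ψ : HomSet R resR B, HomSet.map p' ψ = ψ' ∧ HomSet.map p'' ψ = ψ'' := by
  have e' : ∀ r : R, f'.toAlgHom (ψ'.1 r) = f''.toAlgHom (ψ''.1 r) := by
    intro r
    have := congrArg (fun t : HomSet R resR A => t.1 r) e
    exact this
  have hex : ∀ r : R, ∃ b : B, p'.toAlgHom b = ψ'.1 r ∧ p''.toAlgHom b = ψ''.1 r :=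
    fun r => h.surj _ _ (e' r)
  let σ : R → B := fun r => (hex r).choose
  have hσ1 : ∀ r, p'.toAlgHom (σ r) = ψ'.1 r := fun r => (hex r).choose_spec.1
  have hσ2 : ∀ r, p''.toAlgHom (σ r) = ψ''.1 r := fun r => (hex r).choose_spec.2
  have hinj : ∀ b b' : B, p'.toAlgHom b = p'.toAlgHom b' → p''.toAlgHom b = p''.toAlgHom b' → b = b' :=
    fun b b' e1 e2 => h.inj b b' e1 e2
  let ψ₀ : R →ₐ[Λ] B :=
    { toFun := σ
      map_one' := hinj _ _ (by rw [hσ1, map_one, map_one]) (by rw [hσ2, map_one, map_one])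
      map_mul' := fun a b => hinj _ _ (by rw [hσ1, map_mul, map_mul, hσ1, hσ1])
        (by rw [hσ2, map_mul, map_mul, hσ2, hσ2])
      map_zero' := hinj _ _ (by rw [hσ1, map_zero, map_zero]) (by rw [hσ2, map_zero, map_zero])
      map_add' := fun a b => hinj _ _ (by rw [hσ1, map_add, map_add, hσ1, hσ1])
        (by rw [hσ2, map_add, map_add, hσ2, hσ2])
      commutes' := fun r => hinj _ _ (by rw [hσ1, AlgHom.commutes, AlgHom.commutes])
        (by rw [hσ2, AlgHom.commutes, AlgHom.commutes]) }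
  have hψ₀ : ∀ r, ψ₀ r = σ r := fun r => rfl
  have hres : B.res.comp ψ₀ = resR := by
    apply AlgHom.ext
    intro r
    change B.res (ψ₀ r) = resR r
    rw [hψ₀, ← Art.res_app p', hσ1]
    exact congrArg (fun t : R →ₐ[Λ] k => t r) ψ'.2
  refine ⟨⟨ψ₀, hres⟩, ?_, ?_⟩
  · apply Subtype.ext
    apply AlgHom.ext
    intro r
    exact hσ1 r
  · apply Subtype.ext
    apply AlgHom.ext
    intro r
    exact hσ2 r

/-- A versal family over an `H0` functor is surjective on every object. -/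
theorem versal_app_surjective {R : Type u} [CommRing R] [Algebra Λ R] {resR : R →ₐ[Λ] k}
    {F : Art Λ k ⥤ Type v} (h0 : H0 F) (ξ : Family R resR F) (hξ : IsVersal ξ) (A : Art Λ k) :
    Function.Surjective (ξ.app A) := by
  intro x
  let φ₀ : HomSet R resR (base Λ k) := ⟨resR, AlgHom.id_comp _⟩
  have := hξ (toBase A) A.res_surjective φ₀ x (h0.2.elim _ _)
  obtain ⟨ψ, -, hψ⟩ := this
  exact ⟨ψ, hψ⟩

/-- `H0` and a versal family give condition (S1). -/
theorem s1_of_versal {R : Type u} [CommRing R] [Algebra Λ R] {resR : R →ₐ[Λ] k}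
    {F : Art Λ k ⥤ Type v} (h0 : H0 F) (ξ : Family R resR F) (hξ : IsVersal ξ) : S1 F := by
  intro B A A' A'' p' p'' f' f'' h hf''
  rintro ⟨⟨x', x''⟩, hx⟩
  have hx' : F.map f' x' = F.map f'' x'' := hx
  obtain ⟨ψ', hψ'⟩ := versal_app_surjective h0 ξ hξ A' x'
  have h1 : F.map f'' x'' = ξ.app A (HomSet.map f' ψ') := by
    rw [ξ.natural, hψ', hx']
  obtain ⟨ψ'', hψ''1, hψ''2⟩ := hξ f'' hf'' (HomSet.map f' ψ') x'' h1
  obtain ⟨ψ, hψ1, hψ2⟩ := isFibreProd_lift h ψ' ψ'' hψ''1.symm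
  refine ⟨ξ.app B ψ, Subtype.ext (Prod.ext ?_ ?_)⟩
  · change F.map p' (ξ.app B ψ) = x'
    rw [← ξ.natural, hψ1, hψ']
  · change F.map p'' (ξ.app B ψ) = x''
    rw [← ξ.natural, hψ2, hψ''2]

end Groth.Agent.Lib.Helper65

namespace Groth.Agent.Lib.Helper65

open ArtFun ArtFun.Art

variable {Λ : Type u} {k : Type u} [CommRing Λ] [Field k] [Algebra Λ k]

/-- A fibre-product square of `Art Λ k` is a pullback square in the category: existence of lifts. -/
theorem isFibreProd_lift_hom {C B A A' A'' : Art Λ k} {p' : B ⟶ A'} {p'' : B ⟶ A''} {f' : A' ⟶ A}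
    {f'' : A'' ⟶ A} (h : IsFibreProd p' p'' f' f'') (g' : C ⟶ A') (g'' : C ⟶ A'')
    (e : g' ≫ f' = g'' ≫ f'') : ∃ g : C ⟶ B, g ≫ p' = g' ∧ g ≫ p'' = g'' := by
  let ψ' : HomSet C.carrier C.res A' := ⟨g'.toAlgHom, g'.res_comp⟩
  let ψ'' : HomSet C.carrier C.res A'' := ⟨g''.toAlgHom, g''.res_comp⟩
  have e' : HomSet.map f' ψ' = HomSet.map f'' ψ'' := by
    apply Subtype.ext
    exact congrArg Art.Hom.toAlgHom e
  obtain ⟨ψ, h1, h2⟩ := isFibreProd_lift h ψ' ψ'' e'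
  refine ⟨⟨ψ.1, ψ.2⟩, ?_, ?_⟩
  · apply Art.hom_ext
    exact congrArg Subtype.val h1
  · apply Art.hom_ext
    exact congrArg Subtype.val h2

/-- Uniqueness of lifts into a fibre-product square. -/
theorem isFibreProd_hom_ext {C B A A' A'' : Art Λ k} {p' : B ⟶ A'} {p'' : B ⟶ A''} {f' : A' ⟶ A}
    {f'' : A'' ⟶ A} (h : IsFibreProd p' p'' f' f'') (g₁ g₂ : C ⟶ B)
    (e' : g₁ ≫ p' = g₂ ≫ p') (e'' : g₁ ≫ p'' = g₂ ≫ p'') : g₁ = g₂ := by
  apply Art.hom_ext
  apply AlgHom.ext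
  intro c
  apply h.inj
  · exact congrArg (fun t : C ⟶ A' => t.toAlgHom c) e'
  · exact congrArg (fun t : C ⟶ A'' => t.toAlgHom c) e''

end Groth.Agent.Lib.Helper65
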