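import Groth.Agent.Lib.Helper65.ArtBasic
import Groth.Agent.Lib.Helper65.ArtFibre

/-!
# Helper65: quotient objects `B/J` of `Art Λ k` and fibre products among them
-/

set_option autoImplicit false
universe u v
open CategoryTheory

namespace Groth.Agent.Lib.Helper65

open ArtFun ArtFun.Art

variable {Λ : Type u} {k : Type u} [CommRing Λ] [Field k] [Algebra Λ k]

/-- `B/(J ⊓ K) = B/J ×_{A} B/K` when `f : B → A` is surjective with kernel `J ⊔ K`. -/
theorem quot_isFibreProd {A B : Art Λ k} (f : B ⟶ A) {J K : Ideal B}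
    (hJ : J ≤ IsLocalRing.maximalIdeal B) (hK : K ≤ IsLocalRing.maximalIdeal B)
    (hker : RingHom.ker f.toAlgHom = J ⊔ K) :
    IsFibreProd (quotTrans B hJ (inf_le_left : J ⊓ K ≤ J)) (quotTrans B hK (inf_le_right : J ⊓ K ≤ K))
      (quotFactor hJ f (hker ▸ le_sup_left)) (quotFactor hK f (hker ▸ le_sup_right)) := by
  refine ⟨?_, ?_, ?_⟩
  · rw [quotTrans_quotFactor, quotTrans_quotFactor]
  · intro b₁ b₂ h1 h2
    obtain ⟨c₁, rfl⟩ := quotMk_toAlgHom_surjective B ((inf_le_left : J ⊓ K ≤ J).trans hJ) b₁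
    obtain ⟨c₂, rfl⟩ := quotMk_toAlgHom_surjective B ((inf_le_left : J ⊓ K ≤ J).trans hJ) b₂
    have h1' : (quotMk B J hJ).toAlgHom c₁ = (quotMk B J hJ).toAlgHom c₂ := h1
    have h2' : (quotMk B K hK).toAlgHom c₁ = (quotMk B K hK).toAlgHom c₂ := h2
    rw [quotMk_eq_iff] at h1' h2'
    exact (quotMk_eq_iff B _ c₁ c₂).2 ⟨h1', h2'⟩
  · intro a' a'' h
    obtain ⟨c', rfl⟩ := quotMk_toAlgHom_surjective B hJ a'
    obtain ⟨c'', rfl⟩ := quotMk_toAlgHom_surjective B hK a''
    have h' : f.toAlgHom c' = f.toAlgHom c'' := h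
    have hmem : c' - c'' ∈ J ⊔ K := by
      rw [← hker, RingHom.mem_ker, map_sub, h', sub_self]
    obtain ⟨j, hj, κ, hκ, hjk⟩ := Submodule.mem_sup.1 hmem
    refine ⟨(quotMk B (J ⊓ K) ((inf_le_left : J ⊓ K ≤ J).trans hJ)).toAlgHom (c' - j), ?_, ?_⟩
    · change (quotMk B J hJ).toAlgHom (c' - j) = (quotMk B J hJ).toAlgHom c'
      rw [quotMk_eq_iff]
      simpa using J.neg_mem hj
    · change (quotMk B K hK).toAlgHom (c' - j) = (quotMk B K hK).toAlgHom c''
      rw [quotMk_eq_iff]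
      have : c' - j - c'' = κ := by
        have : c' - j - c'' = (c' - c'') - j := by ring
        rw [this, ← hjk]; ring
      rw [this]; exact hκ

/-- `quotFactor` of a surjection along its full kernel is an isomorphism. -/
theorem quotFactor_ker_isIso {A B : Art Λ k} (f : B ⟶ A) (hf : Function.Surjective f) :
    IsIso (quotFactor (art_ker_le_maximalIdeal f) f le_rfl) := by
  apply art_isIso_of_bijective
  constructor
  · intro y₁ y₂ h
    obtain ⟨b₁, rfl⟩ := quotMk_toAlgHom_surjective B (art_ker_le_maximalIdeal f) y₁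
    obtain ⟨b₂, rfl⟩ := quotMk_toAlgHom_surjective B (art_ker_le_maximalIdeal f) y₂
    have h' : f.toAlgHom b₁ = f.toAlgHom b₂ := h
    rw [quotMk_eq_iff, RingHom.mem_ker, map_sub, h', sub_self]
  · intro a
    obtain ⟨b, rfl⟩ := hf a
    exact ⟨(quotMk B _ (art_ker_le_maximalIdeal f)).toAlgHom b, rfl⟩

end Groth.Agent.Lib.Helper65
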