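import Groth.Agent.Lib.Helper65.ArtBasic
import Mathlib.RingTheory.Finiteness.Finsupp
import Mathlib.RingTheory.Noetherian.Basic
import Mathlib.RingTheory.LocalRing.Pullback

/-!
# Helper65: objects of `ArtFun.Art Λ k` are finite `Λ`-modules when `k` is; existence of fibre products
-/

set_option autoImplicit false
universe u v
open CategoryTheory

namespace Groth.Agent.Lib.Helper65

open ArtFun ArtFun.Art

variable {Λ : Type u} {k : Type u} [CommRing Λ] [Field k] [Algebra Λ k]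

/-- A small extension of a finite `Λ`-module is a finite `Λ`-module. -/
theorem moduleFinite_of_isSmallExt [Module.Finite Λ k] {A B : Art Λ k} (f : B ⟶ A) (hf : IsSmallExt f)
    (hA : Module.Finite Λ A) : Module.Finite Λ B := by
  obtain ⟨hsurj, -, ⟨⟨t, ht⟩⟩, hm⟩ := hf
  have htker : t ∈ RingHom.ker f.toAlgHom := by
    rw [ht]; exact Submodule.mem_span_singleton_self t
  have hmt : ∀ m ∈ IsLocalRing.maximalIdeal B, m * t = 0 := by
    intro m hm'
    have : m * t ∈ IsLocalRing.maximalIdeal B * RingHom.ker f.toAlgHom := Ideal.mul_mem_mul hm' htker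
    rw [hm, Ideal.mem_bot] at this
    exact this
  let N : Submodule Λ B := LinearMap.ker f.toAlgHom.toLinearMap
  have hmemN : ∀ b : B, b ∈ N ↔ f.toAlgHom b = 0 := fun b => Iff.rfl
  haveI : Module.Finite Λ (B ⧸ N) :=
    Module.Finite.equiv (f.toAlgHom.toLinearMap.quotKerEquivOfSurjective hsurj).symm
  -- the map `b ↦ b * t` into `N`
  let g₀ : B →ₗ[Λ] N := LinearMap.codRestrict N (LinearMap.mulRight Λ t) (fun b => by
    rw [hmemN, LinearMap.mulRight_apply, map_mul, RingHom.mem_ker.1 htker, mul_zero])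
  have hg₀ : ∀ b : B, (g₀ b : B) = b * t := fun b => rfl
  have hker : LinearMap.ker B.res.toLinearMap ≤ LinearMap.ker g₀ := by
    intro b hb
    have hb' : B.res b = 0 := hb
    rw [LinearMap.mem_ker]
    apply Subtype.ext
    rw [hg₀]
    exact hmt b ((Art.mem_maximalIdeal_iff B b).2 hb')
  let g₁ : (B ⧸ LinearMap.ker B.res.toLinearMap) →ₗ[Λ] N :=
    Submodule.liftQ _ g₀ hker
  let e : (B ⧸ LinearMap.ker B.res.toLinearMap) ≃ₗ[Λ] k :=
    B.res.toLinearMap.quotKerEquivOfSurjective B.res_surjective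
  have hg₁ : Function.Surjective (g₁.comp e.symm.toLinearMap) := by
    intro ⟨n, hn⟩
    have hn' : n ∈ RingHom.ker f.toAlgHom := RingHom.mem_ker.2 ((hmemN n).1 hn)
    rw [ht] at hn'
    obtain ⟨c, hc⟩ := Submodule.mem_span_singleton.1 hn'
    refine ⟨e (Submodule.Quotient.mk c), ?_⟩
    apply Subtype.ext
    rw [LinearMap.comp_apply]
    change (g₁ (e.symm (e (Submodule.Quotient.mk c))) : B) = n
    rw [e.symm_apply_apply]
    change (g₀ c : B) = n
    rw [hg₀]
    exact hc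
  haveI : Module.Finite Λ N := Module.Finite.of_surjective _ hg₁
  exact Module.Finite.of_submodule_quotient N

/-- Every object of `Art Λ k` is a finite `Λ`-module, if `k` is. -/
theorem art_moduleFinite [Module.Finite Λ k] (A : Art Λ k) : Module.Finite Λ A := by
  have key := art_surjective_induction (Λ := Λ) (k := k)
    (fun A B _ => Module.Finite Λ A → Module.Finite Λ B) ?_ ?_ ?_ (toBase A) A.res_surjective
  · exact key (inferInstanceAs (Module.Finite Λ k))
  · intro A B e he hA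
    let e' : A →ₗ[Λ] B := (inv e).toAlgHom.toLinearMap
    have : Function.Surjective e' := by
      intro b
      refine ⟨e.toAlgHom b, ?_⟩
      change (e ≫ inv e) b = b
      rw [IsIso.hom_inv_id]; rfl
    exact Module.Finite.of_surjective e' this
  · intro A B p hp hA
    exact moduleFinite_of_isSmallExt p hp hA
  · intro A B C p q hp hq hA
    exact hp (hq hA)

end Groth.Agent.Lib.Helper65

namespace Groth.Agent.Lib.Helper65

open ArtFun ArtFun.Art

variable {Λ : Type u} {k : Type u} [CommRing Λ] [Field k] [Algebra Λ k]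

/-- Fibre products exist in `Art Λ k` along a surjection (when `Λ` is Noetherian and `k` finite over `Λ`). -/
theorem art_exists_isFibreProd [IsNoetherianRing Λ] [Module.Finite Λ k]
    {A A₁ A₂ : Art Λ k} (f₁ : A₁ ⟶ A) (f₂ : A₂ ⟶ A) (hf₂ : Function.Surjective f₂) :
    ∃ (B : Art Λ k) (p₁ : B ⟶ A₁) (p₂ : B ⟶ A₂), IsFibreProd p₁ p₂ f₁ f₂ := by
  let P : Subalgebra Λ (A₁ × A₂) := AlgHom.pullback f₁.toAlgHom f₂.toAlgHom
  have hmemP : ∀ x : A₁ × A₂, x ∈ P ↔ f₁.toAlgHom x.1 = f₂.toAlgHom x.2 := fun x => Iff.rfl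
  haveI : IsLocalHom f₂.toAlgHom := Art.isLocalHom f₂
  haveI : IsLocalRing P := AlgHom.isLocalRing_pullback f₁.toAlgHom f₂.toAlgHom
  haveI : Module.Finite Λ A₁ := art_moduleFinite A₁
  haveI : Module.Finite Λ A₂ := art_moduleFinite A₂
  haveI : IsNoetherian Λ (A₁ × A₂) := isNoetherian_of_isNoetherianRing_of_finite Λ (A₁ × A₂)
  haveI : Module.Finite Λ P := Module.Finite.of_injective P.val.toLinearMap Subtype.val_injective
  haveI : IsNoetherianRing P := IsNoetherianRing.of_finite Λ P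
  let π₁ : P →ₐ[Λ] A₁ := AlgHom.pullbackFst f₁.toAlgHom f₂.toAlgHom
  let π₂ : P →ₐ[Λ] A₂ := AlgHom.pullbackSnd f₁.toAlgHom f₂.toAlgHom
  have hπ₁ : Function.Surjective π₁ :=
    AlgHom.surjective_pullbackFst_of_surjective f₁.toAlgHom f₂.toAlgHom hf₂
  let resP : P →ₐ[Λ] k := A₁.res.comp π₁
  have hresP : Function.Surjective resP := A₁.res_surjective.comp hπ₁
  have hres₂ : A₂.res.comp π₂ = resP := by
    apply AlgHom.ext
    rintro ⟨⟨a₁, a₂⟩, hx⟩
    change A₂.res a₂ = A₁.res a₁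
    have hx' : f₁.toAlgHom a₁ = f₂.toAlgHom a₂ := hx
    rw [← Art.res_app f₂, ← hx', Art.res_app f₁]
  -- the maximal ideal of `P` is the kernel of `resP`
  have hmaxP : ∀ x : P, x ∈ IsLocalRing.maximalIdeal P → A₁.res (π₁ x) = 0 := by
    intro x hx
    have hmax : (RingHom.ker (resP : P →+* k)).IsMaximal :=
      RingHom.ker_isMaximal_of_surjective (resP : P →+* k) hresP
    rw [← IsLocalRing.eq_maximalIdeal hmax, RingHom.mem_ker] at hx
    exact hx
  have hle₁ : IsLocalRing.maximalIdeal P ≤ Ideal.comap π₁ (IsLocalRing.maximalIdeal A₁) := by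
    intro x hx
    rw [Ideal.mem_comap, Art.mem_maximalIdeal_iff]
    exact hmaxP x hx
  have hle₂ : IsLocalRing.maximalIdeal P ≤ Ideal.comap π₂ (IsLocalRing.maximalIdeal A₂) := by
    intro x hx
    rw [Ideal.mem_comap, Art.mem_maximalIdeal_iff]
    have := hmaxP x hx
    have h2 : A₂.res (π₂ x) = resP x := congrArg (fun t : P →ₐ[Λ] k => t x) hres₂
    rw [h2]; exact this
  haveI : IsArtinianRing P := by
    rw [isArtinianRing_iff_isNilpotent_maximalIdeal]
    obtain ⟨n₁, hn₁⟩ := art_maximalIdeal_nilpotent A₁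
    obtain ⟨n₂, hn₂⟩ := art_maximalIdeal_nilpotent A₂
    refine ⟨n₁ + n₂, ?_⟩
    rw [Ideal.zero_eq_bot, eq_bot_iff]
    intro x hx
    have h1 : π₁ x = 0 := by
      have : IsLocalRing.maximalIdeal P ^ (n₁ + n₂) ≤ Ideal.comap π₁ (IsLocalRing.maximalIdeal A₁ ^ n₁) :=
        calc IsLocalRing.maximalIdeal P ^ (n₁ + n₂) ≤ IsLocalRing.maximalIdeal P ^ n₁ :=
              Ideal.pow_le_pow_right (Nat.le_add_right _ _)
          _ ≤ (Ideal.comap π₁ (IsLocalRing.maximalIdeal A₁)) ^ n₁ := Ideal.pow_right_mono hle₁ n₁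
          _ ≤ Ideal.comap π₁ (IsLocalRing.maximalIdeal A₁ ^ n₁) := Ideal.le_comap_pow _ _
      have := this hx
      rw [hn₁, Ideal.mem_comap, Ideal.mem_bot] at this
      exact this
    have h2 : π₂ x = 0 := by
      have : IsLocalRing.maximalIdeal P ^ (n₁ + n₂) ≤ Ideal.comap π₂ (IsLocalRing.maximalIdeal A₂ ^ n₂) :=
        calc IsLocalRing.maximalIdeal P ^ (n₁ + n₂) ≤ IsLocalRing.maximalIdeal P ^ n₂ :=
              Ideal.pow_le_pow_right (Nat.le_add_left _ _)
          _ ≤ (Ideal.comap π₂ (IsLocalRing.maximalIdeal A₂)) ^ n₂ := Ideal.pow_right_mono hle₂ n₂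
          _ ≤ Ideal.comap π₂ (IsLocalRing.maximalIdeal A₂ ^ n₂) := Ideal.le_comap_pow _ _
      have := this hx
      rw [hn₂, Ideal.mem_comap, Ideal.mem_bot] at this
      exact this
    rw [Ideal.mem_bot]
    apply Subtype.ext
    exact Prod.ext h1 h2
  let B : Art Λ k := Art.of P resP hresP
  let p₁ : B ⟶ A₁ := ⟨π₁, rfl⟩
  let p₂ : B ⟶ A₂ := ⟨π₂, hres₂⟩
  refine ⟨B, p₁, p₂, ?_, ?_, ?_⟩
  · apply Art.hom_ext
    exact AlgHom.pullback_comm_sq f₁.toAlgHom f₂.toAlgHom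
  · intro b₁ b₂ h1 h2
    apply Subtype.ext
    exact Prod.ext h1 h2
  · intro a₁ a₂ h
    exact ⟨⟨(a₁, a₂), h⟩, rfl, rfl⟩

end Groth.Agent.Lib.Helper65

namespace Groth.Agent.Lib.Helper65

open ArtFun ArtFun.Art

variable {Λ : Type u} {k : Type u} [CommRing Λ] [Field k] [Algebra Λ k]

/-- Fibre products exist in `Art Λ k` as soon as the set-theoretic fibre product surjects onto `k`. -/
theorem art_exists_isFibreProd_of_res [IsNoetherianRing Λ] [Module.Finite Λ k]
    {A A₁ A₂ : Art Λ k} (f₁ : A₁ ⟶ A) (f₂ : A₂ ⟶ A)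
    (hres : ∀ c : k, ∃ (a₁ : A₁) (a₂ : A₂), f₁.toAlgHom a₁ = f₂.toAlgHom a₂ ∧ A₁.res a₁ = c) :
    ∃ (B : Art Λ k) (p₁ : B ⟶ A₁) (p₂ : B ⟶ A₂), IsFibreProd p₁ p₂ f₁ f₂ := by
  let P : Subalgebra Λ (A₁ × A₂) := AlgHom.pullback f₁.toAlgHom f₂.toAlgHom
  have hmemP : ∀ x : A₁ × A₂, x ∈ P ↔ f₁.toAlgHom x.1 = f₂.toAlgHom x.2 := fun x => Iff.rfl
  haveI : IsLocalHom f₂.toAlgHom := Art.isLocalHom f₂
  haveI : IsLocalRing P := AlgHom.isLocalRing_pullback f₁.toAlgHom f₂.toAlgHom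
  haveI : Module.Finite Λ A₁ := art_moduleFinite A₁
  haveI : Module.Finite Λ A₂ := art_moduleFinite A₂
  haveI : IsNoetherian Λ (A₁ × A₂) := isNoetherian_of_isNoetherianRing_of_finite Λ (A₁ × A₂)
  haveI : Module.Finite Λ P := Module.Finite.of_injective P.val.toLinearMap Subtype.val_injective
  haveI : IsNoetherianRing P := IsNoetherianRing.of_finite Λ P
  let π₁ : P →ₐ[Λ] A₁ := AlgHom.pullbackFst f₁.toAlgHom f₂.toAlgHom
  let π₂ : P →ₐ[Λ] A₂ := AlgHom.pullbackSnd f₁.toAlgHom f₂.toAlgHom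
  let resP : P →ₐ[Λ] k := A₁.res.comp π₁
  have hresP : Function.Surjective resP := by
    intro c
    obtain ⟨a₁, a₂, h12, hc⟩ := hres c
    exact ⟨⟨(a₁, a₂), h12⟩, hc⟩
  have hres₂ : A₂.res.comp π₂ = resP := by
    apply AlgHom.ext
    rintro ⟨⟨a₁, a₂⟩, hx⟩
    change A₂.res a₂ = A₁.res a₁
    have hx' : f₁.toAlgHom a₁ = f₂.toAlgHom a₂ := hx
    rw [← Art.res_app f₂, ← hx', Art.res_app f₁]
  -- the maximal ideal of `P` is the kernel of `resP`
  have hmaxP : ∀ x : P, x ∈ IsLocalRing.maximalIdeal P → A₁.res (π₁ x) = 0 := by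
    intro x hx
    have hmax : (RingHom.ker (resP : P →+* k)).IsMaximal :=
      RingHom.ker_isMaximal_of_surjective (resP : P →+* k) hresP
    rw [← IsLocalRing.eq_maximalIdeal hmax, RingHom.mem_ker] at hx
    exact hx
  have hle₁ : IsLocalRing.maximalIdeal P ≤ Ideal.comap π₁ (IsLocalRing.maximalIdeal A₁) := by
    intro x hx
    rw [Ideal.mem_comap, Art.mem_maximalIdeal_iff]
    exact hmaxP x hx
  have hle₂ : IsLocalRing.maximalIdeal P ≤ Ideal.comap π₂ (IsLocalRing.maximalIdeal A₂) := by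
    intro x hx
    rw [Ideal.mem_comap, Art.mem_maximalIdeal_iff]
    have := hmaxP x hx
    have h2 : A₂.res (π₂ x) = resP x := congrArg (fun t : P →ₐ[Λ] k => t x) hres₂
    rw [h2]; exact this
  haveI : IsArtinianRing P := by
    rw [isArtinianRing_iff_isNilpotent_maximalIdeal]
    obtain ⟨n₁, hn₁⟩ := art_maximalIdeal_nilpotent A₁
    obtain ⟨n₂, hn₂⟩ := art_maximalIdeal_nilpotent A₂
    refine ⟨n₁ + n₂, ?_⟩
    rw [Ideal.zero_eq_bot, eq_bot_iff]
    intro x hx
    have h1 : π₁ x = 0 := by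
      have : IsLocalRing.maximalIdeal P ^ (n₁ + n₂) ≤ Ideal.comap π₁ (IsLocalRing.maximalIdeal A₁ ^ n₁) :=
        calc IsLocalRing.maximalIdeal P ^ (n₁ + n₂) ≤ IsLocalRing.maximalIdeal P ^ n₁ :=
              Ideal.pow_le_pow_right (Nat.le_add_right _ _)
          _ ≤ (Ideal.comap π₁ (IsLocalRing.maximalIdeal A₁)) ^ n₁ := Ideal.pow_right_mono hle₁ n₁
          _ ≤ Ideal.comap π₁ (IsLocalRing.maximalIdeal A₁ ^ n₁) := Ideal.le_comap_pow _ _
      have := this hx
      rw [hn₁, Ideal.mem_comap, Ideal.mem_bot] at this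
      exact this
    have h2 : π₂ x = 0 := by
      have : IsLocalRing.maximalIdeal P ^ (n₁ + n₂) ≤ Ideal.comap π₂ (IsLocalRing.maximalIdeal A₂ ^ n₂) :=
        calc IsLocalRing.maximalIdeal P ^ (n₁ + n₂) ≤ IsLocalRing.maximalIdeal P ^ n₂ :=
              Ideal.pow_le_pow_right (Nat.le_add_left _ _)
          _ ≤ (Ideal.comap π₂ (IsLocalRing.maximalIdeal A₂)) ^ n₂ := Ideal.pow_right_mono hle₂ n₂
          _ ≤ Ideal.comap π₂ (IsLocalRing.maximalIdeal A₂ ^ n₂) := Ideal.le_comap_pow _ _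
      have := this hx
      rw [hn₂, Ideal.mem_comap, Ideal.mem_bot] at this
      exact this
    rw [Ideal.mem_bot]
    apply Subtype.ext
    exact Prod.ext h1 h2
  let B : Art Λ k := Art.of P resP hresP
  let p₁ : B ⟶ A₁ := ⟨π₁, rfl⟩
  let p₂ : B ⟶ A₂ := ⟨π₂, hres₂⟩
  refine ⟨B, p₁, p₂, ?_, ?_, ?_⟩
  · apply Art.hom_ext
    exact AlgHom.pullback_comm_sq f₁.toAlgHom f₂.toAlgHom
  · intro b₁ b₂ h1 h2
    apply Subtype.ext
    exact Prod.ext h1 h2
  · intro a₁ a₂ h
    exact ⟨⟨(a₁, a₂), h⟩, rfl, rfl⟩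

end Groth.Agent.Lib.Helper65
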