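import Groth.Agent.Lib.Helper65.ArtFinite
import Groth.Agent.Lib.Helper65.ArtFibre

/-!
# Helper65: the square `B ×_A B ≅ B ×_k k[ε]` attached to a small extension `B → A`
-/

set_option autoImplicit false
universe u v
open CategoryTheory

namespace Groth.Agent.Lib.Helper65

open ArtFun ArtFun.Art

variable {Λ : Type u} {k : Type u} [CommRing Λ] [Field k] [Algebra Λ k]

/-- First component of a dual number, as an element of `k`. -/
def dfst (x : (dual Λ k).carrier) : k := TrivSqZeroExt.fst (R := k) (M := k) x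

/-- Second component of a dual number, as an element of `k`. -/
def dsnd (x : (dual Λ k).carrier) : k := TrivSqZeroExt.snd (R := k) (M := k) x

theorem dfst_eq_res (x : (dual Λ k).carrier) : dfst x = (dual Λ k).res x := rfl

theorem dsnd_one : dsnd (1 : (dual Λ k).carrier) = 0 := rfl

theorem dsnd_zero : dsnd (0 : (dual Λ k).carrier) = 0 := rfl

theorem dsnd_add (x y : (dual Λ k).carrier) : dsnd (x + y) = dsnd x + dsnd y := rfl

theorem dsnd_mul (x y : (dual Λ k).carrier) : dsnd (x * y) = dfst x * dsnd y + dfst y * dsnd x := by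
  have h : ∀ a b : TrivSqZeroExt k k, (a * b).snd = a.fst * b.snd + b.fst * a.snd := by
    intro a b
    rw [TrivSqZeroExt.snd_mul, smul_eq_mul, MulOpposite.smul_eq_mul_unop, MulOpposite.unop_op,
      mul_comm a.snd]
  exact h x y

theorem dsnd_algebraMap (r : Λ) : dsnd (algebraMap Λ (dual Λ k).carrier r) = 0 := rfl

theorem dual_ext (x y : (dual Λ k).carrier) (h1 : dfst x = dfst y) (h2 : dsnd x = dsnd y) : x = y :=
  TrivSqZeroExt.ext h1 h2

/-- The dual number `a + b ε`. -/
def dmk (a b : k) : (dual Λ k).carrier := ((a, b) : TrivSqZeroExt k k)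

theorem dfst_dmk (a b : k) : dfst (dmk (Λ := Λ) a b) = a := rfl

theorem dsnd_dmk (a b : k) : dsnd (dmk (Λ := Λ) a b) = b := rfl

/-- For a small extension `μ : B → A` there is an object `P` which is at the same time `B ×_A B` (projections `q₁, q₂`)
and `B ×_k k[ε]` (projections `q₁, τ`). -/
theorem exists_torsor_square [IsNoetherianRing Λ] [Module.Finite Λ k] {A B : Art Λ k} (μ : B ⟶ A)
    (hμ : IsSmallExt μ) :
    ∃ (P : Art Λ k) (q₁ q₂ : P ⟶ B) (τ : P ⟶ dual Λ k),
      IsFibreProd q₁ q₂ μ μ ∧ IsFibreProd q₁ τ (toBase B) (toBase (dual Λ k)) := by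
  obtain ⟨hsurj, hne, ⟨⟨t, ht⟩⟩, hm⟩ := hμ
  have htker : t ∈ RingHom.ker μ.toAlgHom := by
    rw [ht]; exact Submodule.mem_span_singleton_self t
  have hμt : μ.toAlgHom t = 0 := RingHom.mem_ker.1 htker
  have htm : t ∈ IsLocalRing.maximalIdeal B := art_ker_le_maximalIdeal μ htker
  have hmt : ∀ m ∈ IsLocalRing.maximalIdeal B, m * t = 0 := by
    intro m hm'
    have : m * t ∈ IsLocalRing.maximalIdeal B * RingHom.ker μ.toAlgHom := Ideal.mul_mem_mul hm' htker
    rw [hm, Ideal.mem_bot] at this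
    exact this
  have htt : t * t = 0 := hmt t htm
  have ht0 : t ≠ 0 := by
    rintro rfl
    apply hne
    rw [ht]; simp
  obtain ⟨P, q₁, τ, h₂⟩ := art_exists_isFibreProd (toBase B) (toBase (dual Λ k)) (dual Λ k).res_surjective
  -- the map `c ↦ c̃ t`
  let σ : k → B := Function.surjInv B.res_surjective
  have hσ : ∀ c, B.res (σ c) = c := Function.surjInv_eq B.res_surjective
  let tm : k → B := fun c => σ c * t
  have tm_eq : ∀ (b : B) (c : k), B.res b = c → tm c = b * t := by
    intro b c hbc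
    have : σ c - b ∈ IsLocalRing.maximalIdeal B := by
      rw [Art.mem_maximalIdeal_iff, map_sub, hσ, hbc, sub_self]
    have := hmt _ this
    rw [sub_mul, sub_eq_zero] at this
    exact this
  have tm_add : ∀ c c', tm (c + c') = tm c + tm c' := by
    intro c c'
    rw [tm_eq (σ c + σ c') (c + c') (by rw [map_add, hσ, hσ]), add_mul]
  have tm_zero : tm 0 = 0 := by
    rw [tm_eq 0 0 (map_zero _), zero_mul]
  have mul_tm : ∀ (b : B) (c : k), b * tm c = tm (B.res b * c) := by
    intro b c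
    rw [tm_eq (b * σ c) (B.res b * c) (by rw [map_mul, hσ]), mul_assoc]
  have tm_mul_tm : ∀ c c', tm c * tm c' = 0 := by
    intro c c'
    change σ c * t * (σ c' * t) = 0
    have : σ c * t * (σ c' * t) = σ c * σ c' * (t * t) := by ring
    rw [this, htt, mul_zero]
  have μ_tm : ∀ c, μ.toAlgHom (tm c) = 0 := by
    intro c
    change μ.toAlgHom (σ c * t) = 0
    rw [map_mul, hμt, mul_zero]
  have res_tm : ∀ c, B.res (tm c) = 0 := by
    intro c
    rw [← Art.res_app μ]
    change A.res (μ.toAlgHom (tm c)) = 0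
    rw [μ_tm, map_zero]
  have tm_eq_zero : ∀ c, tm c = 0 → c = 0 := by
    intro c hc
    by_contra hc0
    have hunit : IsUnit (σ c) := by
      by_contra hnu
      have : σ c ∈ IsLocalRing.maximalIdeal B := (IsLocalRing.mem_maximalIdeal _).2 hnu
      rw [Art.mem_maximalIdeal_iff, hσ] at this
      exact hc0 this
    exact ht0 ((hunit.mul_right_eq_zero).1 hc)
  -- first components
  have hfst : ∀ x : P, dfst (τ.toAlgHom x) = B.res (q₁.toAlgHom x) := by
    intro x
    have h1 : (dual Λ k).res (τ.toAlgHom x) = P.res x := Art.res_app τ x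
    have h2 : B.res (q₁.toAlgHom x) = P.res x := Art.res_app q₁ x
    rw [h2, ← h1]
    rfl
  let q₂₀ : P →ₐ[Λ] B :=
    { toFun := fun x => q₁.toAlgHom x + tm (dsnd (τ.toAlgHom x))
      map_one' := by
        rw [map_one, map_one, dsnd_one, tm_zero, add_zero]
      map_mul' := fun x y => by
        rw [map_mul, map_mul, dsnd_mul, hfst, hfst, tm_add, ← mul_tm, ← mul_tm]
        have e3 := tm_mul_tm (dsnd (τ.toAlgHom x)) (dsnd (τ.toAlgHom y))
        linear_combination (-1 : B) * e3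
      map_zero' := by
        rw [map_zero, map_zero, dsnd_zero, tm_zero, add_zero]
      map_add' := fun x y => by
        rw [map_add, map_add, dsnd_add, tm_add]
        ring
      commutes' := fun r => by
        rw [AlgHom.commutes, AlgHom.commutes, dsnd_algebraMap, tm_zero, add_zero] }
  have hq₂₀ : ∀ x, q₂₀ x = q₁.toAlgHom x + tm (dsnd (τ.toAlgHom x)) := fun x => rfl
  have hres : B.res.comp q₂₀ = P.res := by
    apply AlgHom.ext
    intro x
    change B.res (q₂₀ x) = P.res x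
    rw [hq₂₀, map_add, res_tm, add_zero]
    exact Art.res_app q₁ x
  let q₂ : P ⟶ B := ⟨q₂₀, hres⟩
  have hq₂ : ∀ x, q₂.toAlgHom x = q₁.toAlgHom x + tm (dsnd (τ.toAlgHom x)) := fun x => rfl
  refine ⟨P, q₁, q₂, τ, ⟨?_, ?_, ?_⟩, h₂⟩
  · apply Art.hom_ext
    apply AlgHom.ext
    intro x
    change μ.toAlgHom (q₁.toAlgHom x) = μ.toAlgHom (q₂.toAlgHom x)
    rw [hq₂, map_add, μ_tm, add_zero]
  · intro x y h1 h2
    have h1' : q₁.toAlgHom x = q₁.toAlgHom y := h1
    have h2' : q₂.toAlgHom x = q₂.toAlgHom y := h2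
    rw [hq₂, hq₂, h1', add_right_inj] at h2'
    have hsnd : dsnd (τ.toAlgHom x) = dsnd (τ.toAlgHom y) := by
      have : tm (dsnd (τ.toAlgHom x) - dsnd (τ.toAlgHom y)) = 0 := by
        have := tm_add (dsnd (τ.toAlgHom x) - dsnd (τ.toAlgHom y)) (dsnd (τ.toAlgHom y))
        rw [sub_add_cancel, h2'] at this
        exact right_eq_add.1 this
      exact sub_eq_zero.1 (tm_eq_zero _ this)
    apply h₂.inj x y h1
    apply dual_ext
    · rw [hfst, hfst, h1']
    · exact hsnd
  · intro b₁ b₂ hb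
    have hb' : μ.toAlgHom b₁ = μ.toAlgHom b₂ := hb
    have hdiff : b₂ - b₁ ∈ RingHom.ker μ.toAlgHom := by
      rw [RingHom.mem_ker, map_sub, hb', sub_self]
    rw [ht] at hdiff
    obtain ⟨c, hc⟩ := Submodule.mem_span_singleton.1 hdiff
    have hc' : c * t = b₂ - b₁ := hc
    obtain ⟨x, hx1, hx2⟩ := h₂.surj b₁ (dmk (B.res b₁) (B.res c)) rfl
    refine ⟨x, hx1, ?_⟩
    have hx1' : q₁.toAlgHom x = b₁ := hx1
    have hx2' : τ.toAlgHom x = dmk (B.res b₁) (B.res c) := hx2
    change q₂.toAlgHom x = b₂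
    rw [hq₂, hx1', hx2', dsnd_dmk, tm_eq c (B.res c) rfl, hc']
    ring

end Groth.Agent.Lib.Helper65

namespace Groth.Agent.Lib.Helper65

open ArtFun ArtFun.Art

variable {Λ : Type u} {k : Type u} [CommRing Λ] [Field k] [Algebra Λ k]

/-- Freeness of the tangent action: for functors satisfying (RS), a morphism `φ : F ⟶ G` injective on tangent spaces,
a small extension `μ : B → A` and `x₁, x₂ ∈ F(B)` with the same image in `F(A)` and in `G(B)`, one has `x₁ = x₂`. -/
theorem torsor_injective [IsNoetherianRing Λ] [Module.Finite Λ k] {F G : Art Λ k ⥤ Type v}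
    (hF : ∀ ⦃B A A' A'' : Art Λ k⦄ (p' : B ⟶ A') (p'' : B ⟶ A'') (f' : A' ⟶ A) (f'' : A'' ⟶ A)
        (h : IsFibreProd p' p'' f' f''), Function.Surjective f'' → Function.Bijective (cmp F h))
    (hG : ∀ ⦃B A A' A'' : Art Λ k⦄ (p' : B ⟶ A') (p'' : B ⟶ A'') (f' : A' ⟶ A) (f'' : A'' ⟶ A)
        (h : IsFibreProd p' p'' f' f''), Function.Surjective f'' → Function.Bijective (cmp G h))
    (φ : F ⟶ G) (hdinj : Function.Injective (φ.app (dual Λ k)))
    {A B : Art Λ k} (μ : B ⟶ A) (hμ : IsSmallExt μ) (x₁ x₂ : F.obj B)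
    (hμx : F.map μ x₁ = F.map μ x₂) (h : φ.app B x₁ = φ.app B x₂) : x₁ = x₂ := by
  obtain ⟨P, q₁, q₂, τ, h₁, h₂⟩ := exists_torsor_square μ hμ
  obtain ⟨wF, hwF⟩ := (hF q₁ q₂ μ μ h₁ hμ.1).2 ⟨(x₁, x₂), hμx⟩
  have hwF1 : F.map q₁ wF = x₁ := congrArg (fun t => t.1.1) hwF
  have hwF2 : F.map q₂ wF = x₂ := congrArg (fun t => t.1.2) hwF
  obtain ⟨δ, hδ1, hδ2⟩ := isFibreProd_lift_hom h₁ (𝟙 B) (𝟙 B) rfl
  have hw'1 : F.map q₁ (F.map δ x₁) = x₁ := by
    rw [← FunctorToTypes.map_comp_apply, hδ1, FunctorToTypes.map_id_apply]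
  have hw'2 : F.map q₂ (F.map δ x₁) = x₁ := by
    rw [← FunctorToTypes.map_comp_apply, hδ2, FunctorToTypes.map_id_apply]
  have hφw : φ.app P wF = φ.app P (F.map δ x₁) := by
    apply (hG q₁ q₂ μ μ h₁ hμ.1).1
    apply FibProd.ext
    · change G.map q₁ (φ.app P wF) = G.map q₁ (φ.app P (F.map δ x₁))
      rw [← NatTrans.naturality_apply φ q₁, ← NatTrans.naturality_apply φ q₁, hwF1, hw'1]
    · change G.map q₂ (φ.app P wF) = G.map q₂ (φ.app P (F.map δ x₁))
      rw [← NatTrans.naturality_apply φ q₂, ← NatTrans.naturality_apply φ q₂, hwF2, hw'2, h]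
  have hη : F.map τ wF = F.map τ (F.map δ x₁) := by
    apply hdinj
    rw [NatTrans.naturality_apply φ τ, NatTrans.naturality_apply φ τ, hφw]
  have hww : wF = F.map δ x₁ := by
    apply (hF q₁ τ (toBase B) (toBase (dual Λ k)) h₂ (dual Λ k).res_surjective).1
    apply FibProd.ext
    · change F.map q₁ wF = F.map q₁ (F.map δ x₁)
      rw [hwF1, hw'1]
    · exact hη
  rw [← hwF2, hww, hw'2]

end Groth.Agent.Lib.Helper65
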