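import Groth.Agent.Lib.Helper65.CRingBasic
import Groth.Agent.Lib.Helper65.ArtBasic
import Mathlib.RingTheory.Derivation.Basic

/-!
# Helper65: tangent vectors of `h_R` as derivations; families are determined by their formal element
-/

set_option autoImplicit false
universe u v
open CategoryTheory

namespace Groth.Agent.Lib.Helper65

open ArtFun ArtFun.Art

variable {Λ : Type u} {k : Type u} [CommRing Λ] [Field k] [Algebra Λ k]

section Der

variable {S : Type u} [CommRing S] [Algebra Λ S] [Algebra S k] [IsScalarTower Λ S k]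

/-- The algebra map `S → k[ε]`, `s ↦ s̄ + D(s) ε` attached to a derivation `D : S → k`. -/
noncomputable def algHomOfDer (D : Derivation Λ S k) : S →ₐ[Λ] (dual Λ k).carrier where
  toFun s := ((algebraMap S k s, D s) : TrivSqZeroExt k k)
  map_one' := by
    apply TrivSqZeroExt.ext
    · exact map_one (algebraMap S k)
    · exact D.map_one_eq_zero
  map_mul' a b := by
    apply TrivSqZeroExt.ext
    · exact map_mul (algebraMap S k) a b
    · change D (a * b) = algebraMap S k a • D b + MulOpposite.op (algebraMap S k b) • D a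
      rw [D.leibniz, Algebra.smul_def, Algebra.smul_def, op_smul_eq_smul, smul_eq_mul, smul_eq_mul]
  map_zero' := by
    apply TrivSqZeroExt.ext
    · exact map_zero (algebraMap S k)
    · exact map_zero D
  map_add' a b := by
    apply TrivSqZeroExt.ext
    · exact map_add (algebraMap S k) a b
    · exact map_add D a b
  commutes' r := by
    apply TrivSqZeroExt.ext
    · change algebraMap S k (algebraMap Λ S r) = (algebraMap Λ (TrivSqZeroExt k k) r).fst
      rw [← IsScalarTower.algebraMap_apply, TrivSqZeroExt.algebraMap_eq_inl', TrivSqZeroExt.fst_inl]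
    · change D (algebraMap Λ S r) = (algebraMap Λ (TrivSqZeroExt k k) r).snd
      rw [D.map_algebraMap, TrivSqZeroExt.algebraMap_eq_inl', TrivSqZeroExt.snd_inl]

theorem algHomOfDer_fst (D : Derivation Λ S k) (s : S) :
    TrivSqZeroExt.fst (algHomOfDer D s : TrivSqZeroExt k k) = algebraMap S k s := rfl

theorem algHomOfDer_snd (D : Derivation Λ S k) (s : S) :
    TrivSqZeroExt.snd (algHomOfDer D s : TrivSqZeroExt k k) = D s := rfl

/-- The element of `h_S(k[ε])` attached to a derivation. -/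
noncomputable def homOfDer (resS : S →ₐ[Λ] k) (h : ∀ s, resS s = algebraMap S k s)
    (D : Derivation Λ S k) : HomSet S resS (dual Λ k) :=
  ⟨algHomOfDer D, AlgHom.ext fun s => (h s).symm⟩

theorem homOfDer_snd (resS : S →ₐ[Λ] k) (h : ∀ s, resS s = algebraMap S k s)
    (D : Derivation Λ S k) (s : S) :
    TrivSqZeroExt.snd ((homOfDer resS h D).1 s : TrivSqZeroExt k k) = D s := rfl

end Der

section Factor

/-- Every element of `h_R(A)` factors through a truncation of `R`. -/
theorem cring_hom_factors_trunc (R : CRing Λ k) (A : Art Λ k) (ψ : HomSet R.carrier R.res A) :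
    ∃ (n : ℕ) (ψ' : R.trunc n ⟶ A), HomSet.map ψ' (R.truncHom n) = ψ := by
  obtain ⟨n, hn⟩ := art_maximalIdeal_nilpotent A
  have hle : Ideal.map ψ.1 (IsLocalRing.maximalIdeal R.carrier) ≤ IsLocalRing.maximalIdeal A := by
    rw [Ideal.map_le_iff_le_comap]
    intro a ha
    rw [Ideal.mem_comap, Art.mem_maximalIdeal_iff]
    have : A.res (ψ.1 a) = R.res a := congrArg (fun t : R.carrier →ₐ[Λ] k => t a) ψ.2
    rw [this]
    exact (CRing.mem_maximalIdeal_iff R a).1 ha
  have hkill : ∀ a ∈ CRing.mpow R n, ψ.1 a = 0 := by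
    intro a ha
    have h1 : a ∈ IsLocalRing.maximalIdeal R.carrier ^ n :=
      Ideal.pow_le_pow_right (Nat.le_succ n) ha
    have h2 : ψ.1 a ∈ Ideal.map ψ.1 (IsLocalRing.maximalIdeal R.carrier ^ n) :=
      Ideal.mem_map_of_mem _ h1
    rw [Ideal.map_pow] at h2
    have h3 := Ideal.pow_right_mono hle n h2
    rw [hn] at h3
    exact h3
  refine ⟨n, ⟨Ideal.Quotient.liftₐ (CRing.mpow R n) ψ.1 hkill, ?_⟩, ?_⟩
  · apply AlgHom.ext
    intro x
    obtain ⟨a, rfl⟩ := Ideal.Quotient.mk_surjective x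
    exact congrArg (fun t : R.carrier →ₐ[Λ] k => t a) ψ.2
  · apply Subtype.ext
    apply AlgHom.ext
    intro a
    rfl

/-- A family over a coefficient ring is determined by its formal element. -/
theorem family_ext_of_toFormalElt {F : Art Λ k ⥤ Type v} (R : CRing Λ k)
    (ξ₁ ξ₂ : Family R.carrier R.res F) (h : ξ₁.toFormalElt = ξ₂.toFormalElt)
    (A : Art Λ k) (ψ : HomSet R.carrier R.res A) : ξ₁.app A ψ = ξ₂.app A ψ := by
  obtain ⟨n, ψ', rfl⟩ := cring_hom_factors_trunc R A ψ
  rw [ξ₁.natural, ξ₂.natural]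
  have : ξ₁.app _ (R.truncHom n) = ξ₂.app _ (R.truncHom n) :=
    congrArg (fun u : FormalElt F R => u.elt n) h
  rw [this]

end Factor

section Universal

variable {R : Type u} [CommRing R] [Algebra Λ R] {resR : R →ₐ[Λ] k} {F : Art Λ k ⥤ Type v}

/-- `h_R(k)` is a point. -/
theorem homSet_base_unique (φ : HomSet R resR (base Λ k)) : φ = ⟨resR, AlgHom.id_comp _⟩ := by
  apply Subtype.ext
  exact (AlgHom.id_comp _).symm.trans φ.2

/-- A universal family is versal. -/
theorem isVersal_of_isUniversal (ξ : Family R resR F) (hξ : IsUniversal ξ) : IsVersal ξ := by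
  intro B A μ _ φ y hy
  obtain ⟨ψ, rfl⟩ := (hξ B).2 y
  refine ⟨ψ, ?_, rfl⟩
  apply (hξ A).1
  rw [ξ.natural, hy]

/-- A functor with a universal family satisfies `H0`. -/
theorem h0_of_isUniversal (ξ : Family R resR F) (hξ : IsUniversal ξ) : H0 F := by
  refine ⟨⟨ξ.app _ ⟨resR, AlgHom.id_comp _⟩⟩, ⟨fun x y => ?_⟩⟩
  obtain ⟨φ, rfl⟩ := (hξ (base Λ k)).2 x
  obtain ⟨ψ, rfl⟩ := (hξ (base Λ k)).2 y
  rw [homSet_base_unique φ, homSet_base_unique ψ]

end Universal

end Groth.Agent.Lib.Helper65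

namespace Groth.Agent.Lib.Helper65

open ArtFun ArtFun.Art

variable {Λ : Type u} {k : Type u} [CommRing Λ] [Field k] [Algebra Λ k]

section Der2

variable {S : Type u} [CommRing S] [Algebra Λ S] [Algebra S k] [IsScalarTower Λ S k]

/-- The derivation attached to an element of `h_S(k[ε])`. -/
noncomputable def derOfHom (resS : S →ₐ[Λ] k) (h : ∀ s, resS s = algebraMap S k s)
    (ψ : HomSet S resS (dual Λ k)) : Derivation Λ S k :=
  Derivation.mk'
    { toFun := fun s => TrivSqZeroExt.snd (ψ.1 s : TrivSqZeroExt k k)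
      map_add' := fun a b => by rw [map_add]; rfl
      map_smul' := fun c a => by rw [map_smul]; rfl }
    (fun a b => by
      have hfst : ∀ s, TrivSqZeroExt.fst (ψ.1 s : TrivSqZeroExt k k) = algebraMap S k s := by
        intro s
        have := congrArg (fun t : S →ₐ[Λ] k => t s) ψ.2
        exact this.trans (h s)
      change TrivSqZeroExt.snd (ψ.1 (a * b) : TrivSqZeroExt k k) =
        a • TrivSqZeroExt.snd (ψ.1 b : TrivSqZeroExt k k) + b • TrivSqZeroExt.snd (ψ.1 a : TrivSqZeroExt k k)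
      rw [map_mul]
      change (TrivSqZeroExt.fst (ψ.1 a : TrivSqZeroExt k k)) • TrivSqZeroExt.snd (ψ.1 b : TrivSqZeroExt k k) +
        MulOpposite.op (TrivSqZeroExt.fst (ψ.1 b : TrivSqZeroExt k k)) • TrivSqZeroExt.snd (ψ.1 a : TrivSqZeroExt k k) = _
      rw [hfst, hfst, op_smul_eq_smul]
      simp only [Algebra.smul_def, Algebra.algebraMap_self, RingHom.id_apply])

theorem homOfDer_derOfHom (resS : S →ₐ[Λ] k) (h : ∀ s, resS s = algebraMap S k s)
    (ψ : HomSet S resS (dual Λ k)) : homOfDer resS h (derOfHom resS h ψ) = ψ := by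
  apply Subtype.ext
  apply AlgHom.ext
  intro s
  apply TrivSqZeroExt.ext
  · have := congrArg (fun t : S →ₐ[Λ] k => t s) ψ.2
    exact ((h s).symm.trans this.symm)
  · rfl

theorem homOfDer_surjective (resS : S →ₐ[Λ] k) (h : ∀ s, resS s = algebraMap S k s) :
    Function.Surjective (homOfDer (Λ := Λ) resS h) :=
  fun ψ => ⟨derOfHom resS h ψ, homOfDer_derOfHom resS h ψ⟩

/-- The algebra map `S → k[ε₁, ε₂]` attached to two derivations. -/
noncomputable def algHomOfDer2 (D₁ D₂ : Derivation Λ S k) : S →ₐ[Λ] (dual2 Λ k).carrier where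
  toFun s := ((algebraMap S k s, (D₁ s, D₂ s)) : TrivSqZeroExt k (k × k))
  map_one' := by
    apply TrivSqZeroExt.ext
    · exact map_one (algebraMap S k)
    · exact Prod.ext D₁.map_one_eq_zero D₂.map_one_eq_zero
  map_mul' a b := by
    apply TrivSqZeroExt.ext
    · exact map_mul (algebraMap S k) a b
    · change (D₁ (a * b), D₂ (a * b)) = algebraMap S k a • (D₁ b, D₂ b) +
        MulOpposite.op (algebraMap S k b) • (D₁ a, D₂ a)
      rw [op_smul_eq_smul, Prod.smul_mk, Prod.smul_mk, Prod.mk_add_mk, D₁.leibniz, D₂.leibniz]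
      simp only [Algebra.smul_def, Algebra.algebraMap_self, RingHom.id_apply]
  map_zero' := by
    apply TrivSqZeroExt.ext
    · exact map_zero (algebraMap S k)
    · exact Prod.ext (map_zero D₁) (map_zero D₂)
  map_add' a b := by
    apply TrivSqZeroExt.ext
    · exact map_add (algebraMap S k) a b
    · exact Prod.ext (map_add D₁ a b) (map_add D₂ a b)
  commutes' r := by
    apply TrivSqZeroExt.ext
    · change algebraMap S k (algebraMap Λ S r) = (algebraMap Λ (TrivSqZeroExt k (k × k)) r).fst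
      rw [← IsScalarTower.algebraMap_apply, TrivSqZeroExt.algebraMap_eq_inl', TrivSqZeroExt.fst_inl]
    · change (D₁ (algebraMap Λ S r), D₂ (algebraMap Λ S r)) = (algebraMap Λ (TrivSqZeroExt k (k × k)) r).snd
      rw [D₁.map_algebraMap, D₂.map_algebraMap, TrivSqZeroExt.algebraMap_eq_inl', TrivSqZeroExt.snd_inl]
      rfl

/-- The element of `h_S(k[ε₁, ε₂])` attached to two derivations. -/
noncomputable def hom2OfDer (resS : S →ₐ[Λ] k) (h : ∀ s, resS s = algebraMap S k s)
    (D₁ D₂ : Derivation Λ S k) : HomSet S resS (dual2 Λ k) :=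
  ⟨algHomOfDer2 D₁ D₂, AlgHom.ext fun s => (h s).symm⟩

theorem map_pr₁_hom2OfDer (resS : S →ₐ[Λ] k) (h : ∀ s, resS s = algebraMap S k s)
    (D₁ D₂ : Derivation Λ S k) :
    HomSet.map pr₁ (hom2OfDer resS h D₁ D₂) = homOfDer resS h D₁ :=
  Subtype.ext (AlgHom.ext fun _ => rfl)

theorem map_pr₂_hom2OfDer (resS : S →ₐ[Λ] k) (h : ∀ s, resS s = algebraMap S k s)
    (D₁ D₂ : Derivation Λ S k) :
    HomSet.map pr₂ (hom2OfDer resS h D₁ D₂) = homOfDer resS h D₂ :=
  Subtype.ext (AlgHom.ext fun _ => rfl)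

theorem map_plus_hom2OfDer (resS : S →ₐ[Λ] k) (h : ∀ s, resS s = algebraMap S k s)
    (D₁ D₂ : Derivation Λ S k) :
    HomSet.map plus (hom2OfDer resS h D₁ D₂) = homOfDer resS h (D₁ + D₂) :=
  Subtype.ext (AlgHom.ext fun _ => rfl)

theorem map_scale_homOfDer (resS : S →ₐ[Λ] k) (h : ∀ s, resS s = algebraMap S k s)
    (c : k) (D : Derivation Λ S k) :
    HomSet.map (scale c) (homOfDer resS h D) = homOfDer resS h (c • D) :=
  Subtype.ext (AlgHom.ext fun _ => rfl)

end Der2

section FibreExt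

/-- Elements of `h_R` of a fibre product are determined by their two components. -/
theorem isFibreProd_homSet_ext {R : Type u} [CommRing R] [Algebra Λ R] {resR : R →ₐ[Λ] k}
    {B A A' A'' : Art Λ k} {p' : B ⟶ A'} {p'' : B ⟶ A''} {f' : A' ⟶ A} {f'' : A'' ⟶ A}
    (h : IsFibreProd p' p'' f' f'') (ψ₁ ψ₂ : HomSet R resR B)
    (e' : HomSet.map p' ψ₁ = HomSet.map p' ψ₂) (e'' : HomSet.map p'' ψ₁ = HomSet.map p'' ψ₂) :
    ψ₁ = ψ₂ := by
  apply Subtype.ext
  apply AlgHom.ext
  intro r
  apply h.inj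
  · exact congrArg (fun t : HomSet R resR A' => t.1 r) e'
  · exact congrArg (fun t : HomSet R resR A'' => t.1 r) e''

end FibreExt

end Groth.Agent.Lib.Helper65

namespace Groth.Agent.Lib.Helper65

open ArtFun ArtFun.Art

variable {Λ : Type u} {k : Type u} [CommRing Λ] [Field k] [Algebra Λ k]

/-- Every element of `h_R(A)` factors through the truncation `R/m^(n+1)` as soon as `m_A^n = 0`. -/
theorem cring_hom_factors_trunc_of_pow (R : CRing Λ k) (A : Art Λ k) (ψ : HomSet R.carrier R.res A)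
    (n : ℕ) (hn : IsLocalRing.maximalIdeal A ^ n = ⊥) :
    ∃ (ψ' : R.trunc n ⟶ A), HomSet.map ψ' (R.truncHom n) = ψ := by
  have hle : Ideal.map ψ.1 (IsLocalRing.maximalIdeal R.carrier) ≤ IsLocalRing.maximalIdeal A := by
    rw [Ideal.map_le_iff_le_comap]
    intro a ha
    rw [Ideal.mem_comap, Art.mem_maximalIdeal_iff]
    have : A.res (ψ.1 a) = R.res a := congrArg (fun t : R.carrier →ₐ[Λ] k => t a) ψ.2
    rw [this]
    exact (CRing.mem_maximalIdeal_iff R a).1 ha
  have hkill : ∀ a ∈ CRing.mpow R n, ψ.1 a = 0 := by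
    intro a ha
    have h1 : a ∈ IsLocalRing.maximalIdeal R.carrier ^ n :=
      Ideal.pow_le_pow_right (Nat.le_succ n) ha
    have h2 : ψ.1 a ∈ Ideal.map ψ.1 (IsLocalRing.maximalIdeal R.carrier ^ n) :=
      Ideal.mem_map_of_mem _ h1
    rw [Ideal.map_pow] at h2
    have h3 := Ideal.pow_right_mono hle n h2
    rw [hn] at h3
    exact h3
  refine ⟨⟨Ideal.Quotient.liftₐ (CRing.mpow R n) ψ.1 hkill, ?_⟩, ?_⟩
  · apply AlgHom.ext
    intro x
    obtain ⟨a, rfl⟩ := Ideal.Quotient.mk_surjective x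
    exact congrArg (fun t : R.carrier →ₐ[Λ] k => t a) ψ.2
  · apply Subtype.ext
    apply AlgHom.ext
    intro a
    rfl

end Groth.Agent.Lib.Helper65
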