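import Groth.Agent.Lib.Helper65.ArtBasic

/-!
# Helper65: surjectivity of morphisms of `ArtFun.Art Λ k` via cotangent spaces
-/

set_option autoImplicit false
universe u v
open CategoryTheory

namespace Groth.Agent.Lib.Helper65

open ArtFun ArtFun.Art

variable {Λ : Type u} {k : Type u} [CommRing Λ] [Field k] [Algebra Λ k]

/-- `f(m_A) B ≤ m_B`. -/
theorem art_map_maximalIdeal_le {A B : Art Λ k} (f : A ⟶ B) :
    Ideal.map f.toAlgHom (IsLocalRing.maximalIdeal A) ≤ IsLocalRing.maximalIdeal B := by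
  rw [Ideal.map_le_iff_le_comap]
  intro a ha
  rw [Ideal.mem_comap, Art.mem_maximalIdeal_iff, Art.res_app f]
  exact (Art.mem_maximalIdeal_iff A a).1 ha

/-- `m_Λ B ≤ f(m_A) B`. -/
theorem art_map_kerΛ_le {A B : Art Λ k} (f : A ⟶ B) :
    Ideal.map (algebraMap Λ B) (RingHom.ker (algebraMap Λ k)) ≤
      Ideal.map f.toAlgHom (IsLocalRing.maximalIdeal A) := by
  rw [Ideal.map_le_iff_le_comap]
  intro r hr
  rw [Ideal.mem_comap]
  have h1 : algebraMap Λ B r = f.toAlgHom (algebraMap Λ A r) := (f.toAlgHom.commutes r).symm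
  rw [h1]
  apply Ideal.mem_map_of_mem
  rw [Art.mem_maximalIdeal_iff, AlgHom.commutes]
  exact hr

/-- Every element of `B` is congruent to an element of the image modulo the maximal ideal. -/
theorem art_exists_sub_mem_maximalIdeal {A B : Art Λ k} (f : A ⟶ B) (b : B) :
    ∃ a : A, b - f.toAlgHom a ∈ IsLocalRing.maximalIdeal B := by
  obtain ⟨a, ha⟩ := A.res_surjective (B.res b)
  refine ⟨a, ?_⟩
  rw [Art.mem_maximalIdeal_iff, map_sub, Art.res_app f, ha, sub_self]

/-- If `I = J ⊔ I²` with `I` nilpotent then `I ≤ J`. -/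
theorem ideal_le_of_eq_sup_sq {R : Type*} [CommRing R] {I J : Ideal R} (h : J ⊔ I ^ 2 = I)
    (hnil : ∃ n : ℕ, I ^ n = ⊥) : I ≤ J := by
  have hJI : J ≤ I := h ▸ le_sup_left
  have key : ∀ n : ℕ, I ≤ J ⊔ I ^ (n + 1) := by
    intro n
    induction n with
    | zero => simp
    | succ n ih =>
      have h2 : I ^ 2 ≤ J ⊔ I ^ (n + 2) := by
        rw [pow_two]
        calc I * I ≤ I * (J ⊔ I ^ (n + 1)) := Ideal.mul_mono_right ih
          _ = I * J ⊔ I * I ^ (n + 1) := Ideal.mul_sup _ _ _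
          _ ≤ J ⊔ I ^ (n + 2) := by
            apply sup_le_sup Ideal.mul_le_right
            rw [← pow_succ']
      calc I = J ⊔ I ^ 2 := h.symm
        _ ≤ J ⊔ I ^ (n + 2) := sup_le le_sup_left h2
  obtain ⟨n, hn⟩ := hnil
  have := key n
  rw [pow_succ, hn, Ideal.bot_mul, sup_bot_eq] at this
  exact this

/-- Cotangent criterion: if `f(m_A) B + m_B² = m_B` then `f` is surjective. -/
theorem art_surjective_of_cotangent {A B : Art Λ k} (f : A ⟶ B)
    (h : Ideal.map f.toAlgHom (IsLocalRing.maximalIdeal A) ⊔ IsLocalRing.maximalIdeal B ^ 2 =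
      IsLocalRing.maximalIdeal B) : Function.Surjective f := by
  have hle : Ideal.map f.toAlgHom (IsLocalRing.maximalIdeal A) ≤ IsLocalRing.maximalIdeal B :=
    art_map_maximalIdeal_le f
  have heq : Ideal.map f.toAlgHom (IsLocalRing.maximalIdeal A) = IsLocalRing.maximalIdeal B :=
    le_antisymm hle (ideal_le_of_eq_sup_sq h (art_maximalIdeal_nilpotent B))
  -- step 3
  have step : ∀ n : ℕ, ∀ y ∈ IsLocalRing.maximalIdeal B ^ n,
      ∃ a ∈ IsLocalRing.maximalIdeal A ^ n, y - f.toAlgHom a ∈ IsLocalRing.maximalIdeal B ^ (n + 1) := by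
    intro n y hy
    rw [← heq, ← Ideal.map_pow] at hy
    refine Submodule.span_induction (p := fun y _ => ∃ a ∈ IsLocalRing.maximalIdeal A ^ n,
      y - f.toAlgHom a ∈ IsLocalRing.maximalIdeal B ^ (n + 1)) ?_ ?_ ?_ ?_ hy
    · rintro _ ⟨x, hx, rfl⟩
      exact ⟨x, hx, by simp⟩
    · exact ⟨0, Ideal.zero_mem _, by simp⟩
    · rintro y₁ y₂ - - ⟨a₁, ha₁, h₁⟩ ⟨a₂, ha₂, h₂⟩
      refine ⟨a₁ + a₂, Ideal.add_mem _ ha₁ ha₂, ?_⟩
      have : y₁ + y₂ - f.toAlgHom (a₁ + a₂) = (y₁ - f.toAlgHom a₁) + (y₂ - f.toAlgHom a₂) := by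
        rw [map_add]; ring
      rw [this]
      exact Ideal.add_mem _ h₁ h₂
    · rintro b y₁ - ⟨a₁, ha₁, h₁⟩
      obtain ⟨a', ha'⟩ := art_exists_sub_mem_maximalIdeal f b
      refine ⟨a' * a₁, Ideal.mul_mem_left _ _ ha₁, ?_⟩
      have e : b • y₁ - f.toAlgHom (a' * a₁) =
          b * (y₁ - f.toAlgHom a₁) + (b - f.toAlgHom a') * f.toAlgHom a₁ := by
        rw [map_mul, smul_eq_mul]; ring
      rw [e]
      apply Ideal.add_mem
      · exact Ideal.mul_mem_left _ _ h₁
      · rw [pow_succ']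
        apply Ideal.mul_mem_mul ha'
        have : f.toAlgHom a₁ ∈ Ideal.map f.toAlgHom (IsLocalRing.maximalIdeal A ^ n) :=
          Ideal.mem_map_of_mem _ ha₁
        rwa [Ideal.map_pow, heq] at this
  have approx : ∀ n : ℕ, ∀ b : B, ∃ a : A, b - f.toAlgHom a ∈ IsLocalRing.maximalIdeal B ^ n := by
    intro n
    induction n with
    | zero => intro b; exact ⟨0, by simp⟩
    | succ n ih =>
      intro b
      obtain ⟨a, ha⟩ := ih b
      obtain ⟨a', -, ha'⟩ := step n _ ha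
      refine ⟨a + a', ?_⟩
      have : b - f.toAlgHom (a + a') = b - f.toAlgHom a - f.toAlgHom a' := by
        rw [map_add]; ring
      rw [this]
      exact ha'
  obtain ⟨N, hN⟩ := art_maximalIdeal_nilpotent B
  intro b
  obtain ⟨a, ha⟩ := approx N b
  rw [hN, Ideal.mem_bot, sub_eq_zero] at ha
  exact ⟨a, ha.symm⟩

/-- If `f` is surjective then `f(m_A) B = m_B`. -/
theorem art_map_maximalIdeal_eq_of_surjective {A B : Art Λ k} (f : A ⟶ B) (hf : Function.Surjective f) :
    Ideal.map f.toAlgHom (IsLocalRing.maximalIdeal A) = IsLocalRing.maximalIdeal B := by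
  apply le_antisymm (art_map_maximalIdeal_le f)
  intro b hb
  obtain ⟨a, rfl⟩ := hf b
  apply Ideal.mem_map_of_mem
  rw [Art.mem_maximalIdeal_iff] at hb ⊢
  rw [← Art.res_app f]
  exact hb

end Groth.Agent.Lib.Helper65
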