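import Groth.Agent.Lib.Helper65.CRingBasic
import Mathlib.RingTheory.AdicCompletion.RingHom

/-!
# Helper65: maps into a complete coefficient ring from compatible maps into its truncations
-/

set_option autoImplicit false
universe u v
open CategoryTheory

namespace Groth.Agent.Lib.Helper65

open ArtFun

variable {Λ : Type u} {k : Type u} [CommRing Λ] [Field k] [Algebra Λ k]

theorem cring_truncMap_surjective (S : CRing Λ k) (n : ℕ) : Function.Surjective (S.truncMap n) := by
  intro y
  obtain ⟨s, rfl⟩ := Ideal.Quotient.mk_surjective y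
  exact ⟨Ideal.Quotient.mk _ s, rfl⟩

theorem cring_truncMap_mk (S : CRing Λ k) (n : ℕ) (s : S.carrier) :
    (S.truncMap n).toAlgHom (Ideal.Quotient.mk (CRing.mpow S (n + 1)) s) = Ideal.Quotient.mk (CRing.mpow S n) s :=
  rfl

/-- Compatible maps `R → S/m^(n+1)` assemble to a map `R → S`. -/
theorem cring_exists_lift {R : Type u} [CommRing R] [Algebra Λ R] (resR : R →ₐ[Λ] k) (S : CRing Λ k)
    (ψ : ∀ n, HomSet R resR (S.trunc n))
    (hψ : ∀ n, HomSet.map (S.truncMap n) (ψ (n + 1)) = ψ n) :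
    ∃ (g : R →ₐ[Λ] S.carrier) (_ : S.res.comp g = resR),
      ∀ n, (S.truncHom n).1.comp g = (ψ n).1 := by
  haveI := S.isAdicComplete
  have ha : StrictMono (fun n : ℕ => n + 1) := fun a b h => Nat.succ_lt_succ h
  let f : (n : ℕ) → R →+* S.carrier ⧸ IsLocalRing.maximalIdeal S.carrier ^ (n + 1) :=
    fun n => (ψ n).1.toRingHom
  have hf : ∀ {m : ℕ}, (Ideal.Quotient.factorPow (IsLocalRing.maximalIdeal S.carrier)
      (ha.monotone m.le_succ)).comp (f (m + 1)) = f m := by
    intro m
    ext r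
    have h1 : (S.truncMap m).toAlgHom ((ψ (m + 1)).1 r) = (ψ m).1 r :=
      congrArg (fun t : HomSet R resR (S.trunc m) => t.1 r) (hψ m)
    have h2 : ∀ y : S.carrier ⧸ IsLocalRing.maximalIdeal S.carrier ^ (m + 1 + 1),
        Ideal.Quotient.factorPow (IsLocalRing.maximalIdeal S.carrier) (ha.monotone m.le_succ) y =
          (S.truncMap m).toAlgHom y := by
      intro y
      obtain ⟨s, rfl⟩ := Ideal.Quotient.mk_surjective y
      rfl
    exact (h2 _).trans h1
  let g₀ : R →+* S.carrier :=
    IsAdicComplete.StrictMono.liftRingHom (IsLocalRing.maximalIdeal S.carrier) ha f hf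
  have hg₀ : ∀ (n : ℕ) (r : R),
      Ideal.Quotient.mk (IsLocalRing.maximalIdeal S.carrier ^ (n + 1)) (g₀ r) = (ψ n).1 r := by
    intro n r
    exact IsAdicComplete.StrictMono.mk_liftRingHom (IsLocalRing.maximalIdeal S.carrier) ha f hf (n := n) r
  have hcomm : (fun r : Λ => g₀ (algebraMap Λ R r)) = (fun r : Λ => algebraMap Λ S.carrier r) := by
    apply IsHausdorff.StrictMono.funext' (IsLocalRing.maximalIdeal S.carrier) ha
    intro n r
    change Ideal.Quotient.mk (IsLocalRing.maximalIdeal S.carrier ^ (n + 1)) (g₀ (algebraMap Λ R r)) = _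
    rw [hg₀, AlgHom.commutes]
    rfl
  let g : R →ₐ[Λ] S.carrier := { g₀ with commutes' := fun r => congrFun hcomm r }
  have hg : ∀ r, g r = g₀ r := fun r => rfl
  refine ⟨g, ?_, ?_⟩
  · apply AlgHom.ext
    intro r
    have h1 : (S.trunc 0).res ((ψ 0).1 r) = resR r :=
      congrArg (fun t : R →ₐ[Λ] k => t r) (ψ 0).2
    rw [← h1, ← hg₀ 0 r]
    rfl
  · intro n
    apply AlgHom.ext
    intro r
    exact hg₀ n r

end Groth.Agent.Lib.Helper65
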