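import Groth.Agent.Lib.Helper65.CRingTangent
import Groth.Prelude.Def_W4sfdMinVersal

/-!
# Helper65: pushforward of formal elements and minimal versal families
-/

set_option autoImplicit false
universe u v
open CategoryTheory

namespace Groth.Agent.Lib.Helper65

open ArtFun ArtFun.Art

variable {Λ : Type u} {k : Type u} [CommRing Λ] [Field k] [Algebra Λ k]

/-- The formal element of a family transported along a map of coefficient rings is the
pushforward of its formal element. -/
theorem along_toFormalElt {F : Art Λ k ⥤ Type v} {R' R : CRing Λ k}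
    (ξ : Family R'.carrier R'.res F) (g : R'.carrier →ₐ[Λ] R.carrier) (hg : R.res.comp g = R'.res) :
    (ξ.along g hg).toFormalElt = ξ.toFormalElt.push g hg := by
  apply FormalElt.ext'
  intro n
  change ξ.app _ ⟨(R.truncHom n).1.comp g, _⟩ = F.map (CRing.truncMapOfHom g hg n) (ξ.app _ (R'.truncHom n))
  rw [← ξ.natural]
  congr 1

/-- If `u` over `R'` pushes forward along `f` to the formal element of `ξ` over `R`, then the value of `ξ` on
`ψ ∈ h_R(A)` only depends on `ψ ∘ f`. -/
theorem app_eq_of_push_eq {F : Art Λ k ⥤ Type v} {R' R : CRing Λ k}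
    (ξ : Family R.carrier R.res F) (u : FormalElt F R') (f : R'.carrier →ₐ[Λ] R.carrier)
    (hf : R.res.comp f = R'.res) (hu : u.push f hf = ξ.toFormalElt)
    (A : Art Λ k) (ψ₁ ψ₂ : HomSet R.carrier R.res A) (h : ψ₁.1.comp f = ψ₂.1.comp f) :
    ξ.app A ψ₁ = ξ.app A ψ₂ := by
  obtain ⟨n, hn⟩ := art_maximalIdeal_nilpotent A
  obtain ⟨ψ₁', rfl⟩ := cring_hom_factors_trunc_of_pow R A ψ₁ n hn
  obtain ⟨ψ₂', rfl⟩ := cring_hom_factors_trunc_of_pow R A ψ₂ n hn
  rw [ξ.natural, ξ.natural]
  have hn' : ξ.app _ (R.truncHom n) = F.map (CRing.truncMapOfHom f hf n) (u.elt n) :=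
    (congrArg (fun w : FormalElt F R => w.elt n) hu).symm
  rw [hn', ← FunctorToTypes.map_comp_apply, ← FunctorToTypes.map_comp_apply]
  have hcomp : CRing.truncMapOfHom f hf n ≫ ψ₁' = CRing.truncMapOfHom f hf n ≫ ψ₂' := by
    apply Art.hom_ext
    apply AlgHom.ext
    intro x
    obtain ⟨a, rfl⟩ := Ideal.Quotient.mk_surjective x
    exact congrArg (fun t : R'.carrier →ₐ[Λ] A => t a) h
  rw [hcomp]

end Groth.Agent.Lib.Helper65
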