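import Groth.Agent.Lib.Helper65.CRingBasic
import Mathlib.RingTheory.Derivation.Basic

/-!
# Helper65: derivations to the residue field detect the cotangent space
-/

set_option autoImplicit false
universe u v
open CategoryTheory

namespace Groth.Agent.Lib.Helper65

open ArtFun

section

variable {Λ : Type u} {k : Type u} [CommRing Λ] [Field k] [Algebra Λ k]
variable {R : Type u} [CommRing R] [Algebra Λ R] (resR : R →ₐ[Λ] k)
variable {S : Type u} [CommRing S] [Algebra Λ S] [IsLocalRing S]
  [Algebra S k] [IsScalarTower Λ S k]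

omit [Algebra Λ k] [Algebra Λ S] [IsScalarTower Λ S k] in
theorem mem_maximalIdeal_iff_algebraMap (hres : Function.Surjective (algebraMap S k)) (s : S) :
    s ∈ IsLocalRing.maximalIdeal S ↔ algebraMap S k s = 0 := by
  have hmax : (RingHom.ker (algebraMap S k)).IsMaximal :=
    RingHom.ker_isMaximal_of_surjective (algebraMap S k) hres
  rw [← IsLocalRing.eq_maximalIdeal hmax, RingHom.mem_ker]

/-- If `f(ker res_R) S + m_S² ≠ m_S` there is a nonzero `Λ`-derivation `S → k` vanishing on `f(R)`. -/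
theorem exists_derivation_of_cotangent_ne [IsNoetherianRing S]
    (hresR : Function.Surjective resR)
    (hres : Function.Surjective (algebraMap S k))
    (f : R →ₐ[Λ] S) (hf : ∀ r, algebraMap S k (f r) = resR r)
    (hne : Ideal.map f (RingHom.ker resR) ⊔ IsLocalRing.maximalIdeal S ^ 2 ≠ IsLocalRing.maximalIdeal S) :
    ∃ D : Derivation Λ S k, (∀ r, D (f r) = 0) ∧ D ≠ 0 := by
  classical
  have hm := mem_maximalIdeal_iff_algebraMap (k := k) (S := S) hres
  have hmapm : Ideal.map f (RingHom.ker resR) ≤ IsLocalRing.maximalIdeal S := by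
    rw [Ideal.map_le_iff_le_comap]
    intro r hr
    rw [Ideal.mem_comap, hm, hf]
    exact hr
  have hsq : IsLocalRing.maximalIdeal S ^ 2 ≤ IsLocalRing.maximalIdeal S := by
    rw [pow_two]; exact Ideal.mul_le_right
  have hJm : Ideal.map f (RingHom.ker resR) ⊔ IsLocalRing.maximalIdeal S ^ 2 ≤ IsLocalRing.maximalIdeal S :=
    sup_le hmapm hsq
  obtain ⟨x, hxm, hxJ⟩ := SetLike.exists_of_lt (lt_of_le_of_ne hJm hne)
  obtain ⟨J₁, ⟨hJJ₁, hxJ₁⟩, hmax⟩ :=
    (set_has_maximal_iff_noetherian (R := S) (M := S)).2 inferInstance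
      {I : Ideal S | Ideal.map f (RingHom.ker resR) ⊔ IsLocalRing.maximalIdeal S ^ 2 ≤ I ∧ x ∉ I}
      ⟨_, le_rfl, hxJ⟩
  have hJ₁m : J₁ ≤ IsLocalRing.maximalIdeal S := by
    apply IsLocalRing.le_maximalIdeal
    intro htop
    apply hxJ₁
    rw [htop]; trivial
  have hmm : ∀ a b : S, a ∈ IsLocalRing.maximalIdeal S → b ∈ IsLocalRing.maximalIdeal S → a * b ∈ J₁ := by
    intro a b ha hb
    apply hJJ₁
    apply (le_sup_right : IsLocalRing.maximalIdeal S ^ 2 ≤ _)
    rw [pow_two]
    exact Ideal.mul_mem_mul ha hb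
  have hunit : ∀ s : S, s ∉ IsLocalRing.maximalIdeal S → IsUnit s := by
    intro s hs
    by_contra hnu
    exact hs ((IsLocalRing.mem_maximalIdeal s).2 hnu)
  -- Claim A
  have claimA : ∀ y ∈ IsLocalRing.maximalIdeal S, ∃ j ∈ J₁, ∃ t : S, y = j + t * x := by
    intro y hy
    by_cases hyJ : y ∈ J₁
    · exact ⟨y, hyJ, 0, by simp⟩
    · have hlt : J₁ < J₁ ⊔ Ideal.span {y} := by
        refine lt_of_le_of_ne le_sup_left ?_
        intro heq
        apply hyJ
        rw [heq]
        exact (le_sup_right : Ideal.span {y} ≤ _) (Ideal.mem_span_singleton_self y)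
      have hxI : x ∈ J₁ ⊔ Ideal.span {y} := by
        by_contra hxI
        exact hmax _ ⟨hJJ₁.trans le_sup_left, hxI⟩ hlt
      obtain ⟨j, hj, c, hc, hjc⟩ := Submodule.mem_sup.1 hxI
      obtain ⟨s, rfl⟩ := Ideal.mem_span_singleton'.1 hc
      have hs : s ∉ IsLocalRing.maximalIdeal S := by
        intro hs
        apply hxJ₁
        rw [← hjc]
        exact Ideal.add_mem _ hj (hmm s y hs hy)
      obtain ⟨u, rfl⟩ := hunit s hs
      refine ⟨-(↑u⁻¹ : S) * j, Ideal.mul_mem_left _ _ hj, (↑u⁻¹ : S), ?_⟩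
      rw [← hjc]
      have : (↑u⁻¹ : S) * (↑u * y) = y := by rw [← mul_assoc, Units.inv_mul, one_mul]
      linear_combination (-1 : S) * this
  -- Claim B
  have claimB : ∀ s : S, ∃ r r' : R, ∃ j ∈ J₁, s = f r + f r' * x + j := by
    intro s
    obtain ⟨r, hr⟩ := hresR (algebraMap S k s)
    have h1 : s - f r ∈ IsLocalRing.maximalIdeal S := by
      rw [hm, map_sub, hf, hr, sub_self]
    obtain ⟨j, hj, t, ht⟩ := claimA _ h1
    obtain ⟨r', hr'⟩ := hresR (algebraMap S k t)
    have h2 : t - f r' ∈ IsLocalRing.maximalIdeal S := by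
      rw [hm, map_sub, hf, hr', sub_self]
    refine ⟨r, r', j + (t - f r') * x, Ideal.add_mem _ hj (hmm _ _ h2 hxm), ?_⟩
    linear_combination ht
  -- uniqueness
  have key0 : ∀ (r r' : R) (j : S), j ∈ J₁ → f r + f r' * x + j = 0 → resR r' = 0 := by
    intro r r' j hj h0
    have h1 : resR r = 0 := by
      have := congrArg (algebraMap S k) h0
      rw [map_add, map_add, map_mul, hf, hf, (hm x).1 hxm, (hm j).1 (hJ₁m hj), map_zero] at this
      simpa using this
    have h2 : f r ∈ J₁ := by
      apply hJJ₁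
      apply (le_sup_left : Ideal.map f (RingHom.ker resR) ≤ _)
      exact Ideal.mem_map_of_mem _ h1
    have h3 : f r' * x ∈ J₁ := by
      have : f r' * x = -(f r) - j := by linear_combination h0
      rw [this]
      exact Ideal.sub_mem _ (J₁.neg_mem h2) hj
    by_contra hr'
    have h4 : f r' ∉ IsLocalRing.maximalIdeal S := by
      rw [hm, hf]; exact hr'
    obtain ⟨u, hu⟩ := hunit _ h4
    apply hxJ₁
    have : x = (↑u⁻¹ : S) * (f r' * x) := by
      rw [← hu, ← mul_assoc, Units.inv_mul, one_mul]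
    rw [this]
    exact Ideal.mul_mem_left _ _ h3
  choose ρ ρ' ι hι hdec using claimB
  have key : ∀ (s : S) (r r' : R) (j : S), j ∈ J₁ → s = f r + f r' * x + j → resR (ρ' s) = resR r' := by
    intro s r r' j hj hs
    have h0 : f (ρ s - r) + f (ρ' s - r') * x + (ι s - j) = 0 := by
      rw [map_sub, map_sub]
      linear_combination (hdec s).symm.trans hs
    have := key0 _ _ _ (Ideal.sub_mem _ (hι s) hj) h0
    rwa [map_sub, sub_eq_zero] at this
  have halg : ∀ s : S, algebraMap S k s = resR (ρ s) := by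
    intro s
    conv_lhs => rw [hdec s]
    rw [map_add, map_add, map_mul, hf, hf, (hm x).1 hxm, (hm _).1 (hJ₁m (hι s))]
    simp
  let D₀ : S →ₗ[Λ] k :=
    { toFun := fun s => resR (ρ' s)
      map_add' := by
        intro s t
        change resR (ρ' (s + t)) = resR (ρ' s) + resR (ρ' t)
        rw [key (s + t) (ρ s + ρ t) (ρ' s + ρ' t) (ι s + ι t) (Ideal.add_mem _ (hι s) (hι t))
          (by rw [map_add, map_add]; linear_combination hdec s + hdec t), map_add]
      map_smul' := by
        intro c s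
        change resR (ρ' (c • s)) = c • resR (ρ' s)
        have hmem : c • ι s ∈ J₁ := by
          rw [Algebra.smul_def]; exact Ideal.mul_mem_left _ _ (hι s)
        rw [key (c • s) (c • ρ s) (c • ρ' s) (c • ι s) hmem
          (by
            rw [map_smul, map_smul, smul_mul_assoc, ← smul_add, ← smul_add, ← hdec s]), map_smul] }
  have hD₀ : ∀ s, D₀ s = resR (ρ' s) := fun s => rfl
  have hleib : ∀ a b : S, D₀ (a * b) = a • D₀ b + b • D₀ a := by
    intro a b
    rw [hD₀, hD₀, hD₀, Algebra.smul_def, Algebra.smul_def, halg a, halg b]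
    have hj' : f (ρ' a) * f (ρ' b) * (x * x) + (f (ρ a) + f (ρ' a) * x) * ι b + ι a * b ∈ J₁ := by
      refine Ideal.add_mem _ (Ideal.add_mem _ ?_ ?_) ?_
      · exact Ideal.mul_mem_left _ _ (hmm x x hxm hxm)
      · exact Ideal.mul_mem_left _ _ (hι b)
      · exact Ideal.mul_mem_right _ _ (hι a)
    rw [key (a * b) (ρ a * ρ b) (ρ a * ρ' b + ρ' a * ρ b) _ hj'
      (by
        rw [map_mul, map_add, map_mul, map_mul]
        have ha := hdec a
        have hb := hdec b
        calc a * b = (f (ρ a) + f (ρ' a) * x + ι a) * b := by rw [← ha]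
          _ = (f (ρ a) + f (ρ' a) * x) * b + ι a * b := by ring
          _ = (f (ρ a) + f (ρ' a) * x) * (f (ρ b) + f (ρ' b) * x + ι b) + ι a * b := by rw [← hb]
          _ = _ := by ring)]
    rw [map_add, map_mul, map_mul]
    ring
  refine ⟨Derivation.mk' D₀ hleib, ?_, ?_⟩
  · intro r
    change D₀ (f r) = 0
    rw [hD₀, key (f r) r 0 0 (Ideal.zero_mem _) (by simp), map_zero]
  · intro h0
    have h1 : D₀ x = 0 := by
      have := congrArg (fun D : Derivation Λ S k => D x) h0
      exact this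
    rw [hD₀, key x 0 1 0 (Ideal.zero_mem _) (by simp), map_one] at h1
    exact one_ne_zero h1

end

end Groth.Agent.Lib.Helper65
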