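import Mathlib.RingTheory.Noetherian.Basic
import Mathlib.RingTheory.Ideal.Maps

/-!
# Helper65: a surjective endomorphism of a Noetherian ring is injective
-/

set_option autoImplicit false
universe u

namespace Groth.Agent.Lib.Helper65

theorem ringHom_injective_of_surjective_endo {R : Type u} [CommRing R] [IsNoetherianRing R]
    (g : R →+* R) (hg : Function.Surjective g) : Function.Injective g := by
  let K : ℕ →o Ideal R :=
    ⟨fun n => RingHom.ker (g ^ n), by
      apply monotone_nat_of_le_succ
      intro n x hx
      rw [RingHom.mem_ker] at hx ⊢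
      rw [pow_succ', RingHom.mul_def, RingHom.comp_apply, hx, map_zero]⟩
  obtain ⟨n, hn⟩ := (monotone_stabilizes_iff_noetherian (R := R) (M := R)).2 inferInstance K
  have hsurj : Function.Surjective (g ^ n) := by
    rw [RingHom.coe_pow]
    exact hg.iterate n
  rw [injective_iff_map_eq_zero]
  intro x hx
  obtain ⟨y, rfl⟩ := hsurj x
  have hy : y ∈ K (n + 1) := by
    change y ∈ RingHom.ker (g ^ (n + 1))
    rw [RingHom.mem_ker, pow_succ', RingHom.mul_def, RingHom.comp_apply]
    exact hx
  rw [← hn (n + 1) (Nat.le_succ n)] at hy
  exact hy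

end Groth.Agent.Lib.Helper65
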