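import Groth.Prelude.Def_AlgSt3
import Mathlib.AlgebraicGeometry.Morphisms.Immersion

/-!
# Helper65: representable monomorphisms of sheaves are monomorphisms
-/

set_option autoImplicit false

universe u

open CategoryTheory CategoryTheory.Limits AlgebraicGeometry Opposite

namespace Groth.Agent.Lib.Helper65

variable {S : Scheme.{u}}

/-- A representable morphism of fppf sheaves all of whose base changes to schemes are monomorphisms is a
monomorphism. -/
theorem relative_monomorphisms_le_monomorphisms :
    (MorphismProperty.monomorphisms (Over S)).relative (AlgSp.yon S) ≤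
      MorphismProperty.monomorphisms (AlgSp.Sp S) := by
  intro F G f hf
  suffices ∀ {X : Over S} {a b : (AlgSp.yon S).obj X ⟶ F}, a ≫ f = b ≫ f → a = b from
    ⟨fun _ _ h ↦ (AlgSp.J S).hom_ext_uliftYoneda (fun _ _ ↦ this (by simp only [Category.assoc, h]))⟩
  intro X a b h
  suffices hf.rep.lift (g := a ≫ f) a (𝟙 X) (by simp) = hf.rep.lift b (𝟙 X) (by simp [← h]) by
    simpa using (AlgSp.yon S).congr_map this =≫ (hf.rep.fst (a ≫ f))
  have : Mono (hf.rep.snd (a ≫ f)) := hf.property_snd (a ≫ f)
  simp only [← cancel_mono (hf.rep.snd (a ≫ f)), Functor.relativelyRepresentable.lift_snd]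

theorem immersion_le_mono :
    MorphismProperty.inverseImage (@IsImmersion) (Over.forget S) ≤
      MorphismProperty.monomorphisms (Over S) := by
  intro V U g hg
  have h1 : IsImmersion g.left := hg
  have h2 : Mono ((Over.forget S).map g) := by
    change Mono g.left
    infer_instance
  exact (Over.forget S).mono_of_mono_map h2

theorem repWith_immersion_le_mono :
    AlgSp.RepWith (S := S) @IsImmersion ≤ MorphismProperty.monomorphisms (AlgSp.Sp S) :=
  (MorphismProperty.relative_monotone immersion_le_mono).trans relative_monomorphisms_le_monomorphisms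

end Groth.Agent.Lib.Helper65
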