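import Groth.Prelude.Def_AlgSt2
import Groth.Agent.Lib.Helper65.FpPaste
import Groth.Agent.Lib.Helper65.BasedPost

/-!
# Helper65: invariance of `RepByAlgSpWith`, `IsAlgStack`, `IsDM` under equivalences over the base
-/

set_option autoImplicit false
set_option backward.isDefEq.respectTransparency false
set_option backward.isDefEq.respectTransparency.types false

universe w' v' w v u

open CategoryTheory CategoryTheory.Functor CategoryTheory.Limits AlgebraicGeometry Opposite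

namespace Groth.Agent.Lib.Helper65

open FibCat Groth.Agent.Lib.Helper31 AlgSt

variable {S : Scheme.{u}}

/-- The map of sheaves attached to a functor into a slice only depends on the functor up to 2-isomorphism. -/
theorem spMapOfOver_congr {F : AlgSp.Sp S} {U : Over S} {Φ Φ' : ofSp F ⥤ᵇ FibCat.overCat U} (i : Φ ≅ Φ') :
    spMapOfOver Φ = spMapOfOver Φ' := by
  apply ObjectProperty.hom_ext
  apply NatTrans.ext
  funext T
  ext x
  change (⟨secHom Φ ⟨T.unop, x⟩⟩ : ULift _) = ⟨secHom Φ' ⟨T.unop, x⟩⟩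
  congr 1
  obtain ⟨a, ha⟩ : ∃ a : (ofSp F).obj, a = ⟨T.unop, x⟩ := ⟨_, rfl⟩
  rw [← ha]
  have h1 : (FibCat.overCat U).p.IsHomLift (𝟙 a.base) (i.hom.toNatTrans.app a) := i.hom.isHomLift' a
  have h2 : (i.hom.toNatTrans.app a).left = eqToHom (Φ.w_obj a) ≫ 𝟙 a.base ≫ eqToHom (Φ'.w_obj a).symm :=
    IsHomLift.fac' (FibCat.overCat U).p (𝟙 a.base) (i.hom.toNatTrans.app a)
  have h3 : (i.hom.toNatTrans.app a).left ≫ (Φ'.obj a).hom = (Φ.obj a).hom := Over.w (i.hom.toNatTrans.app a)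
  unfold secHom
  rw [← h3, h2]
  simp

section Transfer

variable {𝒳 𝒴 𝒳' 𝒴' : AlgSt.Cat S}

/-- Transfer of one representation along an equivalence of 2-fibre products compatible with the first
projections. -/
theorem exists_rep_of_equiv (P : MorphismProperty (AlgSp.Sp S)) {U : Over S}
    {f : 𝒳 ⥤ᵇ 𝒴} {f' : 𝒳' ⥤ᵇ 𝒴'} {y : FibCat.overCat U ⥤ᵇ 𝒴} {y' : FibCat.overCat U ⥤ᵇ 𝒴'}
    (Ψ : FibCat.fp y' f' ⥤ᵇ FibCat.fp y f) (hΨ : IsEquivOver Ψ)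
    (i : BasedFunctor.comp Ψ (FibCat.fpFst y f) ≅ FibCat.fpFst y' f')
    (h : ∃ (F : AlgSp.Space S) (e : ofSp F.obj ⥤ᵇ FibCat.fp y' f'),
      FibCat.IsEquivOver e ∧ P (spMapOfOver (BasedFunctor.comp e (FibCat.fpFst y' f')))) :
    ∃ (F : AlgSp.Space S) (e : ofSp F.obj ⥤ᵇ FibCat.fp y f),
      FibCat.IsEquivOver e ∧ P (spMapOfOver (BasedFunctor.comp e (FibCat.fpFst y f))) := by
  obtain ⟨F, e, he, hP⟩ := h
  refine ⟨F, BasedFunctor.comp e Ψ, isEquivOver_comp e Ψ he hΨ, ?_⟩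
  have : spMapOfOver (BasedFunctor.comp (BasedFunctor.comp e Ψ) (FibCat.fpFst y f)) =
      spMapOfOver (BasedFunctor.comp e (FibCat.fpFst y' f')) :=
    spMapOfOver_congr (bWhiskerLeftIso e i)
  rw [this]
  exact hP

/-- Invariance of `RepByAlgSpWith` under equivalences, one direction. -/
theorem repByAlgSpWith_of_square (P : MorphismProperty (AlgSp.Sp S)) (f : 𝒳 ⥤ᵇ 𝒴) (f' : 𝒳' ⥤ᵇ 𝒴')
    (a : 𝒳' ⥤ᵇ 𝒳) (b : 𝒴' ⥤ᵇ 𝒴) (ha : IsEquivOver a) (hb : IsEquivOver b)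
    (e : BasedFunctor.comp f' b ≅ BasedFunctor.comp a f) (hf : RepByAlgSpWith P f) :
    RepByAlgSpWith P f' := by
  intro U y'
  let Φ : fp y' f' ⥤ᵇ fp (BasedFunctor.comp y' b) f :=
    fpMap (F := y') (G := f') (F' := BasedFunctor.comp y' b) (G' := f)
      (BasedFunctor.id _) a b (Iso.refl _) e
  have hΦ : IsEquivOver Φ := fpMap_isEquivOver _ _ _ _ _ (isEquivOver_id _) ha hb
  obtain ⟨Ψ, hΨ, ⟨i₁⟩, ⟨i₂⟩⟩ := exists_inverse_equivOver Φ hΦ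
  -- `Ψ ⋙ fpFst = Ψ ⋙ Φ ⋙ fpFst ≅ fpFst`
  have hfst : BasedFunctor.comp Φ (fpFst (BasedFunctor.comp y' b) f) = fpFst y' f' := rfl
  let j : BasedFunctor.comp Ψ (fpFst y' f') ≅ fpFst (BasedFunctor.comp y' b) f :=
    bWhiskerRightIso i₂ (fpFst (BasedFunctor.comp y' b) f)
  exact exists_rep_of_equiv P Ψ hΨ j (hf U (BasedFunctor.comp y' b))

theorem repByAlgSpWith_of_square' (P : MorphismProperty (AlgSp.Sp S)) (f : 𝒳 ⥤ᵇ 𝒴) (f' : 𝒳' ⥤ᵇ 𝒴')
    (a : 𝒳' ⥤ᵇ 𝒳) (b : 𝒴' ⥤ᵇ 𝒴) (ha : IsEquivOver a) (hb : IsEquivOver b)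
    (e : BasedFunctor.comp f' b ≅ BasedFunctor.comp a f) (hf' : RepByAlgSpWith P f') :
    RepByAlgSpWith P f := by
  intro U y
  obtain ⟨b', hb', -, ⟨e₂⟩⟩ := exists_inverse_equivOver b hb
  let α : BasedFunctor.comp (BasedFunctor.comp y b') b ≅ BasedFunctor.comp (BasedFunctor.id _) y :=
    bWhiskerLeftIso y e₂
  let Φ : fp (BasedFunctor.comp y b') f' ⥤ᵇ fp y f :=
    fpMap (F := BasedFunctor.comp y b') (G := f') (F' := y) (G' := f)
      (BasedFunctor.id _) a b α e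
  have hΦ : IsEquivOver Φ := fpMap_isEquivOver _ _ _ _ _ (isEquivOver_id _) ha hb
  have hfst : BasedFunctor.comp Φ (fpFst y f) = fpFst (BasedFunctor.comp y b') f' := rfl
  exact exists_rep_of_equiv P Φ hΦ (eqToIso hfst) (hf' U (BasedFunctor.comp y b'))

theorem repByAlgSpWith_iff_of_square (P : MorphismProperty (AlgSp.Sp S)) (f : 𝒳 ⥤ᵇ 𝒴) (f' : 𝒳' ⥤ᵇ 𝒴')
    (a : 𝒳' ⥤ᵇ 𝒳) (b : 𝒴' ⥤ᵇ 𝒴) (ha : IsEquivOver a) (hb : IsEquivOver b)
    (e : BasedFunctor.comp f' b ≅ BasedFunctor.comp a f) :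
    RepByAlgSpWith P f ↔ RepByAlgSpWith P f' :=
  ⟨repByAlgSpWith_of_square P f f' a b ha hb e, repByAlgSpWith_of_square' P f f' a b ha hb e⟩

/-- Base change of a morphism representable by algebraic spaces with property `P`. -/
theorem repByAlgSpWith_fpFst {𝒵 : AlgSt.Cat S} (P : MorphismProperty (AlgSp.Sp S)) (f : 𝒳 ⥤ᵇ 𝒴)
    (g : 𝒵 ⥤ᵇ 𝒴) (hf : RepByAlgSpWith P f) : RepByAlgSpWith P (fpFst g f) := by
  intro U y
  have hΦ := fpPasteFst_isEquivOver y g f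
  obtain ⟨Ψ, hΨ, ⟨i₁⟩, ⟨i₂⟩⟩ := exists_inverse_equivOver _ hΦ
  let j : BasedFunctor.comp Ψ (fpFst y (fpFst g f)) ≅ fpFst (BasedFunctor.comp y g) f :=
    bWhiskerRightIso i₂ (fpFst (BasedFunctor.comp y g) f)
  exact exists_rep_of_equiv P Ψ hΨ j (hf U (BasedFunctor.comp y g))

theorem repByAlgSp1_iff_top (f : 𝒳 ⥤ᵇ 𝒴) : RepByAlgSp1 f ↔ RepByAlgSpWith ⊤ f := by
  constructor
  · intro h U y
    obtain ⟨F, e, he⟩ := h U y
    exact ⟨F, e, he, trivial⟩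
  · intro h U y
    obtain ⟨F, e, he, -⟩ := h U y
    exact ⟨F, e, he⟩

end Transfer

end Groth.Agent.Lib.Helper65

namespace Groth.Agent.Lib.Helper65

open FibCat Groth.Agent.Lib.Helper31 AlgSt

section AlgStackInv

variable {S : Scheme.{u}} {𝒳 𝒴 : AlgSt.Cat S}

theorem repByAlgSp1_diag_of_equivOver (e : 𝒳 ⥤ᵇ 𝒴) (he : IsEquivOver e)
    (h : RepByAlgSp1 (FibCat.diag (FibCat.toSelf 𝒴))) : RepByAlgSp1 (FibCat.diag (FibCat.toSelf 𝒳)) := by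
  rw [repByAlgSp1_iff_top] at h ⊢
  let b : fp (toSelf 𝒳) (toSelf 𝒳) ⥤ᵇ fp (toSelf 𝒴) (toSelf 𝒴) :=
    fpMap e e (BasedFunctor.id (selfOver (Over S))) (toSelfIso e) (toSelfIso e)
  have hb : IsEquivOver b := fpMap_isEquivOver _ _ _ _ _ he he (isEquivOver_id _)
  exact repByAlgSpWith_of_square ⊤ (FibCat.diag (FibCat.toSelf 𝒴)) (FibCat.diag (FibCat.toSelf 𝒳)) e b he hb
    (diagSquare e (BasedFunctor.id (selfOver (Over S))) (toSelfIso e)) h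

theorem hasAtlas_of_equivOver (P : MorphismProperty (AlgSp.Sp S)) (e : 𝒳 ⥤ᵇ 𝒴) (he : IsEquivOver e)
    (h : HasAtlas P 𝒳) : HasAtlas P 𝒴 := by
  obtain ⟨U, x, h1, h2⟩ := h
  refine ⟨U, BasedFunctor.comp x e, ?_, ?_⟩
  · exact repByAlgSpWith_of_square' P (BasedFunctor.comp x e) x (BasedFunctor.id _) e
      (isEquivOver_id _) he (Iso.refl _) h1
  · exact repByAlgSpWith_of_square' AlgSp.IsSurjectiveMor (BasedFunctor.comp x e) x (BasedFunctor.id _) e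
      (isEquivOver_id _) he (Iso.refl _) h2

theorem isAlgStack_of_equivOver (K : Precoverage Scheme.{u}) (e : 𝒳 ⥤ᵇ 𝒴) (he : IsEquivOver e)
    (h : IsAlgStack K 𝒳) : IsAlgStack K 𝒴 := by
  obtain ⟨e', he', -, -⟩ := exists_inverse_equivOver e he
  exact ⟨(isStack_iff_of_equivOver _ e he).mp h.isStack,
    repByAlgSp1_diag_of_equivOver e' he' h.diag,
    hasAtlas_of_equivOver _ e he h.atlas⟩

theorem isAlgStack_iff_of_equivOver (K : Precoverage Scheme.{u}) (e : 𝒳 ⥤ᵇ 𝒴) (he : IsEquivOver e) :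
    IsAlgStack K 𝒳 ↔ IsAlgStack K 𝒴 := by
  refine ⟨isAlgStack_of_equivOver K e he, ?_⟩
  obtain ⟨e', he', -, -⟩ := exists_inverse_equivOver e he
  exact isAlgStack_of_equivOver K e' he'

theorem isDM_iff_of_equivOver (K : Precoverage Scheme.{u}) (e : 𝒳 ⥤ᵇ 𝒴) (he : IsEquivOver e) :
    IsDM K 𝒳 ↔ IsDM K 𝒴 := by
  obtain ⟨e', he', -, -⟩ := exists_inverse_equivOver e he
  constructor
  · rintro ⟨h1, h2⟩
    exact ⟨isAlgStack_of_equivOver K e he h1, hasAtlas_of_equivOver _ e he h2⟩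
  · rintro ⟨h1, h2⟩
    exact ⟨isAlgStack_of_equivOver K e' he' h1, hasAtlas_of_equivOver _ e' he' h2⟩

end AlgStackInv

end Groth.Agent.Lib.Helper65
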