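import Groth.Agent.Lib.Helper65.RepSp2
import Groth.Agent.Lib.Helper54.EtLocalBridge
import Groth.Agent.Lib.Helper54.LocPChart
import Groth.Agent.H52.Points
import Groth.Prelude.Def_AlgSpCov

/-!
# Helper65: properties of morphisms representable by algebraic spaces, tested on algebraic spaces
-/

set_option autoImplicit false
set_option backward.isDefEq.respectTransparency false
set_option backward.isDefEq.respectTransparency.types false

universe u

open CategoryTheory CategoryTheory.Functor CategoryTheory.Limits Opposite AlgebraicGeometry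

namespace Groth.Agent.Lib.Helper65

open FibCat Groth.Agent.Lib.Helper31

variable {S : Scheme.{u}}

section SpLevel

/-- Stability under base change among algebraic spaces (the form used in the statements). -/
def StableBC (P : MorphismProperty (AlgSp.Sp S)) : Prop :=
  ∀ ⦃X₁ Y₁ X₂ Y₂ : AlgSp.Sp S⦄, AlgSp.IsAlgSpace X₁ → AlgSp.IsAlgSpace Y₁ → AlgSp.IsAlgSpace X₂ →
    AlgSp.IsAlgSpace Y₂ → ∀ (a : X₁ ⟶ Y₁) (b : Y₂ ⟶ Y₁) (a' : X₂ ⟶ Y₂) (b' : X₂ ⟶ X₁),
    IsPullback b' a' a b → P a → P a'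

/-- An étale surjective atlas is an fppf covering. -/
theorem isFppfCover_atlas {Z : AlgSp.Sp S} {T : Over S} (p : (AlgSp.yon S).obj T ⟶ Z)
    (hpe : AlgSp.RepWith @Etale p) (hps : AlgSp.RepWith @Surjective p) :
    AlgSp.IsFppfCover (fun _ : PUnit.{u + 1} => (AlgSp.yon S).obj T) (fun _ => p) := by
  refine ⟨fun _ => ⟨?_, ?_⟩, fun x => ⟨PUnit.unit, ?_⟩⟩
  · have h := Groth.Agent.Lib.Helper54.locP_yon_map_comp (S := S) @Flat
      (fun A B φ hφ => by have : Etale φ := hφ; exact (inferInstance : Flat φ))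
      (𝟙 T) (inferInstanceAs (Flat (𝟙 T.left))) p hpe
    rwa [(AlgSp.yon S).map_id, Category.id_comp] at h
  · have := Groth.Agent.Lib.Helper54.isMultiplicative_lfp.{u}
    have h := Groth.Agent.Lib.Helper54.locP_yon_map_comp (S := S) @LocallyOfFinitePresentation
      (fun A B φ hφ => by have : Etale φ := hφ; exact (inferInstance : LocallyOfFinitePresentation φ))
      (𝟙 T) (inferInstanceAs (LocallyOfFinitePresentation (𝟙 T.left))) p hpe
    rwa [(AlgSp.yon S).map_id, Category.id_comp] at h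
  · exact Groth.Agent.H52.surjective_points_of_repWith_surjective p hps x

variable (Q : MorphismProperty (AlgSp.Sp S))

/-- A morphism of algebraic spaces all of whose base changes to schemes have `Q` has `Q`, for `Q` fppf local
on the base. -/
theorem prop_of_repBySpWith (hQ : AlgSp.IsLocalOnBase AlgSp.IsFppfCover Q) {V Z : AlgSp.Space S}
    (a : V.obj ⟶ Z.obj) (h : AlgSp.RepBySpWith Q a.hom) : Q a := by
  obtain ⟨T, p, hpe, hps⟩ := Z.property.atlas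
  have sq : IsPullback (pullback.fst a p) (pullback.snd a p) a p := IsPullback.of_hasPullback a p
  have sq' := sq.map (sheafToPresheaf (AlgSp.J S) (Type (u + 1)))
  obtain ⟨hsh, hW, hQW⟩ := h p.hom (pullback.fst a p).hom (pullback.snd a p).hom sq'
  exact (hQ (fun _ : PUnit.{u + 1} => (AlgSp.yon S).obj T) (fun _ => p) Z.property
    (fun _ => AlgSp.IsAlgSpace.yon_obj T) (isFppfCover_atlas p hpe hps) a V.property
    (fun _ => pullback a p) (fun _ => pullback.snd a p) (fun _ => pullback.fst a p)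
    (fun _ => hW) (fun _ => sq)).2 (fun _ => hQW)

/-- Conversely, for `Q` stable under base change. -/
theorem repBySpWith_of_prop (hQb : StableBC Q) {V Z : AlgSp.Space S}
    (a : V.obj ⟶ Z.obj) (h : Q a) : AlgSp.RepBySpWith Q a.hom := by
  intro U ξ F' fst snd sq
  obtain ⟨hsh, hF'⟩ := repBySp_of_space a ξ fst snd sq
  refine ⟨hsh, hF', ?_⟩
  exact hQb V.property Z.property hF' (AlgSp.IsAlgSpace.yon_obj U) a
    (ObjectProperty.homMk ξ : (AlgSp.yon S).obj U ⟶ Z.obj)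
    (ObjectProperty.homMk snd : (⟨F', hsh⟩ : AlgSp.Sp S) ⟶ (AlgSp.yon S).obj U)
    (ObjectProperty.homMk fst : (⟨F', hsh⟩ : AlgSp.Sp S) ⟶ V.obj)
    (IsPullback.of_map_of_faithful (sheafToPresheaf (AlgSp.J S) (Type (u + 1))) sq) h

/-- The restriction of a property of morphisms of sheaves to morphisms of algebraic spaces. -/
def restrictSp : MorphismProperty (AlgSp.Sp S) := fun X Y f =>
  Q f ∧ AlgSp.IsAlgSpace X ∧ AlgSp.IsAlgSpace Y

theorem restrictSp_respectsIso (hQb : StableBC Q) : (restrictSp Q).RespectsIso := by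
  apply MorphismProperty.RespectsIso.mk
  · intro X Y Z e f hf
    obtain ⟨hf, hY, hZ⟩ := hf
    have hX : AlgSp.IsAlgSpace X := hY.of_iso e.symm
    refine ⟨?_, hX, hZ⟩
    exact hQb hY hZ hX hZ f (𝟙 Z) (e.hom ≫ f) e.hom
      (IsPullback.of_horiz_isIso ⟨by simp⟩) hf
  · intro X Y Z e f hf
    obtain ⟨hf, hX, hY⟩ := hf
    have hZ : AlgSp.IsAlgSpace Z := hY.of_iso e
    refine ⟨?_, hX, hZ⟩
    exact hQb hX hY hX hZ f e.inv (f ≫ e.hom) (𝟙 X)
      (IsPullback.of_horiz_isIso ⟨by simp⟩) hf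

theorem restrictSp_stableBC (hQb : StableBC Q) : StableBC (restrictSp Q) := by
  intro X₁ Y₁ X₂ Y₂ h1 h2 h3 h4 a b a' b' sq ha
  exact ⟨hQb h1 h2 h3 h4 a b a' b' sq ha.1, h3, h4⟩

theorem restrictSp_isLocalOnBase (hQ : AlgSp.IsLocalOnBase AlgSp.IsFppfCover Q) :
    AlgSp.IsLocalOnBase AlgSp.IsFppfCover (restrictSp Q) := by
  intro ι Y Yi g hY hYi hcov X f hX Xi p q hXi hsq
  have := hQ Yi g hY hYi hcov f hX Xi p q hXi hsq
  constructor
  · intro h i
    exact ⟨this.1 h.1 i, hXi i, hYi i⟩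
  · intro h
    exact ⟨this.2 (fun i => (h i).1), hX, hY⟩

end SpLevel

section StackLevel

variable {𝒳 𝒴 : AlgSt.Cat S} (P : MorphismProperty (AlgSp.Sp S))

theorem repByAlgSpWith_restrictSp_iff (f : 𝒳 ⥤ᵇ 𝒴) :
    AlgSt.RepByAlgSpWith (restrictSp P) f ↔ AlgSt.RepByAlgSpWith P f := by
  constructor
  · intro h U y
    obtain ⟨F, e, he, hP⟩ := h U y
    exact ⟨F, e, he, hP.1⟩
  · intro h U y
    obtain ⟨F, e, he, hP⟩ := h U y
    exact ⟨F, e, he, hP, F.property, AlgSp.IsAlgSpace.yon_obj U⟩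

/-- Refinement of `repByAlgSp_of_repByAlgSp1_ofSp`, recording the morphism of algebraic spaces. -/
theorem exists_space_of_repByAlgSp1_ofSp {𝒲 : AlgSt.Cat S} (h𝒲 : IsFibGrpd 𝒲.p) (Z : AlgSp.Space S)
    (π : 𝒲 ⥤ᵇ AlgSt.ofSp Z.obj) (hπ : AlgSt.RepByAlgSp1 π) :
    ∃ (V : AlgSp.Space S) (a : V ⟶ Z) (E : AlgSt.ofSp V.obj ⥤ᵇ 𝒲), IsEquivOver E ∧
      Nonempty (BasedFunctor.comp E π ≅ AlgSt.ofSpMap a.hom) := by
  have hZfib : IsFibGrpd (AlgSt.ofSp Z.obj).p := Stk.isFibGrpd_ofPsh _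
  have hfaith : π.toFunctor.Faithful := Groth.Agent.S12776.result h𝒲 hZfib π hπ
  have hset : IsFibSetoid 𝒲.p := by
    refine ⟨h𝒲, fun U => fun a b => ⟨fun φ ψ => ?_⟩⟩
    apply Functor.Fiber.hom_ext
    have hφ : 𝒲.p.IsHomLift (𝟙 U) φ.1 := φ.2
    have hψ : 𝒲.p.IsHomLift (𝟙 U) ψ.1 := ψ.2
    have h1 : (AlgSt.ofSp Z.obj).p.IsHomLift (𝟙 U) (π.map φ.1) := BasedFunctor.preserves_isHomLift π _ _
    have h2 : (AlgSt.ofSp Z.obj).p.IsHomLift (𝟙 U) (π.map ψ.1) := BasedFunctor.preserves_isHomLift π _ _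
    have e : π.map φ.1 = π.map ψ.1 :=
      eq_of_isThin_fiber (U := U) (isThin_fiber_ofPsh Z.obj.obj) (π.map φ.1) (π.map ψ.1)
    exact hfaith.map_injective e
  obtain ⟨P, E, hE⟩ := exists_psh_of_isFibSetoid hset
  let a : P ⟶ Z.obj.obj := pshMapOf (BasedFunctor.comp E π)
  have ha1 : AlgSt.RepByAlgSp1 (Stk.ofPshMap a) := by
    rw [repByAlgSp1_iff_top] at hπ ⊢
    exact repByAlgSpWith_of_square ⊤ π (Stk.ofPshMap a) E (BasedFunctor.id _) hE (isEquivOver_id _)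
      (isoOfPshMap (BasedFunctor.comp E π)).symm hπ
  have ha : AlgSp.RepBySp a := repBySp_of_repByAlgSp1 a ha1
  obtain ⟨hsh, hsp⟩ := Groth.Agent.S10091.result S P Z.obj.obj a ha
    ((AlgSp.isAlgSpaceP_obj_iff Z.obj).2 Z.property)
  exact ⟨⟨⟨P, hsh⟩, hsp⟩, ObjectProperty.homMk (ObjectProperty.homMk a), E, hE,
    ⟨isoOfPshMap (BasedFunctor.comp E π)⟩⟩

/-- Key lemma: a morphism representable by algebraic spaces with `P` (tested on schemes) has `P` after base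
change to any algebraic space. -/
theorem exists_rep_ofSp_of_repByAlgSpWith (hPb : StableBC P)
    (hP : AlgSp.IsLocalOnBase AlgSp.IsFppfCover P) (h𝒳 : IsFibGrpd 𝒳.p) (h𝒴 : IsFibGrpd 𝒴.p)
    (f : 𝒳 ⥤ᵇ 𝒴) (hf : AlgSt.RepByAlgSpWith P f) (Z : AlgSp.Space S) (z : AlgSt.ofSp Z.obj ⥤ᵇ 𝒴) :
    ∃ (V : AlgSp.Space S) (a : V ⟶ Z) (e : AlgSt.ofSp V.obj ⥤ᵇ fp z f), IsEquivOver e ∧
      Nonempty (BasedFunctor.comp e (fpFst z f) ≅ AlgSt.ofSpMap a.hom) ∧ P a.hom := by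
  have hf' : AlgSt.RepByAlgSpWith (restrictSp P) f := (repByAlgSpWith_restrictSp_iff P f).2 hf
  have hπ' : AlgSt.RepByAlgSpWith (restrictSp P) (fpFst z f) := repByAlgSpWith_fpFst _ f z hf'
  have hπ : AlgSt.RepByAlgSp1 (fpFst z f) := by
    intro U y
    obtain ⟨F, e, he, -⟩ := hπ' U y
    exact ⟨F, e, he⟩
  have hfib : IsFibGrpd (fp z f).p := isFibGrpd_fp z f (Stk.isFibGrpd_ofPsh _) h𝒳 h𝒴
  obtain ⟨V, a, E, hE, ⟨i⟩⟩ := exists_space_of_repByAlgSp1_ofSp hfib Z (fpFst z f) hπ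
  refine ⟨V, a, E, hE, ⟨i⟩, ?_⟩
  have h1 : AlgSt.RepByAlgSpWith (restrictSp P) (Stk.ofPshMap a.hom.hom) :=
    repByAlgSpWith_of_square (restrictSp P) (fpFst z f) (Stk.ofPshMap a.hom.hom) E (BasedFunctor.id _) hE
      (isEquivOver_id _) i.symm hπ'
  have := restrictSp_respectsIso P hPb
  have h2 : AlgSp.RepBySpWith (restrictSp P) a.hom.hom :=
    repBySpWith_of_repByAlgSpWith a.hom.hom (restrictSp P) (repBySp_of_space a.hom) h1
  exact (prop_of_repBySpWith (restrictSp P) (restrictSp_isLocalOnBase P hP) a.hom h2).1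

end StackLevel

section Comp

variable {𝒳 𝒴 𝒵 : AlgSt.Cat S} (P : MorphismProperty (AlgSp.Sp S))

theorem spMapOfOver_ofSpMap_comp {X Y : AlgSp.Sp S} {U : Over S} (a : X ⟶ Y)
    (Φ : AlgSt.ofSp Y ⥤ᵇ FibCat.overCat U) :
    AlgSt.spMapOfOver (BasedFunctor.comp (AlgSt.ofSpMap a) Φ) = a ≫ AlgSt.spMapOfOver Φ := by
  apply ObjectProperty.hom_ext
  apply NatTrans.ext
  funext T
  ext x
  rfl

/-- Stability under composition among algebraic spaces (the form used in the statements). -/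
def StableComp (P : MorphismProperty (AlgSp.Sp S)) : Prop :=
  ∀ ⦃X Y Z : AlgSp.Sp S⦄, AlgSp.IsAlgSpace X → AlgSp.IsAlgSpace Y → AlgSp.IsAlgSpace Z →
    ∀ (a : X ⟶ Y) (b : Y ⟶ Z), P a → P b → P (a ≫ b)

/-- Composition of morphisms representable by algebraic spaces with property `P`. -/
theorem repByAlgSpWith_comp (hPb : StableBC P) (hPc : StableComp P)
    (hP : AlgSp.IsLocalOnBase AlgSp.IsFppfCover P) (h𝒳 : IsFibGrpd 𝒳.p) (h𝒴 : IsFibGrpd 𝒴.p)
    (f : 𝒳 ⥤ᵇ 𝒴) (g : 𝒴 ⥤ᵇ 𝒵) (hf : AlgSt.RepByAlgSpWith P f) (hg : AlgSt.RepByAlgSpWith P g) :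
    AlgSt.RepByAlgSpWith P (BasedFunctor.comp f g) := by
  intro U z
  obtain ⟨G, eG, heG, hb⟩ := hg U z
  let yG : AlgSt.ofSp G.obj ⥤ᵇ 𝒴 := BasedFunctor.comp eG (fpSnd z g)
  obtain ⟨V, a, E, hE, ⟨i⟩, hPa⟩ := exists_rep_ofSp_of_repByAlgSpWith P hPb hP h𝒳 h𝒴 f hf G yG
  let Φ : fp yG f ⥤ᵇ fp (fpSnd z g) f :=
    fpMap (F := yG) (G := f) (F' := fpSnd z g) (G' := f) eG (BasedFunctor.id _) (BasedFunctor.id _)
      (Iso.refl _) (Iso.refl _)
  have hΦ : IsEquivOver Φ := fpMap_isEquivOver _ _ _ _ _ heG (isEquivOver_id _) (isEquivOver_id _)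
  let Ψ : AlgSt.ofSp V.obj ⥤ᵇ fp z (BasedFunctor.comp f g) :=
    BasedFunctor.comp (BasedFunctor.comp E Φ) (fpPasteSnd z g f)
  have hΨ : IsEquivOver Ψ :=
    isEquivOver_comp _ _ (isEquivOver_comp E Φ hE hΦ) (fpPasteSnd_isEquivOver z g f)
  refine ⟨V, Ψ, hΨ, ?_⟩
  have j : BasedFunctor.comp Ψ (fpFst z (BasedFunctor.comp f g)) ≅
      BasedFunctor.comp (AlgSt.ofSpMap a.hom) (BasedFunctor.comp eG (fpFst z g)) :=
    bWhiskerRightIso i (BasedFunctor.comp eG (fpFst z g))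
  rw [spMapOfOver_congr j, spMapOfOver_ofSpMap_comp]
  exact hPc V.property G.property (AlgSp.IsAlgSpace.yon_obj U) a.hom _ hPa hb

end Comp

end Groth.Agent.Lib.Helper65
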