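import Groth.Agent.Lib.Helper65.FpProd
import Groth.Agent.Lib.Helper65.FpFib
import Groth.Agent.Lib.Helper65.AlgStInv
import Groth.Agent.Lib.Helper65.RepWithP

/-!
# Helper65: products of morphisms representable by algebraic spaces with a property
-/

set_option autoImplicit false

universe u

open CategoryTheory CategoryTheory.Functor CategoryTheory.Limits AlgebraicGeometry

namespace Groth.Agent.Lib.Helper65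

open FibCat AlgSt Groth.Agent.Lib.Helper31

variable {S : Scheme.{u}} {𝒳 𝒴 𝒵 : AlgSt.Cat S} (P : MorphismProperty (AlgSp.Sp S))

theorem repByAlgSpWith_of_iso' {f f' : 𝒳 ⥤ᵇ 𝒴} (e : f ≅ f') (hf : RepByAlgSpWith P f) :
    RepByAlgSpWith P f' :=
  repByAlgSpWith_of_square P f f' (BasedFunctor.id 𝒳) (BasedFunctor.id 𝒴) (isEquivOver_id 𝒳)
    (isEquivOver_id 𝒴) e.symm hf

theorem repByAlgSpWith_fpSnd' (f : 𝒳 ⥤ᵇ 𝒴) (g : 𝒵 ⥤ᵇ 𝒴) (hf : RepByAlgSpWith P f) :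
    RepByAlgSpWith P (fpSnd f g) :=
  repByAlgSpWith_of_square P (fpFst g f) (fpSnd f g) (fpSwap f g) (BasedFunctor.id 𝒵)
    (fpSwap_isEquivOver f g) (isEquivOver_id 𝒵) (Iso.refl _) (repByAlgSpWith_fpFst P f g hf)

variable {𝒳₁ 𝒳₂ 𝒴₁ 𝒴₂ : AlgSt.Cat S}

theorem repByAlgSpWith_prodMapLeft (f₁ : 𝒳₁ ⥤ᵇ 𝒴₁) (𝒳₂ : AlgSt.Cat S)
    (hf : RepByAlgSpWith P f₁) : RepByAlgSpWith P (prodMapLeft f₁ 𝒳₂) :=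
  repByAlgSpWith_of_square' P (prodMapLeft f₁ 𝒳₂) (fpSnd f₁ (fpFst (toSelf 𝒴₁) (toSelf 𝒳₂)))
    (prodLeftEquiv f₁ 𝒳₂) (BasedFunctor.id _) (prodLeftEquiv_isEquivOver f₁ 𝒳₂) (isEquivOver_id _)
    (prodLeftSquare f₁ 𝒳₂) (repByAlgSpWith_fpSnd' P f₁ _ hf)

theorem repByAlgSpWith_prodMapRight (𝒴₁ : AlgSt.Cat S) (f₂ : 𝒳₂ ⥤ᵇ 𝒴₂)
    (hf : RepByAlgSpWith P f₂) : RepByAlgSpWith P (prodMapRight 𝒴₁ f₂) :=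
  repByAlgSpWith_of_square' P (prodMapRight 𝒴₁ f₂) (fpFst (fpSnd (toSelf 𝒴₁) (toSelf 𝒴₂)) f₂)
    (prodRightEquiv 𝒴₁ f₂) (BasedFunctor.id _) (prodRightEquiv_isEquivOver 𝒴₁ f₂) (isEquivOver_id _)
    (prodRightSquare 𝒴₁ f₂) (repByAlgSpWith_fpFst P f₂ _ hf)

theorem repByAlgSpWith_prodMap (hPb : StableBC P) (hPc : StableComp P)
    (hP : AlgSp.IsLocalOnBase AlgSp.IsFppfCover P)
    (h𝒳₁ : IsFibGrpd 𝒳₁.p) (h𝒳₂ : IsFibGrpd 𝒳₂.p) (h𝒴₁ : IsFibGrpd 𝒴₁.p)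
    (f₁ : 𝒳₁ ⥤ᵇ 𝒴₁) (f₂ : 𝒳₂ ⥤ᵇ 𝒴₂) (hf₁ : RepByAlgSpWith P f₁) (hf₂ : RepByAlgSpWith P f₂)
    (e : BasedFunctor.comp (BasedFunctor.comp (fpFst (toSelf 𝒳₁) (toSelf 𝒳₂)) f₁) (toSelf 𝒴₁) ≅
      BasedFunctor.comp (BasedFunctor.comp (fpSnd (toSelf 𝒳₁) (toSelf 𝒳₂)) f₂) (toSelf 𝒴₂)) :
    RepByAlgSpWith P (fpLift (BasedFunctor.comp (fpFst (toSelf 𝒳₁) (toSelf 𝒳₂)) f₁)
        (BasedFunctor.comp (fpSnd (toSelf 𝒳₁) (toSelf 𝒳₂)) f₂) e) :=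
  repByAlgSpWith_of_iso' P (prodMapIso f₁ f₂ e)
    (repByAlgSpWith_comp P hPb hPc hP (isFibGrpd_fp _ _ h𝒳₁ h𝒳₂ isFibGrpd_selfOver)
      (isFibGrpd_fp _ _ h𝒴₁ h𝒳₂ isFibGrpd_selfOver) _ _
      (repByAlgSpWith_prodMapLeft P f₁ 𝒳₂ hf₁) (repByAlgSpWith_prodMapRight P 𝒴₁ f₂ hf₂))

end Groth.Agent.Lib.Helper65
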