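import Groth.Agent.Lib.Helper65.StTopProp
import Groth.Agent.H52.FibreProd

/-!
# Helper65: universal topological properties of morphisms of stacks representable by algebraic spaces
-/

set_option autoImplicit false
set_option backward.isDefEq.respectTransparency false
set_option backward.isDefEq.respectTransparency.types false

universe u

open CategoryTheory CategoryTheory.Functor CategoryTheory.Limits Opposite AlgebraicGeometry

namespace Groth.Agent.Lib.Helper65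

open FibCat Groth.Agent.Lib.Helper31

variable {S : Scheme.{u}}

section Basic

theorem isAlgStack_ofSp (X : AlgSp.Space S) :
    AlgSt.IsAlgStack Scheme.fppfPrecoverage (AlgSt.ofSp X.obj) := (isDM_ofSp X).1

theorem isAlgStack_overCat (U : Over S) :
    AlgSt.IsAlgStack Scheme.fppfPrecoverage (FibCat.overCat U) :=
  isAlgStack_of_equivOver _ (AlgSt.toOverCat U) (toOverCat_isEquivOver U)
    (isAlgStack_ofSp ⟨(AlgSp.yon S).obj U, AlgSp.IsAlgSpace.yon_obj U⟩)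

variable {𝒳 𝒴 𝒵 : AlgSt.Cat S}

theorem isAlgStack_fp_of_repByAlgSp1 (h𝒳 : IsFibGrpd 𝒳.p) (h𝒴 : IsFibGrpd 𝒴.p)
    (h𝒵 : AlgSt.IsAlgStack Scheme.fppfPrecoverage 𝒵) (f : 𝒳 ⥤ᵇ 𝒴) (g : 𝒵 ⥤ᵇ 𝒴)
    (hf : AlgSt.RepByAlgSp1 f) : AlgSt.IsAlgStack Scheme.fppfPrecoverage (fp g f) :=
  isAlgStack_of_repByAlgSp1 (isFibGrpd_fp g f h𝒵.isStack.1 h𝒳 h𝒴) h𝒵 (fpFst g f)
    ((repByAlgSp1_iff_top _).2 (repByAlgSpWith_fpFst ⊤ f g ((repByAlgSp1_iff_top f).1 hf)))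

/-- An equivalence over the base between algebraic stacks is a homeomorphism on points. -/
theorem isHomeomorph_points_map_of_isEquivOver (h𝒳 : AlgSt.IsAlgStack Scheme.fppfPrecoverage 𝒳)
    (h𝒴 : AlgSt.IsAlgStack Scheme.fppfPrecoverage 𝒴) (e : 𝒳 ⥤ᵇ 𝒴) (he : IsEquivOver e) :
    IsHomeomorph (AlgSt.Points.map e) := by
  obtain ⟨e', ⟨i₁⟩, ⟨i₂⟩⟩ := he
  refine isHomeomorph_iff_exists_inverse.2 ⟨continuous_points_map h𝒴.isStack.1 h𝒴.atlas e,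
    AlgSt.Points.map e', fun x => ?_, fun y => ?_, continuous_points_map h𝒳.isStack.1 h𝒳.atlas e'⟩
  · rw [← points_map_comp, points_map_congr i₁, points_map_id]
  · rw [← points_map_comp, points_map_congr i₂, points_map_id]

/-- The homeomorphism `|(Sch/U)| ≃ₜ |h_U|`. -/
noncomputable def overPtsHomeo (U : Over S) :
    AlgSt.Points (FibCat.overCat U) ≃ₜ AlgSp.Points ((AlgSp.yon S).obj U) :=
  ((isHomeomorph_points_map_of_isEquivOver (isAlgStack_overCat U)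
    (isAlgStack_ofSp ⟨(AlgSp.yon S).obj U, AlgSp.IsAlgSpace.yon_obj U⟩) (AlgSt.ofOverCat U)
    (ofOverCat_isEquivOver U)).homeomorph _).trans
    (ptsHomeo ⟨(AlgSp.yon S).obj U, AlgSp.IsAlgSpace.yon_obj U⟩)

theorem overPtsHomeo_apply (U : Over S) (x : AlgSt.Points (FibCat.overCat U)) :
    overPtsHomeo U x = overPts U x := rfl

end Basic

section Transfer

variable (τ : TopProp.{u})

theorem TopProp.points_map_iff (G : AlgSp.Space S) (U : Over S)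
    (Φ : AlgSt.ofSp G.obj ⥤ᵇ FibCat.overCat U) :
    τ.P (AlgSt.Points.map Φ) ↔ τ.P (AlgSp.Points.map (AlgSt.spMapOfOver Φ)) := by
  constructor
  · intro h
    refine τ.inv (ptsHomeo G).symm (overPtsHomeo U) _ _ (fun x => ?_) h
    rw [overPtsHomeo_apply, overPts_map, ← ptsHomeo_apply, Homeomorph.apply_symm_apply]
  · intro h
    refine τ.inv (ptsHomeo G) (overPtsHomeo U).symm _ _ (fun x => ?_) h
    apply (overPtsHomeo U).injective
    rw [Homeomorph.apply_symm_apply, overPtsHomeo_apply, overPts_map, ptsHomeo_apply]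

variable {𝒜 ℬ 𝒞 : AlgSt.Cat S}

theorem TopProp.comp_equiv_iff (h𝒜 : AlgSt.IsAlgStack Scheme.fppfPrecoverage 𝒜)
    (hℬ : AlgSt.IsAlgStack Scheme.fppfPrecoverage ℬ) (e : 𝒜 ⥤ᵇ ℬ) (he : IsEquivOver e) (f : ℬ ⥤ᵇ 𝒞) :
    τ.P (AlgSt.Points.map (BasedFunctor.comp e f)) ↔ τ.P (AlgSt.Points.map f) := by
  let E := (isHomeomorph_points_map_of_isEquivOver h𝒜 hℬ e he).homeomorph _
  have hE : ∀ x, E x = AlgSt.Points.map e x := fun _ => rfl
  constructor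
  · intro h
    refine τ.inv E.symm (Homeomorph.refl _) _ _ (fun x => ?_) h
    rw [points_map_comp, ← hE, Homeomorph.apply_symm_apply]
    rfl
  · intro h
    refine τ.inv E (Homeomorph.refl _) _ _ (fun x => ?_) h
    rw [points_map_comp, hE]
    rfl

end Transfer

section Main

variable (τ : TopProp.{u}) {𝒳 𝒴 : AlgSt.Cat S}

/-- If every base change of `f` to a scheme has `τ` universally (as a morphism of algebraic spaces), every base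
change of `f` to an algebraic stack has `τ` on points. -/
theorem TopProp.univ_of_repByAlgSpWith (h𝒳 : AlgSt.IsAlgStack Scheme.fppfPrecoverage 𝒳)
    (h𝒴 : AlgSt.IsAlgStack Scheme.fppfPrecoverage 𝒴) (f : 𝒳 ⥤ᵇ 𝒴)
    (h : AlgSt.RepByAlgSpWith (AlgSp.UnivSp (fun _ _ φ => τ.P (AlgSp.Points.map φ))) f)
    (𝒵 : AlgSt.Cat S) (h𝒵 : AlgSt.IsAlgStack Scheme.fppfPrecoverage 𝒵) (g : 𝒵 ⥤ᵇ 𝒴) :
    τ.P (AlgSt.Points.map (fpFst g f)) := by
  have hf1 : AlgSt.RepByAlgSp1 f := repByAlgSp1_of_repByAlgSpWith h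
  obtain ⟨V₀, z₀, hz1, hz2⟩ := h𝒵.atlas
  obtain ⟨G, e, he, hπ⟩ := h V₀ (BasedFunctor.comp z₀ g)
  have h1 : τ.P (AlgSp.Points.map
      (AlgSt.spMapOfOver (BasedFunctor.comp e (fpFst (BasedFunctor.comp z₀ g) f)))) :=
    hπ (AlgSp.IsAlgSpace.yon_obj V₀) (𝟙 _) (𝟙 _) _ (IsPullback.of_horiz_isIso ⟨by simp⟩)
  have h2 : τ.P (AlgSt.Points.map (BasedFunctor.comp e (fpFst (BasedFunctor.comp z₀ g) f))) :=
    (τ.points_map_iff G V₀ _).2 h1
  have hfp1 : AlgSt.IsAlgStack Scheme.fppfPrecoverage (fp (BasedFunctor.comp z₀ g) f) :=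
    isAlgStack_fp_of_repByAlgSp1 h𝒳.isStack.1 h𝒴.isStack.1 (isAlgStack_overCat V₀) f _ hf1
  have h3 : τ.P (AlgSt.Points.map (fpFst (BasedFunctor.comp z₀ g) f)) :=
    (τ.comp_equiv_iff (isAlgStack_ofSp G) hfp1 e he _).1 h2
  have hfp2 : AlgSt.IsAlgStack Scheme.fppfPrecoverage (fp g f) :=
    isAlgStack_fp_of_repByAlgSp1 h𝒳.isStack.1 h𝒴.isStack.1 h𝒵 f g hf1
  have hrep2 : AlgSt.RepByAlgSp1 (fpFst g f) :=
    (repByAlgSp1_iff_top _).2 (repByAlgSpWith_fpFst ⊤ f g ((repByAlgSp1_iff_top f).1 hf1))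
  have hfp3 : AlgSt.IsAlgStack Scheme.fppfPrecoverage (fp z₀ (fpFst g f)) :=
    isAlgStack_fp_of_repByAlgSp1 hfp2.isStack.1 h𝒵.isStack.1 (isAlgStack_overCat V₀) (fpFst g f) z₀ hrep2
  have h4 : τ.P (AlgSt.Points.map (fpFst z₀ (fpFst g f))) :=
    (τ.comp_equiv_iff hfp3 hfp1 (fpPasteFst z₀ g f) (fpPasteFst_isEquivOver z₀ g f)
      (fpFst (BasedFunctor.comp z₀ g) f)).2 h3
  refine τ.desc (AlgSt.Points.map (fpSnd z₀ (fpFst g f))) (AlgSt.Points.map (fpFst z₀ (fpFst g f)))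
    (AlgSt.Points.map (fpFst g f)) (AlgSt.Points.map z₀)
    (continuous_points_map hfp2.isStack.1 hfp2.atlas _)
    (continuous_points_map h𝒵.isStack.1 h𝒵.atlas z₀)
    (isOpenMap_points_map (isFibGrpd_overForget V₀) (isAlgStack_overCat V₀).atlas h𝒵.isStack.1 z₀
      (repByAlgSpWith_mono (locP_mono smooth_le_flat) _ hz1)
      (repByAlgSpWith_mono (locP_mono smooth_le_lfp) _ hz1))
    (isSurjective_of_repByAlgSpWith (isFibGrpd_overForget V₀) h𝒵.isStack.1 z₀ hz2)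
    (continuous_points_map h𝒵.isStack.1 h𝒵.atlas (fpFst g f)) (fun a => ?_) (fun t b htb => ?_) h4
  · rw [← points_map_comp, ← points_map_comp]
    exact (points_map_congr (fpIso z₀ (fpFst g f)) a).symm
  · exact exists_points_fp hfp2.isStack.1 h𝒵.isStack.1 (isFibGrpd_overForget V₀) (fpFst g f) z₀ t b htb

/-- Conversely, if every base change of `f` to an algebraic stack has `τ` on points, every base change of `f` to a
scheme has `τ` universally. -/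
theorem TopProp.repByAlgSpWith_of_univ (h𝒳 : AlgSt.IsAlgStack Scheme.fppfPrecoverage 𝒳)
    (h𝒴 : AlgSt.IsAlgStack Scheme.fppfPrecoverage 𝒴) (f : 𝒳 ⥤ᵇ 𝒴) (hf : AlgSt.RepByAlgSp1 f)
    (h : ∀ (𝒵 : AlgSt.Cat S), AlgSt.IsAlgStack Scheme.fppfPrecoverage 𝒵 → ∀ g : 𝒵 ⥤ᵇ 𝒴,
      τ.P (AlgSt.Points.map (fpFst g f))) :
    AlgSt.RepByAlgSpWith (AlgSp.UnivSp (fun _ _ φ => τ.P (AlgSp.Points.map φ))) f := by
  intro U y
  obtain ⟨G, e, he⟩ := hf U y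
  refine ⟨G, e, he, ?_⟩
  intro Z Z' hZ g₀ fst snd sq
  have hZ' : AlgSp.IsAlgSpace Z' :=
    Groth.Agent.H52.isAlgSpace_of_isPullback sq G.property (AlgSp.IsAlgSpace.yon_obj U) hZ
  let g' : AlgSt.ofSp Z ⥤ᵇ 𝒴 :=
    BasedFunctor.comp (BasedFunctor.comp (AlgSt.ofSpMap g₀) (AlgSt.toOverCat U)) y
  have h0 := h (AlgSt.ofSp Z) (isAlgStack_ofSp ⟨Z, hZ⟩) g'
  have sqP := (sq.flip).map (sheafToPresheaf (AlgSp.J S) (Type (u + 1)))
  let E₁ : AlgSt.ofSp Z' ⥤ᵇ fp (AlgSt.ofSpMap g₀)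
      (AlgSt.ofSpMap (AlgSt.spMapOfOver (BasedFunctor.comp e (fpFst y f)))) := pbLift sqP.w
  have hE₁ : IsEquivOver E₁ := pbLift_isEquivOver sqP
  let E₂ : fp (AlgSt.ofSpMap g₀)
      (AlgSt.ofSpMap (AlgSt.spMapOfOver (BasedFunctor.comp e (fpFst y f)))) ⥤ᵇ
      fp (BasedFunctor.comp (AlgSt.ofSpMap g₀) (AlgSt.toOverCat U)) (fpFst y f) :=
    fpMap (F := AlgSt.ofSpMap g₀)
      (G := AlgSt.ofSpMap (AlgSt.spMapOfOver (BasedFunctor.comp e (fpFst y f))))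
      (F' := BasedFunctor.comp (AlgSt.ofSpMap g₀) (AlgSt.toOverCat U)) (G' := fpFst y f)
      (BasedFunctor.id _) e (AlgSt.toOverCat U) (Iso.refl _)
      (isoSpMapOfOver (BasedFunctor.comp e (fpFst y f))).symm
  have hE₂ : IsEquivOver E₂ :=
    fpMap_isEquivOver _ _ _ _ _ (isEquivOver_id _) he (toOverCat_isEquivOver U)
  let E : AlgSt.ofSp Z' ⥤ᵇ fp g' f := BasedFunctor.comp E₁ (BasedFunctor.comp E₂
    (fpPasteFst (BasedFunctor.comp (AlgSt.ofSpMap g₀) (AlgSt.toOverCat U)) y f))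
  have hE : IsEquivOver E := isEquivOver_comp _ _ hE₁ (isEquivOver_comp _ _ hE₂
    (fpPasteFst_isEquivOver _ y f))
  have hfp : AlgSt.IsAlgStack Scheme.fppfPrecoverage (fp g' f) :=
    isAlgStack_fp_of_repByAlgSp1 h𝒳.isStack.1 h𝒴.isStack.1 (isAlgStack_ofSp ⟨Z, hZ⟩) f g' hf
  have h1 : τ.P (AlgSt.Points.map (BasedFunctor.comp E (fpFst g' f))) :=
    (τ.comp_equiv_iff (isAlgStack_ofSp ⟨Z', hZ'⟩) hfp E hE _).2 h0
  have hEfst : BasedFunctor.comp E (fpFst g' f) = AlgSt.ofSpMap snd := rfl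
  rw [hEfst] at h1
  refine τ.inv (ptsHomeo ⟨Z', hZ'⟩).symm (ptsHomeo ⟨Z, hZ⟩) _ _ (fun x => ?_) h1
  rw [ptsHomeo_apply, ptsEquiv_map, ← ptsHomeo_apply ⟨Z', hZ'⟩, Homeomorph.apply_symm_apply]

theorem TopProp.repByAlgSpWith_iff (h𝒳 : AlgSt.IsAlgStack Scheme.fppfPrecoverage 𝒳)
    (h𝒴 : AlgSt.IsAlgStack Scheme.fppfPrecoverage 𝒴) (f : 𝒳 ⥤ᵇ 𝒴) (hf : AlgSt.RepByAlgSp1 f) :
    AlgSt.RepByAlgSpWith (AlgSp.UnivSp (fun _ _ φ => τ.P (AlgSp.Points.map φ))) f ↔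
      ∀ (𝒵 : AlgSt.Cat S), AlgSt.IsAlgStack Scheme.fppfPrecoverage 𝒵 → ∀ g : 𝒵 ⥤ᵇ 𝒴,
        τ.P (AlgSt.Points.map (fpFst g f)) :=
  ⟨τ.univ_of_repByAlgSpWith h𝒳 h𝒴 f, τ.repByAlgSpWith_of_univ h𝒳 h𝒴 f hf⟩

end Main

end Groth.Agent.Lib.Helper65
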