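import Groth.Agent.Lib.Helper66.AlgStFpEtale
import Groth.Agent.Lib.Helper66.AlgStDiagComp
import Groth.Agent.Lib.Helper66.AlgStDiag
import Groth.Agent.Lib.Helper65.StUniv
import Groth.Agent.Lib.Helper65.AlgStProd
import Groth.Agent.Lib.Helper65.FpPaste
import Groth.Agent.Lib.Helper65.SubStImage

/-!
# Algebraicity of `𝒳` from algebraicity of all base changes `T ×_𝒴 𝒳` to schemes (helper65)
-/

set_option autoImplicit false
set_option backward.isDefEq.respectTransparency false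
set_option backward.isDefEq.respectTransparency.types false
universe u

open CategoryTheory CategoryTheory.Limits AlgebraicGeometry Opposite

namespace Groth.Agent.Lib.Helper65.AlgStLocalFp

open FibCat Groth.Agent.Lib.Helper31 Groth.Agent.Lib.Helper65
open Groth.Agent.Lib.Helper66.StackBC Groth.Agent.Lib.Helper66.StackDiag
open Groth.Agent.Lib.Helper90.LiftSqComp Groth.Agent.Lib.Helper90.LiftSqFp

variable {S : Scheme.{u}} {𝒳 𝒴 : AlgSt.Cat S}

/-- The diagonal of `f` has `P` as soon as the diagonals of all base changes of `f` to schemes have `P`. -/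
theorem repByAlgSpWith_diag_of_forall_fpFst (P : MorphismProperty (AlgSp.Sp S)) (f : 𝒳 ⥤ᵇ 𝒴)
    (H : ∀ (T : Over S) (y : FibCat.overCat T ⥤ᵇ 𝒴),
      AlgSt.RepByAlgSpWith P (FibCat.diag (FibCat.fpFst y f))) :
    AlgSt.RepByAlgSpWith P (FibCat.diag f) := by
  intro U z
  let y : FibCat.overCat U ⥤ᵇ 𝒴 := BasedFunctor.comp z (BasedFunctor.comp (FibCat.fpFst f f) f)
  let σ₁ : FibCat.overCat U ⥤ᵇ FibCat.fp y f :=
    FibCat.fpLift (BasedFunctor.id _) (BasedFunctor.comp z (FibCat.fpFst f f)) (Iso.refl _)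
  let σ₂ : FibCat.overCat U ⥤ᵇ FibCat.fp y f :=
    FibCat.fpLift (BasedFunctor.id _) (BasedFunctor.comp z (FibCat.fpSnd f f))
      (whiskerLeftIso z (FibCat.fpIso f f))
  let z' : FibCat.overCat U ⥤ᵇ FibCat.fp (FibCat.fpFst y f) (FibCat.fpFst y f) :=
    FibCat.fpLift σ₁ σ₂ (Iso.refl _)
  obtain ⟨F, e, he, hP⟩ := H U y U z'
  let ι : BasedFunctor.comp z' (dQ f y) ≅ z :=
    Groth.Agent.Lib.Helper90.LiftSqFp.fpIsoMk (Iso.refl _) (Iso.refl _) (fun w => by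
      simp [z', σ₁, σ₂, dQ, dQIso]
      exact (Category.id_comp _).symm)
  let R : FibCat.fp (BasedFunctor.comp z' (dQ f y)) (FibCat.diag f) ⥤ᵇ FibCat.fp z (FibCat.diag f) :=
    fpMap (F := BasedFunctor.comp z' (dQ f y)) (G := FibCat.diag f) (F' := z) (G' := FibCat.diag f)
      (BasedFunctor.id _) (BasedFunctor.id _) (BasedFunctor.id _) ι (Iso.refl _)
  have hR : FibCat.IsEquivOver R :=
    fpMap_isEquivOver _ _ _ _ _ (isEquivOver_id _) (isEquivOver_id _) (isEquivOver_id _)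
  have hXi : FibCat.IsEquivOver (dXi f y z') := ⟨dTh f y z', ⟨dXiTh f y z'⟩, ⟨dThXi f y z'⟩⟩
  exact ⟨F, BasedFunctor.comp e (BasedFunctor.comp (dXi f y z') R),
    Groth.Agent.Lib.Helper66.StackBC.isEquivOver_comp he
      (Groth.Agent.Lib.Helper66.StackBC.isEquivOver_comp hXi hR), hP⟩

/-- If `𝒴` has representable diagonal and every base change `T ×_𝒴 𝒳` to a scheme has representable diagonal, so
has `𝒳`. -/
theorem repByAlgSp1_diag_toSelf_of_forall_fp (h𝒳 : IsFibGrpd 𝒳.p) (h𝒴 : IsFibGrpd 𝒴.p)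
    (hΔ𝒴 : AlgSt.RepByAlgSp1 (FibCat.diag (FibCat.toSelf 𝒴))) (f : 𝒳 ⥤ᵇ 𝒴)
    (H : ∀ (T : Over S) (y : FibCat.overCat T ⥤ᵇ 𝒴),
      AlgSt.RepByAlgSp1 (FibCat.diag (FibCat.toSelf (FibCat.fp y f)))) :
    AlgSt.RepByAlgSp1 (FibCat.diag (FibCat.toSelf 𝒳)) := by
  have h1 : AlgSt.RepByAlgSpWith ⊤ (FibCat.diag f) := by
    apply repByAlgSpWith_diag_of_forall_fpFst
    intro T y
    exact (repByAlgSp1_iff_top _).1
      (Groth.Agent.Lib.Helper66.AlgStDiagRep.repByAlgSp1_diag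
        (isFibGrpd_fp y f (isFibGrpd_overForget T) h𝒳 h𝒴) (isFibGrpd_overForget T) (H T y)
        (isAlgStack_overCat T).diag (FibCat.fpFst y f))
  have h2 : AlgSt.RepByAlgSpWith ⊤ (FibCat.diag (BasedFunctor.comp f (FibCat.toSelf 𝒴))) :=
    Groth.Agent.Lib.Helper66.AlgStDiagComp.repByAlgSpWith_diag_comp ⊤
      Groth.Agent.Lib.Helper66.AlgStCancel.stableBC_top
      Groth.Agent.Lib.Helper66.AlgStCancel.stableComp_top
      (Groth.Agent.Lib.Helper66.AlgStCancel.isLocalOnBase_top _) h𝒳 h𝒴 f (FibCat.toSelf 𝒴) h1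
      ((repByAlgSp1_iff_top _).1 hΔ𝒴)
  have h3 : AlgSt.RepByAlgSpWith ⊤ (FibCat.diag (FibCat.toSelf 𝒳)) :=
    (Groth.Agent.Lib.Helper66.AlgStBridge.repByAlgSpWith_diag_of_equiv ⊤ (F := FibCat.toSelf 𝒳)
      (F' := BasedFunctor.comp f (FibCat.toSelf 𝒴))
      (BasedFunctor.id _) (BasedFunctor.id _) (isEquivOver_id _) (isEquivOver_id _) (toSelfIso f)).1 h2
  exact (repByAlgSp1_iff_top _).2 h3

/-- An atlas of `𝒳` with property `P` from an atlas of `𝒴` and an atlas of the base change. -/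
theorem hasAtlas_of_fp (P : MorphismProperty (AlgSp.Sp S)) (hPb : StableBC P) (hPc : StableComp P)
    (hPl : AlgSp.IsLocalOnBase AlgSp.IsFppfCover P)
    (h𝒳 : IsFibGrpd 𝒳.p) (h𝒴 : IsFibGrpd 𝒴.p) (f : 𝒳 ⥤ᵇ 𝒴)
    {V : Over S} (v : FibCat.overCat V ⥤ᵇ 𝒴) (hv1 : AlgSt.RepByAlgSpWith P v)
    (hv2 : AlgSt.RepByAlgSpWith AlgSp.IsSurjectiveMor v)
    (hat : AlgSt.HasAtlas P (FibCat.fp v f)) : AlgSt.HasAtlas P 𝒳 := by
  obtain ⟨W, w, hw1, hw2⟩ := hat
  have hQ : IsFibGrpd (fp v f).p := isFibGrpd_fp v f (isFibGrpd_overForget V) h𝒳 h𝒴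
  refine ⟨W, BasedFunctor.comp w (fpSnd v f), ?_, ?_⟩
  · exact repByAlgSpWith_comp _ hPb hPc hPl (isFibGrpd_overForget W) hQ w (fpSnd v f) hw1
      (repByAlgSpWith_fpSnd' P v f hv1)
  · exact repByAlgSpWith_comp _ stableBC_isSurjectiveMor stableComp_isSurjectiveMor
      isLocalOnBase_fppf_isSurjectiveMor (isFibGrpd_overForget W) hQ w (fpSnd v f) hw2
      (repByAlgSpWith_fpSnd' _ v f hv2)

end Groth.Agent.Lib.Helper65.AlgStLocalFp
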