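import Groth.Prelude.Def_AlgSt
import Groth.Agent.Lib.Helper65.FpStack
import Groth.Agent.Lib.Helper65.BasedPost
import Groth.Agent.Lib.Helper90.LiftSqFp
import Groth.Agent.Lib.Helper31.Representable

/-!
# Helper65: a category over a stack all of whose base changes to slices are stacks is a stack
-/

set_option autoImplicit false
set_option backward.isDefEq.respectTransparency false
set_option backward.isDefEq.respectTransparency.types false

universe v₇ u₇ v₆ u₆ v₅ u₅ v₄ u₄ v₃ u₃ v₂ u₂ v u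

open CategoryTheory CategoryTheory.Functor CategoryTheory.Limits

namespace Groth.Agent.Lib.Helper65

open FibCat Groth.Agent.Lib.Helper31
open Groth.Agent.Lib.Helper90.LiftSqComp Groth.Agent.Lib.Helper90.LiftSqFp

variable {C : Type u} [Category.{v} C]
variable {𝒳 : BasedCategory.{v₂, u₂} C} {𝒴 : BasedCategory.{v₃, u₃} C}
variable {𝒜 : BasedCategory.{v₅, u₅} C} {ℬ : BasedCategory.{v₆, u₆} C}
variable (ι : 𝒜 ⥤ᵇ ℬ) (j : 𝒳 ⥤ᵇ 𝒴)

theorem restr_essSurj_of_fp [(Stk.restr ι 𝒴).EssSurj]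
    (H : ∀ y : ℬ ⥤ᵇ 𝒴, (Stk.restr ι (fp y j)).EssSurj) : (Stk.restr ι 𝒳).EssSurj where
  mem_essImage := by
    intro K
    let y : ℬ ⥤ᵇ 𝒴 := (Stk.restr ι 𝒴).objPreimage (BasedFunctor.comp K j)
    let e : BasedFunctor.comp ι y ≅ BasedFunctor.comp K j :=
      (Stk.restr ι 𝒴).objObjPreimageIso (BasedFunctor.comp K j)
    let K' : 𝒜 ⥤ᵇ fp y j := fpLift ι K e
    have := H y
    let K'' : ℬ ⥤ᵇ fp y j := (Stk.restr ι (fp y j)).objPreimage K'
    let e' : BasedFunctor.comp ι K'' ≅ K' := (Stk.restr ι (fp y j)).objObjPreimageIso K'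
    exact ⟨BasedFunctor.comp K'' (fpSnd y j), ⟨bWhiskerRightIso e' (fpSnd y j)⟩⟩

theorem restr_full_of_fp (h𝒴 : IsFibGrpd 𝒴.p) [(Stk.restr ι 𝒴).Full]
    (H : ∀ y : ℬ ⥤ᵇ 𝒴, (Stk.restr ι (fp y j)).Full) : (Stk.restr ι 𝒳).Full where
  map_surjective := by
    intro G G' γ
    let γj : (Stk.restr ι 𝒴).obj (BasedFunctor.comp G j) ⟶ (Stk.restr ι 𝒴).obj (BasedFunctor.comp G' j) :=
      BasedCategory.whiskerRight γ j
    obtain ⟨β, hβ⟩ := (Stk.restr ι 𝒴).map_surjective γj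
    have hβ' : ∀ a : 𝒜.obj, app β (ι.obj a) = j.map (app γ a) := fun a =>
      basedNatTrans_congr_app hβ a
    have : IsIso β := basedNatTrans_isIso_of_isFibGrpd h𝒴 β
    let y : ℬ ⥤ᵇ 𝒴 := BasedFunctor.comp G' j
    let G₁ : ℬ ⥤ᵇ fp y j := fpLift (BasedFunctor.id ℬ) G (asIso β).symm
    let G₁' : ℬ ⥤ᵇ fp y j := fpLift (BasedFunctor.id ℬ) G' (Iso.refl _)
    let γ₁ : (Stk.restr ι (fp y j)).obj G₁ ⟶ (Stk.restr ι (fp y j)).obj G₁' :=
      Groth.Agent.Lib.Helper90.LiftSqFp.fpHomMk (P := BasedFunctor.comp ι G₁) (Q := BasedFunctor.comp ι G₁') (𝟙 ι) γ (fun a => by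
        change y.map (𝟙 _) ≫ 𝟙 _ = app (asIso β).inv (ι.obj a) ≫ j.map (app γ a)
        rw [← hβ' a, y.map_id, Category.id_comp]
        exact (app_inv_hom (asIso β) (ι.obj a)).symm)
    have := H y
    obtain ⟨α₁, hα₁⟩ := (Stk.restr ι (fp y j)).map_surjective γ₁
    refine ⟨BasedCategory.whiskerRight α₁ (fpSnd y j), ?_⟩
    apply hom_ext'
    intro a
    have := basedNatTrans_congr_app hα₁ a
    exact congrArg (fun t => t.hom.snd) this

theorem restr_faithful_of_fp (h𝒴 : IsFibGrpd 𝒴.p) [(Stk.restr ι 𝒴).Faithful]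
    (H : ∀ y : ℬ ⥤ᵇ 𝒴, (Stk.restr ι (fp y j)).Faithful) : (Stk.restr ι 𝒳).Faithful where
  map_injective := by
    intro G G' α β h
    have hc : ∀ a : 𝒜.obj, app α (ι.obj a) = app β (ι.obj a) := fun a =>
      basedNatTrans_congr_app h a
    have hj : BasedCategory.whiskerRight α j = BasedCategory.whiskerRight β j := by
      apply (Stk.restr ι 𝒴).map_injective
      apply hom_ext'
      intro a
      change j.map (app α (ι.obj a)) = j.map (app β (ι.obj a))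
      rw [hc]
    let γ : BasedFunctor.comp G j ⟶ BasedFunctor.comp G' j := BasedCategory.whiskerRight α j
    have : IsIso γ := basedNatTrans_isIso_of_isFibGrpd h𝒴 γ
    have hγα : ∀ b : ℬ.obj, app γ b = j.map (app α b) := fun b => rfl
    have hγβ : ∀ b : ℬ.obj, app γ b = j.map (app β b) := fun b => app_congr hj b
    let y : ℬ ⥤ᵇ 𝒴 := BasedFunctor.comp G' j
    let G₁ : ℬ ⥤ᵇ fp y j := fpLift (BasedFunctor.id ℬ) G (asIso γ).symm
    let G₁' : ℬ ⥤ᵇ fp y j := fpLift (BasedFunctor.id ℬ) G' (Iso.refl _)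
    let α₁ : G₁ ⟶ G₁' := Groth.Agent.Lib.Helper90.LiftSqFp.fpHomMk (P := G₁) (Q := G₁') (𝟙 (BasedFunctor.id ℬ)) α (fun b => by
      change y.map (𝟙 _) ≫ 𝟙 _ = app (asIso γ).inv b ≫ j.map (app α b)
      rw [← hγα b, y.map_id, Category.id_comp]
      exact (app_inv_hom (asIso γ) b).symm)
    let β₁ : G₁ ⟶ G₁' := Groth.Agent.Lib.Helper90.LiftSqFp.fpHomMk (P := G₁) (Q := G₁') (𝟙 (BasedFunctor.id ℬ)) β (fun b => by
      change y.map (𝟙 _) ≫ 𝟙 _ = app (asIso γ).inv b ≫ j.map (app β b)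
      rw [← hγβ b, y.map_id, Category.id_comp]
      exact (app_inv_hom (asIso γ) b).symm)
    have := H y
    have h1 : α₁ = β₁ := by
      apply (Stk.restr ι (fp y j)).map_injective
      apply Groth.Agent.Lib.Helper90.LiftSqFp.fp_hom_ext
      · intro a; rfl
      · intro a; exact hc a
    apply hom_ext'
    intro b
    exact congrArg (fun t => sndC t b) h1

/-- If `𝒴` is a stack and every base change of `j : 𝒳 ⟶ 𝒴` to a slice is a stack, then `𝒳` is a stack. -/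
theorem isStack_of_fp_isStack (J : GrothendieckTopology C) (h𝒳 : IsFibGrpd 𝒳.p) (h𝒴 : Stk.IsStack J 𝒴)
    (H : ∀ (U : C) (y : overCat U ⥤ᵇ 𝒴), Stk.IsStack J (fp y j)) : Stk.IsStack J 𝒳 := by
  refine ⟨h𝒳, ?_⟩
  intro U R hR
  have h1 : (Stk.restr (Stk.sieveIncl R) 𝒴).IsEquivalence := h𝒴.2 R hR
  have h2 : ∀ y : overCat U ⥤ᵇ 𝒴, (Stk.restr (Stk.sieveIncl R) (fp y j)).IsEquivalence := fun y =>
    (H U y).2 R hR
  have k1 := restr_faithful_of_fp (Stk.sieveIncl R) j h𝒴.1 (fun y => (h2 y).faithful)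
  have k2 := restr_full_of_fp (Stk.sieveIncl R) j h𝒴.1 (fun y => (h2 y).full)
  have k3 := restr_essSurj_of_fp (Stk.sieveIncl R) j (fun y => (h2 y).essSurj)
  exact { }

end Groth.Agent.Lib.Helper65
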