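import Groth.Agent.Lib.Helper65.StQC
import Groth.Agent.Lib.Helper66.AlgStDiagRep
import Groth.Agent.S12767

/-!
# Helper65: the source of a morphism representable by algebraic spaces into an algebraic stack is algebraic
-/

set_option autoImplicit false
set_option backward.isDefEq.respectTransparency false
set_option backward.isDefEq.respectTransparency.types false

universe u

open CategoryTheory CategoryTheory.Functor CategoryTheory.Limits Opposite AlgebraicGeometry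

namespace Groth.Agent.Lib.Helper65

open FibCat Groth.Agent.Lib.Helper31

variable {S : Scheme.{u}} {𝒳 𝒴 : AlgSt.Cat S}

/-- Precomposition with an equivalence over the base preserves `RepByAlgSpWith`. -/
theorem repByAlgSpWith_equiv_comp {𝒳' : AlgSt.Cat S} (P : MorphismProperty (AlgSp.Sp S))
    (a : 𝒳' ⥤ᵇ 𝒳) (ha : IsEquivOver a) (f : 𝒳 ⥤ᵇ 𝒴) (hf : AlgSt.RepByAlgSpWith P f) :
    AlgSt.RepByAlgSpWith P (BasedFunctor.comp a f) :=
  repByAlgSpWith_of_square P f (BasedFunctor.comp a f) a (BasedFunctor.id 𝒴) ha (isEquivOver_id _)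
    (Iso.refl _) hf

/-- A chart of the source of a morphism representable by algebraic spaces, from a chart of the target. -/
theorem exists_chart_of_repByAlgSp1 (h𝒳 : IsFibGrpd 𝒳.p) (j : 𝒳 ⥤ᵇ 𝒴) (hj : AlgSt.RepByAlgSp1 j)
    (hatlas : AlgSt.HasAtlas (AlgSp.LocP @Smooth) 𝒴) : AlgSt.HasAtlas (AlgSp.LocP @Smooth) 𝒳 := by
  obtain ⟨V, y₀, h1, h2⟩ := hatlas
  obtain ⟨G, e, he⟩ := hj V y₀
  obtain ⟨T, p, hpe, hps⟩ := G.property.atlas
  have hs1 : AlgSt.RepByAlgSpWith (AlgSp.LocP @Smooth) (BasedFunctor.comp e (fpSnd y₀ j)) :=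
    repByAlgSpWith_equiv_comp _ e he _
      (Groth.Agent.Lib.Helper66.AlgStBC.repByAlgSpWith_fpSnd _ j y₀ h1)
  have hs2 : AlgSt.RepByAlgSpWith AlgSp.IsSurjectiveMor (BasedFunctor.comp e (fpSnd y₀ j)) :=
    repByAlgSpWith_equiv_comp _ e he _
      (Groth.Agent.Lib.Helper66.AlgStBC.repByAlgSpWith_fpSnd _ j y₀ h2)
  exact ⟨T, _, chart_comp_smooth h𝒳 G p hpe _ hs1, chart_comp_surjective h𝒳 G p hps _ hs2⟩

theorem isAlgStack_of_repByAlgSp1 (h𝒳 : IsFibGrpd 𝒳.p)
    (h𝒴 : AlgSt.IsAlgStack Scheme.fppfPrecoverage 𝒴) (j : 𝒳 ⥤ᵇ 𝒴) (hj : AlgSt.RepByAlgSp1 j) :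
    AlgSt.IsAlgStack Scheme.fppfPrecoverage 𝒳 where
  isStack := Groth.Agent.S12767.result h𝒳 h𝒴.isStack j hj
  diag := by
    apply repByAlgSp1_diag_of_all
    intro U x
    rw [repByAlgSp1_iff_top]
    exact Groth.Agent.Lib.Helper66.AlgStCancel.repByAlgSpWith_of_comp_of_diag ⊤
      Groth.Agent.Lib.Helper66.AlgStCancel.stableBC_top
      Groth.Agent.Lib.Helper66.AlgStCancel.stableComp_top
      (Groth.Agent.Lib.Helper66.AlgStCancel.isLocalOnBase_top _)
      (isFibGrpd_overForget U) h𝒳 h𝒴.isStack.1 x j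
      ((repByAlgSp1_iff_top _).1 (repByAlgSp1_of_diag h𝒴.diag U (BasedFunctor.comp x j)))
      (Groth.Agent.Lib.Helper66.AlgStDiagRep.repByAlgSpWith_top_diag_of_rep j
        ((repByAlgSp1_iff_top j).1 hj))
  atlas := exists_chart_of_repByAlgSp1 h𝒳 j hj h𝒴.atlas

end Groth.Agent.Lib.Helper65
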