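import Groth.Agent.Lib.Helper65.ArtBasic
import Mathlib.RingTheory.Etale.Field
import Mathlib.RingTheory.Smooth.Basic
import Mathlib.RingTheory.IntegralClosure.IsIntegralClosure.Basic

/-!
# Helper65: coefficient fields in `Art Λ k` when `k` is separable over the image of `Λ`
-/

set_option autoImplicit false
universe u v
open CategoryTheory

namespace Groth.Agent.Lib.Helper65

open ArtFun ArtFun.Art

variable {Λ : Type u} {k : Type u} [CommRing Λ] [Field k] [Algebra Λ k]

/-- If `m_Λ X = 0` and `k` is separable over the image of `Λ`, then `X → k` has a section in `Art Λ k`. -/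
theorem art_exists_section [Algebra.IsSeparable (↥(algebraMap Λ k).range) k] (X : Art Λ k)
    (hX : ∀ r : Λ, algebraMap Λ k r = 0 → algebraMap Λ X.carrier r = 0) :
    ∃ σ : base Λ k ⟶ X, ∀ c : k, X.res (σ.toAlgHom c) = c := by
  classical
  haveI : Algebra.IsIntegral (↥(algebraMap Λ k).range) k :=
    ⟨fun x => Algebra.IsSeparable.isIntegral (↥(algebraMap Λ k).range) x⟩
  have hfield : IsField (↥(algebraMap Λ k).range) :=
    isField_of_isIntegral_of_isField (R := ↥(algebraMap Λ k).range) (S := k)
      Subtype.val_injective (Field.toIsField k)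
  letI : Field (↥(algebraMap Λ k).range) := hfield.toField
  have hφs : Function.Surjective (algebraMap Λ k).rangeRestrict := (algebraMap Λ k).rangeRestrict_surjective
  have hker : RingHom.ker (algebraMap Λ k).rangeRestrict ≤ RingHom.ker (algebraMap Λ X.carrier) := by
    intro r hr
    rw [RingHom.mem_ker] at hr ⊢
    apply hX
    have := congrArg Subtype.val hr
    exact this
  let φX : (↥(algebraMap Λ k).range) →+* X.carrier :=
    (algebraMap Λ k).rangeRestrict.liftOfSurjective hφs ⟨algebraMap Λ X.carrier, hker⟩
  have hφX : ∀ r : Λ, φX ((algebraMap Λ k).rangeRestrict r) = algebraMap Λ X.carrier r := fun r =>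
    RingHom.liftOfSurjective_comp_apply _ hφs ⟨algebraMap Λ X.carrier, hker⟩ r
  letI : Algebra (↥(algebraMap Λ k).range) X.carrier := φX.toAlgebra
  let resk : X.carrier →ₐ[↥(algebraMap Λ k).range] k :=
    { (X.res : X.carrier →+* k) with
      commutes' := by
        intro y
        obtain ⟨r, rfl⟩ := hφs y
        change X.res (φX ((algebraMap Λ k).rangeRestrict r)) = _
        rw [hφX, AlgHom.commutes]
        rfl }
  have hresk : ∀ x, resk x = X.res x := fun _ => rfl
  haveI : Algebra.FormallyEtale (↥(algebraMap Λ k).range) k := Algebra.FormallyEtale.of_isSeparable _ _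
  have hsurj : Function.Surjective resk := X.res_surjective
  have hnil : IsNilpotent (RingHom.ker (resk : X.carrier →+* k)) := by
    obtain ⟨N, hN⟩ := art_maximalIdeal_nilpotent X
    refine ⟨N, ?_⟩
    rw [Ideal.zero_eq_bot, eq_bot_iff, ← hN]
    apply Ideal.pow_right_mono
    intro x hx
    rw [Art.mem_maximalIdeal_iff]
    exact hx
  let σ₀ : k →ₐ[↥(algebraMap Λ k).range] X.carrier :=
    Algebra.FormallySmooth.liftOfSurjective (AlgHom.id _ k) resk hsurj hnil
  have hσ₀ : ∀ c, X.res (σ₀ c) = c := fun c =>
    Algebra.FormallySmooth.liftOfSurjective_apply (AlgHom.id _ k) resk hsurj hnil c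
  let σ : k →ₐ[Λ] X.carrier :=
    { (σ₀ : k →+* X.carrier) with
      commutes' := by
        intro r
        have h1 : algebraMap Λ k r = algebraMap (↥(algebraMap Λ k).range) k ((algebraMap Λ k).rangeRestrict r) := rfl
        change σ₀ (algebraMap Λ k r) = _
        rw [h1, σ₀.commutes]
        exact hφX r }
  refine ⟨⟨σ, ?_⟩, hσ₀⟩
  apply AlgHom.ext
  intro c
  exact hσ₀ c

end Groth.Agent.Lib.Helper65
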