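import Groth.Agent.Lib.Helper65.ArtFinite
import Mathlib.RingTheory.Kaehler.Basic
import Mathlib.RingTheory.TensorProduct.Basic
import Mathlib.LinearAlgebra.Dual.Lemmas

/-!
# Helper65: derivations of objects of `Art Λ k` into `k`
-/

set_option autoImplicit false
universe u v
open CategoryTheory
open scoped TensorProduct

namespace Groth.Agent.Lib.Helper65

open ArtFun ArtFun.Art

variable {Λ : Type u} {k : Type u} [CommRing Λ] [Field k] [Algebra Λ k]

section General

variable {S : Type u} [CommRing S] [Algebra Λ S] [Algebra S k] [IsScalarTower Λ S k]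

/-- `Der_Λ(S, k)` is the `k`-dual of `k ⊗_S Ω_{S/Λ}`. -/
noncomputable def dualTensorKaehlerEquivDer :
    Module.Dual k (k ⊗[S] Ω[S⁄Λ]) ≃ₗ[k] Derivation Λ S k where
  toFun φ := KaehlerDifferential.linearMapEquivDerivation Λ S ((LinearMap.liftBaseChangeEquiv k).symm φ)
  map_add' φ ψ := by rw [map_add, map_add]
  map_smul' c φ := by
    ext s
    rfl
  invFun D := LinearMap.liftBaseChangeEquiv k ((KaehlerDifferential.linearMapEquivDerivation Λ S).symm D)
  left_inv φ := by
    beta_reduce
    rw [LinearEquiv.symm_apply_apply, LinearEquiv.apply_symm_apply]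
  right_inv D := by
    beta_reduce
    rw [LinearEquiv.symm_apply_apply, LinearEquiv.apply_symm_apply]

theorem finrank_tensor_kaehler_eq :
    Module.finrank k (k ⊗[S] Ω[S⁄Λ]) = Module.finrank k (Derivation Λ S k) := by
  rw [← Subspace.dual_finrank_eq]
  exact LinearEquiv.finrank_eq dualTensorKaehlerEquivDer

end General

end Groth.Agent.Lib.Helper65

namespace Groth.Agent.Lib.Helper65

open ArtFun ArtFun.Art

variable {Λ : Type u} {k : Type u} [CommRing Λ] [Field k] [Algebra Λ k]

/-- The `X`-algebra structure on `k` given by the augmentation (not a global instance). -/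
@[reducible] noncomputable def artResAlgebra (X : Art Λ k) : Algebra X.carrier k := X.res.toRingHom.toAlgebra

attribute [local instance] artResAlgebra

theorem artRes_isScalarTower (X : Art Λ k) : IsScalarTower Λ X.carrier k :=
  IsScalarTower.of_algebraMap_eq (fun r => (X.res.commutes r).symm)

attribute [local instance] artRes_isScalarTower

theorem artRes_smul_def (X : Art Λ k) (x : X) (c : k) : x • c = X.res x * c := rfl

/-- Restriction of derivations along a morphism. -/
noncomputable def derRestrict {A B : Art Λ k} (f : B ⟶ A) :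
    Derivation Λ A.carrier k →ₗ[k] Derivation Λ B.carrier k where
  toFun D := Derivation.mk' (D.toLinearMap.comp f.toAlgHom.toLinearMap) (fun a b => by
    change D (f.toAlgHom (a * b)) = a • D (f.toAlgHom b) + b • D (f.toAlgHom a)
    rw [map_mul, D.leibniz, artRes_smul_def, artRes_smul_def, artRes_smul_def, artRes_smul_def]
    change A.res (f a) * _ + A.res (f b) * _ = _
    rw [Art.res_app f, Art.res_app f])
  map_add' D₁ D₂ := by ext b; rfl
  map_smul' c D := by ext b; rfl

theorem derRestrict_apply {A B : Art Λ k} (f : B ⟶ A) (D : Derivation Λ A.carrier k) (b : B) :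
    derRestrict f D b = D (f.toAlgHom b) := rfl

theorem derRestrict_injective {A B : Art Λ k} (f : B ⟶ A) (hf : Function.Surjective f) :
    Function.Injective (derRestrict f) := by
  intro D₁ D₂ h
  ext a
  obtain ⟨b, rfl⟩ := hf a
  exact congrArg (fun D : Derivation Λ B.carrier k => D b) h

/-- A derivation `B → k` not vanishing on the kernel of a surjection `f : B → A` gives a proper
subobject of `B` still mapping onto `A`. -/
theorem exists_proper_subobject_of_der [IsNoetherianRing Λ] [Module.Finite Λ k] {A B : Art Λ k} (f : B ⟶ A)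
    (hf : Function.Surjective f) (D : Derivation Λ B.carrier k) (x₀ : B)
    (hx₀ : f.toAlgHom x₀ = 0) (hD : D x₀ ≠ 0) :
    ∃ (C : Art Λ k) (g : C ⟶ B), ¬ Function.Surjective g ∧ Function.Surjective (g ≫ f) := by
  classical
  have hx₀m : B.res x₀ = 0 := by
    rw [← Art.res_app f]
    change A.res (f.toAlgHom x₀) = 0
    rw [hx₀, map_zero]
  let C₀ : Subalgebra Λ B.carrier :=
    { carrier := {b | D b = 0}
      mul_mem' := fun {a b} ha hb => by
        change D (a * b) = 0
        rw [D.leibniz, (ha : D a = 0), (hb : D b = 0), smul_zero, smul_zero, add_zero]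
      one_mem' := D.map_one_eq_zero
      add_mem' := fun {a b} ha hb => by
        change D (a + b) = 0
        rw [map_add, (ha : D a = 0), (hb : D b = 0), add_zero]
      zero_mem' := map_zero D
      algebraMap_mem' := fun r => D.map_algebraMap r }
  have hmemC : ∀ b : B, b ∈ C₀ ↔ D b = 0 := fun b => Iff.rfl
  -- C₀ → A is surjective
  have hCA : ∀ a : A, ∃ c : C₀, f.toAlgHom c.1 = a := by
    intro a
    obtain ⟨b, rfl⟩ := hf a
    obtain ⟨t, ht⟩ := B.res_surjective (D b / D x₀)
    refine ⟨⟨b - t * x₀, ?_⟩, ?_⟩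
    · rw [hmemC, map_sub, D.leibniz, artRes_smul_def, artRes_smul_def, hx₀m, ht, zero_mul, add_zero,
        div_mul_cancel₀ _ hD, sub_self]
    · change f.toAlgHom (b - t * x₀) = f.toAlgHom b
      rw [map_sub, map_mul, hx₀, mul_zero, sub_zero]
  -- the inclusion is a local homomorphism
  haveI hloc : IsLocalHom C₀.val := by
    refine ⟨fun c hc => ?_⟩
    obtain ⟨b, hb⟩ := hc.exists_right_inv
    have hb' : (c : B.carrier) * b = 1 := hb
    have hresc : B.res (c : B.carrier) ≠ 0 := by
      intro h0
      have := congrArg B.res hb'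
      rw [map_mul, h0, zero_mul, map_one] at this
      exact zero_ne_one this
    have hDb : D b = 0 := by
      have h1 : D ((c : B.carrier) * b) = 0 := by rw [hb', D.map_one_eq_zero]
      rw [D.leibniz, (c.2 : D c.1 = 0), smul_zero, add_zero, artRes_smul_def] at h1
      exact (mul_eq_zero.1 h1).resolve_left hresc
    exact IsUnit.of_mul_eq_one (⟨b, hDb⟩ : C₀) (Subtype.ext hb')
  haveI : IsLocalRing C₀ := RingHom.domain_isLocalRing (C₀.val : C₀ →+* B.carrier)
  haveI : Module.Finite Λ B.carrier := art_moduleFinite B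
  haveI : IsNoetherian Λ B.carrier := isNoetherian_of_isNoetherianRing_of_finite Λ B.carrier
  haveI : Module.Finite Λ C₀ := Module.Finite.of_injective C₀.val.toLinearMap Subtype.val_injective
  haveI : IsNoetherianRing C₀ := IsNoetherianRing.of_finite Λ C₀
  haveI : IsArtinianRing C₀ := by
    rw [isArtinianRing_iff_isNilpotent_maximalIdeal]
    obtain ⟨N, hN⟩ := art_maximalIdeal_nilpotent B
    have hle : IsLocalRing.maximalIdeal C₀ ≤ Ideal.comap C₀.val (IsLocalRing.maximalIdeal B.carrier) := by
      intro x hx
      rw [Ideal.mem_comap]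
      exact fun H => hx (isUnit_of_map_unit C₀.val x H)
    refine ⟨N, ?_⟩
    rw [Ideal.zero_eq_bot, eq_bot_iff]
    intro x hx
    have h1 : IsLocalRing.maximalIdeal C₀ ^ N ≤ Ideal.comap C₀.val (IsLocalRing.maximalIdeal B.carrier ^ N) :=
      (Ideal.pow_right_mono hle N).trans (Ideal.le_comap_pow _ _)
    have := h1 hx
    rw [hN, Ideal.mem_comap, Ideal.mem_bot] at this
    rw [Ideal.mem_bot]
    exact Subtype.ext this
  let resC : C₀ →ₐ[Λ] k := B.res.comp C₀.val
  have hresC : Function.Surjective resC := by
    intro c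
    obtain ⟨a, ha⟩ := A.res_surjective c
    obtain ⟨x, hx⟩ := hCA a
    refine ⟨x, ?_⟩
    change B.res x.1 = c
    rw [← Art.res_app f]
    change A.res (f.toAlgHom x.1) = c
    rw [hx, ha]
  let C : Art Λ k := Art.of C₀ resC hresC
  let g : C ⟶ B := ⟨C₀.val, rfl⟩
  refine ⟨C, g, ?_, ?_⟩
  · intro hg
    obtain ⟨c, hc⟩ := hg x₀
    apply hD
    have : (c : C₀).1 = x₀ := hc
    rw [← this]
    exact c.2
  · intro a
    obtain ⟨x, hx⟩ := hCA a
    exact ⟨x, hx⟩

end Groth.Agent.Lib.Helper65

namespace Groth.Agent.Lib.Helper65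

open ArtFun ArtFun.Art

variable {Λ : Type u} {k : Type u} [CommRing Λ] [Field k] [Algebra Λ k]

attribute [local instance] artResAlgebra artRes_isScalarTower

/-- A derivation killing the kernel of a surjection factors through it. -/
theorem der_factor {A B : Art Λ k} (f : B ⟶ A) (hf : Function.Surjective f)
    (D : Derivation Λ B.carrier k) (hD : ∀ x : B, f.toAlgHom x = 0 → D x = 0) :
    ∃ D' : Derivation Λ A.carrier k, derRestrict f D' = D := by
  classical
  have hwd : ∀ b b' : B, f.toAlgHom b = f.toAlgHom b' → D b = D b' := by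
    intro b b' h
    have := hD (b - b') (by rw [map_sub, h, sub_self])
    rwa [map_sub, sub_eq_zero] at this
  choose σ hσ using hf
  have hσ' : ∀ a, f.toAlgHom (σ a) = a := hσ
  have key : ∀ (a : A) (b : B), f.toAlgHom b = a → D (σ a) = D b := fun a b hb =>
    hwd _ _ ((hσ' a).trans hb.symm)
  let D₀ : A.carrier →ₗ[Λ] k :=
    { toFun := fun a => D (σ a)
      map_add' := fun a a' => by
        rw [key (a + a') (σ a + σ a') (by rw [map_add, hσ', hσ']), map_add]
      map_smul' := fun c a => by
        rw [key (c • a) (c • σ a) (by rw [map_smul, hσ']), D.map_smul]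
        rfl }
  have hD₀ : ∀ a, D₀ a = D (σ a) := fun _ => rfl
  refine ⟨Derivation.mk' D₀ (fun a a' => ?_), ?_⟩
  · rw [hD₀, hD₀, hD₀, key (a * a') (σ a * σ a') (by rw [map_mul, hσ', hσ']), D.leibniz,
      artRes_smul_def, artRes_smul_def, artRes_smul_def, artRes_smul_def]
    have h1 : B.res (σ a) = A.res a := by
      rw [← Art.res_app f]; change A.res (f.toAlgHom (σ a)) = _; rw [hσ']
    have h2 : B.res (σ a') = A.res a' := by
      rw [← Art.res_app f]; change A.res (f.toAlgHom (σ a')) = _; rw [hσ']
    rw [h1, h2]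
  · ext b
    change D (σ (f.toAlgHom b)) = D b
    exact key _ _ rfl

end Groth.Agent.Lib.Helper65
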