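import Groth.Agent.Lib.Helper65.ArtBasic
import Mathlib.RingTheory.Henselian
import Mathlib.FieldTheory.Separable
import Mathlib.Algebra.Polynomial.Lifts

/-!
# Helper65: Hensel's lemma in `Art Λ k` and lifting of separable residue elements
-/

set_option autoImplicit false
universe u v
open CategoryTheory Polynomial

namespace Groth.Agent.Lib.Helper65

open ArtFun ArtFun.Art

/-- A ring is adically complete for a nilpotent ideal. -/
theorem isAdicComplete_of_nilpotent {R : Type*} [CommRing R] (I : Ideal R) {N : ℕ} (hN : I ^ N = ⊥) :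
    IsAdicComplete I R := by
  have hbot : (I ^ N • ⊤ : Submodule R R) = ⊥ := by rw [hN]; simp
  refine { toIsHausdorff := ⟨fun x hx => ?_⟩, toIsPrecomplete := ⟨fun f hf => ⟨f N, fun n => ?_⟩⟩ }
  · have := hx N
    rw [hbot, SModEq.bot] at this
    exact this
  · rcases le_total n N with h | h
    · exact hf h
    · have := hf h
      rw [hbot, SModEq.bot] at this
      rw [this]

variable {Λ : Type u} {k : Type u} [CommRing Λ] [Field k] [Algebra Λ k]

theorem art_isAdicComplete (X : Art Λ k) : IsAdicComplete (IsLocalRing.maximalIdeal X.carrier) X.carrier := by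
  obtain ⟨N, hN⟩ := art_maximalIdeal_nilpotent X
  exact isAdicComplete_of_nilpotent _ hN

theorem art_henselian (X : Art Λ k) : HenselianLocalRing X.carrier := by
  haveI := art_isAdicComplete X
  have h : HenselianRing X.carrier (IsLocalRing.maximalIdeal X.carrier) := inferInstance
  refine { is_henselian := fun f hf a₀ h₁ h₂ => h.is_henselian f hf a₀ h₁ ?_ }
  exact h₂.map (Ideal.Quotient.mk _)

/-- Hensel lift: a simple root `c ∈ k` of (the image of) a monic `p ∈ Λ[X]` lifts to a root in `X`. -/
theorem art_hensel_exists (X : Art Λ k) (p : Λ[X]) (hp : p.Monic) (c : k)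
    (hc : (p.map (algebraMap Λ k)).eval c = 0)
    (hc' : (p.map (algebraMap Λ k)).derivative.eval c ≠ 0) :
    ∃ x : X, (p.map (algebraMap Λ X.carrier)).eval x = 0 ∧ X.res x = c := by
  haveI := art_henselian X
  have H₀ : ∀ (K : Type u) (_ : Field K) (φ : X.carrier →+* K), Function.Surjective φ →
      ∀ f : X.carrier[X], f.Monic → ∀ a₀ : K, f.eval₂ φ a₀ = 0 → f.derivative.eval₂ φ a₀ ≠ 0 →
        ∃ a : X.carrier, f.IsRoot a ∧ φ a = a₀ :=
    ((HenselianLocalRing.TFAE X.carrier).out 0 2).1 (art_henselian X)
  have H := H₀ k _ (X.res : X.carrier →+* k) X.res_surjective (p.map (algebraMap Λ X.carrier)) (hp.map _) c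
  have hcomp : ((X.res : X.carrier →+* k)).comp (algebraMap Λ X.carrier) = algebraMap Λ k :=
    RingHom.ext fun r => X.res.commutes r
  have e1 : (p.map (algebraMap Λ X.carrier)).eval₂ (X.res : X.carrier →+* k) c = 0 := by
    rw [eval₂_map, hcomp, ← eval_map]; exact hc
  have e2 : (p.map (algebraMap Λ X.carrier)).derivative.eval₂ (X.res : X.carrier →+* k) c ≠ 0 := by
    rw [derivative_map, eval₂_map, hcomp, ← eval_map, ← derivative_map]; exact hc'
  obtain ⟨a, ha, hac⟩ := H e1 e2
  exact ⟨a, ha, hac⟩

/-- Uniqueness of the Hensel lift. -/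
theorem art_hensel_unique (X : Art Λ k) (p : Λ[X]) (c : k)
    (hc' : (p.map (algebraMap Λ k)).derivative.eval c ≠ 0) (x y : X)
    (hx : (p.map (algebraMap Λ X.carrier)).eval x = 0) (hxc : X.res x = c)
    (hy : (p.map (algebraMap Λ X.carrier)).eval y = 0) (hyc : X.res y = c) : x = y := by
  have hcomp : ((X.res : X.carrier →+* k)).comp (algebraMap Λ X.carrier) = algebraMap Λ k :=
    RingHom.ext fun r => X.res.commutes r
  refine IsLocalRing.eq_of_eval_eq_zero_of_not_isUnit_sub hx hy ?_ ?_
  · intro hu
    have : x - y ∈ IsLocalRing.maximalIdeal X.carrier := by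
      rw [Art.mem_maximalIdeal_iff, map_sub, hxc, hyc, sub_self]
    exact (IsLocalRing.mem_maximalIdeal _).1 this hu
  · by_contra hnu
    have hm : (p.map (algebraMap Λ X.carrier)).derivative.eval x ∈ IsLocalRing.maximalIdeal X.carrier :=
      (IsLocalRing.mem_maximalIdeal _).2 hnu
    rw [Art.mem_maximalIdeal_iff] at hm
    apply hc'
    have h1 : X.res ((p.map (algebraMap Λ X.carrier)).derivative.eval x) =
        (p.map (algebraMap Λ X.carrier)).derivative.eval₂ (X.res : X.carrier →+* k) (X.res x) := by
      exact (eval₂_at_apply (X.res : X.carrier →+* k) x).symm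
    rw [h1, derivative_map, eval₂_map, hcomp, hxc, ← eval_map, ← derivative_map] at hm
    exact hm

/-- Morphisms preserve roots of polynomials over `Λ`. -/
theorem art_map_root {X Y : Art Λ k} (g : X ⟶ Y) (p : Λ[X]) (x : X)
    (hx : (p.map (algebraMap Λ X.carrier)).eval x = 0) :
    (p.map (algebraMap Λ Y.carrier)).eval (g.toAlgHom x) = 0 := by
  have h1 : (p.map (algebraMap Λ Y.carrier)).eval (g.toAlgHom x) = aeval (g.toAlgHom x) p := by
    rw [eval_map, aeval_def]
  have h2 : (p.map (algebraMap Λ X.carrier)).eval x = aeval x p := by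
    rw [eval_map, aeval_def]
  rw [h1, aeval_algHom_apply, ← h2, hx, map_zero]

/-- Every element of `k` separable over the image of `Λ` is a simple root of a monic polynomial over `Λ`. -/
theorem exists_monic_simple_root [Algebra.IsSeparable (↥(algebraMap Λ k).range) k] (c : k) :
    ∃ p : Λ[X], p.Monic ∧ (p.map (algebraMap Λ k)).eval c = 0 ∧
      (p.map (algebraMap Λ k)).derivative.eval c ≠ 0 := by
  have hsep : (minpoly (↥(algebraMap Λ k).range) c).Separable :=
    Algebra.IsSeparable.isSeparable (↥(algebraMap Λ k).range) c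
  have hint : IsIntegral (↥(algebraMap Λ k).range) c := Algebra.IsSeparable.isIntegral _ c
  have hmonic := minpoly.monic hint
  have hφ : Function.Surjective (algebraMap Λ k).rangeRestrict := (algebraMap Λ k).rangeRestrict_surjective
  have hl : minpoly (↥(algebraMap Λ k).range) c ∈ lifts (algebraMap Λ k).rangeRestrict := by
    rw [lifts_iff_coeff_lifts]
    intro n
    exact hφ _
  obtain ⟨p, hp, -, hpm⟩ := lifts_and_degree_eq_and_monic hl hmonic
  have hmap : p.map (algebraMap Λ k) =
      (minpoly (↥(algebraMap Λ k).range) c).map (algebraMap (↥(algebraMap Λ k).range) k) := by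
    rw [← hp, map_map]
    rfl
  refine ⟨p, hpm, ?_, ?_⟩
  · rw [hmap, eval_map, ← aeval_def, minpoly.aeval]
  · rw [hmap, derivative_map, eval_map, ← aeval_def]
    exact hsep.aeval_derivative_ne_zero (minpoly.aeval _ _)

end Groth.Agent.Lib.Helper65
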