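import Groth.Agent.Lib.Helper65.ArtFinite
import Mathlib.RingTheory.FiniteType
import Mathlib.RingTheory.Adjoin.FG

/-!
# Helper65: square-zero extensions of an object of `Art Λ k` contain Artinian sub-extensions
-/

set_option autoImplicit false
universe u v
open CategoryTheory

namespace Groth.Agent.Lib.Helper65

open ArtFun ArtFun.Art

variable {Λ : Type u} {k : Type u} [CommRing Λ] [Field k] [Algebra Λ k]

/-- Given an object `R₁` of `Art Λ k`, a square-zero ideal `J` of an arbitrary `Λ`-algebra `A'` and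
a map `R₁ → A'/J`, there is an object `B` with a surjection `μ : B → R₁` and a map `ι : B → A'`
lifting `R₁ → A'/J`. -/
theorem exists_art_sub [IsNoetherianRing Λ] [Module.Finite Λ k] (R₁ : Art Λ k)
    {A' : Type u} [CommRing A'] [Algebra Λ A'] (J : Ideal A') (hJ : J ^ 2 = ⊥)
    (ψ : R₁.carrier →ₐ[Λ] A' ⧸ J) :
    ∃ (B : Art Λ k) (μ : B ⟶ R₁) (ι : B.carrier →ₐ[Λ] A'), Function.Surjective μ ∧
      ∀ b : B, Ideal.Quotient.mk J (ι b) = ψ (μ.toAlgHom b) := by
  classical
  haveI : Module.Finite Λ R₁ := art_moduleFinite R₁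
  obtain ⟨G, hG⟩ := (inferInstance : Module.Finite Λ R₁).fg_top
  have hlift : ∀ g : R₁, ∃ a : A', Ideal.Quotient.mk J a = ψ g := fun g => Ideal.Quotient.mk_surjective _
  choose σ hσ using hlift
  let 𝒢 : Finset (R₁.carrier × A') := G.image (fun g => (g, σ g))
  let A'' : Subalgebra Λ (R₁.carrier × A') := Algebra.adjoin Λ (𝒢 : Set (R₁.carrier × A'))
  -- membership in the pullback
  have hmem : ∀ x ∈ A'', ψ x.1 = Ideal.Quotient.mk J x.2 := by
    intro x hx
    refine Algebra.adjoin_induction (p := fun x _ => ψ x.1 = Ideal.Quotient.mk J x.2) ?_ ?_ ?_ ?_ hx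
    · intro y hy
      rw [Finset.coe_image] at hy
      obtain ⟨g, -, rfl⟩ := hy
      exact (hσ g).symm
    · intro r
      change ψ (algebraMap Λ R₁ r) = Ideal.Quotient.mk J (algebraMap Λ A' r)
      rw [AlgHom.commutes]
      rfl
    · intro x y _ _ h1 h2
      change ψ (x.1 + y.1) = Ideal.Quotient.mk J (x.2 + y.2)
      rw [map_add, map_add, h1, h2]
    · intro x y _ _ h1 h2
      change ψ (x.1 * y.1) = Ideal.Quotient.mk J (x.2 * y.2)
      rw [map_mul, map_mul, h1, h2]
  let μ₀ : A'' →ₐ[Λ] R₁.carrier := (AlgHom.fst Λ R₁.carrier A').comp A''.val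
  have hμ₀ : ∀ x : A'', μ₀ x = x.1.1 := fun _ => rfl
  have hsurj : Function.Surjective μ₀ := by
    have hrange : (⊤ : Submodule Λ R₁.carrier) ≤ LinearMap.range μ₀.toLinearMap := by
      rw [← hG, Submodule.span_le]
      intro g hg
      have : ((g, σ g) : R₁.carrier × A') ∈ A'' := by
        apply Algebra.subset_adjoin
        rw [Finset.coe_image]
        exact ⟨g, hg, rfl⟩
      exact ⟨⟨_, this⟩, rfl⟩
    intro r
    obtain ⟨x, hx⟩ := hrange (Submodule.mem_top (x := r))
    exact ⟨x, hx⟩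
  -- the kernel is square zero
  have hker : ∀ x y : A'', μ₀ x = 0 → μ₀ y = 0 → x * y = 0 := by
    intro x y hx hy
    have hx2 : x.1.2 ∈ J := by
      rw [← Ideal.Quotient.eq_zero_iff_mem, ← hmem x.1 x.2, ← hμ₀, hx, map_zero]
    have hy2 : y.1.2 ∈ J := by
      rw [← Ideal.Quotient.eq_zero_iff_mem, ← hmem y.1 y.2, ← hμ₀, hy, map_zero]
    apply Subtype.ext
    apply Prod.ext
    · change x.1.1 * y.1.1 = 0
      rw [← hμ₀, hx, zero_mul]
    · change x.1.2 * y.1.2 = 0
      have : x.1.2 * y.1.2 ∈ J ^ 2 := by rw [pow_two]; exact Ideal.mul_mem_mul hx2 hy2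
      rw [hJ] at this
      exact this
  -- `μ₀` is a local homomorphism
  haveI hloc : IsLocalHom μ₀ := by
    refine ⟨fun a ha => ?_⟩
    obtain ⟨c, hc⟩ := ha.exists_right_inv
    obtain ⟨b, rfl⟩ := hsurj c
    have hj : μ₀ (a * b - 1) = 0 := by rw [map_sub, map_mul, hc, map_one, sub_self]
    have hsq : (a * b - 1) * (a * b - 1) = 0 := hker _ _ hj hj
    refine IsUnit.of_mul_eq_one (b * (1 - (a * b - 1))) ?_
    have : a * (b * (1 - (a * b - 1))) = 1 - (a * b - 1) * (a * b - 1) := by ring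
    rw [this, hsq, sub_zero]
  haveI : IsLocalRing A'' := RingHom.domain_isLocalRing (μ₀ : A'' →+* R₁.carrier)
  haveI : Algebra.FiniteType Λ A'' :=
    (Subalgebra.fg_iff_finiteType A'').1 (Subalgebra.fg_adjoin_finset 𝒢)
  haveI : IsNoetherianRing A'' := Algebra.FiniteType.isNoetherianRing Λ A''
  haveI : IsArtinianRing A'' := by
    rw [isArtinianRing_iff_isNilpotent_maximalIdeal]
    obtain ⟨N, hN⟩ := art_maximalIdeal_nilpotent R₁
    have hle : IsLocalRing.maximalIdeal A'' ≤ Ideal.comap μ₀ (IsLocalRing.maximalIdeal R₁.carrier) := by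
      intro x hx
      rw [Ideal.mem_comap]
      exact fun H => hx (isUnit_of_map_unit μ₀ x H)
    have hN' : ∀ x ∈ IsLocalRing.maximalIdeal A'' ^ N, μ₀ x = 0 := by
      intro x hx
      have h1 : IsLocalRing.maximalIdeal A'' ^ N ≤ Ideal.comap μ₀ (IsLocalRing.maximalIdeal R₁.carrier ^ N) :=
        (Ideal.pow_right_mono hle N).trans (Ideal.le_comap_pow _ _)
      have := h1 hx
      rw [hN, Ideal.mem_comap, Ideal.mem_bot] at this
      exact this
    refine ⟨N + N, ?_⟩
    rw [Ideal.zero_eq_bot, eq_bot_iff, pow_add, Ideal.mul_le]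
    intro x hx y hy
    rw [Ideal.mem_bot]
    exact hker x y (hN' x hx) (hN' y hy)
  let resB : A'' →ₐ[Λ] k := R₁.res.comp μ₀
  have hresB : Function.Surjective resB := R₁.res_surjective.comp hsurj
  let B : Art Λ k := Art.of A'' resB hresB
  let μ : B ⟶ R₁ := ⟨μ₀, rfl⟩
  let ι : B.carrier →ₐ[Λ] A' := (AlgHom.snd Λ R₁.carrier A').comp A''.val
  refine ⟨B, μ, ι, hsurj, ?_⟩
  intro b
  exact (hmem b.1 b.2).symm

end Groth.Agent.Lib.Helper65
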