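import Groth.Agent.Lib.Helper65.ArtTorsor

/-!
# Helper65: transitivity of the tangent action and a smoothness criterion
-/

set_option autoImplicit false
universe u v
open CategoryTheory

namespace Groth.Agent.Lib.Helper65

open ArtFun ArtFun.Art

variable {Λ : Type u} {k : Type u} [CommRing Λ] [Field k] [Algebra Λ k]

/-- Smoothness may be checked on small extensions. -/
theorem isSmooth_of_small {F G : Art Λ k ⥤ Type v} (φ : F ⟶ G)
    (h : ∀ ⦃A B : Art Λ k⦄ (μ : B ⟶ A), IsSmallExt μ → Function.Surjective (relCmp φ μ)) :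
    IsSmooth φ := by
  intro B A μ hμ
  refine art_surjective_induction (Λ := Λ) (k := k)
    (fun A B μ => Function.Surjective (relCmp φ μ)) ?_ h ?_ μ hμ
  · intro A B e he
    rintro ⟨⟨x, g⟩, hxg⟩
    change φ.app A x = G.map e g at hxg
    refine ⟨F.map (inv e) x, ?_⟩
    apply Subtype.ext
    apply Prod.ext
    · change F.map e (F.map (inv e) x) = x
      rw [← FunctorToTypes.map_comp_apply, IsIso.inv_hom_id, FunctorToTypes.map_id_apply]
    · change φ.app B (F.map (inv e) x) = g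
      rw [NatTrans.naturality_apply φ (inv e) x, hxg, ← FunctorToTypes.map_comp_apply, IsIso.hom_inv_id,
        FunctorToTypes.map_id_apply]
  · intro A B C p q hp hq
    rintro ⟨⟨x, g⟩, hxg⟩
    change φ.app A x = G.map (p ≫ q) g at hxg
    obtain ⟨xB, hxB⟩ := hq ⟨(x, G.map p g), by
      change φ.app A x = G.map q (G.map p g)
      rw [hxg, FunctorToTypes.map_comp_apply]⟩
    have hxB1 : F.map q xB = x := congrArg (fun t => t.1.1) hxB
    have hxB2 : φ.app B xB = G.map p g := congrArg (fun t => t.1.2) hxB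
    obtain ⟨xC, hxC⟩ := hp ⟨(xB, g), hxB2⟩
    have hxC1 : F.map p xC = xB := congrArg (fun t => t.1.1) hxC
    have hxC2 : φ.app C xC = g := congrArg (fun t => t.1.2) hxC
    refine ⟨xC, ?_⟩
    apply Subtype.ext
    apply Prod.ext
    · change F.map (p ≫ q) xC = x
      rw [FunctorToTypes.map_comp_apply, hxC1, hxB1]
    · exact hxC2

/-- Transitivity of the tangent action relative to `φ`: for functors satisfying (RS) with `F(k)` a point, `φ : F ⟶ G`
surjective on tangent spaces, a small extension `μ : B → A`, `x ∈ F(B)` and `g ∈ G(B)` with the same image as `φ(x)` in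
`G(A)`, there is `x' ∈ F(B)` with the same image as `x` in `F(A)` and `φ(x') = g`. -/
theorem torsor_lift [IsNoetherianRing Λ] [Module.Finite Λ k] {F G : Art Λ k ⥤ Type v}
    (hF0 : H0 F)
    (hF : ∀ ⦃B A A' A'' : Art Λ k⦄ (p' : B ⟶ A') (p'' : B ⟶ A'') (f' : A' ⟶ A) (f'' : A'' ⟶ A)
        (h : IsFibreProd p' p'' f' f''), Function.Surjective f'' → Function.Bijective (cmp F h))
    (hG : ∀ ⦃B A A' A'' : Art Λ k⦄ (p' : B ⟶ A') (p'' : B ⟶ A'') (f' : A' ⟶ A) (f'' : A'' ⟶ A)
        (h : IsFibreProd p' p'' f' f''), Function.Surjective f'' → Function.Bijective (cmp G h))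
    (φ : F ⟶ G) (hT : Function.Surjective (TangentSpace.map φ))
    {A B : Art Λ k} (μ : B ⟶ A) (hμ : IsSmallExt μ) (x : F.obj B) (g : G.obj B)
    (hg : G.map μ (φ.app B x) = G.map μ g) :
    ∃ x' : F.obj B, F.map μ x' = F.map μ x ∧ φ.app B x' = g := by
  obtain ⟨P, q₁, q₂, τ, h₁, h₂⟩ := exists_torsor_square μ hμ
  obtain ⟨wG, hwG⟩ := (hG q₁ q₂ μ μ h₁ hμ.1).2 ⟨(φ.app B x, g), hg⟩
  have hwG1 : G.map q₁ wG = φ.app B x := congrArg (fun t => t.1.1) hwG
  have hwG2 : G.map q₂ wG = g := congrArg (fun t => t.1.2) hwG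
  obtain ⟨s, hs⟩ := hT (G.map τ wG)
  change φ.app (dual Λ k) s = G.map τ wG at hs
  obtain ⟨wF, hwF⟩ := (hF q₁ τ (toBase B) (toBase (dual Λ k)) h₂ (dual Λ k).res_surjective).2
    ⟨(x, s), hF0.2.elim _ _⟩
  have hwF1 : F.map q₁ wF = x := congrArg (fun t => t.1.1) hwF
  have hwF2 : F.map τ wF = s := congrArg (fun t => t.1.2) hwF
  have hφw : φ.app P wF = wG := by
    apply (hG q₁ τ (toBase B) (toBase (dual Λ k)) h₂ (dual Λ k).res_surjective).1
    apply FibProd.ext
    · change G.map q₁ (φ.app P wF) = G.map q₁ wG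
      rw [← NatTrans.naturality_apply φ q₁, hwF1, hwG1]
    · change G.map τ (φ.app P wF) = G.map τ wG
      rw [← NatTrans.naturality_apply φ τ, hwF2, hs]
  refine ⟨F.map q₂ wF, ?_, ?_⟩
  · rw [← hwF1, ← FunctorToTypes.map_comp_apply, ← FunctorToTypes.map_comp_apply, h₁.w]
  · rw [NatTrans.naturality_apply φ q₂, hφw, hwG2]

end Groth.Agent.Lib.Helper65
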