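import Groth.Agent.Lib.Helper65.StUniv

/-!
# Helper65: lifting a smooth atlas of the target along a morphism of algebraic stacks
-/

set_option autoImplicit false
set_option backward.isDefEq.respectTransparency false
set_option backward.isDefEq.respectTransparency.types false

universe u

open CategoryTheory CategoryTheory.Functor CategoryTheory.Limits Opposite AlgebraicGeometry

namespace Groth.Agent.Lib.Helper65

open FibCat Groth.Agent.Lib.Helper31

variable {S : Scheme.{u}} {𝒳 𝒴 : AlgSt.Cat S}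

theorem exists_atlas_over (h𝒳 : AlgSt.IsAlgStack Scheme.fppfPrecoverage 𝒳)
    (h𝒴 : AlgSt.IsAlgStack Scheme.fppfPrecoverage 𝒴) (f : 𝒳 ⥤ᵇ 𝒴) (V : Over S)
    (y : FibCat.overCat V ⥤ᵇ 𝒴) (hy : AlgSt.RepByAlgSpWith (AlgSp.LocP @Smooth) y)
    (hy' : AlgSt.RepByAlgSpWith AlgSp.IsSurjectiveMor y) :
    ∃ (U : Over S) (a : U ⟶ V) (x : FibCat.overCat U ⥤ᵇ 𝒳),
      AlgSt.RepByAlgSpWith (AlgSp.LocP @Smooth) x ∧ AlgSt.RepByAlgSpWith AlgSp.IsSurjectiveMor x ∧
        Nonempty (BasedFunctor.comp x f ≅ BasedFunctor.comp (AlgSt.overMap a) y) := by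
  have hfs : AlgSt.RepByAlgSpWith (AlgSp.LocP @Smooth) (fpSnd y f) :=
    Groth.Agent.Lib.Helper66.AlgStBC.repByAlgSpWith_fpSnd _ f y hy
  have hfss : AlgSt.RepByAlgSpWith AlgSp.IsSurjectiveMor (fpSnd y f) :=
    Groth.Agent.Lib.Helper66.AlgStBC.repByAlgSpWith_fpSnd _ f y hy'
  have hfib : IsFibGrpd (fp y f).p :=
    isFibGrpd_fp y f (isFibGrpd_overForget V) h𝒳.isStack.1 h𝒴.isStack.1
  have hfp : AlgSt.IsAlgStack Scheme.fppfPrecoverage (fp y f) :=
    isAlgStack_of_repByAlgSp1 hfib h𝒳 (fpSnd y f) (repByAlgSp1_of_repByAlgSpWith hfs)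
  obtain ⟨U, u, hu1, hu2⟩ := hfp.atlas
  obtain ⟨a, -, ⟨i⟩⟩ := exists_iso_overMap (BasedFunctor.comp u (fpFst y f))
  refine ⟨U, a, BasedFunctor.comp u (fpSnd y f), ?_, ?_, ⟨?_⟩⟩
  · exact repByAlgSpWith_comp _ stableBC_locP_smooth stableComp_locP_smooth
      isLocalOnBase_fppf_locP_smooth (isFibGrpd_overForget U) hfib u _ hu1 hfs
  · exact repByAlgSpWith_comp _ stableBC_isSurjectiveMor stableComp_isSurjectiveMor
      isLocalOnBase_fppf_isSurjectiveMor (isFibGrpd_overForget U) hfib u _ hu2 hfss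
  · exact bWhiskerLeftIso u (fpIso y f).symm ≪≫ bWhiskerRightIso i y

end Groth.Agent.Lib.Helper65
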