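import Groth.Prelude.Def_FibCat2
import Groth.Agent.Lib.Helper31.FibCat

/-!
# Helper65: projections of categorical pullbacks are fibred
-/

set_option autoImplicit false
set_option backward.isDefEq.respectTransparency false
set_option backward.isDefEq.respectTransparency.types false

universe v₅ u₅ v₄ u₄ v₃ u₃ v₂ u₂ v u

open CategoryTheory CategoryTheory.Functor CategoryTheory.Limits

namespace Groth.Agent.Lib.Helper65

open FibCat Groth.Agent.Lib.Helper31

section

variable {𝒜 : Type u₂} [Category.{v₂} 𝒜] {ℬ : Type u₃} [Category.{v₃} ℬ]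

/-- A strongly cartesian morphism is strongly cartesian over its own image. -/
theorem isStronglyCartesian_map_self (p : 𝒜 ⥤ ℬ) {R S : ℬ} (f : R ⟶ S) {a b : 𝒜} (φ : a ⟶ b)
    (h : p.IsStronglyCartesian f φ) : p.IsStronglyCartesian (p.map φ) φ := by
  have h' : p.IsHomLift f φ := inferInstance
  revert h
  obtain ⟨⟩ := h'
  intro h
  exact h

end

section PiOne

variable {C : Type u} [Category.{v} C] {D : Type u₂} [Category.{v₂} D] {𝒮 : Type u₃} [Category.{v₃} 𝒮]
  (u : C ⥤ D) (p : 𝒮 ⥤ D)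

/-- The basic strongly cartesian morphisms of `C ×_D 𝒮` over `C`. -/
theorem pi1_isStronglyCartesian {a b : CategoricalPullback u p} (φ : b ⟶ a)
    (hψ : p.IsStronglyCartesian (p.map φ.snd) φ.snd) :
    (CategoricalPullback.π₁ u p).IsStronglyCartesian φ.fst φ := by
  have hlift : (CategoricalPullback.π₁ u p).IsHomLift φ.fst φ :=
    inferInstanceAs ((CategoricalPullback.π₁ u p).IsHomLift ((CategoricalPullback.π₁ u p).map φ) φ)
  refine { toIsHomLift := hlift, universal_property' := ?_ }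
  intro a'' g φ' hφ'
  have e1 : g ≫ φ.fst = φ'.fst :=
    IsHomLift.eq_of_isHomLift (CategoricalPullback.π₁ u p) (g ≫ φ.fst) φ'
  -- the base morphism of the second component
  let h : p.obj a''.snd ⟶ p.obj b.snd := a''.iso.inv ≫ u.map g ≫ b.iso.hom
  have hf' : p.map φ'.snd = h ≫ p.map φ.snd := by
    have w1 := φ.w
    have w2 := φ'.w
    simp only [h, Category.assoc]
    rw [← w1, ← u.map_comp_assoc, e1, w2, Iso.inv_hom_id_assoc]
  let χ₂ : a''.snd ⟶ b.snd := IsStronglyCartesian.map p (p.map φ.snd) φ.snd hf' φ'.snd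
  have hχ₂ : p.IsHomLift h χ₂ := inferInstance
  have eχ₂ : χ₂ ≫ φ.snd = φ'.snd := IsStronglyCartesian.fac _ _ _ _ _
  have pχ₂ : h = p.map χ₂ := IsHomLift.eq_of_isHomLift p h χ₂
  let χ : a'' ⟶ b := ⟨g, χ₂, by
    rw [← pχ₂]
    simp only [h, Iso.hom_inv_id_assoc]⟩
  refine ⟨χ, ⟨?_, ?_⟩, ?_⟩
  · exact inferInstanceAs ((CategoricalPullback.π₁ u p).IsHomLift
      ((CategoricalPullback.π₁ u p).map χ) χ)
  · apply CategoricalPullback.hom_ext
    · exact e1
    · exact eχ₂
  · rintro χ' ⟨hχ'1, hχ'2⟩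
    have e2 : g = χ'.fst := IsHomLift.eq_of_isHomLift (CategoricalPullback.π₁ u p) g χ'
    have e3 : χ'.snd ≫ φ.snd = φ'.snd := congrArg (fun t => t.snd) hχ'2
    have e4 : p.map χ'.snd = h := by
      have w3 := χ'.w
      simp only [h]
      rw [e2, w3, Iso.inv_hom_id_assoc]
    have hχ' : p.IsHomLift h χ'.snd := by
      have : p.IsHomLift (p.map χ'.snd) χ'.snd := inferInstance
      rw [e4] at this
      exact this
    have e5 : χ'.snd = χ₂ := IsStronglyCartesian.map_uniq p (p.map φ.snd) φ.snd hf' φ'.snd χ'.snd e3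
    apply CategoricalPullback.hom_ext
    · exact e2.symm
    · exact e5

/-- `C ×_D 𝒮 ⟶ C` is fibred when `𝒮 ⟶ D` is. -/
theorem pi1_isFibered [p.IsFibered] : (CategoricalPullback.π₁ u p).IsFibered := by
  apply IsFibered.of_exists_isStronglyCartesian
  intro a R f
  obtain ⟨y', ψ, hψ⟩ := IsPreFibered.exists_isCartesian' (p := p) (a := a.snd) (R := u.obj R) (u.map f ≫ a.iso.hom)
  have hψs : p.IsStronglyCartesian (u.map f ≫ a.iso.hom) ψ := inferInstance
  have hψ' : p.IsStronglyCartesian (p.map ψ) ψ := isStronglyCartesian_map_self p _ ψ hψs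
  have hy' : p.obj y' = u.obj R := IsHomLift.domain_eq p (u.map f ≫ a.iso.hom) ψ
  have hfac : p.map ψ = eqToHom hy' ≫ (u.map f ≫ a.iso.hom) ≫ eqToHom rfl := by
    have := IsHomLift.fac' p (u.map f ≫ a.iso.hom) ψ
    simpa using this
  let b : CategoricalPullback u p := ⟨R, y', eqToIso hy'.symm⟩
  let φ : b ⟶ a := ⟨f, ψ, by
    change u.map f ≫ a.iso.hom = eqToHom hy'.symm ≫ p.map ψ
    rw [hfac]
    simp⟩
  exact ⟨b, φ, pi1_isStronglyCartesian u p φ hψ'⟩

end PiOne

end Groth.Agent.Lib.Helper65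

namespace Groth.Agent.Lib.Helper65

open FibCat Groth.Agent.Lib.Helper31

section PiTwo

variable {S : Type u} [Category.{v} S] {X : Type u₂} [Category.{v₂} X] {Y : Type u₃} [Category.{v₃} Y]

/-- A lift along a composite gives a lift of the image along the second functor. -/
theorem isHomLift_of_comp_functor (F : Y ⥤ X) (G : X ⥤ S) {R T : S} (f : R ⟶ T) {x y : Y} (φ : x ⟶ y)
    (h : (F ⋙ G).IsHomLift f φ) : G.IsHomLift f (F.map φ) := by
  obtain ⟨⟩ := h
  exact inferInstanceAs (G.IsHomLift (G.map (F.map φ)) (F.map φ))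

/-- Comparison with a cartesian arrow in a category fibred in groupoids (plain functors). -/
theorem exists_comparison' (p : X ⥤ S) (hp : IsFibGrpd p) {V U : S} (f : V ⟶ U)
    {a b c : X} (φ : b ⟶ c) (hφ : p.IsHomLift f φ) (g : a ⟶ c) (hg : p.IsHomLift f g) :
    ∃ ι : a ≅ b, p.IsHomLift (𝟙 V) ι.hom ∧ ι.hom ≫ φ = g := by
  have cφ : p.IsStronglyCartesian f φ := isStronglyCartesian_of_isFibGrpd p hp _ _
  have hg' : p.IsHomLift (𝟙 V ≫ f) g := by rw [Category.id_comp]; exact hg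
  let ι : a ⟶ b := IsStronglyCartesian.map p f φ (g := 𝟙 V) rfl g
  have hι : p.IsHomLift (𝟙 V) ι := inferInstance
  have e : ι ≫ φ = g := IsStronglyCartesian.fac _ _ _ _ _
  haveI : IsIso (p.map ι) := by
    rw [IsHomLift.fac' p (𝟙 V) ι]
    infer_instance
  haveI : IsIso ι := isIso_of_isFibGrpd p hp ι
  exact ⟨asIso ι, hι, e⟩

variable (πX : X ⥤ S) (hX : IsFibGrpd πX) (F : Y ⥤ X) (hY : IsFibGrpd (F ⋙ πX))

include hX hY in
/-- The "isofibration replacement" of `F : Y ⥤ X` is fibred in groupoids over `X`. -/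
theorem pi2_isFibGrpd : IsFibGrpd (CategoricalPullback.π₂ F (𝟭 X)) := by
  refine ⟨?_, ?_⟩
  · intro a V f
    let g : V ⟶ F.obj a.fst := f ≫ a.iso.inv
    obtain ⟨y', α, hα⟩ := hY.exists_lift (x := a.fst) (πX.map g)
    have hFα : πX.IsHomLift (πX.map g) (F.map α) := isHomLift_of_comp_functor F πX _ α hα
    have hg : πX.IsHomLift (πX.map g) g := inferInstance
    obtain ⟨ι', -, eι'⟩ := exists_comparison' πX hX (πX.map g) g hg (F.map α) hFα
    let b : CategoricalPullback F (𝟭 X) := ⟨y', V, ι'⟩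
    let φ : b ⟶ a := ⟨α, f, by
      change F.map α ≫ a.iso.hom = ι'.hom ≫ f
      rw [← eι']
      simp [g]⟩
    exact ⟨b, φ, inferInstanceAs ((CategoricalPullback.π₂ F (𝟭 X)).IsHomLift
      ((CategoricalPullback.π₂ F (𝟭 X)).map φ) φ)⟩
  · intro b a φ
    have hlift : (CategoricalPullback.π₂ F (𝟭 X)).IsHomLift
        ((CategoricalPullback.π₂ F (𝟭 X)).map φ) φ := inferInstance
    refine { toIsHomLift := hlift, universal_property' := ?_ }
    intro a'' g φ' hφ'
    have hφ'' : (CategoricalPullback.π₂ F (𝟭 X)).IsHomLift (g ≫ φ.snd) φ' := hφ'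
    have e1 : g ≫ φ.snd = φ'.snd :=
      IsHomLift.eq_of_isHomLift (CategoricalPullback.π₂ F (𝟭 X)) (g ≫ φ.snd) φ'
    have wφ : F.map φ.fst ≫ a.iso.hom = b.iso.hom ≫ φ.snd := φ.w
    have wφ' : F.map φ'.fst ≫ a.iso.hom = a''.iso.hom ≫ φ'.snd := φ'.w
    have wφi : b.iso.inv ≫ F.map φ.fst = φ.snd ≫ a.iso.inv := by
      rw [Iso.inv_comp_eq, ← Category.assoc, Iso.eq_comp_inv, wφ]
    let θ : F.obj a''.fst ⟶ F.obj b.fst := a''.iso.hom ≫ g ≫ b.iso.inv
    have eθ : θ ≫ F.map φ.fst = F.map φ'.fst := by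
      simp only [θ, Category.assoc]
      rw [wφi, ← Category.assoc g, e1, ← Category.assoc, ← wφ', Category.assoc, Iso.hom_inv_id,
        Category.comp_id]
    have hyp : (F ⋙ πX).map φ'.fst = πX.map θ ≫ (F ⋙ πX).map φ.fst := by
      change πX.map (F.map φ'.fst) = πX.map θ ≫ πX.map (F.map φ.fst)
      rw [← πX.map_comp, eθ]
    have cφ := hY.isStronglyCartesian φ.fst
    let χ₁ : a''.fst ⟶ b.fst :=
      IsStronglyCartesian.map (F ⋙ πX) ((F ⋙ πX).map φ.fst) φ.fst hyp φ'.fst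
    have hχ₁ : (F ⋙ πX).IsHomLift (πX.map θ) χ₁ := inferInstance
    have eχ₁ : χ₁ ≫ φ.fst = φ'.fst := IsStronglyCartesian.fac _ _ _ _ _
    have cFφ := hX.isStronglyCartesian (F.map φ.fst)
    have hFχ₁ : πX.IsHomLift (πX.map θ) (F.map χ₁) := isHomLift_of_comp_functor F πX _ χ₁ hχ₁
    have hθ : πX.IsHomLift (πX.map θ) θ := inferInstance
    have eFχ₁ : F.map χ₁ = θ := by
      apply IsStronglyCartesian.ext πX (πX.map (F.map φ.fst)) (F.map φ.fst) (πX.map θ)
      rw [← F.map_comp, eχ₁, eθ]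
    let χ : a'' ⟶ b := ⟨χ₁, g, by
      change F.map χ₁ ≫ b.iso.hom = a''.iso.hom ≫ g
      rw [eFχ₁]
      simp [θ]⟩
    refine ⟨χ, ⟨?_, ?_⟩, ?_⟩
    · exact inferInstanceAs ((CategoricalPullback.π₂ F (𝟭 X)).IsHomLift
        ((CategoricalPullback.π₂ F (𝟭 X)).map χ) χ)
    · apply CategoricalPullback.hom_ext
      · exact eχ₁
      · exact e1
    · rintro χ' ⟨hχ'1, hχ'2⟩
      have e2 : g = χ'.snd := IsHomLift.eq_of_isHomLift (CategoricalPullback.π₂ F (𝟭 X)) g χ'
      have e3 : χ'.fst ≫ φ.fst = φ'.fst := congrArg (fun t => t.fst) hχ'2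
      have wχ' : F.map χ'.fst ≫ b.iso.hom = a''.iso.hom ≫ χ'.snd := χ'.w
      have e4 : F.map χ'.fst = θ := by
        simp only [θ]
        rw [e2, ← Category.assoc, ← wχ', Category.assoc, Iso.hom_inv_id, Category.comp_id]
      have hχ' : (F ⋙ πX).IsHomLift (πX.map θ) χ'.fst := by
        have : (F ⋙ πX).IsHomLift ((F ⋙ πX).map χ'.fst) χ'.fst := inferInstance
        have e5 : (F ⋙ πX).map χ'.fst = πX.map θ := by
          change πX.map (F.map χ'.fst) = πX.map θ
          rw [e4]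
        rw [e5] at this
        exact this
      have e6 : χ'.fst = χ₁ :=
        IsStronglyCartesian.map_uniq (F ⋙ πX) ((F ⋙ πX).map φ.fst) φ.fst hyp φ'.fst χ'.fst e3
      apply CategoricalPullback.hom_ext
      · exact e6
      · exact e2.symm

end PiTwo

end Groth.Agent.Lib.Helper65
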