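import Groth.Agent.Lib.Helper31.FibCat
import Groth.Agent.S12801
import Mathlib.CategoryTheory.Sites.CoverPreserving
import Mathlib.CategoryTheory.Sites.CoverLifting
import Mathlib.CategoryTheory.Sites.Continuous

/-!
# The inherited topology on a category fibred in groupoids (helper65)

Functors over the base between categories fibred in groupoids are cover preserving, cocontinuous and
compatible preserving for the inherited topologies.
-/

set_option autoImplicit false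
open CategoryTheory
universe w v₃ u₃ v₂ u₂ v u

namespace Groth.Agent.Lib.Helper65.FibTop

open Functor

variable {C : Type u} [Category.{v} C] {𝒳 : Type u₂} [Category.{v₂} 𝒳] {𝒴 : Type u₃} [Category.{v₃} 𝒴]

/-- Membership in the inherited topology, for a category fibred in groupoids. -/
theorem mem_iff (p : 𝒳 ⥤ C) (hp : FibCat.IsFibGrpd p) (J : GrothendieckTopology C) {x : 𝒳}
    (S : Sieve x) : S ∈ p.restrictedTopology J x ↔ S.functorPushforward p ∈ J (p.obj x) :=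
  Groth.Agent.S12801.result p hp J S

/-- In a category fibred in groupoids, a morphism factors through any morphism with the same target
whose image it factors through. -/
theorem exists_factor (p : 𝒳 ⥤ C) (hp : FibCat.IsFibGrpd p) {R R' S : C} {f : R ⟶ S} {g : R' ⟶ R}
    {f' : R' ⟶ S} (hf' : f' = g ≫ f) {a b a' : 𝒳} (φ : a ⟶ b) [p.IsHomLift f φ] (φ' : a' ⟶ b)
    [p.IsHomLift f' φ'] : ∃ χ : a' ⟶ a, p.IsHomLift g χ ∧ χ ≫ φ = φ' := by
  have := Groth.Agent.Lib.Helper31.isStronglyCartesian_of_isFibGrpd p hp f φ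
  exact ⟨IsStronglyCartesian.map p f φ hf' φ', inferInstance, IsStronglyCartesian.fac p f φ hf' φ'⟩

/-- Uniqueness of factorisations in a category fibred in groupoids. -/
theorem factor_ext (p : 𝒳 ⥤ C) (hp : FibCat.IsFibGrpd p) {R R' S : C} (f : R ⟶ S) (g : R' ⟶ R)
    {a b a' : 𝒳} (φ : a ⟶ b) [p.IsHomLift f φ] {ψ ψ' : a' ⟶ a} [p.IsHomLift g ψ] [p.IsHomLift g ψ']
    (h : ψ ≫ φ = ψ' ≫ φ) : ψ = ψ' := by
  have := Groth.Agent.Lib.Helper31.isStronglyCartesian_of_isFibGrpd p hp f φ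
  exact IsStronglyCartesian.ext p f φ g h

/-- The image under `F` of a lift for `F ⋙ q` is a lift for `q`. -/
theorem isHomLift_map (F : 𝒳 ⥤ 𝒴) (q : 𝒴 ⥤ C) {R S : C} (f : R ⟶ S) {a b : 𝒳} (φ : a ⟶ b)
    [h : (F ⋙ q).IsHomLift f φ] : q.IsHomLift f (F.map φ) := by
  obtain ⟨⟩ := h
  exact inferInstanceAs (q.IsHomLift (q.map (F.map φ)) (F.map φ))

/-- A functor over the base between categories fibred in groupoids preserves covers for the inherited
topologies. -/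
theorem coverPreserving (F : 𝒳 ⥤ 𝒴) (q : 𝒴 ⥤ C) (hq : FibCat.IsFibGrpd q)
    (hp : FibCat.IsFibGrpd (F ⋙ q)) (J : GrothendieckTopology C) :
    CoverPreserving ((F ⋙ q).restrictedTopology J) (q.restrictedTopology J) F := by
  constructor
  intro x S hS
  rw [mem_iff _ hp] at hS
  rw [mem_iff _ hq, ← Sieve.functorPushforward_comp]
  exact hS

/-- A functor over the base between categories fibred in groupoids is cocontinuous for the inherited
topologies. -/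
theorem isCocontinuous (F : 𝒳 ⥤ 𝒴) (q : 𝒴 ⥤ C) (hq : FibCat.IsFibGrpd q)
    (hp : FibCat.IsFibGrpd (F ⋙ q)) (J : GrothendieckTopology C) :
    F.IsCocontinuous ((F ⋙ q).restrictedTopology J) (q.restrictedTopology J) := by
  constructor
  intro x S hS
  rw [mem_iff _ hq] at hS
  rw [mem_iff _ hp]
  refine J.superset_covering ?_ hS
  intro V h hh
  obtain ⟨z, g, k, hg, hk⟩ := hh
  obtain ⟨w, φ, hφ⟩ := hp.exists_lift (x := x) h
  obtain ⟨z', ψ, hψ⟩ := hq.exists_lift (x := z) k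
  have h1 : q.IsHomLift h (F.map φ) := isHomLift_map F q h φ
  have h2 : q.IsHomLift (k ≫ q.map g) (ψ ≫ g) := inferInstance
  rw [← hk] at h2
  obtain ⟨χ, _, hχ⟩ := exists_factor q hq (f := h) (g := 𝟙 V) (f' := h) (by simp) (ψ ≫ g) (F.map φ)
  have hdom : (F ⋙ q).obj w = V := IsHomLift.domain_eq (F ⋙ q) h φ
  subst hdom
  have hφ' : (F ⋙ q).map φ = h := (IsHomLift.eq_of_isHomLift (F ⋙ q) h φ).symm
  refine ⟨w, φ, 𝟙 _, ?_, ?_⟩
  · change S (F.map φ)
    rw [← hχ]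
    exact S.downward_closed (S.downward_closed hg ψ) χ
  · rw [hφ']; simp

/-- A functor over the base between categories fibred in groupoids preserves compatible families. -/
theorem compatiblePreserving (F : 𝒳 ⥤ 𝒴) (q : 𝒴 ⥤ C) (hq : FibCat.IsFibGrpd q)
    (hp : FibCat.IsFibGrpd (F ⋙ q)) (K : GrothendieckTopology 𝒴) :
    CompatiblePreserving.{w} K F := by
  constructor
  intro ℱ Z T x hx Y₁ Y₂ X f₁ f₂ g₁ g₂ hg₁ hg₂ e
  obtain ⟨W₁, φ₁, hφ₁⟩ := hp.exists_lift (x := Y₁) (q.map f₁)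
  obtain ⟨W₂, φ₂, hφ₂⟩ := hp.exists_lift (x := Y₂) (q.map f₂)
  have h1 : q.IsHomLift (q.map f₁) (F.map φ₁) := isHomLift_map F q _ φ₁
  have h2 : q.IsHomLift (q.map f₂) (F.map φ₂) := isHomLift_map F q _ φ₂
  obtain ⟨θ₁, hθ₁, hθ₁'⟩ := exists_factor q hq (f := q.map f₁) (g := 𝟙 _) (f' := q.map f₁) (by simp)
    (F.map φ₁) f₁
  obtain ⟨θ₂, hθ₂, hθ₂'⟩ := exists_factor q hq (f := q.map f₂) (g := 𝟙 _) (f' := q.map f₂) (by simp)
    (F.map φ₂) f₂
  have hb : q.map f₁ ≫ (F ⋙ q).map g₁ = 𝟙 _ ≫ q.map f₂ ≫ (F ⋙ q).map g₂ := by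
    simp only [Functor.comp_map, Category.id_comp, ← q.map_comp, e]
  have h3 : (F ⋙ q).IsHomLift (q.map f₁ ≫ (F ⋙ q).map g₁) (φ₁ ≫ g₁) := inferInstance
  have h4 : (F ⋙ q).IsHomLift (q.map f₂ ≫ (F ⋙ q).map g₂) (φ₂ ≫ g₂) := inferInstance
  obtain ⟨ω, hω, hω'⟩ := exists_factor (F ⋙ q) hp hb (φ₂ ≫ g₂) (φ₁ ≫ g₁)
  have hc := hx φ₁ (ω ≫ φ₂) hg₁ hg₂ (by rw [Category.assoc, hω'])
  have h5 : q.IsHomLift (𝟙 (q.obj X)) (F.map ω) := isHomLift_map F q _ ω
  have h6 : q.IsHomLift (q.map f₂ ≫ (F ⋙ q).map g₂) (F.map (φ₂ ≫ g₂)) := isHomLift_map F q _ _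
  have h7 : q.IsHomLift (𝟙 (q.obj X)) (θ₁ ≫ F.map ω) := by
    have : q.IsHomLift (𝟙 (q.obj X) ≫ 𝟙 (q.obj X)) (θ₁ ≫ F.map ω) := inferInstance
    simpa using this
  have hθ : θ₁ ≫ F.map ω = θ₂ := by
    refine factor_ext q hq (q.map f₂ ≫ (F ⋙ q).map g₂) (𝟙 _) (F.map (φ₂ ≫ g₂)) ?_
    rw [Category.assoc, ← F.map_comp, hω', F.map_comp, F.map_comp, reassoc_of% hθ₁', reassoc_of% hθ₂', e]
  rw [← hθ₁', ← hθ₂', ← hθ]
  simp only [Functor.comp_obj, Functor.op_obj, Functor.comp_map, Functor.op_map, Quiver.Hom.unop_op,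
    F.map_comp] at hc
  simp only [op_comp, Functor.map_comp, Category.assoc] at hc ⊢
  rw [ConcreteCategory.comp_apply, hc]
  simp

/-- Instance-free version of `exists_factor`. -/
theorem exists_factor' (p : 𝒳 ⥤ C) (hp : FibCat.IsFibGrpd p) {a a' b : 𝒳} (φ : a ⟶ b) (φ' : a' ⟶ b)
    (g : p.obj a' ⟶ p.obj a) (hg : p.map φ' = g ≫ p.map φ) :
    ∃ χ : a' ⟶ a, p.map χ = g ∧ χ ≫ φ = φ' := by
  obtain ⟨χ, hχ, hχ'⟩ := exists_factor p hp hg φ φ'
  exact ⟨χ, (IsHomLift.eq_of_isHomLift p g χ).symm, hχ'⟩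

/-- Instance-free version of `factor_ext`. -/
theorem factor_ext' (p : 𝒳 ⥤ C) (hp : FibCat.IsFibGrpd p) {a a' b : 𝒳} (φ : a ⟶ b) (ψ ψ' : a' ⟶ a)
    (h1 : p.map ψ = p.map ψ') (h : ψ ≫ φ = ψ' ≫ φ) : ψ = ψ' := by
  have i1 : p.IsHomLift (p.map ψ) ψ' := by rw [h1]; infer_instance
  exact factor_ext p hp (p.map φ) (p.map ψ) φ h

end Groth.Agent.Lib.Helper65.FibTop
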