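import Groth.Prelude.Def_AlgSt
import Groth.Agent.Lib.Helper65.BasedPost
import Groth.Agent.Lib.Helper65.FibTop
import Groth.Agent.Lib.Helper90.LiftSqComp
import Groth.Agent.Lib.Helper31.Representable

/-!
# Helper65: categories over a category `𝒳` over `C`, their total categories over `C`, and the
identification of functors over `𝒳` with the fibre of postcomposition with the structure functor.
-/

set_option autoImplicit false
set_option backward.isDefEq.respectTransparency false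
set_option backward.isDefEq.respectTransparency.types false

universe v₇ u₇ v₆ u₆ v₅ u₅ v₄ u₄ v₃ u₃ v₂ u₂ v u

open CategoryTheory CategoryTheory.Functor

namespace Groth.Agent.Lib.Helper65.TotFib

open FibCat Groth.Agent.Lib.Helper31 Groth.Agent.Lib.Helper65
open Groth.Agent.Lib.Helper90.LiftSqComp

variable {C : Type u} [Category.{v} C]

section HomLift

variable {𝒲 : Type u₆} [Category.{v₆} 𝒲] {𝒱 : Type u₇} [Category.{v₇} 𝒱]

theorem isHomLift_comp (q : 𝒲 ⥤ 𝒱) (p : 𝒱 ⥤ C) {x x' : 𝒱} (g : x ⟶ x') {y y' : 𝒲} (φ : y ⟶ y')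
    [h : q.IsHomLift g φ] : (q ⋙ p).IsHomLift (p.map g) φ := by
  obtain ⟨⟩ := h
  exact inferInstanceAs ((q ⋙ p).IsHomLift ((q ⋙ p).map φ) φ)

theorem isHomLift_comp' (q : 𝒲 ⥤ 𝒱) (p : 𝒱 ⥤ C) {S S' : C} (f : S ⟶ S') {x x' : 𝒱} (g : x ⟶ x')
    [h : p.IsHomLift f g] {y y' : 𝒲} (φ : y ⟶ y') [q.IsHomLift g φ] : (q ⋙ p).IsHomLift f φ := by
  obtain ⟨⟩ := h
  exact isHomLift_comp q p g φ

theorem isHomLift_comp_id (q : 𝒲 ⥤ 𝒱) (p : 𝒱 ⥤ C) (x : 𝒱) {S : C} (hS : p.obj x = S) {y y' : 𝒲}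
    (φ : y ⟶ y') [q.IsHomLift (𝟙 x) φ] : (q ⋙ p).IsHomLift (𝟙 S) φ := by
  have : p.IsHomLift (𝟙 S) (𝟙 x) := IsHomLift.id hS
  exact isHomLift_comp' q p (𝟙 S) (𝟙 x) φ

theorem isHomLift_of_map (F : 𝒲 ⥤ 𝒱) (p : 𝒱 ⥤ C) {S S' : C} (f : S ⟶ S') {y y' : 𝒲} (φ : y ⟶ y')
    [p.IsHomLift f (F.map φ)] : (F ⋙ p).IsHomLift f φ := by
  apply IsHomLift.of_commsq (F ⋙ p) f φ (IsHomLift.domain_eq p f (F.map φ))
    (IsHomLift.codomain_eq p f (F.map φ))
  exact (IsHomLift.commSq p f (F.map φ)).w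

end HomLift

theorem basedFunctor_ext {𝒜 : BasedCategory.{v₂, u₂} C} {ℬ : BasedCategory.{v₃, u₃} C} {F G : 𝒜 ⥤ᵇ ℬ}
    (h : F.toFunctor = G.toFunctor) : F = G := by
  cases F; cases G; cases h; rfl

theorem app_eqToHom {𝒜 : BasedCategory.{v₂, u₂} C} {ℬ : BasedCategory.{v₃, u₃} C} {F G : 𝒜 ⥤ᵇ ℬ}
    (h : F = G) (a : 𝒜.obj) : app (eqToHom h) a = eqToHom (by rw [h]) := by
  subst h; rfl

variable (𝒳 : BasedCategory.{v₂, u₂} C)

/-- The total category over `C` of a category over `𝒳`. -/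
abbrev tot (𝒜 : BasedCategory.{v₃, u₃} 𝒳.obj) : BasedCategory.{v₃, u₃} C :=
  .ofFunctor (𝒜.p ⋙ 𝒳.p)

variable {𝒳}
variable {𝒜 : BasedCategory.{v₃, u₃} 𝒳.obj} {ℬ : BasedCategory.{v₄, u₄} 𝒳.obj}
  {𝒴 : BasedCategory.{v₅, u₅} 𝒳.obj}

/-- A functor over `𝒳` as a functor over `C` between total categories. -/
def totMap (ι : 𝒜 ⥤ᵇ ℬ) : tot 𝒳 𝒜 ⥤ᵇ tot 𝒳 ℬ where
  toFunctor := ι.toFunctor
  w := by
    show ι.toFunctor ⋙ (ℬ.p ⋙ 𝒳.p) = 𝒜.p ⋙ 𝒳.p
    rw [← Functor.assoc, ι.w]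

@[simp] theorem totMap_obj (ι : 𝒜 ⥤ᵇ ℬ) (a : 𝒜.obj) : (totMap ι).obj a = ι.obj a := rfl

@[simp] theorem totMap_map (ι : 𝒜 ⥤ᵇ ℬ) {a b : 𝒜.obj} (f : a ⟶ b) : (totMap ι).map f = ι.map f := rfl

variable (𝒜) in
/-- The structure functor of a category over `𝒳`, as a functor over `C` from its total category. -/
def str : tot 𝒳 𝒜 ⥤ᵇ 𝒳 where
  toFunctor := 𝒜.p
  w := rfl

@[simp] theorem str_obj (a : 𝒜.obj) : (str 𝒜).obj a = 𝒜.p.obj a := rfl

@[simp] theorem str_map {a b : 𝒜.obj} (f : a ⟶ b) : (str 𝒜).map f = 𝒜.p.map f := rfl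

/-- A 2-morphism over `𝒳` as a 2-morphism over `C`. -/
def totNat {G G' : 𝒜 ⥤ᵇ 𝒴} (γ : G ⟶ G') : totMap G ⟶ totMap G' :=
  { toNatTrans := γ.toNatTrans
    isHomLift' := fun a => by
      have := γ.isHomLift' a
      exact isHomLift_comp_id 𝒴.p 𝒳.p (𝒜.p.obj a) rfl _ }

@[simp] theorem app_totNat {G G' : 𝒜 ⥤ᵇ 𝒴} (γ : G ⟶ G') (a : 𝒜.obj) :
    app (totNat γ) a = app γ a := rfl

theorem totMap_comp_str (G : 𝒜 ⥤ᵇ 𝒴) : BasedFunctor.comp (totMap G) (str 𝒴) = str 𝒜 :=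
  basedFunctor_ext G.w

theorem totMap_comp (ι : 𝒜 ⥤ᵇ ℬ) (G : ℬ ⥤ᵇ 𝒴) :
    totMap (BasedFunctor.comp ι G) = BasedFunctor.comp (totMap ι) (totMap G) := rfl

variable (𝒜 𝒴) in
/-- Functors over `𝒳` into `𝒴`, as objects of the fibre of postcomposition with the structure functor
of `𝒴` over the structure functor of `𝒜`. -/
def fib : (𝒜 ⥤ᵇ 𝒴) ⥤ CostructuredArrow (post (tot 𝒳 𝒜) (str 𝒴)) (str 𝒜) where
  obj G := CostructuredArrow.mk (Y := totMap G) (eqToHom (totMap_comp_str G))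
  map {G G'} γ := CostructuredArrow.homMk (totNat γ) (by
    apply hom_ext'
    intro a
    have := γ.isHomLift' a
    have h := IsHomLift.fac' 𝒴.p (𝟙 (𝒜.p.obj a)) (γ.toNatTrans.app a)
    change 𝒴.p.map (γ.toNatTrans.app a) ≫ app (eqToHom (totMap_comp_str G')) a =
      app (eqToHom (totMap_comp_str G)) a
    rw [app_eqToHom, app_eqToHom, h]
    simp)
  map_id G := by
    apply CostructuredArrow.hom_ext
    apply hom_ext'
    intro a
    rfl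
  map_comp γ δ := by
    apply CostructuredArrow.hom_ext
    apply hom_ext'
    intro a
    rfl

@[simp] theorem fib_obj_left (G : 𝒜 ⥤ᵇ 𝒴) : ((fib 𝒜 𝒴).obj G).left = totMap G := rfl

@[simp] theorem fib_map_left {G G' : 𝒜 ⥤ᵇ 𝒴} (γ : G ⟶ G') : ((fib 𝒜 𝒴).map γ).left = totNat γ := rfl

instance fib_faithful : (fib 𝒜 𝒴).Faithful where
  map_injective := by
    intro G G' γ δ h
    have h1 : totNat γ = totNat δ := congrArg (fun k => k.left) h
    apply hom_ext'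
    intro a
    exact app_congr h1 a

instance fib_full : (fib 𝒜 𝒴).Full where
  map_surjective := by
    intro G G' k
    have hw := CostructuredArrow.w k
    have hk : ∀ a : 𝒜.obj, 𝒴.p.IsHomLift (𝟙 (𝒜.p.obj a)) (app k.left a) := by
      intro a
      have h1 : 𝒴.p.map (app k.left a) ≫ app (eqToHom (totMap_comp_str G')) a =
          app (eqToHom (totMap_comp_str G)) a := app_congr hw a
      rw [app_eqToHom, app_eqToHom] at h1
      apply IsHomLift.of_commsq 𝒴.p (𝟙 (𝒜.p.obj a)) (app k.left a) (G.w_obj a) (G'.w_obj a)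
      rw [Category.comp_id]
      exact h1
    refine ⟨{ toNatTrans := k.left.toNatTrans, isHomLift' := hk }, ?_⟩
    apply CostructuredArrow.hom_ext
    apply hom_ext'
    intro a
    rfl

section Strictify

variable (h𝒴 : IsFibGrpd 𝒴.p) (H : tot 𝒳 𝒜 ⥤ᵇ tot 𝒳 𝒴) (s : str 𝒜 ⟶ BasedFunctor.comp H (str 𝒴))

/-- chosen lift of `s_t : 𝒜.p t ⟶ 𝒴.p (H t)` with target `H t` : the source. -/
noncomputable def sObj (t : 𝒜.obj) : 𝒴.obj := (h𝒴.exists_lift (x := H.obj t) (app s t)).choose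

/-- chosen lift of `s_t` with target `H t`. -/
noncomputable def sHom (t : 𝒜.obj) : sObj h𝒴 H s t ⟶ H.obj t :=
  (h𝒴.exists_lift (x := H.obj t) (app s t)).choose_spec.choose

instance sHom_isHomLift (t : 𝒜.obj) : 𝒴.p.IsHomLift (app s t) (sHom h𝒴 H s t) :=
  (h𝒴.exists_lift (x := H.obj t) (app s t)).choose_spec.choose_spec

theorem sMap_exists {t t' : 𝒜.obj} (m : t ⟶ t') :
    ∃ χ : sObj h𝒴 H s t ⟶ sObj h𝒴 H s t', 𝒴.p.IsHomLift (𝒜.p.map m) χ ∧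
      χ ≫ sHom h𝒴 H s t' = sHom h𝒴 H s t ≫ H.map m := by
  have hnat : app s t ≫ 𝒴.p.map (H.map m) = 𝒜.p.map m ≫ app s t' := (app_naturality s m).symm
  have i1 : 𝒴.p.IsHomLift (app s t ≫ 𝒴.p.map (H.map m)) (sHom h𝒴 H s t ≫ H.map m) := inferInstance
  exact FibTop.exists_factor 𝒴.p h𝒴 (f := app s t') (g := 𝒜.p.map m)
    (f' := app s t ≫ 𝒴.p.map (H.map m)) hnat (sHom h𝒴 H s t') (sHom h𝒴 H s t ≫ H.map m)

/-- the strictified functor -/
noncomputable def sFunctor : 𝒜.obj ⥤ 𝒴.obj where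
  obj := sObj h𝒴 H s
  map m := (sMap_exists h𝒴 H s m).choose
  map_id t := by
    have h1 := (sMap_exists h𝒴 H s (𝟙 t)).choose_spec
    haveI := h1.1
    haveI : 𝒴.p.IsHomLift (𝒜.p.map (𝟙 t)) (𝟙 (sObj h𝒴 H s t)) := by
      rw [𝒜.p.map_id]
      exact IsHomLift.id (IsHomLift.domain_eq 𝒴.p (app s t) (sHom h𝒴 H s t))
    apply FibTop.factor_ext 𝒴.p h𝒴 (app s t) (𝒜.p.map (𝟙 t)) (sHom h𝒴 H s t)
    rw [h1.2, CategoryTheory.Functor.map_id, Category.comp_id, Category.id_comp]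
  map_comp {t t' t''} m m' := by
    have h1 := (sMap_exists h𝒴 H s (m ≫ m')).choose_spec
    have h2 := (sMap_exists h𝒴 H s m).choose_spec
    have h3 := (sMap_exists h𝒴 H s m').choose_spec
    haveI := h1.1
    haveI := h2.1
    haveI := h3.1
    haveI : 𝒴.p.IsHomLift (𝒜.p.map (m ≫ m'))
        ((sMap_exists h𝒴 H s m).choose ≫ (sMap_exists h𝒴 H s m').choose) := by
      rw [𝒜.p.map_comp]
      infer_instance
    apply FibTop.factor_ext 𝒴.p h𝒴 (app s t'') (𝒜.p.map (m ≫ m')) (sHom h𝒴 H s t'')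
    rw [h1.2, Category.assoc, h3.2, ← Category.assoc, h2.2, Category.assoc,
      CategoryTheory.Functor.map_comp]

theorem sFunctor_map_fac {t t' : 𝒜.obj} (m : t ⟶ t') :
    (sFunctor h𝒴 H s).map m ≫ sHom h𝒴 H s t' = sHom h𝒴 H s t ≫ H.map m :=
  (sMap_exists h𝒴 H s m).choose_spec.2

instance sFunctor_map_isHomLift {t t' : 𝒜.obj} (m : t ⟶ t') :
    𝒴.p.IsHomLift (𝒜.p.map m) ((sFunctor h𝒴 H s).map m) :=
  (sMap_exists h𝒴 H s m).choose_spec.1

/-- the strictified functor over `𝒳` -/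
noncomputable def sBased : 𝒜 ⥤ᵇ 𝒴 where
  toFunctor := sFunctor h𝒴 H s
  w := CategoryTheory.Functor.ext
    (fun t => IsHomLift.domain_eq 𝒴.p (app s t) (sHom h𝒴 H s t))
    (fun t t' m => IsHomLift.fac' 𝒴.p (𝒜.p.map m) ((sFunctor h𝒴 H s).map m))

variable [IsIso s]

instance isIso_app_of_isIso (t : 𝒜.obj) : IsIso (app s t) := by
  have : IsIso (X := (str 𝒜).toFunctor) s.toNatTrans := inferInstance
  exact NatIso.isIso_app_of_isIso s.toNatTrans t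

instance sHom_isIso (t : 𝒜.obj) : IsIso (sHom h𝒴 H s t) := by
  have h := IsHomLift.fac' 𝒴.p (app s t) (sHom h𝒴 H s t)
  have : IsIso (𝒴.p.map (sHom h𝒴 H s t)) := by
    rw [h]; infer_instance
  exact isIso_of_isFibGrpd 𝒴.p h𝒴 _

/-- the comparison isomorphism of the strictified functor with the original one -/
noncomputable def sIso : totMap (sBased h𝒴 H s) ≅ H :=
  BasedNatIso.mkNatIso
    (NatIso.ofComponents (fun t => asIso (sHom h𝒴 H s t))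
      (fun {t t'} m => sFunctor_map_fac h𝒴 H s m))
    (fun t => by
      have h1 : 𝒳.p.IsHomLift (𝟙 ((tot 𝒳 𝒜).p.obj t)) (app s t) := s.isHomLift' t
      exact isHomLift_comp' 𝒴.p 𝒳.p (𝟙 ((tot 𝒳 𝒜).p.obj t)) (app s t) (sHom h𝒴 H s t))

@[simp] theorem app_sIso_hom (t : 𝒜.obj) : app (sIso h𝒴 H s).hom t = sHom h𝒴 H s t := rfl

end Strictify

/-- If `𝒳` is fibred in groupoids over `C` and `𝒴` over `𝒳`, the functor `fib` is essentially surjective. -/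
theorem fib_essSurj (h𝒳 : IsFibGrpd 𝒳.p) (h𝒴 : IsFibGrpd 𝒴.p) : (fib 𝒜 𝒴).EssSurj where
  mem_essImage := by
    intro Z
    have hσ : IsIso Z.hom := basedNatTrans_isIso_of_isFibGrpd h𝒳 Z.hom
    obtain ⟨s, hs⟩ : ∃ s : str 𝒜 ⟶ BasedFunctor.comp Z.left (str 𝒴), s = inv Z.hom := ⟨_, rfl⟩
    have hs1 : s ≫ Z.hom = 𝟙 _ := by rw [hs]; exact IsIso.inv_hom_id _
    have : IsIso s := by rw [hs]; infer_instance
    refine ⟨sBased h𝒴 Z.left s, ⟨CostructuredArrow.isoMk (sIso h𝒴 Z.left s) ?_⟩⟩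
    apply hom_ext'
    intro t
    change 𝒴.p.map (sHom h𝒴 Z.left s t) ≫ app Z.hom t =
      app (eqToHom (totMap_comp_str (sBased h𝒴 Z.left s))) t
    rw [app_eqToHom, IsHomLift.fac' 𝒴.p (app s t) (sHom h𝒴 Z.left s t)]
    have h2 : app s t ≫ app Z.hom t = 𝟙 _ := app_congr hs1 t
    simp only [Category.assoc, eqToHom_refl, Category.id_comp]
    rw [h2]
    simp

/-- If `𝒳` is fibred in groupoids over `C` and `𝒴` over `𝒳`, functors over `𝒳` into `𝒴` are the fibre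
of postcomposition with the structure functor of `𝒴`. -/
theorem fib_isEquivalence (h𝒳 : IsFibGrpd 𝒳.p) (h𝒴 : IsFibGrpd 𝒴.p) : (fib 𝒜 𝒴).IsEquivalence := by
  have := fib_essSurj (𝒜 := 𝒜) h𝒳 h𝒴
  exact { }

end Groth.Agent.Lib.Helper65.TotFib
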