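import Groth.Prelude.Def_AlgSt
import Mathlib.CategoryTheory.IsConnected
import Groth.Agent.Lib.Helper65.FibTop
import Groth.Agent.Lib.Helper65.TotFib
import Groth.Agent.Lib.Helper90.LiftSqComp
import Groth.Agent.Lib.Helper31.Representable

/-!
# Helper65: descent of sections of a category fibred in groupoids along a functor with connected and
simply connected comma categories
-/

set_option autoImplicit false
set_option backward.isDefEq.respectTransparency false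
set_option backward.isDefEq.respectTransparency.types false

universe v₇ u₇ v₆ u₆ v₅ u₅ v₄ u₄ v₃ u₃ v₂ u₂ v u

open CategoryTheory CategoryTheory.Functor

namespace Groth.Agent.Lib.Helper65.ConeDescent

open FibCat Groth.Agent.Lib.Helper31 Groth.Agent.Lib.Helper65
open Groth.Agent.Lib.Helper90.LiftSqComp

variable {D : Type u} [Category.{v} D] {ℬ : BasedCategory.{v₃, u₃} D} {𝒮 : BasedCategory.{v₄, u₄} D}
variable {A : Type u₂} [Category.{v₂} A] (φ₀ : A ⥤ ℬ.obj)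

/-- the source of `φ₀` as a category over `D`. -/
abbrev src : BasedCategory.{v₂, u₂} D := .ofFunctor (φ₀ ⋙ ℬ.p)

/-- `φ₀` as a functor over `D`. -/
def φb : src φ₀ ⥤ᵇ ℬ where
  toFunctor := φ₀
  w := rfl

variable (t : src φ₀ ⥤ᵇ 𝒮)

/-- a compatible family of morphisms from one object over `b` to the values of `t` on the comma category. -/
structure Cone (b : ℬ.obj) where
  /-- the vertex -/
  pt : 𝒮.obj
  /-- the legs -/
  ρ : ∀ X : StructuredArrow b φ₀, pt ⟶ t.obj X.right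
  lift : ∀ X : StructuredArrow b φ₀, 𝒮.p.IsHomLift (ℬ.p.map X.hom) (ρ X)
  compat : ∀ {X Y : StructuredArrow b φ₀} (k : X ⟶ Y), ρ X ≫ t.map k.right = ρ Y

variable {φ₀ t}

theorem Cone.pt_proj {b : ℬ.obj} (c : Cone φ₀ t b) [Nonempty (StructuredArrow b φ₀)] :
    𝒮.p.obj c.pt = ℬ.p.obj b := by
  obtain ⟨X⟩ := ‹Nonempty (StructuredArrow b φ₀)›
  have := c.lift X
  exact IsHomLift.domain_eq 𝒮.p (ℬ.p.map X.hom) (c.ρ X)

/-- **Universal property of cones.** -/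
theorem Cone.existsUnique_hom (h𝒮 : IsFibGrpd 𝒮.p) {b' b : ℬ.obj} [IsConnected (StructuredArrow b φ₀)]
    (c' : Cone φ₀ t b') (c : Cone φ₀ t b) (n : b' ⟶ b) :
    ∃ χ : c'.pt ⟶ c.pt, (𝒮.p.IsHomLift (ℬ.p.map n) χ ∧
      ∀ X : StructuredArrow b φ₀, χ ≫ c.ρ X = c'.ρ ((StructuredArrow.map n).obj X)) ∧
      ∀ χ' : c'.pt ⟶ c.pt, 𝒮.p.IsHomLift (ℬ.p.map n) χ' →
        (∀ X : StructuredArrow b φ₀, χ' ≫ c.ρ X = c'.ρ ((StructuredArrow.map n).obj X)) → χ' = χ := by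
  have key : ∀ X : StructuredArrow b φ₀, ∃ χ : c'.pt ⟶ c.pt, 𝒮.p.IsHomLift (ℬ.p.map n) χ ∧
      χ ≫ c.ρ X = c'.ρ ((StructuredArrow.map n).obj X) := by
    intro X
    have i1 := c.lift X
    have i2 : 𝒮.p.IsHomLift (ℬ.p.map (n ≫ X.hom)) (c'.ρ ((StructuredArrow.map n).obj X)) :=
      c'.lift ((StructuredArrow.map n).obj X)
    exact FibTop.exists_factor 𝒮.p h𝒮 (f := ℬ.p.map X.hom) (g := ℬ.p.map n)
      (f' := ℬ.p.map (n ≫ X.hom)) (ℬ.p.map_comp n X.hom) (c.ρ X)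
      (c'.ρ ((StructuredArrow.map n).obj X))
  choose F hF1 hF2 using key
  have hinv : ∀ (X Y : StructuredArrow b φ₀) (_ : X ⟶ Y), F X = F Y := by
    intro X Y k
    have i1 := c.lift Y
    have i2 := hF1 X
    have i3 := hF1 Y
    apply FibTop.factor_ext 𝒮.p h𝒮 (ℬ.p.map Y.hom) (ℬ.p.map n) (c.ρ Y)
    rw [hF2 Y, ← c.compat k, ← Category.assoc, hF2 X]
    exact c'.compat ((StructuredArrow.map n).map k)
  have hconst := constant_of_preserves_morphisms F hinv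
  let X₀ : StructuredArrow b φ₀ := Classical.arbitrary _
  refine ⟨F X₀, ⟨hF1 X₀, fun X => ?_⟩, ?_⟩
  · rw [hconst X₀ X]; exact hF2 X
  · intro χ' h1 h2
    have i1 := c.lift X₀
    have i2 := hF1 X₀
    apply FibTop.factor_ext 𝒮.p h𝒮 (ℬ.p.map X₀.hom) (ℬ.p.map n) (c.ρ X₀)
    rw [h2 X₀, hF2 X₀]

theorem Cone.ρ_mk_congr {b : ℬ.obj} (c : Cone φ₀ t b) {a : A} {f f' : b ⟶ φ₀.obj a} (h : f = f') :
    c.ρ (StructuredArrow.mk f) = c.ρ (StructuredArrow.mk f') := by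
  subst h; rfl

section Existence

variable (h𝒮 : IsFibGrpd 𝒮.p) (t) (b : ℬ.obj)

include h𝒮 in
theorem exists_pb (X : StructuredArrow b φ₀) :
    ∃ (y : 𝒮.obj) (ψ : y ⟶ t.obj X.right), 𝒮.p.IsHomLift (ℬ.p.map X.hom) ψ := by
  have hW : 𝒮.p.obj (t.obj X.right) = ℬ.p.obj (φ₀.obj X.right) := t.w_obj X.right
  obtain ⟨y, ψ, hψ⟩ := h𝒮.exists_lift (x := t.obj X.right) (ℬ.p.map X.hom ≫ eqToHom hW.symm)
  exact ⟨y, ψ, (IsHomLift.lift_comp_eqToHom_iff 𝒮.p (ℬ.p.map X.hom) ψ hW.symm).1 hψ⟩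

/-- chosen pullback of `t(a)` along `m : b ⟶ φ a` : the object. -/
noncomputable def pbObj (X : StructuredArrow b φ₀) : 𝒮.obj := (exists_pb t h𝒮 b X).choose

/-- chosen pullback of `t(a)` along `m : b ⟶ φ a` : the morphism. -/
noncomputable def pbHom (X : StructuredArrow b φ₀) : pbObj t h𝒮 b X ⟶ t.obj X.right :=
  (exists_pb t h𝒮 b X).choose_spec.choose

instance pbHom_isHomLift (X : StructuredArrow b φ₀) :
    𝒮.p.IsHomLift (ℬ.p.map X.hom) (pbHom t h𝒮 b X) :=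
  (exists_pb t h𝒮 b X).choose_spec.choose_spec

theorem map_isHomLift {a a' : A} (k : a ⟶ a') : 𝒮.p.IsHomLift (ℬ.p.map (φ₀.map k)) (t.map k) := by
  have h : (src φ₀).p.IsHomLift (ℬ.p.map (φ₀.map k)) k :=
    inferInstanceAs ((src φ₀).p.IsHomLift ((src φ₀).p.map k) k)
  infer_instance

theorem pbMap_exists {X Y : StructuredArrow b φ₀} (k : X ⟶ Y) :
    ∃ χ : pbObj t h𝒮 b X ⟶ pbObj t h𝒮 b Y, 𝒮.p.IsHomLift (𝟙 (ℬ.p.obj b)) χ ∧
      χ ≫ pbHom t h𝒮 b Y = pbHom t h𝒮 b X ≫ t.map k.right := by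
  have i1 := map_isHomLift t k.right
  have i2 : 𝒮.p.IsHomLift (ℬ.p.map X.hom ≫ ℬ.p.map (φ₀.map k.right))
      (pbHom t h𝒮 b X ≫ t.map k.right) := inferInstance
  have hf' : ℬ.p.map X.hom ≫ ℬ.p.map (φ₀.map k.right) = 𝟙 _ ≫ ℬ.p.map Y.hom := by
    rw [Category.id_comp, ← ℬ.p.map_comp, StructuredArrow.w k]
  exact FibTop.exists_factor 𝒮.p h𝒮 (f := ℬ.p.map Y.hom) (g := 𝟙 _)
    (f' := ℬ.p.map X.hom ≫ ℬ.p.map (φ₀.map k.right)) hf' (pbHom t h𝒮 b Y)
    (pbHom t h𝒮 b X ≫ t.map k.right)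

/-- the functor of chosen pullbacks from the comma category to the fibre. -/
noncomputable def T : StructuredArrow b φ₀ ⥤ 𝒮.p.Fiber (ℬ.p.obj b) where
  obj X := ⟨pbObj t h𝒮 b X, IsHomLift.domain_eq 𝒮.p (ℬ.p.map X.hom) (pbHom t h𝒮 b X)⟩
  map k := ⟨(pbMap_exists t h𝒮 b k).choose, (pbMap_exists t h𝒮 b k).choose_spec.1⟩
  map_id X := by
    apply Fiber.hom_ext
    have h1 := (pbMap_exists t h𝒮 b (𝟙 X)).choose_spec
    have i1 := h1.1
    have i2 : 𝒮.p.IsHomLift (𝟙 (ℬ.p.obj b)) (𝟙 (pbObj t h𝒮 b X)) :=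
      IsHomLift.id (IsHomLift.domain_eq 𝒮.p (ℬ.p.map X.hom) (pbHom t h𝒮 b X))
    apply FibTop.factor_ext 𝒮.p h𝒮 (ℬ.p.map X.hom) (𝟙 _) (pbHom t h𝒮 b X)
    change (pbMap_exists t h𝒮 b (𝟙 X)).choose ≫ _ = 𝟙 _ ≫ _
    rw [h1.2, Category.id_comp]
    change _ ≫ t.map (𝟙 X.right) = _
    rw [CategoryTheory.Functor.map_id, Category.comp_id]
  map_comp {X Y Z} k k' := by
    apply Fiber.hom_ext
    have h1 := (pbMap_exists t h𝒮 b (k ≫ k')).choose_spec
    have h2 := (pbMap_exists t h𝒮 b k).choose_spec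
    have h3 := (pbMap_exists t h𝒮 b k').choose_spec
    have i1 := h1.1
    have i2 := h2.1
    have i3 := h3.1
    have i4 : 𝒮.p.IsHomLift (𝟙 (ℬ.p.obj b))
        ((pbMap_exists t h𝒮 b k).choose ≫ (pbMap_exists t h𝒮 b k').choose) := inferInstance
    apply FibTop.factor_ext 𝒮.p h𝒮 (ℬ.p.map Z.hom) (𝟙 _) (pbHom t h𝒮 b Z)
    change (pbMap_exists t h𝒮 b (k ≫ k')).choose ≫ _ =
      ((pbMap_exists t h𝒮 b k).choose ≫ (pbMap_exists t h𝒮 b k').choose) ≫ _
    rw [h1.2, Category.assoc, h3.2, ← Category.assoc, h2.2, Category.assoc, ← t.map_comp]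
    rfl

theorem T_map_fac {X Y : StructuredArrow b φ₀} (k : X ⟶ Y) :
    ((T t h𝒮 b).map k).1 ≫ pbHom t h𝒮 b Y = pbHom t h𝒮 b X ≫ t.map k.right :=
  (pbMap_exists t h𝒮 b k).choose_spec.2

/-- If the functor of chosen pullbacks is isomorphic to a constant functor, there is a cone. -/
theorem exists_cone (hsc : ∃ g : 𝒮.p.Fiber (ℬ.p.obj b),
    Nonempty (T t h𝒮 b ≅ (Functor.const _).obj g)) : Nonempty (Cone φ₀ t b) := by
  obtain ⟨g, ⟨e⟩⟩ := hsc
  have hnat : ∀ {X Y : StructuredArrow b φ₀} (k : X ⟶ Y),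
      (e.inv.app Y).1 = (e.inv.app X).1 ≫ ((T t h𝒮 b).map k).1 := by
    intro X Y k
    have h := e.inv.naturality k
    have h2 : e.inv.app Y = e.inv.app X ≫ (T t h𝒮 b).map k := by
      rw [← h]
      simp
    exact congrArg (fun m => m.1) h2
  refine ⟨{ pt := g.1
            ρ := fun X => (e.inv.app X).1 ≫ pbHom t h𝒮 b X
            lift := fun X => ?_
            compat := fun {X Y} k => ?_ }⟩
  · have i1 : 𝒮.p.IsHomLift (𝟙 (ℬ.p.obj b)) (e.inv.app X).1 := (e.inv.app X).2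
    infer_instance
  · rw [Category.assoc, ← T_map_fac t h𝒮 b k, ← Category.assoc, ← hnat k]

end Existence

section Section

variable (h𝒮 : IsFibGrpd 𝒮.p) [hconn : ∀ b : ℬ.obj, IsConnected (StructuredArrow b φ₀)]
variable (c : ∀ b : ℬ.obj, Cone φ₀ t b)

/-- the transition morphism between chosen cones. -/
noncomputable def trans {b' b : ℬ.obj} (n : b' ⟶ b) : (c b').pt ⟶ (c b).pt :=
  (Cone.existsUnique_hom h𝒮 (c b') (c b) n).choose

instance trans_isHomLift {b' b : ℬ.obj} (n : b' ⟶ b) : 𝒮.p.IsHomLift (ℬ.p.map n) (trans h𝒮 c n) :=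
  (Cone.existsUnique_hom h𝒮 (c b') (c b) n).choose_spec.1.1

theorem trans_fac {b' b : ℬ.obj} (n : b' ⟶ b) (X : StructuredArrow b φ₀) :
    trans h𝒮 c n ≫ (c b).ρ X = (c b').ρ ((StructuredArrow.map n).obj X) :=
  (Cone.existsUnique_hom h𝒮 (c b') (c b) n).choose_spec.1.2 X

theorem trans_uniq {b' b : ℬ.obj} (n : b' ⟶ b) (χ' : (c b').pt ⟶ (c b).pt)
    (h1 : 𝒮.p.IsHomLift (ℬ.p.map n) χ')
    (h2 : ∀ X : StructuredArrow b φ₀, χ' ≫ (c b).ρ X = (c b').ρ ((StructuredArrow.map n).obj X)) :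
    χ' = trans h𝒮 c n :=
  (Cone.existsUnique_hom h𝒮 (c b') (c b) n).choose_spec.2 χ' h1 h2

/-- the section glued from chosen cones -/
noncomputable def sFun : ℬ.obj ⥤ 𝒮.obj where
  obj b := (c b).pt
  map n := trans h𝒮 c n
  map_id b := by
    symm
    apply trans_uniq
    · rw [ℬ.p.map_id]
      exact IsHomLift.id (c b).pt_proj
    · intro X
      rw [Category.id_comp]
      exact (c b).ρ_mk_congr (Category.id_comp X.hom).symm
  map_comp {b'' b' b} n n' := by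
    symm
    apply trans_uniq
    · rw [ℬ.p.map_comp]
      infer_instance
    · intro X
      rw [Category.assoc, trans_fac, trans_fac]
      exact (c b'').ρ_mk_congr (Category.assoc n n' X.hom).symm

/-- the section glued from chosen cones, as a functor over the base -/
noncomputable def sSection : ℬ ⥤ᵇ 𝒮 where
  toFunctor := sFun h𝒮 c
  w := CategoryTheory.Functor.ext (fun b => (c b).pt_proj)
    (fun b' b n => IsHomLift.fac' 𝒮.p (ℬ.p.map n) (trans h𝒮 c n))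

/-- the glued section restricts to `t`. -/
noncomputable def sSectionIso : BasedFunctor.comp (φb φ₀) (sSection h𝒮 c) ≅ t := by
  have hlift : ∀ a : A, 𝒮.p.IsHomLift (𝟙 (ℬ.p.obj (φ₀.obj a)))
      ((c (φ₀.obj a)).ρ (StructuredArrow.mk (𝟙 (φ₀.obj a)))) := by
    intro a
    have := (c (φ₀.obj a)).lift (StructuredArrow.mk (𝟙 (φ₀.obj a)))
    have h : ℬ.p.map (StructuredArrow.mk (𝟙 (φ₀.obj a)) : StructuredArrow (φ₀.obj a) φ₀).hom =
        𝟙 (ℬ.p.obj (φ₀.obj a)) := ℬ.p.map_id _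
    rw [h] at this
    exact this
  have hiso : ∀ a : A, IsIso ((c (φ₀.obj a)).ρ (StructuredArrow.mk (𝟙 (φ₀.obj a)))) := by
    intro a
    have := hlift a
    have h := IsHomLift.fac' 𝒮.p (𝟙 (ℬ.p.obj (φ₀.obj a)))
      ((c (φ₀.obj a)).ρ (StructuredArrow.mk (𝟙 (φ₀.obj a))))
    have : IsIso (𝒮.p.map ((c (φ₀.obj a)).ρ (StructuredArrow.mk (𝟙 (φ₀.obj a))))) := by
      rw [h]; infer_instance
    exact isIso_of_isFibGrpd 𝒮.p h𝒮 _
  refine BasedNatIso.mkNatIso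
    (NatIso.ofComponents
      (fun a => @asIso _ _ _ _ ((c (φ₀.obj a)).ρ (StructuredArrow.mk (𝟙 (φ₀.obj a)))) (hiso a))
      (fun {a a'} k => ?_))
    (fun a => hlift a)
  change trans h𝒮 c (φ₀.map k) ≫ (c (φ₀.obj a')).ρ (StructuredArrow.mk (𝟙 (φ₀.obj a'))) =
    (c (φ₀.obj a)).ρ (StructuredArrow.mk (𝟙 (φ₀.obj a))) ≫ t.map k
  rw [trans_fac]
  let kk : (StructuredArrow.mk (𝟙 (φ₀.obj a)) : StructuredArrow (φ₀.obj a) φ₀) ⟶
      (StructuredArrow.map (φ₀.map k)).obj (StructuredArrow.mk (𝟙 (φ₀.obj a'))) :=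
    StructuredArrow.homMk k (by simp)
  exact ((c (φ₀.obj a)).compat kk).symm

end Section

section FullFaithful

variable (h𝒮 : IsFibGrpd 𝒮.p)

/-- the cone of a section -/
def coneOfSection (s : ℬ ⥤ᵇ 𝒮) (b : ℬ.obj) : Cone φ₀ (BasedFunctor.comp (φb φ₀) s) b where
  pt := s.obj b
  ρ X := s.map X.hom
  lift X := by
    have : ℬ.p.IsHomLift (ℬ.p.map X.hom) X.hom := inferInstance
    infer_instance
  compat {X Y} k := by
    change s.map X.hom ≫ s.map (φ₀.map k.right) = s.map Y.hom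
    rw [← s.map_comp, StructuredArrow.w k]

/-- the cone of a section twisted by a 2-morphism of its restriction -/
def coneTrans {s s' : ℬ ⥤ᵇ 𝒮} (γ : BasedFunctor.comp (φb φ₀) s ⟶ BasedFunctor.comp (φb φ₀) s')
    (b : ℬ.obj) : Cone φ₀ (BasedFunctor.comp (φb φ₀) s') b where
  pt := s.obj b
  ρ X := s.map X.hom ≫ app γ X.right
  lift X := by
    have i1 : ℬ.p.IsHomLift (ℬ.p.map X.hom) X.hom := inferInstance
    have i2 : 𝒮.p.IsHomLift (ℬ.p.map X.hom) (s.map X.hom) := inferInstance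
    have i3 : 𝒮.p.IsHomLift (𝟙 (ℬ.p.obj (φ₀.obj X.right))) (app γ X.right) := γ.isHomLift' X.right
    infer_instance
  compat {X Y} k := by
    change (s.map X.hom ≫ app γ X.right) ≫ s'.map (φ₀.map k.right) = s.map Y.hom ≫ app γ Y.right
    have hn : s.map (φ₀.map k.right) ≫ app γ Y.right = app γ X.right ≫ s'.map (φ₀.map k.right) :=
      app_naturality γ k.right
    rw [Category.assoc, ← hn, ← Category.assoc, ← s.map_comp, StructuredArrow.w k]

include h𝒮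

theorem restr_faithful [hne : ∀ b : ℬ.obj, Nonempty (StructuredArrow b φ₀)] :
    (Stk.restr (φb φ₀) 𝒮).Faithful where
  map_injective := by
    intro s s' α β h
    apply hom_ext'
    intro b
    obtain ⟨X⟩ := hne b
    have hc : app α (φ₀.obj X.right) = app β (φ₀.obj X.right) := app_congr h X.right
    have i0 : ℬ.p.IsHomLift (ℬ.p.map X.hom) X.hom := inferInstance
    have i1 : 𝒮.p.IsHomLift (ℬ.p.map X.hom) (s'.map X.hom) := inferInstance
    have i2 : 𝒮.p.IsHomLift (𝟙 (ℬ.p.obj b)) (app α b) := α.isHomLift' b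
    have i3 : 𝒮.p.IsHomLift (𝟙 (ℬ.p.obj b)) (app β b) := β.isHomLift' b
    apply FibTop.factor_ext 𝒮.p h𝒮 (ℬ.p.map X.hom) (𝟙 _) (s'.map X.hom)
    rw [← app_naturality α X.hom, ← app_naturality β X.hom, hc]

theorem restr_full [hconn : ∀ b : ℬ.obj, IsConnected (StructuredArrow b φ₀)] :
    (Stk.restr (φb φ₀) 𝒮).Full where
  map_surjective := by
    intro s s' γ
    have hγ : ∀ b : ℬ.obj, _ := fun b =>
      Cone.existsUnique_hom h𝒮 (coneTrans γ b) (coneOfSection s' b) (𝟙 b)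
    choose α hα1 hα2 using hγ
    have hlift : ∀ b : ℬ.obj, 𝒮.p.IsHomLift (𝟙 (ℬ.p.obj b)) (α b) := by
      intro b
      have := (hα1 b).1
      rw [ℬ.p.map_id] at this
      exact this
    have hfac : ∀ (b : ℬ.obj) (X : StructuredArrow b φ₀),
        α b ≫ s'.map X.hom = s.map X.hom ≫ app γ X.right := by
      intro b X
      have h := (hα1 b).2 X
      have h2 : (coneTrans γ b).ρ ((StructuredArrow.map (𝟙 b)).obj X) = (coneTrans γ b).ρ X :=
        (coneTrans γ b).ρ_mk_congr (Category.id_comp X.hom)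
      exact h.trans h2
    have hnat : ∀ {b' b : ℬ.obj} (n : b' ⟶ b), s.map n ≫ α b = α b' ≫ s'.map n := by
      intro b' b n
      obtain ⟨χ, -, hχ⟩ := Cone.existsUnique_hom h𝒮 (coneTrans γ b') (coneOfSection s' b) n
      have i0 : ℬ.p.IsHomLift (ℬ.p.map n) n := inferInstance
      have i1 : 𝒮.p.IsHomLift (ℬ.p.map n) (s.map n) := inferInstance
      have i2 : 𝒮.p.IsHomLift (ℬ.p.map n) (s'.map n) := inferInstance
      have i3 := hlift b
      have i4 := hlift b'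
      have e1 : s.map n ≫ α b = χ := by
        apply hχ _ inferInstance
        intro X
        change (s.map n ≫ α b) ≫ s'.map X.hom = s.map (n ≫ X.hom) ≫ app γ X.right
        rw [Category.assoc, hfac b X, ← Category.assoc, ← s.map_comp]
      have e2 : α b' ≫ s'.map n = χ := by
        apply hχ _ inferInstance
        intro X
        change (α b' ≫ s'.map n) ≫ s'.map X.hom = s.map (n ≫ X.hom) ≫ app γ X.right
        rw [Category.assoc, ← s'.map_comp]
        exact hfac b' (StructuredArrow.mk (n ≫ X.hom))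
      rw [e1, e2]
    refine ⟨{ toNatTrans := { app := α, naturality := fun {b' b} n => hnat n }
              isHomLift' := hlift }, ?_⟩
    apply hom_ext'
    intro a
    change α (φ₀.obj a) = app γ a
    have h := hfac (φ₀.obj a) (StructuredArrow.mk (𝟙 (φ₀.obj a)))
    change α (φ₀.obj a) ≫ s'.map (𝟙 (φ₀.obj a)) = s.map (𝟙 (φ₀.obj a)) ≫ app γ a at h
    rw [s'.map_id, s.map_id] at h
    exact ((Category.comp_id _).symm.trans h).trans (Category.id_comp _)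

theorem restr_essSurj [hconn : ∀ b : ℬ.obj, IsConnected (StructuredArrow b φ₀)]
    (hsc : ∀ (b : ℬ.obj) (T : StructuredArrow b φ₀ ⥤ 𝒮.p.Fiber (ℬ.p.obj b)),
      ∃ g : 𝒮.p.Fiber (ℬ.p.obj b), Nonempty (T ≅ (Functor.const _).obj g)) :
    (Stk.restr (φb φ₀) 𝒮).EssSurj where
  mem_essImage := by
    intro t
    have hc : ∀ b : ℬ.obj, Nonempty (Cone φ₀ t b) := fun b => exists_cone t h𝒮 b (hsc b _)
    let c : ∀ b : ℬ.obj, Cone φ₀ t b := fun b => (hc b).some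
    exact ⟨sSection h𝒮 c, ⟨sSectionIso h𝒮 c⟩⟩

/-- **Descent along a functor with connected, simply connected comma categories.** -/
theorem restr_isEquivalence [hconn : ∀ b : ℬ.obj, IsConnected (StructuredArrow b φ₀)]
    (hsc : ∀ (b : ℬ.obj) (T : StructuredArrow b φ₀ ⥤ 𝒮.p.Fiber (ℬ.p.obj b)),
      ∃ g : 𝒮.p.Fiber (ℬ.p.obj b), Nonempty (T ≅ (Functor.const _).obj g)) :
    (Stk.restr (φb φ₀) 𝒮).IsEquivalence := by
  have hne : ∀ b : ℬ.obj, Nonempty (StructuredArrow b φ₀) := fun b => (hconn b).is_nonempty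
  have h1 := restr_faithful (φ₀ := φ₀) h𝒮
  have h2 := restr_full (φ₀ := φ₀) h𝒮
  have h3 := restr_essSurj (φ₀ := φ₀) h𝒮 hsc
  exact { }

end FullFaithful

end Groth.Agent.Lib.Helper65.ConeDescent
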