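import Groth.Prelude.Def_FibCat2
import Groth.Agent.Lib.Helper65.FibTop
import Groth.Agent.Lib.Helper31.FibCat

/-!
# Helper65: strictification of a functor commuting up to isomorphism with a fibration in groupoids
-/

set_option autoImplicit false
set_option backward.isDefEq.respectTransparency false
set_option backward.isDefEq.respectTransparency.types false

universe v₄ u₄ v₃ u₃ v₂ u₂

open CategoryTheory CategoryTheory.Functor

namespace Groth.Agent.Lib.Helper65.Strictify

open FibCat Groth.Agent.Lib.Helper31 Groth.Agent.Lib.Helper65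

variable {𝒳 : Type u₂} [Category.{v₂} 𝒳] {𝒴 : Type u₃} [Category.{v₃} 𝒴] {𝒟 : Type u₄} [Category.{v₄} 𝒟]
variable (q : 𝒴 ⥤ 𝒳) (hq : IsFibGrpd q) (T : 𝒟 ⥤ 𝒳) (H₀ : 𝒟 ⥤ 𝒴) (s : T ⟶ H₀ ⋙ q)

/-- chosen lift of `s_t : T t ⟶ q (H₀ t)` with target `H₀ t` : the source. -/
noncomputable def sObj (t : 𝒟) : 𝒴 := (hq.exists_lift (x := H₀.obj t) (s.app t)).choose

/-- chosen lift of `s_t` with target `H₀ t`. -/
noncomputable def sHom (t : 𝒟) : sObj q hq T H₀ s t ⟶ H₀.obj t :=
  (hq.exists_lift (x := H₀.obj t) (s.app t)).choose_spec.choose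

instance sHom_isHomLift (t : 𝒟) : q.IsHomLift (s.app t) (sHom q hq T H₀ s t) :=
  (hq.exists_lift (x := H₀.obj t) (s.app t)).choose_spec.choose_spec

theorem sMap_exists {t t' : 𝒟} (m : t ⟶ t') :
    ∃ χ : sObj q hq T H₀ s t ⟶ sObj q hq T H₀ s t', q.IsHomLift (T.map m) χ ∧
      χ ≫ sHom q hq T H₀ s t' = sHom q hq T H₀ s t ≫ H₀.map m := by
  have hnat : s.app t ≫ q.map (H₀.map m) = T.map m ≫ s.app t' := (s.naturality m).symm
  have i1 : q.IsHomLift (s.app t ≫ q.map (H₀.map m)) (sHom q hq T H₀ s t ≫ H₀.map m) := inferInstance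
  exact FibTop.exists_factor q hq (f := s.app t') (g := T.map m)
    (f' := s.app t ≫ q.map (H₀.map m)) hnat (sHom q hq T H₀ s t') (sHom q hq T H₀ s t ≫ H₀.map m)

/-- the strictified functor -/
noncomputable def sFunctor : 𝒟 ⥤ 𝒴 where
  obj := sObj q hq T H₀ s
  map m := (sMap_exists q hq T H₀ s m).choose
  map_id t := by
    have h1 := (sMap_exists q hq T H₀ s (𝟙 t)).choose_spec
    have := h1.1
    have : q.IsHomLift (T.map (𝟙 t)) (𝟙 (sObj q hq T H₀ s t)) := by
      rw [T.map_id]
      exact IsHomLift.id (IsHomLift.domain_eq q (s.app t) (sHom q hq T H₀ s t))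
    apply FibTop.factor_ext q hq (s.app t) (T.map (𝟙 t)) (sHom q hq T H₀ s t)
    rw [h1.2, CategoryTheory.Functor.map_id, Category.comp_id, Category.id_comp]
  map_comp {t t' t''} m m' := by
    have h1 := (sMap_exists q hq T H₀ s (m ≫ m')).choose_spec
    have h2 := (sMap_exists q hq T H₀ s m).choose_spec
    have h3 := (sMap_exists q hq T H₀ s m').choose_spec
    have := h1.1
    have := h2.1
    have := h3.1
    have : q.IsHomLift (T.map (m ≫ m'))
        ((sMap_exists q hq T H₀ s m).choose ≫ (sMap_exists q hq T H₀ s m').choose) := by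
      rw [T.map_comp]
      infer_instance
    apply FibTop.factor_ext q hq (s.app t'') (T.map (m ≫ m')) (sHom q hq T H₀ s t'')
    rw [h1.2, Category.assoc, h3.2, ← Category.assoc, h2.2, Category.assoc,
      CategoryTheory.Functor.map_comp]

theorem sFunctor_map_fac {t t' : 𝒟} (m : t ⟶ t') :
    (sFunctor q hq T H₀ s).map m ≫ sHom q hq T H₀ s t' = sHom q hq T H₀ s t ≫ H₀.map m :=
  (sMap_exists q hq T H₀ s m).choose_spec.2

instance sFunctor_map_isHomLift {t t' : 𝒟} (m : t ⟶ t') :
    q.IsHomLift (T.map m) ((sFunctor q hq T H₀ s).map m) :=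
  (sMap_exists q hq T H₀ s m).choose_spec.1

/-- the strictified functor commutes strictly with the projections -/
theorem sFunctor_comp : sFunctor q hq T H₀ s ⋙ q = T :=
  CategoryTheory.Functor.ext
    (fun t => IsHomLift.domain_eq q (s.app t) (sHom q hq T H₀ s t))
    (fun t t' m => IsHomLift.fac' q (T.map m) ((sFunctor q hq T H₀ s).map m))

theorem sHom_isIso [∀ t, IsIso (s.app t)] (t : 𝒟) : IsIso (sHom q hq T H₀ s t) := by
  have h := IsHomLift.fac' q (s.app t) (sHom q hq T H₀ s t)
  have : IsIso (q.map (sHom q hq T H₀ s t)) := by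
    rw [h]; infer_instance
  exact isIso_of_isFibGrpd q hq _

/-- the comparison isomorphism of the strictified functor with the original one -/
noncomputable def sIso [∀ t, IsIso (s.app t)] : sFunctor q hq T H₀ s ≅ H₀ :=
  NatIso.ofComponents (fun t => @asIso _ _ _ _ (sHom q hq T H₀ s t) (sHom_isIso q hq T H₀ s t))
    (fun {t t'} m => sFunctor_map_fac q hq T H₀ s m)

@[simp] theorem sIso_hom_app [∀ t, IsIso (s.app t)] (t : 𝒟) :
    (sIso q hq T H₀ s).hom.app t = sHom q hq T H₀ s t := rfl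

end Groth.Agent.Lib.Helper65.Strictify
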