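import Groth.Prelude.Def_AlgSt
import Groth.Agent.Lib.Helper65.Strictify
import Groth.Agent.Lib.Helper65.BasedPost
import Groth.Agent.Lib.Helper65.ConeDescent
import Groth.Agent.Lib.Helper90.LiftSqComp

/-!
# Helper65: functors over `C` into `C ×_D 𝒮` are functors over `D` into `𝒮`
-/

set_option autoImplicit false
set_option backward.isDefEq.respectTransparency false
set_option backward.isDefEq.respectTransparency.types false

universe v₅ u₅ v₄ u₄ v₃ u₃ v₂ u₂ v u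

open CategoryTheory CategoryTheory.Functor CategoryTheory.Limits

namespace Groth.Agent.Lib.Helper65.CatPbSections

open FibCat Groth.Agent.Lib.Helper31 Groth.Agent.Lib.Helper65
open Groth.Agent.Lib.Helper90.LiftSqComp

variable {C : Type u} [Category.{v} C] {D : Type u₂} [Category.{v₂} D] (u : C ⥤ D)
  (𝒮 : BasedCategory.{v₃, u₃} D)

/-- the categorical pullback `C ×_D 𝒮` as a category over `C`. -/
abbrev pb : BasedCategory.{max v v₃, max u u₃ v₂} C := .ofFunctor (CategoricalPullback.π₁ u 𝒮.p)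

/-- a category over `C` as a category over `D`. -/
abbrev push (𝒜 : BasedCategory.{v₄, u₄} C) : BasedCategory.{v₄, u₄} D := .ofFunctor (𝒜.p ⋙ u)

variable {𝒜 : BasedCategory.{v₄, u₄} C} {ℬ : BasedCategory.{v₅, u₅} C}

/-- a functor over `C` as a functor over `D`. -/
def pushMap (ι : 𝒜 ⥤ᵇ ℬ) : push u 𝒜 ⥤ᵇ push u ℬ where
  toFunctor := ι.toFunctor
  w := by
    show ι.toFunctor ⋙ (ℬ.p ⋙ u) = 𝒜.p ⋙ u
    rw [← Functor.assoc, ι.w]

variable {u 𝒮}

theorem map_fac (H : push u 𝒜 ⥤ᵇ 𝒮) {a a' : 𝒜.obj} (f : a ⟶ a') :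
    u.map (𝒜.p.map f) ≫ eqToHom (H.w_obj a').symm = eqToHom (H.w_obj a).symm ≫ 𝒮.p.map (H.map f) := by
  have i0 : (push u 𝒜).p.IsHomLift (u.map (𝒜.p.map f)) f :=
    inferInstanceAs ((push u 𝒜).p.IsHomLift ((push u 𝒜).p.map f) f)
  have i1 : 𝒮.p.IsHomLift (u.map (𝒜.p.map f)) (H.map f) := inferInstance
  rw [IsHomLift.fac' 𝒮.p (u.map (𝒜.p.map f)) (H.map f)]
  simp

/-- the functor into the categorical pullback attached to a functor over `D` into `𝒮`. -/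
def lamFunctor (H : push u 𝒜 ⥤ᵇ 𝒮) : 𝒜.obj ⥤ CategoricalPullback u 𝒮.p where
  obj a := ⟨𝒜.p.obj a, H.obj a, eqToIso (H.w_obj a).symm⟩
  map {a a'} f := ⟨𝒜.p.map f, H.map f, map_fac H f⟩
  map_id a := by
    apply CategoricalPullback.hom_ext
    · exact 𝒜.p.map_id a
    · exact H.toFunctor.map_id a
  map_comp f g := by
    apply CategoricalPullback.hom_ext
    · exact 𝒜.p.map_comp f g
    · exact H.toFunctor.map_comp f g

/-- `Λ` on objects -/
def lamObj (H : push u 𝒜 ⥤ᵇ 𝒮) : 𝒜 ⥤ᵇ pb u 𝒮 where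
  toFunctor := lamFunctor H
  w := rfl

theorem app_fac {H H' : push u 𝒜 ⥤ᵇ 𝒮} (γ : H ⟶ H') (a : 𝒜.obj) :
    u.map (𝟙 (𝒜.p.obj a)) ≫ eqToHom (H'.w_obj a).symm =
      eqToHom (H.w_obj a).symm ≫ 𝒮.p.map (app γ a) := by
  have i1 : 𝒮.p.IsHomLift (𝟙 (u.obj (𝒜.p.obj a))) (app γ a) := γ.isHomLift' a
  rw [IsHomLift.fac' 𝒮.p (𝟙 (u.obj (𝒜.p.obj a))) (app γ a)]
  simp

/-- `Λ` on morphisms -/
def lamMap {H H' : push u 𝒜 ⥤ᵇ 𝒮} (γ : H ⟶ H') : lamObj H ⟶ lamObj H' where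
  toNatTrans :=
    { app := fun a => ⟨𝟙 (𝒜.p.obj a), app γ a, app_fac γ a⟩
      naturality := fun {a a'} f => by
        apply CategoricalPullback.hom_ext
        · change 𝒜.p.map f ≫ 𝟙 _ = 𝟙 _ ≫ 𝒜.p.map f
          rw [Category.comp_id, Category.id_comp]
        · exact app_naturality γ f }
  isHomLift' := fun a => by
    apply IsHomLift.of_fac' (CategoricalPullback.π₁ u 𝒮.p) (𝟙 (𝒜.p.obj a)) _ rfl rfl
    change 𝟙 (𝒜.p.obj a) = eqToHom rfl ≫ 𝟙 _ ≫ eqToHom rfl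
    simp

variable (u 𝒮 𝒜) in
/-- functors over `D` from `𝒜` into `𝒮` as functors over `C` into `C ×_D 𝒮`. -/
def lam : (push u 𝒜 ⥤ᵇ 𝒮) ⥤ (𝒜 ⥤ᵇ pb u 𝒮) where
  obj := lamObj
  map := lamMap
  map_id H := by
    apply hom_ext'
    intro a
    apply CategoricalPullback.hom_ext <;> rfl
  map_comp γ δ := by
    apply hom_ext'
    intro a
    apply CategoricalPullback.hom_ext
    · change 𝟙 _ = 𝟙 _ ≫ 𝟙 _
      rw [Category.id_comp]
    · rfl

instance lam_faithful : (lam u 𝒮 𝒜).Faithful where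
  map_injective := by
    intro H H' γ δ h
    apply hom_ext'
    intro a
    have := app_congr h a
    exact congrArg (fun m => m.snd) this

theorem snd_isHomLift {c : C} {s s' : 𝒮.obj} (hs : 𝒮.p.obj s = u.obj c) (hs' : 𝒮.p.obj s' = u.obj c)
    (d : (⟨c, s, eqToIso hs.symm⟩ : CategoricalPullback u 𝒮.p) ⟶ ⟨c, s', eqToIso hs'.symm⟩)
    (hd : d.fst = 𝟙 c) : 𝒮.p.IsHomLift (𝟙 (u.obj c)) d.snd := by
  have hw : u.map d.fst ≫ eqToHom hs'.symm = eqToHom hs.symm ≫ 𝒮.p.map d.snd := d.w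
  rw [hd, u.map_id, Category.id_comp] at hw
  apply IsHomLift.of_commsq 𝒮.p (𝟙 (u.obj c)) d.snd hs hs'
  rw [Category.comp_id, ← cancel_epi (eqToHom hs.symm), ← Category.assoc, ← hw]
  simp

instance lam_full : (lam u 𝒮 𝒜).Full where
  map_surjective := by
    intro H H' δ
    have hfst : ∀ a : 𝒜.obj, (app δ a).fst = 𝟙 (𝒜.p.obj a) := by
      intro a
      have i1 : (CategoricalPullback.π₁ u 𝒮.p).IsHomLift (𝟙 (𝒜.p.obj a)) (app δ a) := δ.isHomLift' a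
      have h := IsHomLift.fac' (CategoricalPullback.π₁ u 𝒮.p) (𝟙 (𝒜.p.obj a)) (app δ a)
      have h2 : (app δ a).fst = eqToHom rfl ≫ 𝟙 (𝒜.p.obj a) ≫ eqToHom rfl := h
      rw [h2]
      simp
    have hlift : ∀ a : 𝒜.obj, 𝒮.p.IsHomLift (𝟙 (u.obj (𝒜.p.obj a))) (app δ a).snd := fun a =>
      snd_isHomLift (u := u) (c := 𝒜.p.obj a) (H.w_obj a) (H'.w_obj a) (app δ a) (hfst a)
    refine ⟨{ toNatTrans :=
                { app := fun a => (app δ a).snd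
                  naturality := fun {a a'} f => congrArg (fun m => m.snd) (app_naturality δ f) }
              isHomLift' := hlift }, ?_⟩
    apply hom_ext'
    intro a
    apply CategoricalPullback.hom_ext
    · exact (hfst a).symm
    · rfl

section EssSurj

variable (h𝒮 : IsFibGrpd 𝒮.p) (G : 𝒜 ⥤ᵇ pb u 𝒮)

theorem G_fst (a : 𝒜.obj) : (G.obj a).fst = 𝒜.p.obj a := G.w_obj a

theorem G_map_fst {a a' : 𝒜.obj} (f : a ⟶ a') :
    (G.map f).fst = eqToHom (G_fst G a) ≫ 𝒜.p.map f ≫ eqToHom (G_fst G a').symm :=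
  Functor.congr_hom G.w f

/-- the transformation to be strictified -/
def sTrans : 𝒜.p ⋙ u ⟶ (G.toFunctor ⋙ CategoricalPullback.π₂ u 𝒮.p) ⋙ 𝒮.p where
  app a := u.map (eqToHom (G_fst G a).symm) ≫ (G.obj a).iso.hom
  naturality {a a'} f := by
    change u.map (𝒜.p.map f) ≫ u.map (eqToHom (G_fst G a').symm) ≫ (G.obj a').iso.hom =
      (u.map (eqToHom (G_fst G a).symm) ≫ (G.obj a).iso.hom) ≫ 𝒮.p.map (G.map f).snd
    rw [Category.assoc, ← (G.map f).w, G_map_fst G f]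
    simp only [← Category.assoc, ← u.map_comp]
    simp

instance sTrans_app_isIso (a : 𝒜.obj) : IsIso ((sTrans G).app a) := by
  change IsIso (u.map (eqToHom (G_fst G a).symm) ≫ (G.obj a).iso.hom)
  infer_instance

/-- the strict functor over `D` attached to `G` -/
noncomputable def strictOf : push u 𝒜 ⥤ᵇ 𝒮 where
  toFunctor := Strictify.sFunctor 𝒮.p h𝒮 (𝒜.p ⋙ u) (G.toFunctor ⋙ CategoricalPullback.π₂ u 𝒮.p)
    (sTrans G)
  w := Strictify.sFunctor_comp 𝒮.p h𝒮 _ _ _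

/-- the comparison isomorphism -/
noncomputable def strictOfIso : lamObj (strictOf h𝒮 G) ≅ G := by
  let τ := Strictify.sIso 𝒮.p h𝒮 (𝒜.p ⋙ u) (G.toFunctor ⋙ CategoricalPullback.π₂ u 𝒮.p) (sTrans G)
  have hτ : ∀ a : 𝒜.obj, 𝒮.p.IsHomLift ((sTrans G).app a) (τ.hom.app a) := fun a =>
    Strictify.sHom_isHomLift 𝒮.p h𝒮 _ _ _ a
  have hw : ∀ a : 𝒜.obj, u.map (eqToHom (G_fst G a).symm) ≫ (G.obj a).iso.hom =
      eqToHom ((strictOf h𝒮 G).w_obj a).symm ≫ 𝒮.p.map (τ.hom.app a) := by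
    intro a
    have := hτ a
    rw [IsHomLift.fac' 𝒮.p ((sTrans G).app a) (τ.hom.app a)]
    change _ = eqToHom _ ≫ eqToHom _ ≫ (u.map (eqToHom (G_fst G a).symm) ≫ (G.obj a).iso.hom) ≫
      eqToHom _
    simp
  refine BasedNatIso.mkNatIso
    (NatIso.ofComponents
      (fun a => CategoricalPullback.mkIso (x := (lamObj (strictOf h𝒮 G)).obj a) (y := G.obj a)
        (eqToIso (G_fst G a).symm) (τ.app a) (hw a))
      (fun {a a'} f => ?_))
    (fun a => ?_)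
  · apply CategoricalPullback.hom_ext
    · change 𝒜.p.map f ≫ eqToHom (G_fst G a').symm = eqToHom (G_fst G a).symm ≫ (G.map f).fst
      rw [G_map_fst G f]
      simp
    · exact τ.hom.naturality f
  · apply IsHomLift.of_fac' (CategoricalPullback.π₁ u 𝒮.p) (𝟙 (𝒜.p.obj a)) _ rfl (G_fst G a)
    change eqToHom (G_fst G a).symm = eqToHom rfl ≫ 𝟙 _ ≫ eqToHom (G_fst G a).symm
    simp

end EssSurj

theorem lam_essSurj (h𝒮 : IsFibGrpd 𝒮.p) : (lam u 𝒮 𝒜).EssSurj where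
  mem_essImage G := ⟨strictOf h𝒮 G, ⟨strictOfIso h𝒮 G⟩⟩

theorem lam_isEquivalence (h𝒮 : IsFibGrpd 𝒮.p) : (lam u 𝒮 𝒜).IsEquivalence := by
  have := lam_essSurj (𝒜 := 𝒜) (u := u) h𝒮
  exact { }

section Restr

variable {A : Type u₄} [Category.{v₄} A] (ι₀ : A ⥤ ℬ.obj)

/-- `Λ` commutes with restriction along a strict functor over `C`. -/
def restrLamIso :
    Stk.restr (pushMap u (ConeDescent.φb ι₀)) 𝒮 ⋙ lam u 𝒮 (ConeDescent.src ι₀) ≅
      lam u 𝒮 ℬ ⋙ Stk.restr (ConeDescent.φb ι₀) (pb u 𝒮) :=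
  NatIso.ofComponents (fun H => Iso.refl _) (by
    intro H H' γ
    apply hom_ext'
    intro a
    apply CategoricalPullback.hom_ext
    · change 𝟙 _ ≫ 𝟙 _ = 𝟙 _ ≫ 𝟙 _
      rfl
    · change app γ (ι₀.obj a) ≫ 𝟙 _ = 𝟙 _ ≫ app γ (ι₀.obj a)
      rw [Category.comp_id, Category.id_comp])

/-- descent for `𝒮` along the pushed-forward functor gives descent for `C ×_D 𝒮`. -/
theorem restr_pb_isEquivalence (h𝒮 : IsFibGrpd 𝒮.p)
    (h : (Stk.restr (pushMap u (ConeDescent.φb ι₀)) 𝒮).IsEquivalence) :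
    (Stk.restr (ConeDescent.φb ι₀) (pb u 𝒮)).IsEquivalence := by
  have h1 : (lam u 𝒮 (ConeDescent.src ι₀)).IsEquivalence := lam_isEquivalence h𝒮
  have h2 : (lam u 𝒮 ℬ).IsEquivalence := lam_isEquivalence h𝒮
  have h3 : (lam u 𝒮 ℬ ⋙ Stk.restr (ConeDescent.φb ι₀) (pb u 𝒮)).IsEquivalence :=
    Functor.isEquivalence_of_iso (restrLamIso (u := u) (𝒮 := 𝒮) ι₀)
  exact Functor.isEquivalence_of_comp_left (lam u 𝒮 ℬ) _

end Restr

end Groth.Agent.Lib.Helper65.CatPbSections
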