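import Mathlib.AlgebraicGeometry.AlgClosed.Basic
import Mathlib.AlgebraicGeometry.Sites.Fpqc
import Mathlib.CategoryTheory.Sites.Over
import Groth.Prelude.Def_QuotSh

/-!
# Helper65: fppf covering sieves of the spectrum of an algebraically closed field are trivial

Every geometric point (with algebraically closed field) of a scheme belongs to every fppf covering sieve.
-/

set_option autoImplicit false

universe u

open CategoryTheory AlgebraicGeometry Limits

namespace Groth.Agent.Lib.Helper65.GeomPtCover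

/-- a nonempty scheme locally of finite type over an algebraically closed field has a rational point -/
theorem exists_section_of_nonempty {Ω : Type u} [Field Ω] [IsAlgClosed Ω] {Z : Scheme.{u}}
    (q : Z ⟶ Spec (.of Ω)) [LocallyOfFiniteType q] [Nonempty Z] :
    ∃ σ : Spec (.of Ω) ⟶ Z, σ ≫ q = 𝟙 _ := by
  haveI : JacobsonSpace Z := LocallyOfFiniteType.jacobsonSpace q
  have h1 : (closedPoints Z).Nonempty := by
    by_contra h
    rw [Set.not_nonempty_iff_eq_empty] at h
    have h2 := closure_closedPoints (X := Z)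
    rw [h, closure_empty] at h2
    exact Set.empty_ne_univ h2
  obtain ⟨z, hz⟩ := h1
  exact ⟨pointOfClosedPoint q z hz, pointOfClosedPoint_comp q z hz⟩

/-- every geometric point belongs to every fppf covering sieve -/
theorem geomPt_mem_of_mem_fppfTopology {X : Scheme.{u}} (R : Sieve X)
    (hR : R ∈ Scheme.fppfTopology X) (Ω : Type u) [Field Ω] [IsAlgClosed Ω] :
    ∀ x : Spec (.of Ω) ⟶ X, R x := by
  rw [Precoverage.mem_toGrothendieck_iff] at hR
  induction hR with
  | of X S hS =>
    intro x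
    have hS1 : S ∈ Scheme.jointlySurjectivePrecoverage X := hS.1
    have hS2 : ∀ ⦃Y : Scheme.{u}⦄ (g : Y ⟶ X), S g → (@Flat ⊓ @LocallyOfFinitePresentation :
        MorphismProperty Scheme.{u}) g := fun Y g hg => hS.2 hg
    obtain ⟨Y', g', hg', y, hy⟩ := hS1 (x (IsLocalRing.closedPoint Ω))
    obtain ⟨Y, g, hg⟩ : ∃ (Y : Scheme.{u}) (g : Y ⟶ X), S g ∧ ∃ y : Y, g y = x (IsLocalRing.closedPoint Ω) := by
      cases hg' with
      | of h => exact ⟨_, _, h, y, hy⟩
    obtain ⟨hgS, y, hy⟩ := hg
    haveI : LocallyOfFinitePresentation g := (hS2 g hgS).2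
    obtain ⟨z, -, -⟩ := Scheme.Pullback.exists_preimage_pullback (f := g) (g := x) y
      (IsLocalRing.closedPoint Ω) hy
    haveI : Nonempty ↥(pullback g x) := ⟨z⟩
    obtain ⟨σ, hσ⟩ := exists_section_of_nonempty (pullback.snd g x)
    refine ⟨Y, σ ≫ pullback.fst g x, g, hgS, ?_⟩
    rw [Category.assoc, pullback.condition, ← Category.assoc, hσ, Category.id_comp]
  | top X => intro x; trivial
  | pullback X S hS Y f ih =>
    intro x
    exact ih (x ≫ f)
  | transitive X S R hS hR ih1 ih2 =>
    intro x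
    have := ih2 (ih1 x) (𝟙 _)
    rw [Sieve.pullback_apply, Category.id_comp] at this
    exact this

/-- a covering sieve of the big fppf site of `S` on a geometric point is the maximal sieve -/
theorem id_mem_of_mem_J {S : Scheme.{u}} {T : Over S} (R : Sieve T)
    (hR : R ∈ QuotSh.J Scheme.fppfPrecoverage S T) (Ω : Type u) [Field Ω] [IsAlgClosed Ω]
    (t : Spec (.of Ω) ⟶ S) (hT : T = Over.mk t) : R (𝟙 T) := by
  subst hT
  rw [GrothendieckTopology.mem_over_iff] at hR
  have h1 := geomPt_mem_of_mem_fppfTopology _ hR Ω (𝟙 _)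
  rw [Sieve.overEquiv_iff] at h1
  generalize_proofs pf at h1
  have h2 : IsIso (Over.homMk (𝟙 (Spec (.of Ω))) pf : Over.mk (𝟙 _ ≫ t) ⟶ Over.mk t) := by
    haveI : IsIso ((Over.forget S).map (Over.homMk (𝟙 (Spec (.of Ω))) pf :
        Over.mk (𝟙 _ ≫ t) ⟶ Over.mk t)) := (inferInstance : IsIso (𝟙 (Spec (.of Ω))))
    exact isIso_of_reflects_iso _ (Over.forget S)
  have h3 := R.downward_closed h1 (inv (Over.homMk (𝟙 (Spec (.of Ω))) pf :
    Over.mk (𝟙 _ ≫ t) ⟶ Over.mk t))
  rw [IsIso.inv_hom_id] at h3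
  exact h3

end Groth.Agent.Lib.Helper65.GeomPtCover
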