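import Groth.Prelude.Def_StCoarse
import Groth.Prelude.Def_StGerb
import Groth.Agent.Lib.Helper65.GeomPtCover
import Groth.Agent.Lib.Helper65.OfPsh
import Groth.Agent.Lib.Helper65.FpPaste
import Groth.Agent.Lib.Helper65.GerbeBasic
import Groth.Agent.Lib.Helper65.BasedEquiv

/-!
# Helper65: geometric points of a gerbe over a stack; bijectivity on geometric points passes through a gerbe
-/

set_option autoImplicit false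
set_option backward.isDefEq.respectTransparency false
set_option backward.isDefEq.respectTransparency.types false

universe v₃ u₃ v₂ u₂ u

open CategoryTheory CategoryTheory.Functor AlgebraicGeometry Opposite

namespace Groth.Agent.Lib.Helper65.CoarseGerbe

open FibCat Gerb Groth.Agent.Lib.Helper31 Groth.Agent.Lib.Helper65

variable {S : Scheme.{u}} {𝒳 : BasedCategory.{v₂, u₂} (Over S)} {𝒴 : BasedCategory.{v₃, u₃} (Over S)}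
  {M : AlgSp.Sp S}

theorem fibSec_eq (π : 𝒳 ⥤ᵇ AlgSt.ofSp M) {T : Over S} (x : 𝒳.p.Fiber T) :
    AlgSt.fibSec π x = M.obj.map (eqToHom x.2.symm).op (secOf π x.1) := by
  unfold AlgSt.fibSec secOf
  rw [psh_map_map, eqToHom_trans]
  rfl

theorem fibSec_eq_of_hom (π : 𝒳 ⥤ᵇ AlgSt.ofSp M) {T : Over S} (a b : 𝒳.p.Fiber T) (k : a.1 ⟶ b.1)
    (hk : 𝒳.p.IsHomLift (𝟙 T) k) : AlgSt.fibSec π a = AlgSt.fibSec π b := by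
  rw [fibSec_eq, fibSec_eq, ← secOf_compat π k, psh_map_map]
  have e : eqToHom a.2.symm ≫ 𝒳.p.map k = eqToHom b.2.symm := by
    rw [IsHomLift.fac' 𝒳.p (𝟙 T) k]
    simp
  rw [e]

theorem fibSec_congr_iso {π π' : 𝒳 ⥤ᵇ AlgSt.ofSp M} (e : π ≅ π') {T : Over S} (x : 𝒳.p.Fiber T) :
    AlgSt.fibSec π x = AlgSt.fibSec π' x := by
  rw [fibSec_eq, fibSec_eq, secOf_eq_of_hom e.hom x.1]

/-- the image of an object of a fibre -/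
def mapFib (F : 𝒳 ⥤ᵇ 𝒴) {T : Over S} (x : 𝒳.p.Fiber T) : 𝒴.p.Fiber T :=
  ⟨F.obj x.1, (F.w_obj x.1).trans x.2⟩

theorem fibSec_comp (F : 𝒳 ⥤ᵇ 𝒴) (π : 𝒴 ⥤ᵇ AlgSt.ofSp M) {T : Over S} (x : 𝒳.p.Fiber T) :
    AlgSt.fibSec (BasedFunctor.comp F π) x = AlgSt.fibSec π (mapFib F x) := rfl

theorem nonempty_iso_of_hom (h𝒳 : IsFibGrpd 𝒳.p) {T : Over S} (a b : 𝒳.p.Fiber T) (k : a.1 ⟶ b.1)
    (hk : 𝒳.p.IsHomLift (𝟙 T) k) : Nonempty (a ≅ b) := by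
  haveI := isGroupoid_fiber_of_isFibGrpd 𝒳.p h𝒳 T
  let φ : a ⟶ b := ⟨k, hk⟩
  haveI : IsIso φ := IsGroupoid.all_isIso φ
  exact ⟨asIso φ⟩

theorem geomPtBij_congr {π π' : 𝒳 ⥤ᵇ AlgSt.ofSp M} (e : π ≅ π') (h : AlgSt.GeomPtBij π) :
    AlgSt.GeomPtBij π' := by
  intro Ω _ _ t
  obtain ⟨h1, h2⟩ := h Ω t
  refine ⟨fun m => ?_, fun x y hxy => ?_⟩
  · obtain ⟨x, hx⟩ := h1 m
    exact ⟨x, (fibSec_congr_iso e x).symm.trans hx⟩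
  · exact h2 x y (((fibSec_congr_iso e x).trans hxy).trans (fibSec_congr_iso e y).symm)

variable (F : 𝒳 ⥤ᵇ 𝒴)

theorem exists_lift_obj (hF : LocSurjObj (QuotSh.J Scheme.fppfPrecoverage S) F)
    (Ω : Type u) [Field Ω] [IsAlgClosed Ω] (t : Spec (.of Ω) ⟶ S) (y : 𝒴.p.Fiber (Over.mk t)) :
    ∃ (x : 𝒳.p.Fiber (Over.mk t)) (g : F.obj x.1 ⟶ y.1), 𝒴.p.IsHomLift (𝟙 (Over.mk t)) g := by
  obtain ⟨R, hR, hR'⟩ := hF y.1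
  have h1 := GeomPtCover.id_mem_of_mem_J R hR Ω t y.2
  obtain ⟨x, g, hg⟩ := hR' (𝟙 _) h1
  have hx : 𝒳.p.obj x = Over.mk t :=
    ((F.w_obj x).symm.trans (IsHomLift.domain_eq 𝒴.p (𝟙 _) g)).trans y.2
  exact ⟨⟨x, hx⟩, g, isHomLift_id_of_eq 𝒴.p y.2 g⟩

theorem nonempty_iso_of_map_hom (h𝒳 : IsFibGrpd 𝒳.p)
    (hF : LocSurjHom (QuotSh.J Scheme.fppfPrecoverage S) F)
    (Ω : Type u) [Field Ω] [IsAlgClosed Ω] (t : Spec (.of Ω) ⟶ S) (x x' : 𝒳.p.Fiber (Over.mk t))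
    (b : F.obj x.1 ⟶ F.obj x'.1) (hb : 𝒴.p.IsHomLift (𝟙 (Over.mk t)) b) : Nonempty (x ≅ x') := by
  have hb' : 𝒴.p.IsHomLift (𝟙 (𝒳.p.obj x.1)) b := isHomLift_id_of_eq 𝒴.p x.2.symm b
  obtain ⟨R, hR, hR'⟩ := hF x.1 x'.1 b hb'
  have h1 := GeomPtCover.id_mem_of_mem_J R hR Ω t x.2
  obtain ⟨x₀, φ, ψ, hφ, hψ, -⟩ := hR' (𝟙 _) h1
  haveI := isIso_of_isHomLift_id h𝒳 φ hφ
  have hi : 𝒳.p.IsHomLift (𝟙 (𝒳.p.obj x.1)) (inv φ) := inferInstance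
  have hk : 𝒳.p.IsHomLift (𝟙 (𝒳.p.obj x.1)) (inv φ ≫ ψ) := isHomLift_comp_id_right 𝒳.p _ _ _ hi hψ
  exact nonempty_iso_of_hom h𝒳 x x' (inv φ ≫ ψ) (isHomLift_id_of_eq 𝒳.p x.2 _)

theorem geomPtBij_comp (h𝒳 : IsFibGrpd 𝒳.p)
    (hF : IsGerbeOver (QuotSh.J Scheme.fppfPrecoverage S) F) (π : 𝒴 ⥤ᵇ AlgSt.ofSp M)
    (hπ : AlgSt.GeomPtBij π) : AlgSt.GeomPtBij (BasedFunctor.comp F π) := by
  intro Ω _ _ t
  obtain ⟨h1, h2⟩ := hπ Ω t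
  refine ⟨fun m => ?_, fun x x' hxx' => ?_⟩
  · obtain ⟨y, hy⟩ := h1 m
    obtain ⟨x, g, hg⟩ := exists_lift_obj F hF.1 Ω t y
    refine ⟨x, ?_⟩
    rw [fibSec_comp, ← hy]
    exact fibSec_eq_of_hom π (mapFib F x) y g hg
  · rw [fibSec_comp, fibSec_comp] at hxx'
    obtain ⟨e⟩ := h2 _ _ hxx'
    exact nonempty_iso_of_map_hom F h𝒳 hF.2 Ω t x x' e.hom.1 e.hom.2

theorem geomPtBij_of_comp (h𝒴 : IsFibGrpd 𝒴.p)
    (hF : LocSurjObj (QuotSh.J Scheme.fppfPrecoverage S) F) (ψ : 𝒴 ⥤ᵇ AlgSt.ofSp M)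
    (h : AlgSt.GeomPtBij (BasedFunctor.comp F ψ)) : AlgSt.GeomPtBij ψ := by
  intro Ω _ _ t
  obtain ⟨h1, h2⟩ := h Ω t
  refine ⟨fun m => ?_, fun y y' hyy' => ?_⟩
  · obtain ⟨x, hx⟩ := h1 m
    exact ⟨mapFib F x, hx⟩
  · obtain ⟨x, g, hg⟩ := exists_lift_obj F hF Ω t y
    obtain ⟨x', g', hg'⟩ := exists_lift_obj F hF Ω t y'
    have e1 : AlgSt.fibSec (BasedFunctor.comp F ψ) x = AlgSt.fibSec (BasedFunctor.comp F ψ) x' := by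
      rw [fibSec_comp, fibSec_comp, fibSec_eq_of_hom ψ (mapFib F x) y g hg,
        fibSec_eq_of_hom ψ (mapFib F x') y' g' hg']
      exact hyy'
    obtain ⟨e⟩ := h2 x x' e1
    haveI := isIso_of_isHomLift_id h𝒴 g hg
    have hi : 𝒴.p.IsHomLift (𝟙 (Over.mk t)) (inv g) := inferInstance
    have he : 𝒳.p.IsHomLift (𝟙 (Over.mk t)) e.hom.1 := e.hom.2
    have hFe : 𝒴.p.IsHomLift (𝟙 (Over.mk t)) (F.map e.hom.1) := inferInstance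
    have hk : 𝒴.p.IsHomLift (𝟙 (Over.mk t)) (inv g ≫ F.map e.hom.1 ≫ g') :=
      isHomLift_comp_id_right 𝒴.p _ _ _ hi (isHomLift_comp_id_right 𝒴.p _ _ _ hFe hg')
    exact nonempty_iso_of_hom h𝒴 y y' _ hk

end Groth.Agent.Lib.Helper65.CoarseGerbe
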