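import Groth.Prelude.Def_W4c2modmodulilectNerve
import Mathlib.CategoryTheory.IsConnected
import Mathlib.CategoryTheory.Category.ULift
import Mathlib.CategoryTheory.Groupoid.Discrete

/-!
# Helper65: consequences of `HasContractibleNerve`
-/

set_option autoImplicit false

open CategoryTheory W4c2modmodulilect

namespace Groth.Agent.Lib.Helper65.ContractibleNerve

universe w v u v' u'

variable {J : Type u} [Category.{v} J]

/-- Every functor from a category with contractible nerve to a category all of whose morphisms are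
invertible is isomorphic to a constant functor. -/
theorem exists_const_iso (hJ : HasContractibleNerve.{max w u' v', max w u' v'} J)
    {E : Type u'} [Category.{v'} E] (hE : ∀ {x y : E} (f : x ⟶ y), IsIso f) (T : J ⥤ E) :
    ∃ g : E, Nonempty (T ≅ (Functor.const J).obj g) := by
  have hiso : ∀ {X Y : AsSmall.{w} E} (f : X ⟶ Y), IsIso f := by
    intro X Y f
    have : IsIso ((AsSmall.down : AsSmall.{w} E ⥤ E).map f) := hE _
    have : (AsSmall.down : AsSmall.{w} E ⥤ E).IsEquivalence :=
      (AsSmall.equiv : E ≌ AsSmall.{w} E).isEquivalence_inverse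
    exact isIso_of_reflects_iso f (AsSmall.down : AsSmall.{w} E ⥤ E)
  letI : Groupoid (AsSmall.{w} E) := Groupoid.ofIsIso hiso
  have hc := hJ.2 (AsSmall.{w} E)
  have := hc.essSurj
  let T' : J ⥤ AsSmall.{w} E := T ⋙ AsSmall.up
  let g' : AsSmall.{w} E := (Functor.const J : AsSmall.{w} E ⥤ J ⥤ AsSmall.{w} E).objPreimage T'
  let e : (Functor.const J).obj g' ≅ T' :=
    (Functor.const J : AsSmall.{w} E ⥤ J ⥤ AsSmall.{w} E).objObjPreimageIso T'
  refine ⟨AsSmall.down.obj g', ⟨?_⟩⟩
  exact (Functor.rightUnitor T).symm ≪≫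
    Functor.isoWhiskerLeft T (AsSmall.equiv : E ≌ AsSmall.{w} E).unitIso ≪≫
    (Functor.associator _ _ _).symm ≪≫ Functor.isoWhiskerRight e.symm AsSmall.down ≪≫
    Functor.constComp J g' AsSmall.down

/-- A category with contractible nerve is connected. -/
theorem isConnected (hJ : HasContractibleNerve.{max w u, max w u} J) : IsConnected J := by
  haveI : Nonempty J := hJ.1
  apply IsConnected.of_constant_of_preserves_morphisms
  intro α F hF j j'
  let T : J ⥤ Discrete α :=
    { obj := fun j => ⟨F j⟩
      map := fun {j₁ j₂} f => eqToHom (by rw [hF f]) }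
  obtain ⟨g, ⟨e⟩⟩ := exists_const_iso.{w} (E := Discrete α) hJ (fun f => inferInstance) T
  have h1 : F j = g.as := Discrete.eq_of_hom (e.hom.app j)
  have h2 : F j' = g.as := Discrete.eq_of_hom (e.hom.app j')
  rw [h1, h2]

end Groth.Agent.Lib.Helper65.ContractibleNerve
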