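import Mathlib.CategoryTheory.Comma.StructuredArrow.Basic
import Mathlib.CategoryTheory.Equivalence

/-!
# Helper65: a functor is an equivalence if it is one on all (co)structured-arrow fibres over an equivalence
-/

set_option autoImplicit false

universe v₁ v₂ v₃ v₄ u₁ u₂ u₃ u₄

open CategoryTheory

namespace Groth.Agent.Lib.Helper65.CostrEquiv

variable {A : Type u₁} [Category.{v₁} A] {B : Type u₂} [Category.{v₂} B]
variable {C : Type u₃} [Category.{v₃} C] {D : Type u₄} [Category.{v₄} D]
variable (S : C ⥤ D) (U : A ⥤ B) (F : C ⥤ A) (G : D ⥤ B) (α : F ⋙ U ≅ S ⋙ G)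

theorem faithful_of_map₂ [G.Faithful]
    (H : ∀ T : D, (CostructuredArrow.map₂ (S := S) (T := T) (U := U) (F := F) (G := G) α.hom
      (𝟙 (G.obj T))).Faithful) : F.Faithful where
  map_injective := by
    intro c c' f g hfg
    have h1 : S.map f = S.map g := by
      apply G.map_injective
      have hf := α.hom.naturality f
      have hg := α.hom.naturality g
      simp only [Functor.comp_map] at hf hg
      rw [hfg] at hf
      have : α.hom.app c ≫ G.map (S.map f) = α.hom.app c ≫ G.map (S.map g) := by
        rw [← hf, ← hg]
      exact (cancel_epi _).1 this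
    let X : CostructuredArrow S (S.obj c') := CostructuredArrow.mk (S.map f)
    let Y : CostructuredArrow S (S.obj c') := CostructuredArrow.mk (𝟙 (S.obj c'))
    let kf : X ⟶ Y := CostructuredArrow.homMk f (by simp [X, Y])
    let kg : X ⟶ Y := CostructuredArrow.homMk g (by simp [X, Y, h1])
    have := H (S.obj c')
    have hk : kf = kg := by
      apply (CostructuredArrow.map₂ (S := S) (T := S.obj c') (U := U) (F := F) (G := G) α.hom
        (𝟙 (G.obj (S.obj c')))).map_injective
      apply CostructuredArrow.hom_ext
      exact hfg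
    exact congrArg (fun k => k.left) hk

theorem full_of_map₂ [G.Full]
    (H : ∀ T : D, (CostructuredArrow.map₂ (S := S) (T := T) (U := U) (F := F) (G := G) α.hom
      (𝟙 (G.obj T))).Full) : F.Full where
  map_surjective := by
    intro c c' h
    obtain ⟨ε, hε⟩ := G.map_surjective (α.inv.app c ≫ U.map h ≫ α.hom.app c')
    let X : CostructuredArrow S (S.obj c') := CostructuredArrow.mk ε
    let Y : CostructuredArrow S (S.obj c') := CostructuredArrow.mk (𝟙 (S.obj c'))
    have := H (S.obj c')
    let M := CostructuredArrow.map₂ (S := S) (T := S.obj c') (U := U) (F := F) (G := G) α.hom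
        (𝟙 (G.obj (S.obj c')))
    let k' : M.obj X ⟶ M.obj Y := CostructuredArrow.homMk h (by
      simp [M, X, Y, hε])
    obtain ⟨k, hk⟩ := M.map_surjective k'
    refine ⟨k.left, ?_⟩
    have := congrArg (fun k => k.left) hk
    exact this

theorem essSurj_of_map₂ [G.EssSurj]
    (H : ∀ T : D, (CostructuredArrow.map₂ (S := S) (T := T) (U := U) (F := F) (G := G) α.hom
      (𝟙 (G.obj T))).EssSurj) : F.EssSurj where
  mem_essImage := by
    intro a
    let T : D := G.objPreimage (U.obj a)
    let e : G.obj T ≅ U.obj a := G.objObjPreimageIso (U.obj a)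
    let Z : CostructuredArrow U (G.obj T) := CostructuredArrow.mk e.inv
    have := H T
    let M := CostructuredArrow.map₂ (S := S) (T := T) (U := U) (F := F) (G := G) α.hom
        (𝟙 (G.obj T))
    let X := M.objPreimage Z
    let i : M.obj X ≅ Z := M.objObjPreimageIso Z
    exact ⟨X.left, ⟨(CostructuredArrow.proj U (G.obj T)).mapIso i⟩⟩

/-- If `G` is an equivalence and `F` induces equivalences on all costructured-arrow categories,
then `F` is an equivalence. -/
theorem isEquivalence_of_map₂ [G.IsEquivalence]
    (H : ∀ T : D, (CostructuredArrow.map₂ (S := S) (T := T) (U := U) (F := F) (G := G) α.hom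
      (𝟙 (G.obj T))).IsEquivalence) : F.IsEquivalence := by
  have h1 := faithful_of_map₂ S U F G α (fun T => (H T).faithful)
  have h2 := full_of_map₂ S U F G α (fun T => (H T).full)
  have h3 := essSurj_of_map₂ S U F G α (fun T => (H T).essSurj)
  exact { }

end Groth.Agent.Lib.Helper65.CostrEquiv
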