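import Groth.Agent.Lib.Helper65.MonoQC4

/-!
# Helper65: Noetherian dévissage for quasi-compactness of a morphism of algebraic stacks

If the target has a locally Noetherian smooth atlas and, over every Noetherian integral affine chart, `f` is
"quasi-compact over a nonempty basic open", then `f` is quasi-compact.
-/

set_option autoImplicit false
set_option backward.isDefEq.respectTransparency false
set_option backward.isDefEq.respectTransparency.types false

universe v u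

open CategoryTheory CategoryTheory.Functor CategoryTheory.Limits Opposite AlgebraicGeometry

namespace Groth.Agent.Lib.Helper65.Devissage

open FibCat Groth.Agent.Lib.Helper31 Groth.Agent.Lib.Helper65 Groth.Agent.Lib.Helper65.MonoQC
open Groth.Agent.Lib.Helper66.AlgStLocQSq (overMapComp)

variable {S : Scheme.{u}} {𝒳 𝒴 : AlgSt.Cat S}

/-- Base changes of `f` to quasi-compact schemes over the chart `b` have quasi-compact spaces of points. -/
def QCPiece (f : 𝒴 ⥤ᵇ 𝒳) {W : Over S} (b : FibCat.overCat W ⥤ᵇ 𝒳) : Prop :=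
  ∀ (Z : Over S) [CompactSpace ↥Z.left] (g : Z ⟶ W) (a : FibCat.overCat Z ⥤ᵇ 𝒳),
    (a ≅ BasedFunctor.comp (AlgSt.overMap g) b) → CompactSpace (AlgSt.Points (fp a f))

theorem QCPiece.of_iso {f : 𝒴 ⥤ᵇ 𝒳} {W : Over S} {b b' : FibCat.overCat W ⥤ᵇ 𝒳} (h : QCPiece f b)
    (e : b ≅ b') : QCPiece f b' := fun Z _ g a ia =>
  h Z g a (ia ≪≫ bWhiskerLeftIso (AlgSt.overMap g) e.symm)

theorem QCPiece.precomp {f : 𝒴 ⥤ᵇ 𝒳} {W W' : Over S} {b : FibCat.overCat W ⥤ᵇ 𝒳} (h : QCPiece f b)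
    (k : W' ⟶ W) : QCPiece f (BasedFunctor.comp (AlgSt.overMap k) b) := fun Z _ g a ia =>
  h Z (g ≫ k) a (ia ≪≫ bWhiskerRightIso (overMapComp g k) b)

/-- The generic hypothesis of the dévissage: over every Noetherian integral affine chart `f` is quasi-compact
over a nonempty basic open. -/
def GenQC (f : 𝒴 ⥤ᵇ 𝒳) : Prop :=
  ∀ (A : Type u) [CommRing A] [IsDomain A] [IsNoetherianRing A] (sA : Spec (CommRingCat.of A) ⟶ S)
    (a : FibCat.overCat (Over.mk sA) ⥤ᵇ 𝒳),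
    ∃ r : A, r ≠ 0 ∧ QCPiece f (BasedFunctor.comp (AlgSt.overMap
      (Over.homMk (Spec.map (CommRingCat.ofHom (algebraMap A (Localization.Away r)))) rfl :
        Over.mk (Spec.map (CommRingCat.ofHom (algebraMap A (Localization.Away r))) ≫ sA) ⟶ Over.mk sA)) a)

section Good

variable (f : 𝒴 ⥤ᵇ 𝒳) (R : CommRingCat.{u}) (sR : Spec R ⟶ S) (x : FibCat.overCat (Over.mk sR) ⥤ᵇ 𝒳)

/-- Every field point of `V(I)` factors through one of the pieces. -/
def Cov (I : Ideal R) {ι : Type} (W : ι → Over S) (j : ∀ k, W k ⟶ Over.mk sR) : Prop :=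
  ∀ (L : Type u) [Field L] (str : Spec (CommRingCat.of L) ⟶ S) (t : Over.mk str ⟶ Over.mk sR),
    I ≤ RingHom.ker (Spec.preimage t.left).hom →
      ∃ k, ∃ ψ : Spec (CommRingCat.of L) ⟶ (W k).left, ψ ≫ (j k).left = t.left

/-- A finite family of quasi-compact pieces, over each of which `f` is quasi-compact, covering `V(I)`. -/
def Good (I : Ideal R) : Prop :=
  ∃ (ι : Type) (_ : Finite ι) (W : ι → Over S) (j : ∀ k, W k ⟶ Over.mk sR),
    (∀ k, QuasiCompact (j k).left) ∧ (∀ k, QCPiece f (BasedFunctor.comp (AlgSt.overMap (j k)) x)) ∧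
      Cov R sR I W j

theorem good_top : Good f R sR x ⊤ := by
  refine ⟨Empty, inferInstance, fun k => k.elim, fun k => k.elim, fun k => k.elim, fun k => k.elim, ?_⟩
  intro L _ str t hI
  exfalso
  have h1 : (1 : R) ∈ RingHom.ker (Spec.preimage t.left).hom := hI Submodule.mem_top
  rw [RingHom.mem_ker, map_one] at h1
  exact one_ne_zero h1

theorem good_of_mul (I : Ideal R) (a b : R) (hab : a * b ∈ I)
    (h₁ : Good f R sR x (I ⊔ Ideal.span {a})) (h₂ : Good f R sR x (I ⊔ Ideal.span {b})) :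
    Good f R sR x I := by
  obtain ⟨ι₁, _, W₁, j₁, hq₁, hl₁, hc₁⟩ := h₁
  obtain ⟨ι₂, _, W₂, j₂, hq₂, hl₂, hc₂⟩ := h₂
  refine ⟨ι₁ ⊕ ι₂, inferInstance, Sum.elim W₁ W₂,
    fun k => Sum.rec (motive := fun k => Sum.elim W₁ W₂ k ⟶ Over.mk sR) j₁ j₂ k, ?_, ?_, ?_⟩
  · rintro (k | k)
    · exact hq₁ k
    · exact hq₂ k
  · rintro (k | k)
    · exact hl₁ k
    · exact hl₂ k
  · intro L _ str t hI
    have h0 : (Spec.preimage t.left).hom a * (Spec.preimage t.left).hom b = 0 := by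
      rw [← map_mul]
      exact hI hab
    rcases mul_eq_zero.1 h0 with h | h
    · obtain ⟨k, ψ, hψ⟩ := hc₁ L str t
        (sup_le hI ((Ideal.span_singleton_le_iff_mem _).2 h))
      exact ⟨Sum.inl k, ψ, hψ⟩
    · obtain ⟨k, ψ, hψ⟩ := hc₂ L str t
        (sup_le hI ((Ideal.span_singleton_le_iff_mem _).2 h))
      exact ⟨Sum.inr k, ψ, hψ⟩

theorem good_of_prime (hg : GenQC f) [IsNoetherianRing R] (I : Ideal R) [hI : I.IsPrime]
    (ih : ∀ J, I < J → Good f R sR x J) : Good f R sR x I := by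
  classical
  let A := ↑R ⧸ I
  let q : ↑R →+* A := Ideal.Quotient.mk I
  let sA : Spec (CommRingCat.of A) ⟶ S := Spec.map (CommRingCat.ofHom q) ≫ sR
  let bcA : Over.mk sA ⟶ Over.mk sR := Over.homMk (Spec.map (CommRingCat.ofHom q)) rfl
  let a : FibCat.overCat (Over.mk sA) ⥤ᵇ 𝒳 := BasedFunctor.comp (AlgSt.overMap bcA) x
  obtain ⟨r, hr, hpiece⟩ := hg A sA a
  obtain ⟨a₀, rfl⟩ := Ideal.Quotient.mk_surjective r
  have ha₀ : a₀ ∉ I := fun h => hr (Ideal.Quotient.eq_zero_iff_mem.2 h)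
  obtain ⟨ι', _, W', j', hq', hl', hc'⟩ := ih _ (lt_sup_span R ha₀)
  let B := Localization.Away (q a₀)
  let β : Spec (CommRingCat.of B) ⟶ Spec (CommRingCat.of A) :=
    Spec.map (CommRingCat.ofHom (algebraMap A B))
  let Wn : Over S := Over.mk (β ≫ sA)
  let jn : Wn ⟶ Over.mk sR := (Over.homMk β rfl : Wn ⟶ Over.mk sA) ≫ bcA
  have hln : QCPiece f (BasedFunctor.comp (AlgSt.overMap jn) x) :=
    hpiece.of_iso (bWhiskerRightIso (overMapComp (Over.homMk β rfl : Wn ⟶ Over.mk sA) bcA) x)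
  have hqn : QuasiCompact jn.left := by
    change QuasiCompact (β ≫ Spec.map (CommRingCat.ofHom q))
    infer_instance
  refine ⟨Option ι', inferInstance, fun o => o.elim Wn W',
    fun o => Option.rec (motive := fun o => (o.elim Wn W') ⟶ Over.mk sR) jn j' o, ?_, ?_, ?_⟩
  · rintro (_ | k)
    · exact hqn
    · exact hq' k
  · rintro (_ | k)
    · exact hln
    · exact hl' k
  · intro L _ str t hIt
    by_cases h0 : (Spec.preimage t.left).hom a₀ = 0
    · obtain ⟨k, ψ, hψ⟩ := hc' L str t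
        (sup_le hIt ((Ideal.span_singleton_le_iff_mem _).2 h0))
      exact ⟨some k, ψ, hψ⟩
    · let φb : A →+* L := Ideal.Quotient.lift I (Spec.preimage t.left).hom (fun r hr => hIt hr)
      have hu : IsUnit (φb (q a₀)) := by
        change IsUnit (Ideal.Quotient.lift I _ _ (Ideal.Quotient.mk I a₀))
        rw [Ideal.Quotient.lift_mk]
        exact IsUnit.mk0 _ h0
      let φt : B →+* L := IsLocalization.Away.lift (q a₀) hu
      have hφt : φt.comp (algebraMap A B) = φb := IsLocalization.Away.lift_comp _ hu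
      refine ⟨none, Spec.map (CommRingCat.ofHom φt), ?_⟩
      change Spec.map (CommRingCat.ofHom φt) ≫ β ≫ Spec.map (CommRingCat.ofHom q) = t.left
      rw [← spec_map_quotient_lift R I t.left hIt, ← Category.assoc]
      congr 1
      change Spec.map (CommRingCat.ofHom φt) ≫ Spec.map (CommRingCat.ofHom (algebraMap A B)) = _
      rw [← Spec.map_comp, ← CommRingCat.ofHom_comp, hφt]

/-- **Noetherian induction**: over a Noetherian ring every ideal is good. -/
theorem good_all (hg : GenQC f) [IsNoetherianRing R] (I : Ideal R) : Good f R sR x I := by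
  refine IsNoetherian.induction (P := Good f R sR x) (fun (I : Ideal ↑R) ih => ?_) I
  by_cases hp : I.IsPrime
  · exact good_of_prime f R sR x hg I ih
  · rcases Ideal.not_isPrime_iff.1 hp with rfl | ⟨a, ha, b, hb, hab⟩
    · exact good_top f R sR x
    · exact good_of_mul f R sR x I a b hab (ih _ (lt_sup_span R ha)) (ih _ (lt_sup_span R hb))

end Good

/-- If finitely many quasi-compact pieces `W k ⟶ X`, over each of which `f` is quasi-compact, receive every
field point of `X`, then for every quasi-compact scheme `Z` over `X` the points of the base change of `f` to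
`Z` form a quasi-compact space. -/
theorem compactSpace_points_fp_of_family
    (h𝒳 : AlgSt.IsAlgStack Scheme.fppfPrecoverage 𝒳) (h𝒴 : AlgSt.IsAlgStack Scheme.fppfPrecoverage 𝒴)
    (f : 𝒴 ⥤ᵇ 𝒳) {X : Over S} (x : FibCat.overCat X ⥤ᵇ 𝒳)
    {ι : Type} [Finite ι] (W : ι → Over S) (j : ∀ k, W k ⟶ X) (hqc : ∀ k, QuasiCompact (j k).left)
    (hp : ∀ k, QCPiece f (BasedFunctor.comp (AlgSt.overMap (j k)) x))
    (hcov : ∀ (L : Type u) [Field L] (str : Spec (CommRingCat.of L) ⟶ S) (t : Over.mk str ⟶ X),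
        ∃ k, ∃ ψ : Spec (CommRingCat.of L) ⟶ (W k).left, ψ ≫ (j k).left = t.left)
    (Z : Over S) [CompactSpace ↥Z.left] (g₀ : Z ⟶ X) (a : FibCat.overCat Z ⥤ᵇ 𝒳)
    (ia : a ≅ BasedFunctor.comp (AlgSt.overMap g₀) x) :
    CompactSpace (AlgSt.Points (fp a f)) := by
  classical
  let Zk : ι → Over S := fun k => Over.mk (pullback.fst g₀.left (j k).left ≫ Z.hom)
  let pr₁ : ∀ k, Zk k ⟶ Z := fun k => Over.homMk (pullback.fst g₀.left (j k).left) rfl
  let pr₂ : ∀ k, Zk k ⟶ W k := fun k => Over.homMk (pullback.snd g₀.left (j k).left) (by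
    have h1 : (j k).left ≫ X.hom = (W k).hom := Over.w (j k)
    have h2 : g₀.left ≫ X.hom = Z.hom := Over.w g₀
    change pullback.snd _ _ ≫ (W k).hom = pullback.fst _ _ ≫ Z.hom
    rw [← h1, ← h2, ← Category.assoc, ← Category.assoc, pullback.condition])
  have hcomm : ∀ k, pr₁ k ≫ g₀ = pr₂ k ≫ j k := fun k => by
    apply Over.OverMorphism.ext
    exact pullback.condition
  have hZk : ∀ k, CompactSpace ↥(Zk k).left := fun k => by
    have := hqc k
    exact QuasiCompact.compactSpace_of_compactSpace (pullback.fst g₀.left (j k).left)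
  refine compactSpace_points_fp_of_cover h𝒳 h𝒴 f (isAlgStack_overCat Z) a
    (fun k => FibCat.overCat (Zk k)) (fun k => isAlgStack_overCat _) (fun k => AlgSt.overMap (pr₁ k)) ?_ ?_
  · intro z
    obtain ⟨ζ₀, rfl⟩ := (chartPt_bijective Z).2 z
    let t : Over.mk (Z.left.fromSpecResidueField ζ₀ ≫ Z.hom) ⟶ X :=
      (Over.homMk (Z.left.fromSpecResidueField ζ₀) rfl :
        Over.mk (Z.left.fromSpecResidueField ζ₀ ≫ Z.hom) ⟶ Z) ≫ g₀
    obtain ⟨k, ψ, hψ⟩ := hcov (Z.left.residueField ζ₀) (Z.left.fromSpecResidueField ζ₀ ≫ Z.hom) t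
    have hψ' : Z.left.fromSpecResidueField ζ₀ ≫ g₀.left = ψ ≫ (j k).left := hψ.symm
    let l : Spec (Z.left.residueField ζ₀) ⟶ (Zk k).left :=
      pullback.lift (Z.left.fromSpecResidueField ζ₀) ψ hψ'
    have hl : l ≫ (pr₁ k).left = Z.left.fromSpecResidueField ζ₀ := pullback.lift_fst _ _ _
    refine ⟨k, chartPt (Zk k) (l.base (IsLocalRing.closedPoint (Z.left.residueField ζ₀))), ?_⟩
    rw [points_map_overMap_chartPt]
    congr 1
    change (l ≫ (pr₁ k).left).base _ = ζ₀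
    rw [hl]
    exact Scheme.fromSpecResidueField_apply _ _
  · intro k
    have := hZk k
    exact hp k (Zk k) (pr₂ k) (BasedFunctor.comp (AlgSt.overMap (pr₁ k)) a)
      (bWhiskerLeftIso (AlgSt.overMap (pr₁ k)) ia ≪≫ bWhiskerRightIso (overMapComp (pr₁ k) g₀) x ≪≫
        eqToIso (by rw [hcomm k]) ≪≫ (bWhiskerRightIso (overMapComp (pr₂ k) (j k)) x).symm)

/-- Over a Noetherian affine chart, base changes of `f` to quasi-compact schemes have quasi-compact points. -/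
theorem qcPiece_of_noeth
    (h𝒳 : AlgSt.IsAlgStack Scheme.fppfPrecoverage 𝒳) (h𝒴 : AlgSt.IsAlgStack Scheme.fppfPrecoverage 𝒴)
    (f : 𝒴 ⥤ᵇ 𝒳) (hg : GenQC f) (R : CommRingCat.{u}) [IsNoetherianRing R] (sR : Spec R ⟶ S)
    (x : FibCat.overCat (Over.mk sR) ⥤ᵇ 𝒳) : QCPiece f x := by
  intro Z _ g₀ a ia
  obtain ⟨ι, _, W, j, hq, hl, hcov⟩ := good_all f R sR x hg ⊥
  exact compactSpace_points_fp_of_family h𝒳 h𝒴 f x W j hq hl
    (fun L _ str t => hcov L str t bot_le) Z g₀ a ia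

/-- Base changes of `f` to quasi-compact schemes have quasi-compact spaces of points. -/
theorem compactSpace_points_fp_of_compact
    (h𝒳 : AlgSt.IsAlgStack Scheme.fppfPrecoverage 𝒳) (h𝒴 : AlgSt.IsAlgStack Scheme.fppfPrecoverage 𝒴)
    (X₀ : Over S) (x₀ : FibCat.overCat X₀ ⥤ᵇ 𝒳)
    (hx1 : AlgSt.RepByAlgSpWith (AlgSp.LocP @Smooth) x₀)
    (hx2 : AlgSt.RepByAlgSpWith AlgSp.IsSurjectiveMor x₀) (hX₀ : IsLocallyNoetherian X₀.left)
    (f : 𝒴 ⥤ᵇ 𝒳) (hg : GenQC f)
    (Z : Over S) [CompactSpace ↥Z.left] (y : FibCat.overCat Z ⥤ᵇ 𝒳) :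
    CompactSpace (AlgSt.Points (fp y f)) := by
  classical
  have hZ := isAlgStack_overCat Z
  have hX := isAlgStack_overCat X₀
  have hyx : AlgSt.IsAlgStack Scheme.fppfPrecoverage (fp y x₀) :=
    Groth.Agent.S12763.result h𝒳.isStack h𝒳.diag hZ hX y x₀
  obtain ⟨V, v, hv1, hv2⟩ := hyx.atlas
  let c : FibCat.overCat V ⥤ᵇ FibCat.overCat Z := BasedFunctor.comp v (fpFst y x₀)
  have hc1 : AlgSt.RepByAlgSpWith (AlgSp.LocP @Smooth) c :=
    repByAlgSpWith_comp _ stableBC_locP_smooth stableComp_locP_smooth isLocalOnBase_fppf_locP_smooth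
      (isFibGrpd_overForget V) hyx.isStack.1 v (fpFst y x₀) hv1 (repByAlgSpWith_fpFst _ x₀ y hx1)
  have hc2 : AlgSt.RepByAlgSpWith AlgSp.IsSurjectiveMor c :=
    repByAlgSpWith_comp _ stableBC_isSurjectiveMor stableComp_isSurjectiveMor
      isLocalOnBase_fppf_isSurjectiveMor
      (isFibGrpd_overForget V) hyx.isStack.1 v (fpFst y x₀) hv2 (repByAlgSpWith_fpFst _ x₀ y hx2)
  obtain ⟨k₀, -, ⟨ik⟩⟩ := exists_iso_overMap (BasedFunctor.comp v (fpSnd y x₀))
  have hcomp : CompactSpace (AlgSt.Points (FibCat.overCat Z)) :=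
    compactSpace_points_of_isQuasiCompact (isFibGrpd_overForget Z) hZ.atlas
      (Groth.Agent.Lib.Helper66.AlgStQC4.isQuasiCompact_overCat Z)
  have hopen := isOpenMap_ofChart_smooth (isFibGrpd_overForget Z) c hc1
  have hsurj := ofChart_surjective (isFibGrpd_overForget Z) c hc2
  let Idx := {p : X₀.left.affineOpens × V.left.affineOpens //
    ((p.2 : V.left.Opens) : Set ↥V.left) ⊆ k₀.left.base ⁻¹' ((p.1 : X₀.left.Opens) : Set ↥X₀.left)}
  obtain ⟨t, ht⟩ := isCompact_univ.elim_finite_subcover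
    (fun i : Idx => AlgSt.Points.ofChart c '' ((i.1.2 : V.left.Opens) : Set ↥V.left))
    (fun i => hopen _ i.1.2.1.2) (by
      intro z _
      obtain ⟨v₁, rfl⟩ := hsurj z
      obtain ⟨O, hO, hvO, -⟩ :=
        TopologicalSpace.Opens.isBasis_iff_nbhd.1 X₀.left.isBasis_affineOpens (U := ⊤)
          (x := k₀.left.base v₁) trivial
      obtain ⟨A, hA, hvA, hAO⟩ :=
        TopologicalSpace.Opens.isBasis_iff_nbhd.1 V.left.isBasis_affineOpens (U := k₀.left ⁻¹ᵁ O)
          (x := v₁) hvO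
      exact Set.mem_iUnion.2 ⟨⟨(⟨O, hO⟩, ⟨A, hA⟩), hAO⟩, v₁, hvA, rfl⟩)
  let VA : Idx → Over S := fun i => Over.mk ((i.1.2 : V.left.Opens).ι ≫ V.hom)
  let ιA : ∀ i : Idx, VA i ⟶ V := fun i => Over.homMk (i.1.2 : V.left.Opens).ι rfl
  let wA : ∀ i : Idx, FibCat.overCat (VA i) ⥤ᵇ FibCat.overCat Z := fun i =>
    BasedFunctor.comp (AlgSt.overMap (ιA i)) c
  refine compactSpace_points_fp_of_cover h𝒳 h𝒴 f hZ y (ι := ↥t) (fun i => FibCat.overCat (VA i.1))
    (fun i => isAlgStack_overCat _) (fun i => wA i.1) ?_ ?_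
  · intro z
    have hz := ht (Set.mem_univ z)
    simp only [Set.mem_iUnion] at hz
    obtain ⟨i, hit, v₁, hv₁, rfl⟩ := hz
    refine ⟨⟨i, hit⟩, chartPt (VA i) ⟨v₁, hv₁⟩, ?_⟩
    change AlgSt.Points.map (BasedFunctor.comp (AlgSt.overMap (ιA i)) c) _ = _
    rw [points_map_comp, points_map_overMap_chartPt, ofChart_eq]
    rfl
  · intro i
    obtain ⟨⟨⟨⟨O, hO⟩, ⟨A, hA⟩⟩, hAO⟩, hit⟩ := i
    have : IsNoetherianRing Γ(X₀.left, O) := hX₀.component_noetherian ⟨O, hO⟩
    have : IsAffine (A : Scheme.{u}) := hA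
    let i₀ : Idx := ⟨(⟨O, hO⟩, ⟨A, hA⟩), hAO⟩
    let sR : Spec Γ(X₀.left, O) ⟶ S := hO.fromSpec ≫ X₀.hom
    let fs : Over.mk sR ⟶ X₀ := Over.homMk hO.fromSpec rfl
    have hrange : Set.range (A.ι ≫ k₀.left).base ⊆ Set.range hO.fromSpec.base := by
      rw [hO.range_fromSpec]
      rintro _ ⟨a, rfl⟩
      exact hAO a.2
    let g₀ : (A : Scheme.{u}) ⟶ Spec Γ(X₀.left, O) :=
      IsOpenImmersion.lift hO.fromSpec (A.ι ≫ k₀.left) hrange
    have hg₀ : g₀ ≫ hO.fromSpec = A.ι ≫ k₀.left := IsOpenImmersion.lift_fac _ _ _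
    let gA : VA i₀ ⟶ Over.mk sR := Over.homMk g₀ (by
      change g₀ ≫ hO.fromSpec ≫ X₀.hom = A.ι ≫ V.hom
      rw [← Category.assoc, hg₀, Category.assoc, Over.w k₀])
    have hgA : gA ≫ fs = ιA i₀ ≫ k₀ := by
      apply Over.OverMorphism.ext
      exact hg₀
    have : CompactSpace ↥(VA i₀).left := by
      change CompactSpace ↥(A : Scheme.{u})
      infer_instance
    let x : FibCat.overCat (Over.mk sR) ⥤ᵇ 𝒳 := BasedFunctor.comp (AlgSt.overMap fs) x₀
    have ia : BasedFunctor.comp (wA i₀) y ≅ BasedFunctor.comp (AlgSt.overMap gA) x :=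
      bWhiskerLeftIso (BasedFunctor.comp (AlgSt.overMap (ιA i₀)) v) (fpIso y x₀) ≪≫
        bWhiskerLeftIso (AlgSt.overMap (ιA i₀)) (bWhiskerRightIso ik x₀) ≪≫
        bWhiskerRightIso (overMapComp (ιA i₀) k₀) x₀ ≪≫ eqToIso (by rw [hgA]) ≪≫
        (bWhiskerRightIso (overMapComp gA fs) x₀).symm
    exact qcPiece_of_noeth h𝒳 h𝒴 f hg Γ(X₀.left, O) sR x (VA i₀) gA _ ia

/-- **Noetherian dévissage**: a morphism to an algebraic stack with a locally Noetherian atlas which is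
generically quasi-compact over every Noetherian integral affine chart is quasi-compact. -/
theorem isQuasiCompactMor_of_genQC
    (h𝒳 : AlgSt.IsAlgStack Scheme.fppfPrecoverage 𝒳) (h𝒴 : AlgSt.IsAlgStack Scheme.fppfPrecoverage 𝒴)
    (X₀ : Over S) (x₀ : FibCat.overCat X₀ ⥤ᵇ 𝒳)
    (hx1 : AlgSt.RepByAlgSpWith (AlgSp.LocP @Smooth) x₀)
    (hx2 : AlgSt.RepByAlgSpWith AlgSp.IsSurjectiveMor x₀) (hX₀ : IsLocallyNoetherian X₀.left)
    (f : 𝒴 ⥤ᵇ 𝒳) (hg : GenQC f) :
    AlgSt.IsQuasiCompactMor Scheme.fppfPrecoverage f := by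
  intro 𝒵 h𝒵 hqc g
  obtain ⟨Z, z₀, hZaff, -, hz2⟩ := hqc
  have : IsAffine Z.left := hZaff
  have hfp : AlgSt.IsAlgStack Scheme.fppfPrecoverage (fp g f) :=
    Groth.Agent.S12763.result h𝒳.isStack h𝒳.diag h𝒵 h𝒴 g f
  have hA := compactSpace_points_fp_of_compact h𝒳 h𝒴 X₀ x₀ hx1 hx2 hX₀ f hg Z (BasedFunctor.comp z₀ g)
  have : CompactSpace (AlgSt.Points (fp g f)) :=
    compactSpace_points_fp_of_cover h𝒳 h𝒴 f h𝒵 g (ι := PUnit.{1}) (fun _ => FibCat.overCat Z)
      (fun _ => isAlgStack_overCat Z) (fun _ => z₀)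
      (fun z => ⟨PUnit.unit,
        isSurjective_of_repByAlgSpWith (isFibGrpd_overForget Z) h𝒵.isStack.1 z₀ hz2 z⟩)
      (fun _ => hA)
  exact isQuasiCompact_of_compactSpace hfp.isStack.1 hfp.atlas

end Groth.Agent.Lib.Helper65.Devissage
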