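import Groth.Prelude.Def_FibCat2
import Groth.Agent.Lib.Helper31.Representable
import Groth.Agent.Lib.Helper65.FpPaste
import Mathlib.CategoryTheory.Limits.Shapes.Pullback.HasPullback

/-!
# Helper65: `C/X ⟶ C/Y` is a representable 1-morphism when `C` has fibre products
-/

set_option autoImplicit false
set_option backward.isDefEq.respectTransparency false
set_option backward.isDefEq.respectTransparency.types false

universe v₇ u₇ v₆ u₆ v₅ u₅ v₄ u₄ v₃ u₃ v₂ u₂ v u

open CategoryTheory CategoryTheory.Functor CategoryTheory.Limits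

namespace Groth.Agent.Lib.Helper65

open FibCat Groth.Agent.Lib.Helper31

variable {C : Type u} [Category.{v} C]

section

variable {U X Y P : C} (g : U ⟶ Y) (f : X ⟶ Y) (p₁ : P ⟶ U) (p₂ : P ⟶ X) (sq : p₁ ≫ g = p₂ ≫ f)

/-- The component isomorphism of `overSqLift`. -/
def overSqCompIso (a : Over P) :
    (overMapBased g).obj ((overMapBased p₁).obj a) ≅ (overMapBased f).obj ((overMapBased p₂).obj a) :=
  Over.isoMk (Iso.refl a.left) (by
    change 𝟙 a.left ≫ ((a.hom ≫ p₂) ≫ f) = (a.hom ≫ p₁) ≫ g
    rw [Category.id_comp, Category.assoc, Category.assoc, sq])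

theorem overSqCompIso_hom_left (a : Over P) : (overSqCompIso g f p₁ p₂ sq a).hom.left = 𝟙 a.left := rfl

/-- The 2-isomorphism filling the square of slices induced by a commutative square of `C`. -/
def overSqIso : BasedFunctor.comp (overMapBased p₁) (overMapBased g) ≅
    BasedFunctor.comp (overMapBased p₂) (overMapBased f) :=
  BasedNatIso.mkNatIso
    (NatIso.ofComponents (fun a => overSqCompIso g f p₁ p₂ sq a)
      (fun {a b} k => by
        apply Over.OverMorphism.ext
        change k.left ≫ 𝟙 b.left = 𝟙 a.left ≫ k.left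
        simp))
    (fun a => by
      change (Over.forget Y).IsHomLift (𝟙 a.left) (overSqCompIso g f p₁ p₂ sq a).hom
      have : (Over.forget Y).IsHomLift ((Over.forget Y).map (overSqCompIso g f p₁ p₂ sq a).hom)
        (overSqCompIso g f p₁ p₂ sq a).hom := inferInstance
      exact this)

/-- The comparison functor `C/P ⟶ C/U ×_{C/Y} C/X` of a commutative square. -/
def overSqLift : overCat P ⥤ᵇ fp (overMapBased g) (overMapBased f) :=
  fpLift (overMapBased p₁) (overMapBased p₂) (overSqIso g f p₁ p₂ sq)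

theorem overSqLift_obj_fst (a : Over P) :
    ((overSqLift g f p₁ p₂ sq).obj a).obj.fst = Over.mk (a.hom ≫ p₁) := rfl

theorem overSqLift_obj_snd (a : Over P) :
    ((overSqLift g f p₁ p₂ sq).obj a).obj.snd = Over.mk (a.hom ≫ p₂) := rfl

theorem overSqLift_obj_iso_hom_left (a : Over P) :
    ((overSqLift g f p₁ p₂ sq).obj a).obj.iso.hom.left = 𝟙 a.left := rfl

theorem overSqLift_map_fst_left {a b : Over P} (k : a ⟶ b) :
    ((overSqLift g f p₁ p₂ sq).map k).hom.fst.left = k.left := rfl

theorem overSqLift_map_snd_left {a b : Over P} (k : a ⟶ b) :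
    ((overSqLift g f p₁ p₂ sq).map k).hom.snd.left = k.left := rfl

instance overSqLift_faithful : (overSqLift g f p₁ p₂ sq).toFunctor.Faithful where
  map_injective := by
    intro a b k l h
    apply Over.OverMorphism.ext
    have := congrArg (fun t => t.hom.fst.left) h
    exact this

theorem overSqLift_full (hP : IsLimit (PullbackCone.mk p₁ p₂ sq)) :
    (overSqLift g f p₁ p₂ sq).toFunctor.Full where
  map_surjective := by
    intro a b ψ
    have hw := congrArg (fun t => t.left) (fp_hom_w ψ)
    have hw'' : ψ.hom.fst.left ≫ 𝟙 b.left = 𝟙 a.left ≫ ψ.hom.snd.left := hw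
    have hw' : ψ.hom.fst.left = ψ.hom.snd.left :=
      (Category.comp_id _).symm.trans (hw''.trans (Category.id_comp _))
    have w1 : ψ.hom.fst.left ≫ (b.hom ≫ p₁) = a.hom ≫ p₁ := Over.w ψ.hom.fst
    have w2 : ψ.hom.snd.left ≫ (b.hom ≫ p₂) = a.hom ≫ p₂ := Over.w ψ.hom.snd
    have hk : ψ.hom.fst.left ≫ b.hom = a.hom := by
      apply PullbackCone.IsLimit.hom_ext hP
      · simpa using w1
      · rw [hw']; simpa using w2
    refine ⟨Over.homMk ψ.hom.fst.left hk, ?_⟩
    apply fp_hom_ext
    · apply Over.OverMorphism.ext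
      rfl
    · apply Over.OverMorphism.ext
      exact hw'

theorem overSqLift_essSurjOver (hP : IsLimit (PullbackCone.mk p₁ p₂ sq)) :
    EssSurjOver (overSqLift g f p₁ p₂ sq) := by
  apply essSurjOver_fp_of
  intro T
  -- components of `T`
  obtain ⟨A, hA⟩ : ∃ A : Over U, A = T.obj.fst := ⟨_, rfl⟩
  obtain ⟨B, hB⟩ : ∃ B : Over X, B = T.obj.snd := ⟨_, rfl⟩
  let j : T.obj.fst.left ⟶ T.obj.snd.left := T.obj.iso.hom.left
  have hj : IsIso j := inferInstanceAs (IsIso ((Over.forget Y).map T.obj.iso.hom))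
  have hjw : j ≫ (T.obj.snd.hom ≫ f) = T.obj.fst.hom ≫ g := Over.w T.obj.iso.hom
  let l : T.obj.fst.left ⟶ P :=
    PullbackCone.IsLimit.lift hP T.obj.fst.hom (j ≫ T.obj.snd.hom) (by
      rw [Category.assoc, hjw])
  have hl1 : l ≫ p₁ = T.obj.fst.hom := PullbackCone.IsLimit.lift_fst hP _ _ _
  have hl2 : l ≫ p₂ = j ≫ T.obj.snd.hom := PullbackCone.IsLimit.lift_snd hP _ _ _
  let a : Over P := Over.mk l
  let ε₁ : Over.mk (l ≫ p₁) ≅ T.obj.fst := Over.isoMk (Iso.refl _) (by
    change 𝟙 _ ≫ T.obj.fst.hom = l ≫ p₁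
    rw [Category.id_comp, hl1])
  let ε₂ : Over.mk (l ≫ p₂) ≅ T.obj.snd := Over.isoMk (asIso j) (by
    change j ≫ T.obj.snd.hom = l ≫ p₂
    rw [hl2])
  refine ⟨a, ε₁, ε₂, ?_, ?_⟩
  · change (Over.forget U).IsHomLift (𝟙 T.obj.fst.left) ε₁.hom
    have : (Over.forget U).IsHomLift ((Over.forget U).map ε₁.hom) ε₁.hom := inferInstance
    exact this
  · apply Over.OverMorphism.ext
    change 𝟙 _ ≫ j = 𝟙 _ ≫ j
    rfl

theorem overSqLift_isEquivOver (hP : IsLimit (PullbackCone.mk p₁ p₂ sq)) :
    IsEquivOver (overSqLift g f p₁ p₂ sq) := by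
  haveI := overSqLift_full g f p₁ p₂ sq hP
  exact isEquivOver_of_ff_ess _ (overSqLift_essSurjOver g f p₁ p₂ sq hP)

end

/-- For a category with fibre products, `C/X ⟶ C/Y` is a representable 1-morphism. -/
theorem isRepresentable1_overMap [HasPullbacks C] {X Y : C} (f : X ⟶ Y) :
    IsRepresentable1 (overMapBased f) := by
  intro U G
  obtain ⟨g, ⟨β⟩, -⟩ := exists_iso_overMap G
  -- replace `G` by `Over.map g`
  let Φ : fp G (overMapBased f) ⥤ᵇ fp (overMapBased g) (overMapBased f) :=
    fpMap (F := G) (G := overMapBased f) (F' := overMapBased g) (G' := overMapBased f)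
      (BasedFunctor.id _) (BasedFunctor.id _) (BasedFunctor.id _) β (Iso.refl _)
  have hΦ : IsEquivOver Φ :=
    fpMap_isEquivOver _ _ _ _ _ (isEquivOver_id _) (isEquivOver_id _) (isEquivOver_id _)
  apply isRepresentable_of_equivOver Φ hΦ
  have hP : IsLimit (PullbackCone.mk (pullback.fst g f) (pullback.snd g f) pullback.condition) :=
    pullbackIsPullback g f
  have hΨ := overSqLift_isEquivOver g f (pullback.fst g f) (pullback.snd g f) pullback.condition hP
  obtain ⟨E, hE, -, -⟩ := exists_inverse_equivOver _ hΨ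
  exact ⟨pullback g f, E, hE⟩

end Groth.Agent.Lib.Helper65

namespace Groth.Agent.Lib.Helper65

open FibCat Groth.Agent.Lib.Helper31

section OverMapComp

variable {C : Type u} [Category.{v} C]

/-- The component isomorphism of `overMapCompIso`. -/
def overMapCompApp {W V U : C} (k : W ⟶ V) (h : V ⟶ U) (a : Over W) :
    (BasedFunctor.comp (overMapBased k) (overMapBased h)).obj a ≅ (overMapBased (k ≫ h)).obj a :=
  Over.isoMk (Iso.refl a.left) (by
    change 𝟙 a.left ≫ (a.hom ≫ k ≫ h) = (a.hom ≫ k) ≫ h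
    rw [Category.id_comp, Category.assoc])

/-- `C/W ⟶ C/V ⟶ C/U` is 2-isomorphic over `C` to the functor induced by the composite. -/
def overMapCompIso {W V U : C} (k : W ⟶ V) (h : V ⟶ U) :
    BasedFunctor.comp (overMapBased k) (overMapBased h) ≅ overMapBased (k ≫ h) :=
  BasedNatIso.mkNatIso
    (NatIso.ofComponents (fun a => overMapCompApp k h a)
      (fun {a b} l => by
        apply Over.OverMorphism.ext
        change l.left ≫ 𝟙 b.left = 𝟙 a.left ≫ l.left
        simp))
    (fun a => by
      change (Over.forget U).IsHomLift (𝟙 a.left) (overMapCompApp k h a).hom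
      have h1 : (Over.forget U).IsHomLift ((Over.forget U).map (overMapCompApp k h a).hom)
        (overMapCompApp k h a).hom := inferInstance
      exact h1)

end OverMapComp

end Groth.Agent.Lib.Helper65
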