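import Groth.Prelude.Def_FibCat2
import Groth.Agent.Lib.Helper65.OverRep
import Groth.Agent.Lib.Helper65.LocalEss
import Groth.Agent.Lib.Helper66.StackCmp
import Mathlib.CategoryTheory.Limits.Shapes.BinaryProducts

/-!
# Helper65: the diagonal of a category fibred in groupoids is representable iff all `C/U ⟶ 𝒮` are
-/

set_option autoImplicit false
set_option backward.isDefEq.respectTransparency false
set_option backward.isDefEq.respectTransparency.types false

universe v₇ u₇ v₆ u₆ v₅ u₅ v₄ u₄ v₃ u₃ v₂ u₂ v u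

open CategoryTheory CategoryTheory.Functor CategoryTheory.Limits

namespace Groth.Agent.Lib.Helper65

open FibCat Groth.Agent.Lib.Helper31

variable {C : Type u} [Category.{v} C]

section ProdSlice

variable {V U W : C} (p₁ : W ⟶ V) (p₂ : W ⟶ U)

/-- The 2-isomorphism defining `overProdLift`. -/
def overProdIso : BasedFunctor.comp (overMapBased p₁) (toSelf (overCat V)) ≅
    BasedFunctor.comp (overMapBased p₂) (toSelf (overCat U)) :=
  BasedNatIso.mkNatIso
    (NatIso.ofComponents (fun a => Iso.refl a.left)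
      (fun {a b} k => by
        change k.left ≫ 𝟙 b.left = 𝟙 a.left ≫ k.left
        simp))
    (fun a => by
      change (𝟭 C).IsHomLift (𝟙 a.left) (𝟙 a.left)
      have : (𝟭 C).IsHomLift ((𝟭 C).map (𝟙 a.left)) (𝟙 a.left) := inferInstance
      exact this)

/-- The comparison functor `C/W ⟶ C/V ×_C C/U` of a span `V ⟵ W ⟶ U`. -/
def overProdLift : overCat W ⥤ᵇ fp (toSelf (overCat V)) (toSelf (overCat U)) :=
  fpLift (overMapBased p₁) (overMapBased p₂) (overProdIso p₁ p₂)

instance overProdLift_faithful : (overProdLift p₁ p₂).toFunctor.Faithful where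
  map_injective := by
    intro a b k l h
    apply Over.OverMorphism.ext
    have := congrArg (fun t => t.hom.fst.left) h
    exact this

theorem overProdLift_full (hP : IsLimit (BinaryFan.mk p₁ p₂)) :
    (overProdLift p₁ p₂).toFunctor.Full where
  map_surjective := by
    intro a b ψ
    have hw := fp_hom_w ψ
    have hw'' : ψ.hom.fst.left ≫ 𝟙 b.left = 𝟙 a.left ≫ ψ.hom.snd.left := hw
    have hw' : ψ.hom.fst.left = ψ.hom.snd.left :=
      (Category.comp_id _).symm.trans (hw''.trans (Category.id_comp _))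
    have w1 : ψ.hom.fst.left ≫ (b.hom ≫ p₁) = a.hom ≫ p₁ := Over.w ψ.hom.fst
    have w2 : ψ.hom.snd.left ≫ (b.hom ≫ p₂) = a.hom ≫ p₂ := Over.w ψ.hom.snd
    have hk : ψ.hom.fst.left ≫ b.hom = a.hom := by
      apply BinaryFan.IsLimit.hom_ext hP
      · simpa using w1
      · rw [hw']; simpa using w2
    refine ⟨Over.homMk ψ.hom.fst.left hk, ?_⟩
    apply fp_hom_ext
    · apply Over.OverMorphism.ext
      rfl
    · apply Over.OverMorphism.ext
      exact hw'

theorem overProdLift_essSurjOver (hP : IsLimit (BinaryFan.mk p₁ p₂)) :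
    EssSurjOver (overProdLift p₁ p₂) := by
  apply essSurjOver_fp_of
  intro T
  let j : T.obj.fst.left ⟶ T.obj.snd.left := T.obj.iso.hom
  have hj : IsIso j := inferInstanceAs (IsIso T.obj.iso.hom)
  obtain ⟨l, hl1, hl2⟩ := BinaryFan.IsLimit.lift' hP T.obj.fst.hom (j ≫ T.obj.snd.hom)
  change l ≫ p₁ = _ at hl1
  change l ≫ p₂ = _ at hl2
  let a : Over W := Over.mk l
  let ε₁ : Over.mk (l ≫ p₁) ≅ T.obj.fst := Over.isoMk (Iso.refl _) (by
    change 𝟙 _ ≫ T.obj.fst.hom = l ≫ p₁
    rw [Category.id_comp, hl1])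
  let ε₂ : Over.mk (l ≫ p₂) ≅ T.obj.snd := Over.isoMk (asIso j) (by
    change j ≫ T.obj.snd.hom = l ≫ p₂
    rw [hl2])
  refine ⟨a, ε₁, ε₂, ?_, ?_⟩
  · change (Over.forget V).IsHomLift (𝟙 T.obj.fst.left) ε₁.hom
    have : (Over.forget V).IsHomLift ((Over.forget V).map ε₁.hom) ε₁.hom := inferInstance
    exact this
  · change 𝟙 _ ≫ j = 𝟙 _ ≫ j
    rfl

theorem overProdLift_isEquivOver (hP : IsLimit (BinaryFan.mk p₁ p₂)) :
    IsEquivOver (overProdLift p₁ p₂) := by
  have := overProdLift_full p₁ p₂ hP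
  exact isEquivOver_of_ff_ess _ (overProdLift_essSurjOver p₁ p₂ hP)

end ProdSlice

section RepLemmas

variable {𝒳 : BasedCategory.{v₂, u₂} C} {𝒴 : BasedCategory.{v₃, u₃} C}

/-- Representability of a 1-morphism is invariant under 2-isomorphism. -/
theorem isRepresentable1_of_iso {f f' : 𝒳 ⥤ᵇ 𝒴} (e : f ≅ f') (hf : IsRepresentable1 f) :
    IsRepresentable1 f' :=
  isRepresentable1_of_square f f' (BasedFunctor.id 𝒳) (BasedFunctor.id 𝒴) (isEquivOver_id 𝒳)
    (isEquivOver_id 𝒴) e.symm hf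

/-- Every functor over `C` between slices is a representable 1-morphism when `C` has fibre products. -/
theorem isRepresentable1_slices [HasPullbacks C] {X' X : C} (Φ : overCat X' ⥤ᵇ overCat X) :
    IsRepresentable1 Φ := by
  obtain ⟨f, ⟨β⟩, -⟩ := exists_iso_overMap Φ
  exact isRepresentable1_of_iso β.symm (isRepresentable1_overMap f)

/-- A functor over `C` between representable categories is a representable 1-morphism when `C` has
fibre products. -/
theorem isRepresentable1_of_isRepresentable [HasPullbacks C] (f : 𝒳 ⥤ᵇ 𝒴) (h𝒳 : IsRepresentable 𝒳)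
    (h𝒴 : IsRepresentable 𝒴) : IsRepresentable1 f := by
  obtain ⟨Z, E, hE⟩ := h𝒳
  obtain ⟨X, E', hE'⟩ := h𝒴
  obtain ⟨Einv, -, ⟨e₁⟩, -⟩ := exists_inverse_equivOver E hE
  let f₀ : overCat Z ⥤ᵇ overCat X := BasedFunctor.comp Einv (BasedFunctor.comp f E')
  have e : BasedFunctor.comp f E' ≅ BasedFunctor.comp E f₀ :=
    (bWhiskerRightIso e₁.symm (BasedFunctor.comp f E') :
      BasedFunctor.comp (BasedFunctor.id 𝒳) (BasedFunctor.comp f E') ≅
        BasedFunctor.comp (BasedFunctor.comp E Einv) (BasedFunctor.comp f E'))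
  exact isRepresentable1_of_square f₀ f E E' hE hE' e (isRepresentable1_slices f₀)

end RepLemmas

section Main

open Groth.Agent.Lib.Helper90.LiftSqComp Groth.Agent.Lib.Helper66.StackCmp

variable {𝒮 : BasedCategory.{v₂, u₂} C}

/-- The product of two slices mapping to `𝒮` is a slice. -/
theorem exists_prodSlice_equiv [HasBinaryProducts C] {V U : C} (H : overCat V ⥤ᵇ 𝒮)
    (G : overCat U ⥤ᵇ 𝒮) :
    ∃ y : overCat (V ⨯ U) ⥤ᵇ fp (BasedFunctor.comp H (toSelf 𝒮)) (BasedFunctor.comp G (toSelf 𝒮)),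
      IsEquivOver y := by
  let t := toSelf 𝒮
  let y₀ : overCat (V ⨯ U) ⥤ᵇ fp (toSelf (overCat V)) (toSelf (overCat U)) :=
    overProdLift (prod.fst : V ⨯ U ⟶ V) (prod.snd : V ⨯ U ⟶ U)
  have hy₀ : IsEquivOver y₀ := overProdLift_isEquivOver _ _ (prodIsProd V U)
  let m : fp (toSelf (overCat V)) (toSelf (overCat U)) ⥤ᵇ
      fp (BasedFunctor.comp H t) (BasedFunctor.comp G t) :=
    fpMap (F := toSelf (overCat V)) (G := toSelf (overCat U)) (F' := BasedFunctor.comp H t)
      (G' := BasedFunctor.comp G t) (BasedFunctor.id _) (BasedFunctor.id _) (BasedFunctor.id _)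
      (toSelfIso H) (toSelfIso G)
  have hm : IsEquivOver m := fpMap_isEquivOver _ _ _ _ _ (isEquivOver_id _) (isEquivOver_id _)
    (isEquivOver_id _)
  exact ⟨BasedFunctor.comp y₀ m, isEquivOver_comp y₀ m hy₀ hm⟩

/-- If the diagonal of `𝒮` is representable, every `C/U ⟶ 𝒮` is. -/
theorem isRepresentable1_of_diag [HasBinaryProducts C]
    (hΔ : IsRepresentable1 (diag (toSelf 𝒮))) (U : C) (G : overCat U ⥤ᵇ 𝒮) : IsRepresentable1 G := by
  intro V H
  let t := toSelf 𝒮
  let e : BasedFunctor.comp (fpFst H G) (BasedFunctor.comp H t) ≅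
      BasedFunctor.comp (fpSnd H G) (BasedFunctor.comp G t) :=
    Groth.Agent.Lib.Helper90.LiftSqComp.whiskerRightIso (fpIso H G) t
  have he : ∀ x, app e.hom x = t.map x.obj.iso.hom := fun x => rfl
  obtain ⟨y, hy⟩ := exists_prodSlice_equiv H G
  have h1 : IsRepresentable (fp (BasedFunctor.comp y (cQ H G t)) (diag t)) :=
    hΔ (V ⨯ U) (BasedFunctor.comp y (cQ H G t))
  have h2 : IsRepresentable (fp y (cI H G t e)) :=
    (isRepresentable_iff_of_equivOver (cTh H G t e y he) (isEquivOver_cTh H G t e y he)).1 h1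
  exact (isRepresentable_iff_of_equivOver (fpSnd y (cI H G t e))
    (fpSnd_isEquivOver y (cI H G t e) hy)).1 h2

/-- If every `C/U ⟶ 𝒮` is representable, so is the diagonal. -/
theorem isRepresentable1_diag_of_all [HasBinaryProducts C] [HasPullbacks C]
    (hAll : ∀ (U : C) (G : overCat U ⥤ᵇ 𝒮), IsRepresentable1 G) :
    IsRepresentable1 (diag (toSelf 𝒮)) := by
  intro W y
  let t := toSelf 𝒮
  let a : overCat W ⥤ᵇ 𝒮 := BasedFunctor.comp y (fpFst t t)
  let b : overCat W ⥤ᵇ 𝒮 := BasedFunctor.comp y (fpSnd t t)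
  let e : BasedFunctor.comp (fpFst a b) (BasedFunctor.comp a t) ≅
      BasedFunctor.comp (fpSnd a b) (BasedFunctor.comp b t) :=
    Groth.Agent.Lib.Helper90.LiftSqComp.whiskerRightIso (fpIso a b) t
  have he : ∀ x, app e.hom x = t.map x.obj.iso.hom := fun x => rfl
  let ε : BasedFunctor.comp (BasedFunctor.id (overCat W)) (BasedFunctor.comp a t) ≅
      BasedFunctor.comp (BasedFunctor.id (overCat W)) (BasedFunctor.comp b t) :=
    Groth.Agent.Lib.Helper90.LiftSqComp.whiskerLeftIso y (fpIso t t)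
  let δ : overCat W ⥤ᵇ fp (BasedFunctor.comp a t) (BasedFunctor.comp b t) :=
    fpLift (BasedFunctor.id _) (BasedFunctor.id _) ε
  -- `δ ⋙ cQ ≅ y`
  have κ : BasedFunctor.comp δ (cQ a b t) ≅ y :=
    Groth.Agent.Lib.Helper90.LiftSqFp.fpIsoMk (Iso.refl _) (Iso.refl _) (fun w => by
      change t.map (𝟙 _) ≫ (y.obj w).obj.iso.hom = (y.obj w).obj.iso.hom ≫ t.map (𝟙 _)
      rw [t.map_id, t.map_id, Category.id_comp, Category.comp_id])
  let Φ : fp y (diag t) ⥤ᵇ fp (BasedFunctor.comp δ (cQ a b t)) (diag t) :=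
    fpMap (F := y) (G := diag t) (F' := BasedFunctor.comp δ (cQ a b t)) (G' := diag t)
      (BasedFunctor.id _) (BasedFunctor.id _) (BasedFunctor.id _) κ.symm (Iso.refl _)
  have hΦ : IsEquivOver Φ := fpMap_isEquivOver _ _ _ _ _ (isEquivOver_id _) (isEquivOver_id _)
    (isEquivOver_id _)
  have hfp : IsRepresentable (fp a b) := hAll W b W a
  have hP : IsRepresentable (fp (BasedFunctor.comp a t) (BasedFunctor.comp b t)) := by
    obtain ⟨y', hy'⟩ := exists_prodSlice_equiv a b
    exact (isRepresentable_iff_of_equivOver y' hy').1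
      ⟨W ⨯ W, BasedFunctor.id _, isEquivOver_id _⟩
  have hcI : IsRepresentable1 (cI a b t e) := isRepresentable1_of_isRepresentable _ hfp hP
  have h1 : IsRepresentable (fp δ (cI a b t e)) := hcI W δ
  have h2 : IsRepresentable (fp (BasedFunctor.comp δ (cQ a b t)) (diag t)) :=
    (isRepresentable_iff_of_equivOver (cTh a b t e δ he) (isEquivOver_cTh a b t e δ he)).2 h1
  exact isRepresentable_of_equivOver Φ hΦ h2

end Main

end Groth.Agent.Lib.Helper65
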