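import Groth.Agent.Lib.Helper65.FpPaste
import Groth.Agent.Lib.Helper65.FpSwap
import Groth.Agent.Lib.Helper65.DiagRep

/-!
# Helper65: products over the base category and product morphisms
-/

set_option autoImplicit false

universe v₇ u₇ v₆ u₆ v₅ u₅ v₄ u₄ v₃ u₃ v₂ u₂ v u

open CategoryTheory CategoryTheory.Functor CategoryTheory.Limits

namespace Groth.Agent.Lib.Helper65

open FibCat Groth.Agent.Lib.Helper31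

section

variable {C : Type u} [Category.{v} C]

/-- In the base category over itself two morphisms lying over the same morphism are equal. -/
theorem selfOver_hom_eq {a b : (selfOver C).obj} {R T : C} (f : R ⟶ T) (φ ψ : a ⟶ b)
    (hφ : (selfOver C).p.IsHomLift f φ) (hψ : (selfOver C).p.IsHomLift f ψ) : φ = ψ := by
  have h1 := IsHomLift.fac' (selfOver C).p f φ
  have h2 := IsHomLift.fac' (selfOver C).p f ψ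
  exact h1.trans h2.symm

variable {𝒴₁ : BasedCategory.{v₂, u₂} C} {𝒴₂ : BasedCategory.{v₃, u₃} C}
  {𝒲 : BasedCategory.{v₄, u₄} C}

/-- Two functors into a product over the base category with isomorphic components are isomorphic. -/
def fpSelfIso (Φ Ψ : 𝒲 ⥤ᵇ fp (toSelf 𝒴₁) (toSelf 𝒴₂))
    (e₁ : BasedFunctor.comp Φ (fpFst _ _) ≅ BasedFunctor.comp Ψ (fpFst _ _))
    (e₂ : BasedFunctor.comp Φ (fpSnd _ _) ≅ BasedFunctor.comp Ψ (fpSnd _ _)) : Φ ≅ Ψ :=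
  BasedNatIso.mkNatIso
    (NatIso.ofComponents
      (fun w => fpIsoMk (((BasedNatTrans.forgetful _ _).mapIso e₁).app w)
        (((BasedNatTrans.forgetful _ _).mapIso e₂).app w) (by
          have h1 : 𝒴₁.p.IsHomLift (𝟙 (𝒲.p.obj w)) (e₁.hom.toNatTrans.app w) := e₁.hom.isHomLift' w
          have h2 : 𝒴₂.p.IsHomLift (𝟙 (𝒲.p.obj w)) (e₂.hom.toNatTrans.app w) := e₂.hom.isHomLift' w
          have h3 : (selfOver C).p.IsHomLift (𝟙 (𝒴₁.p.obj (Ψ.obj w).obj.fst)) (Ψ.obj w).obj.iso.hom :=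
            (Ψ.obj w).property
          have h4 : (selfOver C).p.IsHomLift (𝟙 (𝒴₁.p.obj (Φ.obj w).obj.fst)) (Φ.obj w).obj.iso.hom :=
            (Φ.obj w).property
          have e3 : 𝒴₁.p.obj (Ψ.obj w).obj.fst = 𝒲.p.obj w := Ψ.w_obj w
          have e4 : 𝒴₁.p.obj (Φ.obj w).obj.fst = 𝒲.p.obj w := Φ.w_obj w
          have h3' : (selfOver C).p.IsHomLift (𝟙 (𝒲.p.obj w)) (Ψ.obj w).obj.iso.hom :=
            isHomLift_id_of_eq _ e3 _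
          have h4' : (selfOver C).p.IsHomLift (𝟙 (𝒲.p.obj w)) (Φ.obj w).obj.iso.hom :=
            isHomLift_id_of_eq _ e4 _
          have h1' : (selfOver C).p.IsHomLift (𝟙 (𝒲.p.obj w))
              ((toSelf 𝒴₁).map (e₁.hom.toNatTrans.app w)) :=
            (BasedFunctor.isHomLift_iff (toSelf 𝒴₁) _ _).mpr h1
          have h2' : (selfOver C).p.IsHomLift (𝟙 (𝒲.p.obj w))
              ((toSelf 𝒴₂).map (e₂.hom.toNatTrans.app w)) :=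
            (BasedFunctor.isHomLift_iff (toSelf 𝒴₂) _ _).mpr h2
          change (toSelf 𝒴₁).map (e₁.hom.toNatTrans.app w) ≫ (Ψ.obj w).obj.iso.hom =
            (Φ.obj w).obj.iso.hom ≫ (toSelf 𝒴₂).map (e₂.hom.toNatTrans.app w)
          apply selfOver_hom_eq (𝟙 (𝒲.p.obj w) ≫ 𝟙 (𝒲.p.obj w))
          · exact @IsHomLift.comp _ _ _ _ (selfOver C).p _ _ _ _ _ _ _ _ _ _ h1' h3'
          · exact @IsHomLift.comp _ _ _ _ (selfOver C).p _ _ _ _ _ _ _ _ _ _ h4' h2'))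
      (fun {w w'} g => by
        apply fp_hom_ext
        · exact e₁.hom.toNatTrans.naturality g
        · exact e₂.hom.toNatTrans.naturality g))
    (fun w => by
      rw [fp_isHomLift_iff]
      exact e₁.hom.isHomLift' w)

end

end Groth.Agent.Lib.Helper65

namespace Groth.Agent.Lib.Helper65

open FibCat Groth.Agent.Lib.Helper31

section ProdMap

variable {C : Type u} [Category.{v} C]
variable {𝒳 : BasedCategory.{v₂, u₂} C} {𝒴 : BasedCategory.{v₃, u₃} C} {𝒵 : BasedCategory.{v₄, u₄} C}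

/-- Representable 1-morphisms are stable under base change (second projection form). -/
theorem isRepresentable1_fpSnd (f : 𝒳 ⥤ᵇ 𝒴) (g : 𝒵 ⥤ᵇ 𝒴) (hf : IsRepresentable1 f) :
    IsRepresentable1 (fpSnd f g) :=
  isRepresentable1_of_square (fpFst g f) (fpSnd f g) (fpSwap f g) (BasedFunctor.id 𝒵)
    (fpSwap_isEquivOver f g) (isEquivOver_id 𝒵) (Iso.refl _) (isRepresentable1_fpFst f g hf)

variable {𝒳₁ : BasedCategory.{v₂, u₂} C} {𝒳₂ : BasedCategory.{v₃, u₃} C}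
  {𝒴₁ : BasedCategory.{v₄, u₄} C} {𝒴₂ : BasedCategory.{v₅, u₅} C}

/-- `f₁ × id`. -/
def prodMapLeft (f₁ : 𝒳₁ ⥤ᵇ 𝒴₁) (𝒳₂ : BasedCategory.{v₃, u₃} C) :
    fp (toSelf 𝒳₁) (toSelf 𝒳₂) ⥤ᵇ fp (toSelf 𝒴₁) (toSelf 𝒳₂) :=
  fpMap (F := toSelf 𝒳₁) (G := toSelf 𝒳₂) (F' := toSelf 𝒴₁) (G' := toSelf 𝒳₂)
    f₁ (BasedFunctor.id 𝒳₂) (BasedFunctor.id (selfOver C)) (toSelfIso f₁) (Iso.refl _)

/-- `id × f₂`. -/
def prodMapRight (𝒴₁ : BasedCategory.{v₄, u₄} C) (f₂ : 𝒳₂ ⥤ᵇ 𝒴₂) :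
    fp (toSelf 𝒴₁) (toSelf 𝒳₂) ⥤ᵇ fp (toSelf 𝒴₁) (toSelf 𝒴₂) :=
  fpMap (F := toSelf 𝒴₁) (G := toSelf 𝒳₂) (F' := toSelf 𝒴₁) (G' := toSelf 𝒴₂)
    (BasedFunctor.id 𝒴₁) f₂ (BasedFunctor.id (selfOver C)) (Iso.refl _) (toSelfIso f₂)

/-- The equivalence `𝒳₁ ×_{𝒴₁} (𝒴₁ × 𝒳₂) ≃ 𝒳₁ × 𝒳₂`. -/
def prodLeftEquiv (f₁ : 𝒳₁ ⥤ᵇ 𝒴₁) (𝒳₂ : BasedCategory.{v₃, u₃} C) :
    fp f₁ (fpFst (toSelf 𝒴₁) (toSelf 𝒳₂)) ⥤ᵇ fp (toSelf 𝒳₁) (toSelf 𝒳₂) :=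
  BasedFunctor.comp (fpPasteFst f₁ (toSelf 𝒴₁) (toSelf 𝒳₂))
    (fpMap (F := BasedFunctor.comp f₁ (toSelf 𝒴₁)) (G := toSelf 𝒳₂) (F' := toSelf 𝒳₁) (G' := toSelf 𝒳₂)
      (BasedFunctor.id 𝒳₁) (BasedFunctor.id 𝒳₂) (BasedFunctor.id (selfOver C))
      (toSelfIso f₁).symm (Iso.refl _))

theorem prodLeftEquiv_isEquivOver (f₁ : 𝒳₁ ⥤ᵇ 𝒴₁) (𝒳₂ : BasedCategory.{v₃, u₃} C) :
    IsEquivOver (prodLeftEquiv f₁ 𝒳₂) :=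
  isEquivOver_comp _ _ (fpPasteFst_isEquivOver _ _ _)
    (fpMap_isEquivOver _ _ _ _ _ (isEquivOver_id _) (isEquivOver_id _) (isEquivOver_id _))

/-- `f₁ × id` is a base change of `f₁`. -/
def prodLeftSquare (f₁ : 𝒳₁ ⥤ᵇ 𝒴₁) (𝒳₂ : BasedCategory.{v₃, u₃} C) :
    BasedFunctor.comp (fpSnd f₁ (fpFst (toSelf 𝒴₁) (toSelf 𝒳₂))) (BasedFunctor.id _) ≅
      BasedFunctor.comp (prodLeftEquiv f₁ 𝒳₂) (prodMapLeft f₁ 𝒳₂) :=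
  fpSelfIso _ _ (fpIso f₁ (fpFst (toSelf 𝒴₁) (toSelf 𝒳₂))).symm (Iso.refl _)

theorem isRepresentable1_prodMapLeft (f₁ : 𝒳₁ ⥤ᵇ 𝒴₁) (𝒳₂ : BasedCategory.{v₃, u₃} C)
    (hf : IsRepresentable1 f₁) : IsRepresentable1 (prodMapLeft f₁ 𝒳₂) :=
  isRepresentable1_of_square' (prodMapLeft f₁ 𝒳₂) (fpSnd f₁ (fpFst (toSelf 𝒴₁) (toSelf 𝒳₂)))
    (prodLeftEquiv f₁ 𝒳₂) (BasedFunctor.id _) (prodLeftEquiv_isEquivOver f₁ 𝒳₂) (isEquivOver_id _)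
    (prodLeftSquare f₁ 𝒳₂) (isRepresentable1_fpSnd f₁ _ hf)

/-- The equivalence `(𝒴₁ × 𝒴₂) ×_{𝒴₂} 𝒳₂ ≃ 𝒴₁ × 𝒳₂`. -/
def prodRightEquiv (𝒴₁ : BasedCategory.{v₄, u₄} C) (f₂ : 𝒳₂ ⥤ᵇ 𝒴₂) :
    fp (fpSnd (toSelf 𝒴₁) (toSelf 𝒴₂)) f₂ ⥤ᵇ fp (toSelf 𝒴₁) (toSelf 𝒳₂) :=
  BasedFunctor.comp (fpPasteSnd (toSelf 𝒴₁) (toSelf 𝒴₂) f₂)
    (fpMap (F := toSelf 𝒴₁) (G := BasedFunctor.comp f₂ (toSelf 𝒴₂)) (F' := toSelf 𝒴₁) (G' := toSelf 𝒳₂)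
      (BasedFunctor.id 𝒴₁) (BasedFunctor.id 𝒳₂) (BasedFunctor.id (selfOver C))
      (Iso.refl _) (toSelfIso f₂).symm)

theorem prodRightEquiv_isEquivOver (𝒴₁ : BasedCategory.{v₄, u₄} C) (f₂ : 𝒳₂ ⥤ᵇ 𝒴₂) :
    IsEquivOver (prodRightEquiv 𝒴₁ f₂) :=
  isEquivOver_comp _ _ (fpPasteSnd_isEquivOver _ _ _)
    (fpMap_isEquivOver _ _ _ _ _ (isEquivOver_id _) (isEquivOver_id _) (isEquivOver_id _))

/-- `id × f₂` is a base change of `f₂`. -/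
def prodRightSquare (𝒴₁ : BasedCategory.{v₄, u₄} C) (f₂ : 𝒳₂ ⥤ᵇ 𝒴₂) :
    BasedFunctor.comp (fpFst (fpSnd (toSelf 𝒴₁) (toSelf 𝒴₂)) f₂) (BasedFunctor.id _) ≅
      BasedFunctor.comp (prodRightEquiv 𝒴₁ f₂) (prodMapRight 𝒴₁ f₂) :=
  fpSelfIso _ _ (Iso.refl _) (fpIso (fpSnd (toSelf 𝒴₁) (toSelf 𝒴₂)) f₂)

theorem isRepresentable1_prodMapRight (𝒴₁ : BasedCategory.{v₄, u₄} C) (f₂ : 𝒳₂ ⥤ᵇ 𝒴₂)
    (hf : IsRepresentable1 f₂) : IsRepresentable1 (prodMapRight 𝒴₁ f₂) :=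
  isRepresentable1_of_square' (prodMapRight 𝒴₁ f₂) (fpFst (fpSnd (toSelf 𝒴₁) (toSelf 𝒴₂)) f₂)
    (prodRightEquiv 𝒴₁ f₂) (BasedFunctor.id _) (prodRightEquiv_isEquivOver 𝒴₁ f₂) (isEquivOver_id _)
    (prodRightSquare 𝒴₁ f₂) (isRepresentable1_fpFst f₂ _ hf)

/-- Every product morphism is the composite `(f₁ × id) ≫ (id × f₂)`. -/
def prodMapIso (f₁ : 𝒳₁ ⥤ᵇ 𝒴₁) (f₂ : 𝒳₂ ⥤ᵇ 𝒴₂)
    (e : BasedFunctor.comp (BasedFunctor.comp (fpFst (toSelf 𝒳₁) (toSelf 𝒳₂)) f₁) (toSelf 𝒴₁) ≅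
      BasedFunctor.comp (BasedFunctor.comp (fpSnd (toSelf 𝒳₁) (toSelf 𝒳₂)) f₂) (toSelf 𝒴₂)) :
    BasedFunctor.comp (prodMapLeft f₁ 𝒳₂) (prodMapRight 𝒴₁ f₂) ≅
      fpLift (BasedFunctor.comp (fpFst (toSelf 𝒳₁) (toSelf 𝒳₂)) f₁)
        (BasedFunctor.comp (fpSnd (toSelf 𝒳₁) (toSelf 𝒳₂)) f₂) e :=
  fpSelfIso _ _ (Iso.refl _) (Iso.refl _)

theorem isRepresentable1_prodMap (f₁ : 𝒳₁ ⥤ᵇ 𝒴₁) (f₂ : 𝒳₂ ⥤ᵇ 𝒴₂) (hf₁ : IsRepresentable1 f₁)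
    (hf₂ : IsRepresentable1 f₂)
    (e : BasedFunctor.comp (BasedFunctor.comp (fpFst (toSelf 𝒳₁) (toSelf 𝒳₂)) f₁) (toSelf 𝒴₁) ≅
      BasedFunctor.comp (BasedFunctor.comp (fpSnd (toSelf 𝒳₁) (toSelf 𝒳₂)) f₂) (toSelf 𝒴₂)) :
    IsRepresentable1 (fpLift (BasedFunctor.comp (fpFst (toSelf 𝒳₁) (toSelf 𝒳₂)) f₁)
        (BasedFunctor.comp (fpSnd (toSelf 𝒳₁) (toSelf 𝒳₂)) f₂) e) :=
  isRepresentable1_of_iso (prodMapIso f₁ f₂ e)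
    (isRepresentable1_comp _ _ (isRepresentable1_prodMapLeft f₁ 𝒳₂ hf₁)
      (isRepresentable1_prodMapRight 𝒴₁ f₂ hf₂))

end ProdMap

end Groth.Agent.Lib.Helper65
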