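import Groth.Prelude.Def_AlgSt2
import Groth.Agent.Lib.Helper31.Diag
import Groth.Agent.Lib.Helper65.FpFib
import Groth.Agent.Lib.Helper65.SubStImage
import Groth.Agent.Lib.Helper65.AlgStInv

/-!
# Helper65: the base category over itself is a stack with representable diagonal
-/

set_option autoImplicit false

universe v₄ u₄ v₃ u₃ v₂ u₂ v u

open CategoryTheory CategoryTheory.Functor CategoryTheory.Limits

namespace Groth.Agent.Lib.Helper65

open FibCat Groth.Agent.Lib.Helper31

section

variable {C : Type u} [Category.{v} C] {𝒜 : BasedCategory.{v₂, u₂} C}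

theorem selfOver_obj_eq (F : 𝒜 ⥤ᵇ selfOver C) (a : 𝒜.obj) : F.obj a = 𝒜.p.obj a :=
  Functor.congr_obj F.w a

theorem selfOver_map_eq (F : 𝒜 ⥤ᵇ selfOver C) {a b : 𝒜.obj} (f : a ⟶ b) :
    F.map f = eqToHom (selfOver_obj_eq F a) ≫ 𝒜.p.map f ≫ eqToHom (selfOver_obj_eq F b).symm :=
  Functor.congr_hom F.w f

/-- The unique 2-morphism between two functors into the base category over itself. -/
def selfOverHom (F G : 𝒜 ⥤ᵇ selfOver C) : F ⟶ G where
  app a := eqToHom ((selfOver_obj_eq F a).trans (selfOver_obj_eq G a).symm)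
  naturality a b f := by
    change F.map f ≫ eqToHom _ = eqToHom _ ≫ G.map f
    rw [selfOver_map_eq F f, selfOver_map_eq G f]
    simp
  isHomLift' a := by
    apply IsHomLift.of_fac (selfOver C).p (𝟙 (𝒜.p.obj a)) _ (selfOver_obj_eq F a) (selfOver_obj_eq G a)
    show 𝟙 (𝒜.p.obj a) = eqToHom _ ≫ (𝟭 C).map (eqToHom ((selfOver_obj_eq F a).trans
      (selfOver_obj_eq G a).symm)) ≫ eqToHom _
    simp

theorem selfOverHom_unique {F G : 𝒜 ⥤ᵇ selfOver C} (α β : F ⟶ G) : α = β := by
  apply BasedNatTrans.homCategory.ext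
  ext a
  have h1 := IsHomLift.fac' (selfOver C).p (𝟙 (𝒜.p.obj a)) (α.toNatTrans.app a)
  have h2 := IsHomLift.fac' (selfOver C).p (𝟙 (𝒜.p.obj a)) (β.toNatTrans.app a)
  change α.toNatTrans.app a = _ at h1
  change β.toNatTrans.app a = _ at h2
  rw [h1, h2]

/-- Any functor between categories of functors into the base category over itself is an equivalence, as soon
as its source is nonempty. -/
theorem isEquivalence_of_selfOver {ℬ : BasedCategory.{v₃, u₃} C}
    (Φ : (ℬ ⥤ᵇ selfOver C) ⥤ (𝒜 ⥤ᵇ selfOver C)) : Φ.IsEquivalence := by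
  have hfull : Φ.Full := ⟨fun {F G} _ => ⟨selfOverHom F G, selfOverHom_unique _ _⟩⟩
  have hfaith : Φ.Faithful := ⟨fun {F G} α β _ => selfOverHom_unique α β⟩
  have hess : Φ.EssSurj := ⟨fun G => ⟨toSelf ℬ, ⟨⟨selfOverHom _ _, selfOverHom _ _,
    selfOverHom_unique _ _, selfOverHom_unique _ _⟩⟩⟩⟩
  exact { }

/-- The base category over itself is a stack for every topology. -/
theorem isStack_selfOver (J : GrothendieckTopology C) : Stk.IsStack J (selfOver C) :=
  ⟨isFibGrpd_selfOver, fun _ _ _ => isEquivalence_of_selfOver _⟩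

end

section

variable {S : AlgebraicGeometry.Scheme.{u}}

/-- The diagonal of the base category over itself is representable by algebraic spaces. -/
theorem repByAlgSp1_diag_selfOver :
    AlgSt.RepByAlgSp1 (FibCat.diag (FibCat.toSelf (selfOver (Over S)))) := by
  rw [repByAlgSp1_iff_top]
  have hfull : (FibCat.toSelf (selfOver (Over S))).toFunctor.Full :=
    (inferInstance : (𝟭 (Over S)).Full)
  have hfaith : (FibCat.toSelf (selfOver (Over S))).toFunctor.Faithful :=
    (inferInstance : (𝟭 (Over S)).Faithful)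
  exact repByAlgSpWith_of_isEquivOver ⊤ (fun _ => trivial) _
    (diag_isEquivOver_of_fullyFaithful _)

end

end Groth.Agent.Lib.Helper65
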