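import Groth.Agent.Lib.Helper65.StUnivInj
import Groth.Agent.Lib.Helper66.StackDiag

/-!
# Helper65: universally injective iff the diagonal is surjective
-/

set_option autoImplicit false

universe u

open CategoryTheory CategoryTheory.Functor CategoryTheory.Limits Opposite AlgebraicGeometry

namespace Groth.Agent.Lib.Helper65

open FibCat Groth.Agent.Lib.Helper31 Groth.Agent.Lib.Helper66.StackDiag

variable {S : Scheme.{u}} {𝒳 𝒴 𝒵 : AlgSt.Cat S}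

theorem diag_comp_fpFst (f : 𝒳 ⥤ᵇ 𝒴) :
    BasedFunctor.comp (diag f) (fpFst f f) = BasedFunctor.id 𝒳 := rfl

theorem diag_comp_fpSnd (f : 𝒳 ⥤ᵇ 𝒴) :
    BasedFunctor.comp (diag f) (fpSnd f f) = BasedFunctor.id 𝒳 := rfl

/-- If `f` is universally injective then its diagonal is surjective on points. -/
theorem isSurjective_diag_of_isUnivInjective (h𝒳 : AlgSt.IsAlgStack Scheme.fppfPrecoverage 𝒳)
    (f : 𝒳 ⥤ᵇ 𝒴) (hf : AlgSt.IsUnivInjective Scheme.fppfPrecoverage f) :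
    AlgSt.IsSurjective (diag f) := by
  intro P
  refine ⟨AlgSt.Points.map (fpFst f f) P, ?_⟩
  apply hf 𝒳 h𝒳 f
  rw [← points_map_comp, diag_comp_fpFst, points_map_id]

/-- Surjectivity on points of the diagonal is stable under base change. -/
theorem isSurjective_diag_fpFst (h𝒳 : IsFibGrpd 𝒳.p) (h𝒴 : IsFibGrpd 𝒴.p) (h𝒵 : IsFibGrpd 𝒵.p)
    (f : 𝒳 ⥤ᵇ 𝒴) (g : 𝒵 ⥤ᵇ 𝒴) (hΔ : AlgSt.IsSurjective (diag f)) :
    AlgSt.IsSurjective (diag (fpFst g f)) := by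
  intro w
  have hB : IsFibGrpd (fp g f).p := isFibGrpd_fp g f h𝒵 h𝒳 h𝒴
  have hBB : IsFibGrpd (fp (fpFst g f) (fpFst g f)).p := isFibGrpd_fp _ _ hB hB h𝒵
  have hXX : IsFibGrpd (fp f f).p := isFibGrpd_fp f f h𝒳 h𝒳 h𝒴
  let y : fp (fpFst g f) (fpFst g f) ⥤ᵇ fp (fpFst g f) (fpFst g f) := BasedFunctor.id _
  obtain ⟨x, hx⟩ := hΔ (AlgSt.Points.map (BasedFunctor.comp y (dQ f g)) w)
  obtain ⟨t, ht1, -⟩ := exists_points_fp h𝒳 hXX hBB (diag f) (BasedFunctor.comp y (dQ f g)) w x hx.symm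
  refine ⟨AlgSt.Points.map (fpSnd y (diag (fpFst g f))) (AlgSt.Points.map (dTh f g y) t), ?_⟩
  rw [← points_map_comp _ (diag (fpFst g f)), ← points_map_congr (fpIso y (diag (fpFst g f))),
    points_map_comp, points_map_id, ← points_map_comp, dTh_fst, ht1]

/-- If the diagonal of `f` is surjective on points then `f` is universally injective. -/
theorem isUnivInjective_of_isSurjective_diag (h𝒳 : IsFibGrpd 𝒳.p) (h𝒴 : IsFibGrpd 𝒴.p)
    (f : 𝒳 ⥤ᵇ 𝒴) (hΔ : AlgSt.IsSurjective (diag f)) :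
    AlgSt.IsUnivInjective Scheme.fppfPrecoverage f := by
  intro 𝒵 h𝒵 g p q hpq
  have hB : IsFibGrpd (fp g f).p := isFibGrpd_fp g f h𝒵.isStack.1 h𝒳 h𝒴
  obtain ⟨w, hw1, hw2⟩ := exists_points_fp hB h𝒵.isStack.1 hB (fpFst g f) (fpFst g f) p q hpq
  obtain ⟨r, rfl⟩ := isSurjective_diag_fpFst h𝒳 h𝒴 h𝒵.isStack.1 f g hΔ w
  rw [← points_map_comp, diag_comp_fpFst, points_map_id] at hw1
  rw [← points_map_comp, diag_comp_fpSnd, points_map_id] at hw2
  rw [← hw1, ← hw2]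

end Groth.Agent.Lib.Helper65
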