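import Groth.Agent.Lib.Helper65.RepWithP

/-!
# Helper65: honest pullback squares of sheaves from 2-fibre products
-/

set_option autoImplicit false
set_option backward.isDefEq.respectTransparency false
set_option backward.isDefEq.respectTransparency.types false

universe u

open CategoryTheory CategoryTheory.Functor CategoryTheory.Limits Opposite AlgebraicGeometry

namespace Groth.Agent.Lib.Helper65

open FibCat Groth.Agent.Lib.Helper31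

variable {S : Scheme.{u}} {𝒳 𝒴 : AlgSt.Cat S}

/-- Base change squares: if `F₁ ≃ G₁ ×_𝒴 𝒳` with projection `a₁ : F₁ ⟶ G₁`, `b : G₂ ⟶ G₁` is a map of
sheaves and `F₂ ≃ G₂ ×_𝒴 𝒳` with projection `a₂`, then `F₂ = G₂ ×_{G₁} F₁` as sheaves. -/
theorem exists_isPullback_of_fp (f : 𝒳 ⥤ᵇ 𝒴) {G₁ G₂ F₁ F₂ : AlgSp.Sp S}
    (y₁ : AlgSt.ofSp G₁ ⥤ᵇ 𝒴) (E₁ : AlgSt.ofSp F₁ ⥤ᵇ fp y₁ f) (hE₁ : IsEquivOver E₁) (a₁ : F₁ ⟶ G₁)
    (i₁ : BasedFunctor.comp E₁ (fpFst y₁ f) ≅ AlgSt.ofSpMap a₁)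
    (b : G₂ ⟶ G₁) (y₂ : AlgSt.ofSp G₂ ⥤ᵇ 𝒴) (j : y₂ ≅ BasedFunctor.comp (AlgSt.ofSpMap b) y₁)
    (E₂ : AlgSt.ofSp F₂ ⥤ᵇ fp y₂ f) (hE₂ : IsEquivOver E₂) (a₂ : F₂ ⟶ G₂)
    (i₂ : BasedFunctor.comp E₂ (fpFst y₂ f) ≅ AlgSt.ofSpMap a₂) :
    ∃ b' : F₂ ⟶ F₁, IsPullback b' a₂ a₁ b := by
  have sq : IsPullback (pullback.fst b a₁) (pullback.snd b a₁) b a₁ := IsPullback.of_hasPullback b a₁
  have sq' : IsPullback (pullback.fst b a₁).hom (pullback.snd b a₁).hom b.hom a₁.hom :=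
    sq.map (sheafToPresheaf (AlgSp.J S) (Type (u + 1)))
  let Ψ₁ : AlgSt.ofSp (pullback b a₁) ⥤ᵇ fp (AlgSt.ofSpMap b) (AlgSt.ofSpMap a₁) := pbLift sq'.w
  have hΨ₁ : IsEquivOver Ψ₁ := pbLift_isEquivOver sq'
  let Ψ₂ : fp (AlgSt.ofSpMap b) (AlgSt.ofSpMap a₁) ⥤ᵇ fp (AlgSt.ofSpMap b) (fpFst y₁ f) :=
    fpMap (F := AlgSt.ofSpMap b) (G := AlgSt.ofSpMap a₁) (F' := AlgSt.ofSpMap b) (G' := fpFst y₁ f)
      (BasedFunctor.id _) E₁ (BasedFunctor.id _) (Iso.refl _) i₁.symm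
  have hΨ₂ : IsEquivOver Ψ₂ := fpMap_isEquivOver _ _ _ _ _ (isEquivOver_id _) hE₁ (isEquivOver_id _)
  let Ψ₃ : fp (AlgSt.ofSpMap b) (fpFst y₁ f) ⥤ᵇ fp (BasedFunctor.comp (AlgSt.ofSpMap b) y₁) f :=
    fpPasteFst (AlgSt.ofSpMap b) y₁ f
  have hΨ₃ : IsEquivOver Ψ₃ := fpPasteFst_isEquivOver (AlgSt.ofSpMap b) y₁ f
  let Ψ₄ : fp (BasedFunctor.comp (AlgSt.ofSpMap b) y₁) f ⥤ᵇ fp y₂ f :=
    fpMap (F := BasedFunctor.comp (AlgSt.ofSpMap b) y₁) (G := f) (F' := y₂) (G' := f)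
      (BasedFunctor.id _) (BasedFunctor.id _) (BasedFunctor.id _) j.symm (Iso.refl _)
  have hΨ₄ : IsEquivOver Ψ₄ :=
    fpMap_isEquivOver _ _ _ _ _ (isEquivOver_id _) (isEquivOver_id _) (isEquivOver_id _)
  let Ψ : AlgSt.ofSp (pullback b a₁) ⥤ᵇ fp y₂ f :=
    BasedFunctor.comp (BasedFunctor.comp (BasedFunctor.comp Ψ₁ Ψ₂) Ψ₃) Ψ₄
  have hΨ : IsEquivOver Ψ :=
    isEquivOver_comp _ _ (isEquivOver_comp _ _ (isEquivOver_comp _ _ hΨ₁ hΨ₂) hΨ₃) hΨ₄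
  have hΨfst : BasedFunctor.comp Ψ (fpFst y₂ f) = AlgSt.ofSpMap (pullback.fst b a₁) := rfl
  obtain ⟨E₂', hE₂', ⟨c₁⟩, ⟨c₂⟩⟩ := exists_inverse_equivOver E₂ hE₂
  let E : AlgSt.ofSp (pullback b a₁) ⥤ᵇ AlgSt.ofSp F₂ := BasedFunctor.comp Ψ E₂'
  have hE : IsEquivOver E := isEquivOver_comp Ψ E₂' hΨ hE₂'
  have k : BasedFunctor.comp E (AlgSt.ofSpMap a₂) ≅ AlgSt.ofSpMap (pullback.fst b a₁) := by
    have k1 : BasedFunctor.comp E (AlgSt.ofSpMap a₂) ≅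
        BasedFunctor.comp E (BasedFunctor.comp E₂ (fpFst y₂ f)) := bWhiskerLeftIso E i₂.symm
    have k2 : BasedFunctor.comp E (BasedFunctor.comp E₂ (fpFst y₂ f)) ≅
        BasedFunctor.comp Ψ (fpFst y₂ f) :=
      bWhiskerRightIso (bWhiskerLeftIso Ψ c₂) (fpFst y₂ f)
    exact k1 ≪≫ k2 ≪≫ eqToIso hΨfst
  obtain ⟨ι₀, hι₀⟩ := nonempty_iso_of_equivOver E hE
  have hcomm : ι₀.hom ≫ a₂.hom = (pullback.fst b a₁).hom := by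
    apply ofPshMap_injective
    rw [ofPshMap_comp, hι₀]
    exact (bWhiskerRightIso (isoOfPshMap E).symm (Stk.ofPshMap a₂.hom) ≪≫ k).hom
  let ι : pullback b a₁ ≅ F₂ :=
    (fullyFaithfulSheafToPresheaf (AlgSp.J S) _).preimageIso (X := pullback b a₁) (Y := F₂) ι₀
  have hι : ι.hom.hom = ι₀.hom :=
    (fullyFaithfulSheafToPresheaf (AlgSp.J S) _).map_preimage (X := pullback b a₁) (Y := F₂) ι₀.hom
  have hcomm' : ι.hom ≫ a₂ = pullback.fst b a₁ := by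
    apply ObjectProperty.hom_ext
    change ι.hom.hom ≫ a₂.hom = _
    rw [hι, hcomm]
  refine ⟨ι.inv ≫ pullback.snd b a₁, ?_⟩
  refine IsPullback.of_iso sq.flip ι (Iso.refl _) (Iso.refl _) (Iso.refl _) ?_ ?_ ?_ ?_
  · simp
  · simp [hcomm']
  · simp
  · simp

end Groth.Agent.Lib.Helper65
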