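import Groth.Agent.Lib.Helper65.LocalProps

/-!
# Helper65: properties of representable morphisms may be checked after an fppf base change of stacks
-/

set_option autoImplicit false
set_option backward.isDefEq.respectTransparency false
set_option backward.isDefEq.respectTransparency.types false

universe u

open CategoryTheory CategoryTheory.Functor CategoryTheory.Limits Opposite AlgebraicGeometry

namespace Groth.Agent.Lib.Helper65

open FibCat Groth.Agent.Lib.Helper31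

variable {S : Scheme.{u}} {𝒳 𝒴 𝒵 : AlgSt.Cat S}

/-- Precomposing with the identification of the category of `h_U` with `(Sch/U)`. -/
theorem repByAlgSpWith_toOverCat_comp (Q : MorphismProperty (AlgSp.Sp S)) {U : Over S}
    (x : FibCat.overCat U ⥤ᵇ 𝒵) (hx : AlgSt.RepByAlgSpWith Q x) :
    AlgSt.RepByAlgSpWith Q (BasedFunctor.comp (AlgSt.toOverCat U) x) :=
  repByAlgSpWith_of_square Q x (BasedFunctor.comp (AlgSt.toOverCat U) x) (AlgSt.toOverCat U)
    (BasedFunctor.id _) (toOverCat_isEquivOver U) (isEquivOver_id _) (Iso.refl _) hx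

/-- A flat, locally finitely presented, surjective morphism representable by algebraic spaces from a stack with a
smooth atlas: properties of `f` may be checked after base change along it. -/
theorem repByAlgSpWith_iff_fpFst_of_fppf (h𝒳 : IsFibGrpd 𝒳.p) (h𝒴 : IsFibGrpd 𝒴.p) (h𝒵 : IsFibGrpd 𝒵.p)
    (hatlas : AlgSt.HasAtlas (AlgSp.LocP @Smooth) 𝒵)
    (P : MorphismProperty (AlgSp.Sp S)) (hPb : StableBC P)
    (hP : AlgSp.IsLocalOnBase AlgSp.IsFppfCover P)
    (f : 𝒳 ⥤ᵇ 𝒴) (hf : AlgSt.RepByAlgSp1 f) (z : 𝒵 ⥤ᵇ 𝒴)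
    (hz₁ : AlgSt.RepByAlgSpWith (AlgSp.LocP @Flat) z)
    (hz₂ : AlgSt.RepByAlgSpWith (AlgSp.LocP @LocallyOfFinitePresentation) z)
    (hz₃ : AlgSt.RepByAlgSpWith AlgSp.IsSurjectiveMor z) :
    AlgSt.RepByAlgSpWith P f ↔ AlgSt.RepByAlgSpWith P (FibCat.fpFst z f) := by
  constructor
  · intro h
    exact repByAlgSpWith_fpFst P f z h
  · intro h'
    obtain ⟨U₀, x₀, hx₀s, hx₀j⟩ := hatlas
    let W : AlgSp.Space S := ⟨(AlgSp.yon S).obj U₀, AlgSp.IsAlgSpace.yon_obj U₀⟩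
    let w₀ : AlgSt.ofSp W.obj ⥤ᵇ 𝒵 := BasedFunctor.comp (AlgSt.toOverCat U₀) x₀
    have hW : IsFibGrpd (AlgSt.ofSp W.obj).p := Stk.isFibGrpd_ofPsh _
    have hw₁ : AlgSt.RepByAlgSpWith (AlgSp.LocP @Flat) (BasedFunctor.comp w₀ z) :=
      repByAlgSpWith_comp (AlgSp.LocP @Flat) (stableBC_locP _ (Or.inr (Or.inr (Or.inl rfl))))
        (stableComp_locP _ (Or.inr (Or.inr (Or.inl rfl)))) isLocalOnBase_fppf_locP_flat hW h𝒵 w₀ z
        (repByAlgSpWith_toOverCat_comp _ x₀ (repByAlgSpWith_mono (locP_mono smooth_le_flat) x₀ hx₀s)) hz₁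
    have hw₂ : AlgSt.RepByAlgSpWith (AlgSp.LocP @LocallyOfFinitePresentation) (BasedFunctor.comp w₀ z) :=
      repByAlgSpWith_comp (AlgSp.LocP @LocallyOfFinitePresentation) (stableBC_locP _ (Or.inr (Or.inl rfl)))
        (stableComp_locP _ (Or.inr (Or.inl rfl))) isLocalOnBase_fppf_locP_lfp hW h𝒵 w₀ z
        (repByAlgSpWith_toOverCat_comp _ x₀ (repByAlgSpWith_mono (locP_mono smooth_le_lfp) x₀ hx₀s)) hz₂
    have hw₃ : AlgSt.RepByAlgSpWith AlgSp.IsSurjectiveMor (BasedFunctor.comp w₀ z) :=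
      repByAlgSpWith_comp AlgSp.IsSurjectiveMor stableBC_isSurjectiveMor
        stableComp_isSurjectiveMor isLocalOnBase_fppf_isSurjectiveMor hW h𝒵 w₀ z
        (repByAlgSpWith_toOverCat_comp _ x₀ hx₀j) hz₃
    have hfib : IsFibGrpd (fp z f).p := isFibGrpd_fp z f h𝒵 h𝒳 h𝒴
    obtain ⟨V, a, e', he', ⟨i'⟩, hPa⟩ :=
      exists_rep_ofSp_of_repByAlgSpWith P hPb hP hfib h𝒵 (fpFst z f) h' W w₀
    exact repByAlgSpWith_of_flat_cover P hPb hP h𝒳 h𝒴 f hf W (BasedFunctor.comp w₀ z) hw₁ hw₂ hw₃ V a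
      (BasedFunctor.comp e' (fpPasteFst w₀ z f))
      (isEquivOver_comp _ _ he' (fpPasteFst_isEquivOver w₀ z f)) i' hPa

end Groth.Agent.Lib.Helper65
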