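import Groth.Agent.Lib.Helper65.RepDesc2
import Groth.Agent.S10505
import Groth.Agent.S10530
import Groth.Agent.S10527
import Groth.Agent.S10526
import Groth.Agent.S10542
import Groth.Agent.S9985

/-!
# Helper65: fppf locality on the base and stability under composition of the basic properties of morphisms of
algebraic spaces, in the form used by the lemmas on morphisms representable by algebraic spaces
-/

set_option autoImplicit false
set_option backward.isDefEq.respectTransparency false
set_option backward.isDefEq.respectTransparency.types false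

universe u

open CategoryTheory CategoryTheory.Functor CategoryTheory.Limits Opposite AlgebraicGeometry

namespace Groth.Agent.Lib.Helper65

open FibCat Groth.Agent.Lib.Helper31

variable {S : Scheme.{u}}

section Local

/-- fpqc local on the base implies fppf local on the base. -/
theorem isLocalOnBase_fppf_of_fpqc {P : MorphismProperty (AlgSp.Sp S)}
    (h : AlgSp.IsLocalOnBase AlgSp.IsFpqcCover P) : AlgSp.IsLocalOnBase AlgSp.IsFppfCover P := by
  intro ι Y Yi g hY hYi hcov X f hX Xi p q hXi sq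
  exact h Yi g hY hYi
    (Groth.Agent.S10505.result ⟨Y, hY⟩ (fun i => ⟨Yi i, hYi i⟩) (fun i => ObjectProperty.homMk (g i)) hcov)
    f hX Xi p q hXi sq

theorem isLocalOnBase_fppf_locP_flat : AlgSp.IsLocalOnBase AlgSp.IsFppfCover (AlgSp.LocP (S := S) @Flat) :=
  isLocalOnBase_fppf_of_fpqc (Groth.Agent.S10530.result S)

theorem isLocalOnBase_fppf_locP_lfp :
    AlgSp.IsLocalOnBase AlgSp.IsFppfCover (AlgSp.LocP (S := S) @LocallyOfFinitePresentation) :=
  isLocalOnBase_fppf_of_fpqc (Groth.Agent.S10527.result S)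

theorem isLocalOnBase_fppf_locP_lft :
    AlgSp.IsLocalOnBase AlgSp.IsFppfCover (AlgSp.LocP (S := S) @LocallyOfFiniteType) :=
  isLocalOnBase_fppf_of_fpqc (Groth.Agent.S10526.result S)

theorem isLocalOnBase_fppf_locP_smooth :
    AlgSp.IsLocalOnBase AlgSp.IsFppfCover (AlgSp.LocP (S := S) @Smooth) :=
  isLocalOnBase_fppf_of_fpqc (Groth.Agent.S10542.result S)

/-- Surjectivity is local on the base for every notion of covering that is jointly surjective on points. -/
theorem isLocalOnBase_fppf_isSurjectiveMor :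
    AlgSp.IsLocalOnBase AlgSp.IsFppfCover (AlgSp.IsSurjectiveMor (S := S)) := by
  intro ι Y Yi g hY hYi hcov X f hX Xi p q hXi sq
  constructor
  · intro hf i
    exact stableBC_isSurjectiveMor hX hY (hXi i) (hYi i) f (g i) (p i) (q i) (sq i) hf
  · intro hp y
    obtain ⟨i, yi, hyi⟩ := hcov.2 y
    obtain ⟨xi, hxi⟩ := hp i yi
    refine ⟨AlgSp.Points.map (q i) xi, ?_⟩
    rw [← AlgSp.Points.map_comp, (sq i).w, AlgSp.Points.map_comp, hxi, hyi]

end Local

section Comp

theorem stableComp_locP (P : MorphismProperty Scheme.{u})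
    (hP : P = @LocallyOfFiniteType ∨ P = @LocallyOfFinitePresentation ∨ P = @Flat ∨ P = @Smooth ∨ P = @Etale ∨
      (∀ ⦃A B : Scheme.{u}⦄ (g : A ⟶ B), P g ↔ (LocallyQuasiFinite g ∧ LocallyOfFiniteType g)) ∨
      (∀ ⦃A B : Scheme.{u}⦄ (g : A ⟶ B), P g ↔ (LocallyOfFiniteType g ∧ FormallyUnramified g))) :
    StableComp (AlgSp.LocP (S := S) P) := by
  intro X Y Z hX hY hZ a b ha hb
  exact Groth.Agent.S9985.result P hP (X := ⟨X, hX⟩) (Y := ⟨Y, hY⟩) (Z := ⟨Z, hZ⟩)
    (ObjectProperty.homMk a) (ObjectProperty.homMk b) ha hb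

theorem stableComp_isSurjectiveMor : StableComp (AlgSp.IsSurjectiveMor (S := S)) := by
  intro X Y Z hX hY hZ a b ha hb z
  obtain ⟨y, rfl⟩ := hb z
  obtain ⟨x, rfl⟩ := ha y
  exact ⟨x, AlgSp.Points.map_comp a b x⟩

end Comp

section Mono

variable {𝒳 𝒴 : AlgSt.Cat S}

/-- `RepByAlgSpWith` is monotone in the property. -/
theorem repByAlgSpWith_mono {P Q : MorphismProperty (AlgSp.Sp S)} (hPQ : P ≤ Q) (f : 𝒳 ⥤ᵇ 𝒴)
    (h : AlgSt.RepByAlgSpWith P f) : AlgSt.RepByAlgSpWith Q f := by
  intro U y
  obtain ⟨F, e, he, hp⟩ := h U y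
  exact ⟨F, e, he, hPQ _ hp⟩

theorem locP_mono {P Q : MorphismProperty Scheme.{u}} (hPQ : P ≤ Q) :
    AlgSp.LocP (S := S) P ≤ AlgSp.LocP Q := by
  intro X Y f hf U V a b h ha hb comm
  exact hPQ _ (hf a b h ha hb comm)

theorem smooth_le_flat : (@Smooth : MorphismProperty Scheme.{u}) ≤ @Flat := by
  intro X Y f hf
  have : Smooth f := hf
  exact (inferInstance : Flat f)

theorem smooth_le_lfp : (@Smooth : MorphismProperty Scheme.{u}) ≤ @LocallyOfFinitePresentation := by
  intro X Y f hf
  have : Smooth f := hf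
  exact (inferInstance : LocallyOfFinitePresentation f)

end Mono

end Groth.Agent.Lib.Helper65
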