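import Groth.Agent.Lib.Helper65.Devissage
import Groth.Agent.Lib.Helper65.SelfOver
import Groth.Agent.Lib.Helper65.FpProd
import Groth.Agent.Lib.Helper65.StDiagSurj
import Groth.Agent.Lib.Helper66.AlgStQC3
import Groth.Agent.Lib.Helper66.AlgStQC2
import Groth.Agent.Lib.Helper66.AlgStEquiv
import Groth.Agent.Lib.Helper66.AlgStLocQSq2
import Groth.Agent.H52.QC5

/-!
# Helper65: quasi-compactness of the diagonal from quasi-compact automorphism groups and generic isomorphisms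
-/

set_option autoImplicit false
set_option backward.isDefEq.respectTransparency false
set_option backward.isDefEq.respectTransparency.types false

universe u

open CategoryTheory CategoryTheory.Functor CategoryTheory.Limits Opposite AlgebraicGeometry

namespace Groth.Agent.Lib.Helper65.DiagQC

open FibCat Groth.Agent.Lib.Helper31 Groth.Agent.Lib.Helper65 Groth.Agent.Lib.Helper65.Devissage
open Groth.Agent.Lib.Helper66.AlgStLocQSq (overMapComp)

variable {S : Scheme.{u}} {𝒳 : AlgSt.Cat S}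

/-- A chart `W ⟶ 𝒳` induces a chart `W × W ⟶ 𝒳 × 𝒳` with the same (stable, local) properties. -/
theorem exists_chart_prod (h𝒳 : IsFibGrpd 𝒳.p) (W : Over S) (w : FibCat.overCat W ⥤ᵇ 𝒳) :
    ∃ c : FibCat.overCat (W ⨯ W) ⥤ᵇ fp (toSelf 𝒳) (toSelf 𝒳),
      ∀ (P : MorphismProperty (AlgSp.Sp S)), StableBC P → StableComp P →
        AlgSp.IsLocalOnBase AlgSp.IsFppfCover P → AlgSt.RepByAlgSpWith P w →
          AlgSt.RepByAlgSpWith P c := by
  have hS : IsFibGrpd (selfOver (Over S)).p := isFibGrpd_selfOver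
  have hWf : IsFibGrpd (FibCat.overCat W).p := isFibGrpd_overForget W
  let s := toSelf 𝒳
  obtain ⟨y, hy⟩ := exists_prodSlice_equiv w w
  obtain ⟨Ψ₁, hΨ₁, -, -⟩ := exists_inverse_equivOver
    (fpPasteFst w s (BasedFunctor.comp w s)) (fpPasteFst_isEquivOver w s (BasedFunctor.comp w s))
  obtain ⟨Ψ₂, hΨ₂, -, -⟩ := exists_inverse_equivOver (fpPasteSnd s s w) (fpPasteSnd_isEquivOver s s w)
  let q₁ : fp (BasedFunctor.comp w s) (BasedFunctor.comp w s) ⥤ᵇ fp s (BasedFunctor.comp w s) :=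
    BasedFunctor.comp Ψ₁ (fpSnd w (fpFst s (BasedFunctor.comp w s)))
  let q₂ : fp s (BasedFunctor.comp w s) ⥤ᵇ fp s s :=
    BasedFunctor.comp Ψ₂ (fpFst (fpSnd s s) w)
  have hV' : IsFibGrpd (fp s (BasedFunctor.comp w s)).p := isFibGrpd_fp _ _ h𝒳 hWf hS
  have hU' : IsFibGrpd (fp (BasedFunctor.comp w s) (BasedFunctor.comp w s)).p :=
    isFibGrpd_fp _ _ hWf hWf hS
  refine ⟨BasedFunctor.comp y (BasedFunctor.comp q₁ q₂), ?_⟩
  intro P hPb hPc hPl hw
  have hq₁ : AlgSt.RepByAlgSpWith P q₁ :=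
    repByAlgSpWith_equiv_comp _ Ψ₁ hΨ₁ _
      (Groth.Agent.Lib.Helper66.AlgStBC.repByAlgSpWith_fpSnd _ (fpFst s (BasedFunctor.comp w s)) w hw)
  have hq₂ : AlgSt.RepByAlgSpWith P q₂ :=
    repByAlgSpWith_equiv_comp _ Ψ₂ hΨ₂ _ (repByAlgSpWith_fpFst _ w (fpSnd s s) hw)
  exact repByAlgSpWith_equiv_comp _ y hy _
    (repByAlgSpWith_comp _ hPb hPc hPl hU' hV' q₁ q₂ hq₁ hq₂)

/-- Over a locally Noetherian base, the self-product of a scheme locally of finite type is locally Noetherian. -/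
theorem isLocallyNoetherian_prod_left [IsLocallyNoetherian S] (W : Over S) [LocallyOfFiniteType W.hom] :
    IsLocallyNoetherian (W ⨯ W).left := by
  have h1 : IsLocallyNoetherian W.left := LocallyOfFiniteType.isLocallyNoetherian W.hom
  have h2 : IsLocallyNoetherian (pullback W.hom W.hom) := inferInstance
  exact isLocallyNoetherian_of_isOpenImmersion (Over.prodLeftIsoPullback W W).hom

/-- A functor to a slice which is, up to an equivalence with the category of an algebraic space, a morphism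
of algebraic spaces with a base change stable property `P` is representable by algebraic spaces with `P`. -/
theorem repByAlgSpWith_of_equiv_ofSp (P : MorphismProperty (AlgSp.Sp S)) (hPb : StableBC P)
    {W : Over S} {𝒬 : AlgSt.Cat S} (π : 𝒬 ⥤ᵇ FibCat.overCat W) (F : AlgSp.Space S)
    (e : AlgSt.ofSp F.obj ⥤ᵇ 𝒬) (he : IsEquivOver e)
    (hP : P (AlgSt.spMapOfOver (BasedFunctor.comp e π))) : AlgSt.RepByAlgSpWith P π := by
  let Z : AlgSp.Space S := ⟨(AlgSp.yon S).obj W, AlgSp.IsAlgSpace.yon_obj W⟩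
  let p : F.obj ⟶ Z.obj := AlgSt.spMapOfOver (BasedFunctor.comp e π)
  have h1 : AlgSt.RepByAlgSpWith P (AlgSt.ofSpMap p) :=
    Groth.Agent.Lib.Helper66.AlgStLocQSq.repByAlgSpWith_ofSpMap_of_prop P hPb (V := F) (Z := Z) p hP
  exact repByAlgSpWith_of_square' P π (AlgSt.ofSpMap p) e (AlgSt.toOverCat W) he
    (toOverCat_isEquivOver W) (isoSpMapOfOver (BasedFunctor.comp e π)).symm h1

/-- Transport of an isomorphism of restrictions to the standard form of the structure morphism. -/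
theorem iso_homMk_of_iso {T U : Over S} (h : T ⟶ U) (x y : FibCat.overCat U ⥤ᵇ 𝒳)
    (e : BasedFunctor.comp (AlgSt.overMap h) x ≅ BasedFunctor.comp (AlgSt.overMap h) y) :
    Nonempty (BasedFunctor.comp
        (AlgSt.overMap (Over.homMk h.left rfl : Over.mk (h.left ≫ U.hom) ⟶ U)) x ≅
      BasedFunctor.comp
        (AlgSt.overMap (Over.homMk h.left rfl : Over.mk (h.left ≫ U.hom) ⟶ U)) y) := by
  let φ : Over.mk (h.left ≫ U.hom) ⟶ T := Over.homMk (𝟙 _) (by
    change 𝟙 _ ≫ T.hom = h.left ≫ U.hom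
    rw [Category.id_comp, Over.w h])
  have key : ∀ h' : Over.mk (h.left ≫ U.hom) ⟶ U, h' = φ ≫ h →
      Nonempty (BasedFunctor.comp (AlgSt.overMap h') x ≅ BasedFunctor.comp (AlgSt.overMap h') y) := by
    rintro _ rfl
    exact ⟨(bWhiskerRightIso (overMapComp φ h) x).symm ≪≫ bWhiskerLeftIso (AlgSt.overMap φ) e ≪≫
      bWhiskerRightIso (overMapComp φ h) y⟩
  apply key
  apply Over.OverMorphism.ext
  change h.left = 𝟙 _ ≫ h.left
  rw [Category.id_comp]

/-- A nonempty open subset of the spectrum of a domain contains a nonempty basic open. -/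
theorem exists_away_range_subset (A : Type u) [CommRing A] [IsDomain A]
    (O : Set ↥(Spec (CommRingCat.of A))) (hO : IsOpen O) (hne : O.Nonempty) :
    ∃ r : A, r ≠ 0 ∧
      Set.range (Spec.map (CommRingCat.ofHom (algebraMap A (Localization.Away r)))).base ⊆ O := by
  obtain ⟨t, ht⟩ := hne
  obtain ⟨v, ⟨r, rfl⟩, htv, hvO⟩ :=
    (PrimeSpectrum.isTopologicalBasis_basic_opens (R := A)).exists_subset_of_mem_open
      (a := t) (u := O) ht hO
  refine ⟨r, ?_, ?_⟩
  · rintro rfl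
    have htv' : (show PrimeSpectrum A from t) ∈ PrimeSpectrum.basicOpen (0 : A) := htv
    rw [PrimeSpectrum.basicOpen_zero] at htv'
    exact htv'
  · rintro _ ⟨z, rfl⟩
    apply hvO
    have hmem : PrimeSpectrum.comap (algebraMap A (Localization.Away r)) z ∈
        Set.range (PrimeSpectrum.comap (algebraMap A (Localization.Away r))) := ⟨z, rfl⟩
    rw [PrimeSpectrum.localization_away_comap_range (Localization.Away r) r] at hmem
    exact hmem

/-- The product `𝒳 × 𝒳` over the base is an algebraic stack. -/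
theorem isAlgStack_prod_self (h𝒳 : AlgSt.IsAlgStack Scheme.fppfPrecoverage 𝒳) :
    AlgSt.IsAlgStack Scheme.fppfPrecoverage (fp (toSelf 𝒳) (toSelf 𝒳)) :=
  Groth.Agent.S12763.result (isStack_selfOver _) repByAlgSp1_diag_selfOver h𝒳 h𝒳 (toSelf 𝒳) (toSelf 𝒳)

/-- **Dense case**: if the two components of a chart `b : W ⟶ 𝒳 × 𝒳` are isomorphic and the automorphism
sheaf of the first component is an algebraic space quasi-compact over `W`, then the diagonal is
quasi-compact over `b`. -/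
theorem qcPiece_diag_of_iso (h𝒳 : AlgSt.IsAlgStack Scheme.fppfPrecoverage 𝒳) {W : Over S}
    (b : FibCat.overCat W ⥤ᵇ fp (toSelf 𝒳) (toSelf 𝒳))
    (ε : BasedFunctor.comp b (fpFst (toSelf 𝒳) (toSelf 𝒳)) ≅
      BasedFunctor.comp b (fpSnd (toSelf 𝒳) (toSelf 𝒳)))
    (hi : ∃ (F : AlgSp.Space S) (e : AlgSt.ofSp F.obj ⥤ᵇ
        FibCat.fp (FibCat.fpLift (BasedFunctor.comp b (fpFst (toSelf 𝒳) (toSelf 𝒳)))
          (BasedFunctor.comp b (fpFst (toSelf 𝒳) (toSelf 𝒳))) (Iso.refl _))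
          (FibCat.diag (FibCat.toSelf 𝒳))),
        FibCat.IsEquivOver e ∧
          AlgSp.IsQuasiCompactMor (AlgSt.spMapOfOver (BasedFunctor.comp e (FibCat.fpFst _ _)))) :
    QCPiece (diag (toSelf 𝒳)) b := by
  intro Z _ g a ia
  have h𝒫 := isAlgStack_prod_self h𝒳
  let s := toSelf 𝒳
  let Δ := diag s
  let x : FibCat.overCat W ⥤ᵇ 𝒳 := BasedFunctor.comp b (fpFst s s)
  let δ : FibCat.overCat W ⥤ᵇ fp s s := fpLift x x (Iso.refl _)
  have e₁ : BasedFunctor.comp b (fpFst s s) ≅ BasedFunctor.comp δ (fpFst s s) := Iso.refl _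
  have e₂ : BasedFunctor.comp b (fpSnd s s) ≅ BasedFunctor.comp δ (fpSnd s s) := ε.symm
  have iδ : b ≅ δ := fpSelfIso b δ e₁ e₂
  obtain ⟨F, e, he, hqc⟩ := hi
  have hbc : StableBC (AlgSp.IsQuasiCompactMor (S := S)) :=
    fun _ _ _ _ _ _ _ _ _ _ _ _ sq ha => Groth.Agent.H52.isQuasiCompactMor_of_isPullback sq ha
  have hπ : AlgSt.RepByAlgSpWith AlgSp.IsQuasiCompactMor (fpFst δ Δ) :=
    repByAlgSpWith_of_equiv_ofSp _ hbc (fpFst δ Δ) F e he hqc
  have hZf : IsFibGrpd (FibCat.overCat Z).p := isFibGrpd_overForget Z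
  have hWf : IsFibGrpd (FibCat.overCat W).p := isFibGrpd_overForget W
  have hδΔ : IsFibGrpd (fp δ Δ).p := isFibGrpd_fp δ Δ hWf h𝒳.isStack.1 h𝒫.isStack.1
  have h1 : AlgSt.IsQuasiCompact (fp (AlgSt.overMap g) (fpFst δ Δ)) :=
    Groth.Agent.Lib.Helper66.AlgStQC.isQuasiCompact_fp_of_repByAlgSpWith hδΔ hWf hZf (fpFst δ Δ) hπ
      (Groth.Agent.Lib.Helper66.AlgStQC4.isQuasiCompact_overCat Z) (AlgSt.overMap g)
  have h2 : AlgSt.IsQuasiCompact (fp (BasedFunctor.comp (AlgSt.overMap g) δ) Δ) :=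
    Groth.Agent.Lib.Helper66.AlgStEquiv.isQuasiCompact_of_equivOver
      (𝒜 := fp (AlgSt.overMap g) (fpFst δ Δ)) (ℬ := fp (BasedFunctor.comp (AlgSt.overMap g) δ) Δ)
      (fpPasteFst (AlgSt.overMap g) δ Δ) (fpPasteFst_isEquivOver (AlgSt.overMap g) δ Δ) h1
  let ia' : a ≅ BasedFunctor.comp (AlgSt.overMap g) δ := ia ≪≫ bWhiskerLeftIso (AlgSt.overMap g) iδ
  let α : BasedFunctor.comp (BasedFunctor.comp (AlgSt.overMap g) δ) (BasedFunctor.id _) ≅
      BasedFunctor.comp (BasedFunctor.id _) a := ia'.symm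
  let β : BasedFunctor.comp Δ (BasedFunctor.id _) ≅ BasedFunctor.comp (BasedFunctor.id _) Δ := Iso.refl _
  let Φ : fp (BasedFunctor.comp (AlgSt.overMap g) δ) Δ ⥤ᵇ fp a Δ :=
    fpMap (F := BasedFunctor.comp (AlgSt.overMap g) δ) (G := Δ) (F' := a) (G' := Δ)
      (BasedFunctor.id _) (BasedFunctor.id _) (BasedFunctor.id _) α β
  have hΦ : IsEquivOver Φ :=
    fpMap_isEquivOver _ _ _ _ _ (isEquivOver_id _) (isEquivOver_id _) (isEquivOver_id _)
  have h3 : AlgSt.IsQuasiCompact (fp a Δ) :=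
    Groth.Agent.Lib.Helper66.AlgStEquiv.isQuasiCompact_of_equivOver Φ hΦ h2
  have hfp : AlgSt.IsAlgStack Scheme.fppfPrecoverage (fp a Δ) :=
    Groth.Agent.S12763.result h𝒫.isStack h𝒫.diag (isAlgStack_overCat Z) h𝒳 a Δ
  exact compactSpace_points_of_isQuasiCompact hfp.isStack.1 hfp.atlas h3

/-- **Non-dense case**: if the two components of a chart `b : W ⟶ 𝒳 × 𝒳` are non-isomorphic over every field
point of `W`, the base change of the diagonal along `b` has no points. -/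
theorem qcPiece_diag_of_forall_not_iso (h𝒳 : AlgSt.IsAlgStack Scheme.fppfPrecoverage 𝒳) {W : Over S}
    (b : FibCat.overCat W ⥤ᵇ fp (toSelf 𝒳) (toSelf 𝒳))
    (hne : ∀ (L : Type u) [Field L] (str : Spec (CommRingCat.of L) ⟶ S) (h : Over.mk str ⟶ W),
      ¬ Nonempty (BasedFunctor.comp (AlgSt.overMap h)
            (BasedFunctor.comp b (fpFst (toSelf 𝒳) (toSelf 𝒳))) ≅
          BasedFunctor.comp (AlgSt.overMap h)
            (BasedFunctor.comp b (fpSnd (toSelf 𝒳) (toSelf 𝒳))))) :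
    QCPiece (diag (toSelf 𝒳)) b := by
  intro Z _ g a ia
  have h𝒫 := isAlgStack_prod_self h𝒳
  let s := toSelf 𝒳
  let Δ := diag s
  have hZf : IsFibGrpd (FibCat.overCat Z).p := isFibGrpd_overForget Z
  have hfib : IsFibGrpd (fp a Δ).p := isFibGrpd_fp a Δ hZf h𝒳.isStack.1 h𝒫.isStack.1
  have hempty : IsEmpty (AlgSt.Points (fp a Δ)) := by
    refine ⟨fun w => ?_⟩
    obtain ⟨p, rfl⟩ := AlgSt.Points.mk_surjective w
    obtain ⟨P, -⟩ := exists_functor_of_fpt hfib p
    let Q : FibCat.overCat (Over.mk p.str) ⥤ᵇ FibCat.overCat Z := BasedFunctor.comp P (fpFst a Δ)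
    let ξ : FibCat.overCat (Over.mk p.str) ⥤ᵇ 𝒳 := BasedFunctor.comp P (fpSnd a Δ)
    obtain ⟨ζ, -, ⟨iζ⟩⟩ := exists_iso_overMap Q
    let φ : BasedFunctor.comp Q a ≅ BasedFunctor.comp ξ Δ := bWhiskerLeftIso P (fpIso a Δ)
    let φ₁ : BasedFunctor.comp (BasedFunctor.comp Q a) (fpFst s s) ≅ ξ := bWhiskerRightIso φ (fpFst s s)
    let φ₂ : BasedFunctor.comp (BasedFunctor.comp Q a) (fpSnd s s) ≅ ξ := bWhiskerRightIso φ (fpSnd s s)
    let τ : BasedFunctor.comp Q a ≅ BasedFunctor.comp (AlgSt.overMap (ζ ≫ g)) b :=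
      bWhiskerRightIso iζ a ≪≫ bWhiskerLeftIso (AlgSt.overMap ζ) ia ≪≫
        bWhiskerRightIso (overMapComp ζ g) b
    exact hne p.K p.str (ζ ≫ g)
      ⟨(bWhiskerRightIso τ (fpFst s s)).symm ≪≫ φ₁ ≪≫ φ₂.symm ≪≫ bWhiskerRightIso τ (fpSnd s s)⟩
  infer_instance

/-- The generic hypothesis of the dévissage for the diagonal, from quasi-compact automorphism sheaves and
generic isomorphisms. -/
theorem genQC_diag (h𝒳 : AlgSt.IsAlgStack Scheme.fppfPrecoverage 𝒳)
    (hi : ∀ (U : Over S), IsAffine U.left → ∀ (x : FibCat.overCat U ⥤ᵇ 𝒳),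
      ∃ (F : AlgSp.Space S) (e : AlgSt.ofSp F.obj ⥤ᵇ
          FibCat.fp (FibCat.fpLift x x (Iso.refl _)) (FibCat.diag (FibCat.toSelf 𝒳))),
        FibCat.IsEquivOver e ∧
          AlgSp.IsQuasiCompactMor (AlgSt.spMapOfOver (BasedFunctor.comp e (FibCat.fpFst _ _))))
    (hii : ∀ (U : Over S), IsAffine U.left → IsIntegral U.left → ∀ (x y : FibCat.overCat U ⥤ᵇ 𝒳)
      (D : Set ↥U.left), Dense D →
      (∀ t ∈ D, ∃ (L : Type u) (_ : Field L) (g : Spec (CommRingCat.of L) ⟶ U.left),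
        Set.range g.base = {t} ∧
        Nonempty (BasedFunctor.comp
            (AlgSt.overMap (Over.homMk g rfl : Over.mk (g ≫ U.hom) ⟶ U)) x ≅
          BasedFunctor.comp (AlgSt.overMap (Over.homMk g rfl : Over.mk (g ≫ U.hom) ⟶ U)) y)) →
      ∃ V : U.left.Opens, Dense (V : Set ↥U.left) ∧
        Nonempty (BasedFunctor.comp
            (AlgSt.overMap (Over.homMk V.ι rfl : Over.mk (V.ι ≫ U.hom) ⟶ U)) x ≅
          BasedFunctor.comp (AlgSt.overMap (Over.homMk V.ι rfl : Over.mk (V.ι ≫ U.hom) ⟶ U)) y)) :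
    GenQC (diag (toSelf 𝒳)) := by
  intro A _ _ _ sA b
  let s := toSelf 𝒳
  let U : Over S := Over.mk sA
  let x : FibCat.overCat U ⥤ᵇ 𝒳 := BasedFunctor.comp b (fpFst s s)
  let y : FibCat.overCat U ⥤ᵇ 𝒳 := BasedFunctor.comp b (fpSnd s s)
  have hUaff : IsAffine U.left := by
    change IsAffine (Spec (CommRingCat.of A))
    infer_instance
  have hUint : IsIntegral U.left := by
    change IsIntegral (Spec (CommRingCat.of A))
    infer_instance
  let D : Set ↥U.left := {t | ∃ (L : Type u) (_ : Field L) (g : Spec (CommRingCat.of L) ⟶ U.left),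
    Set.range g.base = {t} ∧
      Nonempty (BasedFunctor.comp
          (AlgSt.overMap (Over.homMk g rfl : Over.mk (g ≫ U.hom) ⟶ U)) x ≅
        BasedFunctor.comp (AlgSt.overMap (Over.homMk g rfl : Over.mk (g ≫ U.hom) ⟶ U)) y)}
  by_cases hD : Dense D
  · obtain ⟨V, hVd, ⟨iV⟩⟩ := hii U hUaff hUint x y D hD (fun t ht => ht)
    have hne : Nonempty ↥U.left := by
      change Nonempty ↥(Spec (CommRingCat.of A))
      infer_instance
    have hVne : (V : Set ↥U.left).Nonempty := hVd.nonempty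
    obtain ⟨r, hr, hrange⟩ := exists_away_range_subset A (V : Set ↥U.left) V.2 hVne
    refine ⟨r, hr, ?_⟩
    let j : Spec (CommRingCat.of (Localization.Away r)) ⟶ Spec (CommRingCat.of A) :=
      Spec.map (CommRingCat.ofHom (algebraMap A (Localization.Away r)))
    let β : Spec (CommRingCat.of (Localization.Away r)) ⟶ (V : Scheme.{u}) :=
      IsOpenImmersion.lift V.ι j (by rw [Scheme.Opens.range_ι]; exact hrange)
    have hβ : β ≫ V.ι = j := IsOpenImmersion.lift_fac _ _ _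
    let W : Over S := Over.mk (j ≫ sA)
    let jW : W ⟶ U := Over.homMk j rfl
    let ιV : Over.mk (V.ι ≫ U.hom) ⟶ U := Over.homMk V.ι rfl
    let β' : W ⟶ Over.mk (V.ι ≫ U.hom) := Over.homMk β (by
      change β ≫ V.ι ≫ sA = j ≫ sA
      rw [← Category.assoc, hβ])
    have hβ' : jW = β' ≫ ιV := by
      apply Over.OverMorphism.ext
      exact hβ.symm
    have key : ∀ k : W ⟶ U, k = β' ≫ ιV →
        Nonempty (BasedFunctor.comp (AlgSt.overMap k) x ≅ BasedFunctor.comp (AlgSt.overMap k) y) := by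
      rintro _ rfl
      exact ⟨(bWhiskerRightIso (overMapComp β' ιV) x).symm ≪≫ bWhiskerLeftIso (AlgSt.overMap β') iV ≪≫
        bWhiskerRightIso (overMapComp β' ιV) y⟩
    obtain ⟨ε⟩ := key jW hβ'
    have hWaff : IsAffine W.left := by
      change IsAffine (Spec (CommRingCat.of (Localization.Away r)))
      infer_instance
    exact qcPiece_diag_of_iso h𝒳 (BasedFunctor.comp (AlgSt.overMap jW) b) ε
      (hi W hWaff (BasedFunctor.comp (BasedFunctor.comp (AlgSt.overMap jW) b) (fpFst s s)))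
  · rw [dense_iff_inter_open] at hD
    push Not at hD
    obtain ⟨O, hO, hOne, hOD⟩ := hD
    obtain ⟨r, hr, hrange⟩ := exists_away_range_subset A O hO hOne
    refine ⟨r, hr, qcPiece_diag_of_forall_not_iso h𝒳 _ ?_⟩
    rintro L _ str h ⟨e⟩
    let j : Spec (CommRingCat.of (Localization.Away r)) ⟶ Spec (CommRingCat.of A) :=
      Spec.map (CommRingCat.ofHom (algebraMap A (Localization.Away r)))
    let W : Over S := Over.mk (j ≫ sA)
    let jW : W ⟶ U := Over.homMk j rfl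
    let pt : ↥(Spec (CommRingCat.of L)) := IsLocalRing.closedPoint L
    let t : ↥U.left := (h ≫ jW).left.base pt
    have ht : t ∈ O := hrange ⟨h.left.base pt, rfl⟩
    have hsub : Subsingleton ↥(Spec (CommRingCat.of L)) :=
      (inferInstance : Subsingleton (PrimeSpectrum L))
    have hrg : Set.range (h ≫ jW).left.base = {t} := by
      ext z
      constructor
      · rintro ⟨z', rfl⟩
        have hz : z' = pt := hsub.elim z' pt
        rw [hz]
        rfl
      · rintro rfl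
        exact ⟨pt, rfl⟩
    have e' : BasedFunctor.comp (AlgSt.overMap (h ≫ jW)) x ≅
        BasedFunctor.comp (AlgSt.overMap (h ≫ jW)) y :=
      (bWhiskerRightIso (overMapComp h jW) x).symm ≪≫ e ≪≫ bWhiskerRightIso (overMapComp h jW) y
    have hmem : t ∈ O ∩ D :=
      ⟨ht, L, inferInstance, (h ≫ jW).left, hrg, iso_homMk_of_iso (h ≫ jW) x y e'⟩
    rw [hOD] at hmem
    exact hmem

/-- **Quasi-compactness of the diagonal** from quasi-compact automorphism sheaves and generic isomorphisms,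
over a locally Noetherian base, for a stack locally of finite presentation. -/
theorem repByAlgSpWith_isQuasiCompactMor_diag [IsLocallyNoetherian S]
    (h𝒳 : AlgSt.IsAlgStack Scheme.fppfPrecoverage 𝒳)
    (hlfp : ∀ (U : Over S) (x : FibCat.overCat U ⥤ᵇ 𝒳),
      AlgSt.RepByAlgSpWith (AlgSp.LocP @Smooth) x → LocallyOfFinitePresentation U.hom)
    (hi : ∀ (U : Over S), IsAffine U.left → ∀ (x : FibCat.overCat U ⥤ᵇ 𝒳),
      ∃ (F : AlgSp.Space S) (e : AlgSt.ofSp F.obj ⥤ᵇ
          FibCat.fp (FibCat.fpLift x x (Iso.refl _)) (FibCat.diag (FibCat.toSelf 𝒳))),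
        FibCat.IsEquivOver e ∧
          AlgSp.IsQuasiCompactMor (AlgSt.spMapOfOver (BasedFunctor.comp e (FibCat.fpFst _ _))))
    (hii : ∀ (U : Over S), IsAffine U.left → IsIntegral U.left → ∀ (x y : FibCat.overCat U ⥤ᵇ 𝒳)
      (D : Set ↥U.left), Dense D →
      (∀ t ∈ D, ∃ (L : Type u) (_ : Field L) (g : Spec (CommRingCat.of L) ⟶ U.left),
        Set.range g.base = {t} ∧
        Nonempty (BasedFunctor.comp
            (AlgSt.overMap (Over.homMk g rfl : Over.mk (g ≫ U.hom) ⟶ U)) x ≅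
          BasedFunctor.comp (AlgSt.overMap (Over.homMk g rfl : Over.mk (g ≫ U.hom) ⟶ U)) y)) →
      ∃ V : U.left.Opens, Dense (V : Set ↥U.left) ∧
        Nonempty (BasedFunctor.comp
            (AlgSt.overMap (Over.homMk V.ι rfl : Over.mk (V.ι ≫ U.hom) ⟶ U)) x ≅
          BasedFunctor.comp (AlgSt.overMap (Over.homMk V.ι rfl : Over.mk (V.ι ≫ U.hom) ⟶ U)) y)) :
    AlgSt.RepByAlgSpWith AlgSp.IsQuasiCompactMor (FibCat.diag (FibCat.toSelf 𝒳)) := by
  have h𝒫 := isAlgStack_prod_self h𝒳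
  obtain ⟨W, w, hw1, hw2⟩ := h𝒳.atlas
  have hWlfp : LocallyOfFinitePresentation W.hom := hlfp W w hw1
  have hWlft : LocallyOfFiniteType W.hom := inferInstance
  obtain ⟨c, hc⟩ := exists_chart_prod h𝒳.isStack.1 W w
  have hc1 := hc _ stableBC_locP_smooth stableComp_locP_smooth isLocalOnBase_fppf_locP_smooth hw1
  have hc2 := hc _ stableBC_isSurjectiveMor stableComp_isSurjectiveMor
    isLocalOnBase_fppf_isSurjectiveMor hw2
  have hqc := isQuasiCompactMor_of_genQC h𝒫 h𝒳 (W ⨯ W) c hc1 hc2 (isLocallyNoetherian_prod_left W)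
    (diag (toSelf 𝒳)) (genQC_diag h𝒳 hi hii)
  exact Groth.Agent.Lib.Helper66.AlgStQC2.repByAlgSpWith_isQuasiCompactMor h𝒳.isStack.1 h𝒫.isStack.1
    (diag (toSelf 𝒳)) h𝒳.diag hqc

end Groth.Agent.Lib.Helper65.DiagQC
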