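import Groth.Prelude.Def_FibCat2
import Groth.Agent.Lib.Helper31.FibCat
import Groth.Agent.Lib.Helper65.BasedEquiv
import Groth.Agent.Lib.Helper65.FpMap
import Groth.Agent.Lib.Helper65.FpFib
import Groth.Agent.Lib.Helper65.GerbeBasic

/-!
# Helper65: the diagonal square of a fully faithful functor over the base is 2-cartesian
-/

set_option autoImplicit false
set_option backward.isDefEq.respectTransparency false
set_option backward.isDefEq.respectTransparency.types false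

universe v₄ u₄ v₃ u₃ v₂ u₂ v u

open CategoryTheory CategoryTheory.Functor CategoryTheory.Limits

namespace Groth.Agent.Lib.Helper65.DiagSq

open FibCat Groth.Agent.Lib.Helper31 Groth.Agent.Lib.Helper65

variable {C : Type u} [Category.{v} C]
variable {𝒳 : BasedCategory.{v₂, u₂} C} {𝒳' : BasedCategory.{v₃, u₃} C} {𝒴 : BasedCategory.{v₄, u₄} C}
variable (i : 𝒳 ⥤ᵇ 𝒳') (g : 𝒳' ⥤ᵇ 𝒴)

/-- `i × i` on the self fibre products -/
abbrev ii : fp (BasedFunctor.comp i g) (BasedFunctor.comp i g) ⥤ᵇ fp g g :=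
  fpLift (BasedFunctor.comp (fpFst (BasedFunctor.comp i g) (BasedFunctor.comp i g)) i)
    (BasedFunctor.comp (fpSnd (BasedFunctor.comp i g) (BasedFunctor.comp i g)) i)
    (fpIso (BasedFunctor.comp i g) (BasedFunctor.comp i g))

/-- the comparison functor -/
abbrev Φ : 𝒳 ⥤ᵇ fp (ii i g) (diag g) :=
  fpLift (F := ii i g) (G := diag g) (diag (BasedFunctor.comp i g)) i (Iso.refl _)

theorem Φ_map_fst_fst {x y : 𝒳.obj} (f : x ⟶ y) : ((Φ i g).map f).hom.fst.hom.fst = f := rfl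

theorem Φ_map_fst_snd {x y : 𝒳.obj} (f : x ⟶ y) : ((Φ i g).map f).hom.fst.hom.snd = f := rfl

theorem Φ_map_snd {x y : 𝒳.obj} (f : x ⟶ y) : ((Φ i g).map f).hom.snd = i.map f := rfl

instance Φ_faithful : (Φ i g).toFunctor.Faithful where
  map_injective := by
    intro x y f₁ f₂ h
    have := congrArg (fun m => m.hom.fst.hom.fst) h
    exact this

theorem Φ_obj_iso_hom (x : 𝒳.obj) : ((Φ i g).obj x).obj.iso.hom = 𝟙 _ := rfl

theorem diag_obj_iso_hom (x' : 𝒳'.obj) : ((diag g).obj x').obj.iso.hom = 𝟙 _ := rfl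

theorem ii_obj_iso_hom (w : (fp (BasedFunctor.comp i g) (BasedFunctor.comp i g)).obj) :
    ((ii i g).obj w).obj.iso.hom = w.obj.iso.hom := rfl

theorem ii_map_fst {w w' : (fp (BasedFunctor.comp i g) (BasedFunctor.comp i g)).obj} (m : w ⟶ w') :
    ((ii i g).map m).hom.fst = i.map m.hom.fst := rfl

theorem ii_map_snd {w w' : (fp (BasedFunctor.comp i g) (BasedFunctor.comp i g)).obj} (m : w ⟶ w') :
    ((ii i g).map m).hom.snd = i.map m.hom.snd := rfl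

theorem diag_map_fst {x' y' : 𝒳'.obj} (f : x' ⟶ y') : ((diag g).map f).hom.fst = f := rfl

theorem diag_map_snd {x' y' : 𝒳'.obj} (f : x' ⟶ y') : ((diag g).map f).hom.snd = f := rfl

theorem Φ_full [i.toFunctor.Faithful] : (Φ i g).toFunctor.Full where
  map_surjective := by
    intro x y m
    have hw := fp_hom_w m
    rw [Φ_obj_iso_hom, Φ_obj_iso_hom, Category.comp_id, Category.id_comp] at hw
    have h1 : i.map m.hom.fst.hom.fst = m.hom.snd := congrArg (fun t => t.hom.fst) hw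
    have h2 : i.map m.hom.fst.hom.snd = m.hom.snd := congrArg (fun t => t.hom.snd) hw
    have h3 : m.hom.fst.hom.fst = m.hom.fst.hom.snd := i.toFunctor.map_injective (h1.trans h2.symm)
    refine ⟨m.hom.fst.hom.fst, ?_⟩
    apply fp_hom_ext
    · apply fp_hom_ext
      · rfl
      · exact h3
    · exact h1

theorem aux [i.toFunctor.Full] {x₁ x₂ : 𝒳.obj} {x' : 𝒳'.obj} (α : g.obj (i.obj x₁) ⟶ g.obj (i.obj x₂))
    (β₁ : i.obj x₁ ⟶ x') (β₂ : i.obj x₂ ⟶ x') (β₂inv : x' ⟶ i.obj x₂) (h1 : β₂ ≫ β₂inv = 𝟙 _)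
    (h2 : β₂inv ≫ β₂ = 𝟙 _) (hw : g.map β₁ = α ≫ g.map β₂) :
    i.map (i.toFunctor.preimage (β₁ ≫ β₂inv)) ≫ β₂ = β₁ ∧
      g.map (i.map (i.toFunctor.preimage (β₁ ≫ β₂inv))) = α := by
  have hγ : i.map (i.toFunctor.preimage (β₁ ≫ β₂inv)) = β₁ ≫ β₂inv := i.toFunctor.map_preimage _
  refine ⟨?_, ?_⟩
  · rw [hγ, Category.assoc, h2, Category.comp_id]
  · rw [hγ]
    have e1 : g.map (β₁ ≫ β₂inv) = g.map β₁ ≫ g.map β₂inv := g.toFunctor.map_comp _ _
    have e2 : g.map β₂ ≫ g.map β₂inv = 𝟙 _ := by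
      have e3 : g.map (β₂ ≫ β₂inv) = g.map β₂ ≫ g.map β₂inv := g.toFunctor.map_comp _ _
      rw [← e3, h1]
      exact g.toFunctor.map_id _
    rw [e1, hw, Category.assoc, e2, Category.comp_id]

theorem Φ_essSurjOver [i.toFunctor.Full] [i.toFunctor.Faithful] (h𝒳 : IsFibGrpd 𝒳.p)
    (h𝒳' : IsFibGrpd 𝒳'.p) (h𝒴 : IsFibGrpd 𝒴.p) : EssSurjOver (Φ i g) := by
  have hfp1 : IsFibGrpd (fp (BasedFunctor.comp i g) (BasedFunctor.comp i g)).p := isFibGrpd_fp _ _ h𝒳 h𝒳 h𝒴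
  have hfp2 : IsFibGrpd (fp g g).p := isFibGrpd_fp _ _ h𝒳' h𝒳' h𝒴
  have hfp3 : IsFibGrpd (fp (ii i g) (diag g)).p := isFibGrpd_fp _ _ hfp1 h𝒳' hfp2
  intro z
  -- components of `z`
  have hβ1 : z.obj.iso.hom.hom.snd ≫ z.obj.iso.inv.hom.snd = 𝟙 _ :=
    congrArg (fun t => t.hom.snd) z.obj.iso.hom_inv_id
  have hβ2 : z.obj.iso.inv.hom.snd ≫ z.obj.iso.hom.hom.snd = 𝟙 _ :=
    congrArg (fun t => t.hom.snd) z.obj.iso.inv_hom_id
  have hw := fp_hom_w z.obj.iso.hom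
  rw [diag_obj_iso_hom, ii_obj_iso_hom] at hw
  have hw' : g.map z.obj.iso.hom.hom.fst = z.obj.fst.obj.iso.hom ≫ g.map z.obj.iso.hom.hom.snd :=
    (Category.comp_id _).symm.trans hw
  obtain ⟨hγ', hkey⟩ := aux i g (x₁ := z.obj.fst.obj.fst) (x₂ := z.obj.fst.obj.snd) (x' := z.obj.snd)
    z.obj.fst.obj.iso.hom z.obj.iso.hom.hom.fst z.obj.iso.hom.hom.snd z.obj.iso.inv.hom.snd hβ1 hβ2 hw'
  -- the first component
  have wa : (BasedFunctor.comp i g).map (𝟙 z.obj.fst.obj.fst) ≫ z.obj.fst.obj.iso.hom =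
      ((diag (BasedFunctor.comp i g)).obj z.obj.fst.obj.fst).obj.iso.hom ≫
        (BasedFunctor.comp i g).map (i.toFunctor.preimage (z.obj.iso.hom.hom.fst ≫ z.obj.iso.inv.hom.snd)) := by
    rw [diag_obj_iso_hom, Category.id_comp]
    refine Eq.trans ?_ hkey.symm
    have : (BasedFunctor.comp i g).map (𝟙 z.obj.fst.obj.fst) = 𝟙 _ :=
      (BasedFunctor.comp i g).toFunctor.map_id _
    rw [this, Category.id_comp]
  let a : ((Φ i g).obj z.obj.fst.obj.fst).obj.fst ⟶ z.obj.fst :=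
    fpHomMk (F := BasedFunctor.comp i g) (G := BasedFunctor.comp i g)
      (X := (diag (BasedFunctor.comp i g)).obj z.obj.fst.obj.fst) (Y := z.obj.fst)
      (𝟙 z.obj.fst.obj.fst)
      (i.toFunctor.preimage (z.obj.iso.hom.hom.fst ≫ z.obj.iso.inv.hom.snd)) wa
  have wm : (ii i g).map a ≫ z.obj.iso.hom =
      ((Φ i g).obj z.obj.fst.obj.fst).obj.iso.hom ≫ (diag g).map z.obj.iso.hom.hom.fst := by
    rw [Φ_obj_iso_hom, Category.id_comp]
    apply fp_hom_ext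
    · change i.map (𝟙 _) ≫ z.obj.iso.hom.hom.fst = z.obj.iso.hom.hom.fst
      rw [i.toFunctor.map_id, Category.id_comp]
    · exact hγ'
  let m : (Φ i g).obj z.obj.fst.obj.fst ⟶ z :=
    fpHomMk (F := ii i g) (G := diag g) a z.obj.iso.hom.hom.fst wm
  have hm : (fp (ii i g) (diag g)).p.IsHomLift (𝟙 ((fp (ii i g) (diag g)).p.obj z)) m := by
    rw [fp_isHomLift_iff, fp_isHomLift_iff]
    change 𝒳.p.IsHomLift (𝟙 (𝒳.p.obj z.obj.fst.obj.fst)) (𝟙 z.obj.fst.obj.fst)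
    infer_instance
  haveI := isIso_of_isHomLift_id hfp3 m hm
  exact ⟨z.obj.fst.obj.fst, asIso m, hm⟩

theorem isTwoCartOver_diag_sq [i.toFunctor.Full] [i.toFunctor.Faithful] (h𝒳 : IsFibGrpd 𝒳.p)
    (h𝒳' : IsFibGrpd 𝒳'.p) (h𝒴 : IsFibGrpd 𝒴.p) :
    IsTwoCartOver (F := ii i g) (G := diag g) (diag (BasedFunctor.comp i g)) i (Iso.refl _) := by
  haveI := Φ_full i g
  exact isEquivOver_of_ff_ess (Φ i g) (Φ_essSurjOver i g h𝒳 h𝒳' h𝒴)

end Groth.Agent.Lib.Helper65.DiagSq
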