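import Groth.Agent.Lib.Helper65.SubStBij

/-!
# Helper65: essential dimension, part A — sections of a representing space from descent data

For `F : 𝒳 ⟶ 𝒴`, `Y : (Sch/T) ⟶ 𝒴` and an equivalence `e : ofSp Z ≃ (Sch/T) ×_𝒴 𝒳`, an object `x` of `𝒳` over `W`
together with a morphism `F x ⟶ Y(𝟙)` over `c : W ⟶ T` gives a section of `Z` over `W`, and conversely sections of `Z`
give objects of `𝒳`, functorially.
-/

set_option autoImplicit false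
set_option backward.isDefEq.respectTransparency false
set_option backward.isDefEq.respectTransparency.types false

universe u

open CategoryTheory CategoryTheory.Functor CategoryTheory.Limits Opposite AlgebraicGeometry

namespace Groth.Agent.Lib.Helper65.EssDim

open FibCat Groth.Agent.Lib.Helper31 Groth.Agent.Lib.Helper65

variable {S : Scheme.{u}} {𝒳 𝒴 : AlgSt.Cat S}

/-- 2-Yoneda keeping track of the base: an object over `T` is, up to an isomorphism over `𝟙 T`, the value at the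
identity of a functor from the slice. -/
theorem exists_functor_of_obj_over (h𝒴 : IsFibGrpd 𝒴.p) (y : 𝒴.obj) (T : Over S) (hy : 𝒴.p.obj y = T) :
    ∃ (Y : FibCat.overCat T ⥤ᵇ 𝒴) (ε : y ⟶ Y.obj (Over.mk (𝟙 T))), 𝒴.p.IsHomLift (𝟙 T) ε := by
  subst hy
  have hE : (FibCat.evalAtId 𝒴 (𝒴.p.obj y)).IsEquivalence :=
    evalAtId_isEquivalence_of_isFibGrpd h𝒴 _
  let x : 𝒴.p.Fiber (𝒴.p.obj y) := ⟨y, rfl⟩
  have e := (FibCat.evalAtId 𝒴 (𝒴.p.obj y)).objObjPreimageIso x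
  exact ⟨(FibCat.evalAtId 𝒴 (𝒴.p.obj y)).objPreimage x, e.inv.1, e.inv.2⟩

/-- The object of `𝒳` attached to a section of the representing space. -/
noncomputable def objOfSec (F : 𝒳 ⥤ᵇ 𝒴) {T : Over S} (Y : FibCat.overCat T ⥤ᵇ 𝒴) {Z : AlgSp.Sp S}
    (e : AlgSt.ofSp Z ⥤ᵇ fp Y F) (W : Over S) (ζ : Z.obj.obj (op W)) : 𝒳.obj :=
  (fpSnd Y F).obj (e.obj ⟨W, ζ⟩)

theorem objOfSec_base (F : 𝒳 ⥤ᵇ 𝒴) {T : Over S} (Y : FibCat.overCat T ⥤ᵇ 𝒴) {Z : AlgSp.Sp S}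
    (e : AlgSt.ofSp Z ⥤ᵇ fp Y F) (W : Over S) (ζ : Z.obj.obj (op W)) :
    𝒳.p.obj (objOfSec F Y e W ζ) = W :=
  ((fpSnd Y F).w_obj _).trans (e.w_obj ⟨W, ζ⟩)

/-- Restriction of sections gives morphisms of the attached objects. -/
theorem exists_hom_objOfSec (F : 𝒳 ⥤ᵇ 𝒴) {T : Over S} (Y : FibCat.overCat T ⥤ᵇ 𝒴) {Z : AlgSp.Sp S}
    (e : AlgSt.ofSp Z ⥤ᵇ fp Y F) {W' W : Over S} (c : W' ⟶ W) (ζ : Z.obj.obj (op W)) :
    ∃ ψ : objOfSec F Y e W' (Z.obj.map c.op ζ) ⟶ objOfSec F Y e W ζ, 𝒳.p.IsHomLift c ψ := by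
  let m : (⟨W', Z.obj.map c.op ζ⟩ : (AlgSt.ofSp Z).obj) ⟶ ⟨W, ζ⟩ := ⟨c, rfl⟩
  have hm : (AlgSt.ofSp Z).p.IsHomLift c m := IsHomLift.map (AlgSt.ofSp Z).p m
  refine ⟨(fpSnd Y F).map (e.map m), ?_⟩
  have h1 : (fp Y F).p.IsHomLift c (e.map m) := BasedFunctor.preserves_isHomLift e c m
  exact BasedFunctor.preserves_isHomLift (fpSnd Y F) c (e.map m)

/-- Variant of `exists_hom_objOfSec` with a propositional equality of sections. -/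
theorem exists_hom_objOfSec' (F : 𝒳 ⥤ᵇ 𝒴) {T : Over S} (Y : FibCat.overCat T ⥤ᵇ 𝒴) {Z : AlgSp.Sp S}
    (e : AlgSt.ofSp Z ⥤ᵇ fp Y F) {W' W : Over S} (c : W' ⟶ W) (ζ : Z.obj.obj (op W))
    (ζ' : Z.obj.obj (op W')) (h : Z.obj.map c.op ζ = ζ') :
    ∃ ψ : objOfSec F Y e W' ζ' ⟶ objOfSec F Y e W ζ, 𝒳.p.IsHomLift c ψ := by
  subst h
  exact exists_hom_objOfSec F Y e c ζ

/-- Essential surjectivity of an equivalence from the category of a sheaf, keeping track of the base. -/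
theorem exists_sec_of_obj {𝒲 : AlgSt.Cat S} (Z : AlgSp.Sp S) (e : AlgSt.ofSp Z ⥤ᵇ 𝒲) (he : IsEquivOver e)
    (b : 𝒲.obj) (W : Over S) (hb : 𝒲.p.obj b = W) :
    ∃ (ζ : Z.obj.obj (op W)) (θ : b ⟶ e.obj ⟨W, ζ⟩), 𝒲.p.IsHomLift (𝟙 W) θ := by
  subst hb
  obtain ⟨G, ⟨η₁⟩, ⟨η₂⟩⟩ := he
  have key : ∀ (a : (AlgSt.ofSp Z).obj) (_ : G.obj b = a),
      ∃ θ : b ⟶ e.obj a, 𝒲.p.IsHomLift (𝟙 (𝒲.p.obj b)) θ := by
    rintro a rfl
    exact ⟨η₂.inv.toNatTrans.app b, η₂.inv.isHomLift' b⟩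
  obtain ⟨a, ha⟩ : ∃ a : (AlgSt.ofSp Z).obj, G.obj b = a := ⟨_, rfl⟩
  have haW : a.base = 𝒲.p.obj b := by rw [← ha]; exact G.w_obj b
  obtain ⟨W', ζ⟩ := a
  change W' = _ at haW
  subst haW
  obtain ⟨θ, hθ⟩ := key _ ha
  exact ⟨ζ, θ, hθ⟩

/-- A descent datum gives a section of the representing space. -/
theorem exists_sec_of_hom (h𝒴 : IsFibGrpd 𝒴.p) (F : 𝒳 ⥤ᵇ 𝒴) {T : Over S}
    (Y : FibCat.overCat T ⥤ᵇ 𝒴) (Z : AlgSp.Sp S) (e : AlgSt.ofSp Z ⥤ᵇ fp Y F) (he : IsEquivOver e)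
    {W : Over S} (x : 𝒳.obj) (hx : 𝒳.p.obj x = W) (c : W ⟶ T)
    (φ : F.obj x ⟶ Y.obj (Over.mk (𝟙 T))) (hφ : 𝒴.p.IsHomLift c φ) :
    ∃ ζ : Z.obj.obj (op W),
      (AlgSt.spMapOfOver (BasedFunctor.comp e (fpFst Y F))).hom.app (op W) ζ = ⟨c⟩ ∧
      ∃ ψ : x ⟶ objOfSec F Y e W ζ, 𝒳.p.IsHomLift (𝟙 W) ψ := by
  subst hx
  let a₁ : Over T := Over.mk c
  let m₀ : a₁ ⟶ Over.mk (𝟙 T) := Over.homMk c (Category.comp_id c)
  have hm₀ : (FibCat.overCat T).p.IsHomLift c m₀ := IsHomLift.map (FibCat.overCat T).p m₀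
  have hm : 𝒴.p.IsHomLift c (Y.map m₀) := BasedFunctor.preserves_isHomLift Y c m₀
  have hcart : 𝒴.p.IsStronglyCartesian c φ := isStronglyCartesian_of_isFibGrpd 𝒴.p h𝒴 c φ
  let ι : Y.obj a₁ ⟶ F.obj x :=
    IsStronglyCartesian.map 𝒴.p c φ (Category.id_comp c).symm (Y.map m₀)
  have hι : 𝒴.p.IsHomLift (𝟙 (𝒳.p.obj x)) ι := inferInstance
  have hιiso : IsIso ι := by
    have : IsIso (𝒴.p.map ι) := by
      rw [IsHomLift.fac' 𝒴.p (𝟙 (𝒳.p.obj x)) ι]; infer_instance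
    exact isIso_of_isFibGrpd 𝒴.p h𝒴 ι
  let b : (fp Y F).obj := ⟨{ fst := a₁, snd := x, iso := asIso ι }, hι⟩
  obtain ⟨ζ, θ, hθ⟩ := exists_sec_of_obj Z e he b (𝒳.p.obj x) rfl
  refine ⟨ζ, ?_, (fpSnd Y F).map θ, BasedFunctor.preserves_isHomLift (fpSnd Y F) _ θ⟩
  rw [AlgSt.spMapOfOver_app]
  congr 1
  have h1 : (FibCat.overCat T).p.IsHomLift (𝟙 (𝒳.p.obj x)) ((fpFst Y F).map θ) :=
    BasedFunctor.preserves_isHomLift (fpFst Y F) _ θ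
  have h2 : ((fpFst Y F).map θ).left = eqToHom rfl ≫ 𝟙 _ ≫ eqToHom
      (IsHomLift.codomain_eq (FibCat.overCat T).p (𝟙 (𝒳.p.obj x)) ((fpFst Y F).map θ)).symm :=
    IsHomLift.fac' (FibCat.overCat T).p (𝟙 (𝒳.p.obj x)) ((fpFst Y F).map θ)
  have h3 : ((fpFst Y F).map θ).left ≫ ((fpFst Y F).obj (e.obj ⟨𝒳.p.obj x, ζ⟩)).hom = c :=
    Over.w ((fpFst Y F).map θ)
  rw [← h3, h2]
  simp only [AlgSt.secHom, eqToHom_refl, Category.id_comp]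
  rfl

end Groth.Agent.Lib.Helper65.EssDim
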