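import Groth.Agent.Lib.Helper55.ChevalleyBound
import Groth.Agent.Lib.Helper54.FlatPoint

/-!
# Helper65: essential dimension, part B — transcendence degree of residue fields and fibre dimension

For `h : U ⟶ V` locally of finite type with `V` étale over a field `K` and `u : U` with local fibre dimension
`≤ d`, the residue field `κ(u)` has transcendence degree `≤ d` over `K`.
-/

set_option autoImplicit false

universe u

open CategoryTheory CategoryTheory.Limits AlgebraicGeometry

namespace Groth.Agent.Lib.Helper65.EssDim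

open Groth.Agent.Lib.Helper55

/-- Transcendence degree does not decrease when the base ring is replaced by a quotient through which it acts. -/
theorem trdeg_le_of_surjective_base {R R' A : Type*} [CommRing R] [CommRing R'] [CommRing A]
    (a₁ : Algebra R A) (a₂ : Algebra R' A) (ψ : R →+* R') (hψ : Function.Surjective ψ)
    (hcomp : (@algebraMap R' A _ _ a₂).comp ψ = @algebraMap R A _ _ a₁) :
    @Algebra.trdeg R A _ _ a₁ ≤ @Algebra.trdeg R' A _ _ a₂ := by
  unfold Algebra.trdeg
  refine ciSup_le' fun i => ?_
  have hi : @AlgebraicIndepOn _ R' A _root_.id _ _ a₂ i.1 :=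
    @AlgebraicIndependent.ringHom_of_comp_eq i.1 R A (fun j : i.1 => (j : A)) _ _ a₁ R' A (R →+* R') (A →+* A)
      _ _ a₂ _ _ _ _ ψ (RingHom.id A) i.2 hψ Function.injective_id (hcomp.trans (RingHom.id_comp _).symm)
  exact le_ciSup_of_le Cardinal.bddAbove_of_small ⟨i.1, hi⟩ le_rfl

/-- The canonical ring map from a field `K` to the residue field of `Spec K` at a point. -/
noncomputable def toResidueSpec (K : Type u) [Field K] (y : Spec (CommRingCat.of K)) :
    K →+* (Spec (CommRingCat.of K)).residueField y :=
  (CommRingCat.ofHom (algebraMap K y.asIdeal.ResidueField) ≫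
    (Scheme.Spec.residueFieldIso (CommRingCat.of K) y).inv).hom

theorem SpecMap_toResidueSpec (K : Type u) [Field K] (y : Spec (CommRingCat.of K)) :
    Spec.map (CommRingCat.ofHom (toResidueSpec K y)) =
      (Spec (CommRingCat.of K)).fromSpecResidueField y := by
  rw [← Scheme.Spec.map_residueFieldIso_inv_eq_fromSpecResidueField, ← Spec.map_comp]
  rfl

theorem toResidueSpec_surjective (K : Type u) [Field K] (y : Spec (CommRingCat.of K)) :
    Function.Surjective (toResidueSpec K y) := by
  have hmax : y.asIdeal.IsMaximal := by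
    have : y.asIdeal = ⊥ := Ideal.eq_bot_of_prime y.asIdeal
    rw [this]
    exact Ideal.bot_isMaximal
  have h1 : Function.Surjective (algebraMap K y.asIdeal.ResidueField) :=
    Ideal.algebraMap_residueField_surjective y.asIdeal
  have h2 : Function.Surjective (Scheme.Spec.residueFieldIso (CommRingCat.of K) y).inv.hom :=
    (ConcreteCategory.bijective_of_isIso (Scheme.Spec.residueFieldIso (CommRingCat.of K) y).inv).2
  exact h2.comp h1

/-- If `h : U ⟶ V` is locally of finite type, `V` is étale over the field `K` and the local fibre dimension of `h` at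
`u` is at most `d`, then `κ(u)` has transcendence degree at most `d` over `K`. -/
theorem trdeg_residueField_le_of_fibreDimAt_le {K : Type u} [Field K] {U V : Scheme.{u}}
    (h : U ⟶ V) [LocallyOfFiniteType h] (b : V ⟶ Spec (CommRingCat.of K)) [Etale b] (u : U) (d : ℕ)
    (hd : FlatMor.fibreDimAt h u ≤ (d : WithBot ℕ∞))
    (φ : K →+* U.residueField u)
    (hφ : U.fromSpecResidueField u ≫ h ≫ b = Spec.map (CommRingCat.ofHom φ)) :
    @Algebra.trdeg K (U.residueField u) _ _ φ.toAlgebra ≤ (d : Cardinal) := by
  have hbq : LocallyQuasiFinite b := Groth.Agent.Lib.Helper54.locallyQuasiFinite_of_etale b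
  obtain ⟨n, hn, -⟩ := fibreDimAt_eq_stalk_add_trdeg (h ≫ b) u
  have h1 := trdeg_le_fibreDimAt (h ≫ b) u n hn
  have h2 := (fibreDimAt_comp_le h b u).1
  have h3 := fibreDimAt_le_zero_of_quasiFiniteAt b (h u) (b.quasiFiniteAt _)
  have h4 : (n : WithBot ℕ∞) ≤ (d : WithBot ℕ∞) := by
    calc (n : WithBot ℕ∞) ≤ FlatMor.fibreDimAt (h ≫ b) u := h1
      _ ≤ FlatMor.fibreDimAt h u + FlatMor.fibreDimAt b (h u) := h2
      _ ≤ (d : WithBot ℕ∞) + 0 := add_le_add hd h3
      _ = d := add_zero _
  have h5 : n ≤ d := by exact_mod_cast h4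
  have hcomp : ((h ≫ b).residueFieldMap u).hom.comp (toResidueSpec K ((h ≫ b) u)) = φ := by
    have e1 := Scheme.Hom.SpecMap_residueFieldMap_fromSpecResidueField (h ≫ b) u
    rw [← SpecMap_toResidueSpec, hφ, ← Spec.map_comp] at e1
    have e2 := Spec.map_injective e1
    exact congrArg (fun t => t.hom) e2
  have h6 := trdeg_le_of_surjective_base φ.toAlgebra ((h ≫ b).residueFieldMap u).hom.toAlgebra
    (toResidueSpec K ((h ≫ b) u)) (toResidueSpec_surjective K _) hcomp
  refine h6.trans ?_
  rw [hn]
  exact_mod_cast h5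

end Groth.Agent.Lib.Helper65.EssDim
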