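import Groth.Agent.Lib.Helper65.EssDimB
import Groth.Agent.Lib.Helper54.MonoPoint
import Groth.Agent.H53.QSDecentMor
import Groth.Prelude.Def_StCurv2

/-!
# Helper65: essential dimension, part C — residue fields of points of a quasi-separated algebraic space of
relative dimension `≤ d` over a field
-/

set_option autoImplicit false
set_option backward.isDefEq.respectTransparency false

universe u

open CategoryTheory CategoryTheory.Limits AlgebraicGeometry Opposite

namespace Groth.Agent.Lib.Helper65.EssDim

open AlgSp Groth.Agent.Lib.Helper54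

variable {S : Scheme.{u}}

/-- Let `Z` be an algebraic space with a morphism `g` to `Spec K`, `K` a field, which is quasi-separated, locally of
finite type and of relative dimension `≤ d`.  Every field-valued point `q` of `Z` factors through a field-valued
point `p` (a "residue field" of `Z`) whose field has transcendence degree `≤ d` over `K`. -/
theorem exists_residue_point (K : Type u) [Field K] (t : Spec (CommRingCat.of K) ⟶ S) {Z : AlgSp.Sp S}
    (hZ : AlgSp.IsAlgSpace Z) (g : Z ⟶ (AlgSp.yon S).obj (Over.mk t)) (d : ℕ)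
    (hlft : AlgSp.LocP @LocallyOfFiniteType g) (hqs : AlgSp.IsQuasiSeparatedMor g)
    (hdim : CurvSt.RelDimLE d g) (q : AlgSp.FieldPt Z) :
    ∃ (p : AlgSp.FieldPt Z) (j : q.pt ⟶ p.pt) (ι : p.pt ⟶ Over.mk t),
      (AlgSp.yon S).map j ≫ p.toHom = q.toHom ∧ p.toHom ≫ g = (AlgSp.yon S).map ι ∧
      @Algebra.trdeg K p.K _ _ (Spec.preimage ι.left).hom.toAlgebra ≤ (d : Cardinal) := by
  have haff : IsAffine (Over.mk t).left := inferInstanceAs (IsAffine (Spec (CommRingCat.of K)))
  have hqsZ : AlgSp.IsQuasiSeparatedSp Z :=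
    Groth.Agent.H52.isQuasiSeparatedSp_of_isQuasiSeparatedMor g hqs
      (Groth.Agent.H53.FieldQuot.isQuasiSeparatedSp_yon_of_isAffine (Over.mk t))
  have hdec : AlgSp.IsDecent Z := Groth.Agent.H53.FieldQuot.isDecent_of_isQuasiSeparatedSp hZ hqsZ
  obtain ⟨p, hp, hm, hqc⟩ := hdec (AlgSp.Points.mk q)
  obtain ⟨j, hj⟩ := exists_factor_of_mono_point p q hm hqc.rep hp.symm
  obtain ⟨ι, hι⟩ := (AlgSp.yon S).map_surjective (p.toHom ≫ g)
  refine ⟨p, j, ι, hj, hι.symm, ?_⟩
  obtain ⟨U, V, a, b, h, u, ha, hb, hsq, hu, hdimu⟩ := hdim (AlgSp.Points.mk p)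
  have hlfth : LocallyOfFiniteType h.left := hlft a b h ha hb hsq
  obtain ⟨b', rfl⟩ := (AlgSp.yon S).map_surjective b
  have hb' : Etale b'.left := (AlgSp.repWith_yon_map_iff @Etale b').1 hb
  obtain ⟨ju, hju⟩ := exists_factor_of_mono_point p (AlgSp.FieldPt.ofPt a u) hm hqc.rep hu
  have key : ju ≫ ι = residueHom U u ≫ h ≫ b' := by
    apply (AlgSp.yon S).map_injective
    rw [Functor.map_comp, hι, ← Category.assoc, hju, toHom_ofPt', Category.assoc, hsq,
      Functor.map_comp, Functor.map_comp]
  have keyL : ju.left ≫ ι.left = U.left.fromSpecResidueField u ≫ h.left ≫ b'.left :=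
    congrArg (fun m => m.left) key
  let φι : K →+* p.K := (Spec.preimage ι.left).hom
  let φj : p.K →+* U.left.residueField u := (Spec.preimage ju.left).hom
  have hφ : U.left.fromSpecResidueField u ≫ h.left ≫ b'.left =
      Spec.map (CommRingCat.ofHom (φj.comp φι)) := by
    rw [← keyL, CommRingCat.ofHom_comp, Spec.map_comp]
    congr 1
    · exact (Spec.map_preimage ju.left).symm
    · exact (Spec.map_preimage ι.left).symm
  have h1 := trdeg_residueField_le_of_fibreDimAt_le h.left b'.left u d hdimu (φj.comp φι) hφ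
  let _ : Algebra K p.K := φι.toAlgebra
  let _ : Algebra K (U.left.residueField u) := (φj.comp φι).toAlgebra
  let f : p.K →ₐ[K] U.left.residueField u := { φj with commutes' := fun r => rfl }
  exact (trdeg_le_of_injective f φj.injective).trans h1

end Groth.Agent.Lib.Helper65.EssDim
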