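import Groth.Agent.Lib.Helper65.EssDimA
import Groth.Agent.Lib.Helper65.EssDimC
import Groth.Prelude.Def_EssDim

/-!
# Helper65: essential dimension, part D — `ed(x) ≤ ed(F x) + d` for a representable quasi-separated morphism
locally of finite type of fibre dimension `≤ d`
-/

set_option autoImplicit false
set_option backward.isDefEq.respectTransparency false
set_option backward.isDefEq.respectTransparency.types false

universe u

open CategoryTheory CategoryTheory.Functor CategoryTheory.Limits Opposite AlgebraicGeometry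

namespace Groth.Agent.Lib.Helper65.EssDim

open FibCat Groth.Agent.Lib.Helper31 Groth.Agent.Lib.Helper65

section FieldTheory

open Cardinal

/-- Transcendence degree bound for an intermediate field which is the image of a field of small transcendence
degree over a smaller intermediate field. -/
theorem toENat_trdeg_le_add {k L : Type u} [Field k] [Field L] [Algebra k L] (K M : IntermediateField k L)
    (hKM : K ≤ M) (P : Type u) [Field P] (φι : K →+* P) (ψ : P →+* L)
    (hM : ∀ a : L, a ∈ M ↔ a ∈ Set.range ψ) (hcomp : ∀ a : K, ψ (φι a) = a) (d : ℕ)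
    (htr : @Algebra.trdeg K P _ _ φι.toAlgebra ≤ (d : Cardinal)) :
    Cardinal.toENat (Algebra.trdeg k M) ≤ Cardinal.toENat (Algebra.trdeg k K) + d := by
  let _ : Algebra K M := (IntermediateField.inclusion hKM).toRingHom.toAlgebra
  have htower : IsScalarTower k K M := IsScalarTower.of_algebraMap_eq (fun r => rfl)
  have hadd := trdeg_add_eq k K (A := M)
  let _ : Algebra K P := φι.toAlgebra
  let ψM : P →+* M := ψ.codRestrict M (fun b => (hM (ψ b)).2 ⟨b, rfl⟩)
  let f : P →ₐ[K] M := { ψM with commutes' := fun a => Subtype.ext (hcomp a) }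
  have hsurj : Function.Surjective f := fun m => by
    obtain ⟨b, hb⟩ := (hM m.1).1 m.2
    exact ⟨b, Subtype.ext hb⟩
  have h1 : Algebra.trdeg K M ≤ Algebra.trdeg K P := trdeg_le_of_surjective f hsurj
  have h2 : Cardinal.toENat (Algebra.trdeg K M) ≤ (d : ℕ∞) := by
    have := Cardinal.toENat.monotone' (h1.trans htr)
    simpa using this
  calc Cardinal.toENat (Algebra.trdeg k M)
      = Cardinal.toENat (Algebra.trdeg k K + Algebra.trdeg K M) := by rw [hadd]
    _ = Cardinal.toENat (Algebra.trdeg k K) + Cardinal.toENat (Algebra.trdeg K M) := map_add _ _ _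
    _ ≤ Cardinal.toENat (Algebra.trdeg k K) + d := add_le_add le_rfl h2

end FieldTheory

section Main

variable {k : Type u} [Field k]

/-- A lift of a morphism to an object with prescribed base. -/
theorem exists_lift_of_base_eq {S : Scheme.{u}} {𝒳 : AlgSt.Cat S} (h𝒳 : IsFibGrpd 𝒳.p) (a : 𝒳.obj)
    (W : Over S) (ha : 𝒳.p.obj a = W) {V : Over S} (f : V ⟶ W) :
    ∃ (b : 𝒳.obj) (χ : b ⟶ a), 𝒳.p.IsHomLift f χ := by
  subst ha
  exact h𝒳.exists_lift f

/-- Key step: descent of `F x` to `K` gives descent of `x` to an intermediate field `M ⊇ K` of transcendence degree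
at most `d` over `K`. -/
theorem exists_descends_of_descends_image
    (𝒳 𝒴 : AlgSt.Cat (Spec (CommRingCat.of k)))
    [h𝒳 : FibCat.IsFibGrpd 𝒳.p] [h𝒴 : FibCat.IsFibGrpd 𝒴.p]
    (F : 𝒳 ⥤ᵇ 𝒴) (d : ℕ)
    (hF : AlgSt.RepByAlgSpWith
      (AlgSp.LocP @LocallyOfFiniteType ⊓ AlgSp.IsQuasiSeparatedMor ⊓ fun _ _ g => CurvSt.RelDimLE d g) F)
    (L : Type u) [Field L] [Algebra k L] (x : StkCnt.pts 𝒳 L) (K : IntermediateField k L)
    (hK : EssDim.Descends (Gerb.isoClPsh 𝒴)
      (Quot.mk (Gerb.IsoRel 𝒴 (SGA7.pt (K := k) L)) ⟨F.obj x.1, (F.w_obj x.1).trans x.2⟩) K) :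
    ∃ M : IntermediateField k L,
      EssDim.Descends (Gerb.isoClPsh 𝒳) (Quot.mk (Gerb.IsoRel 𝒳 (SGA7.pt (K := k) L)) x) M ∧
      Cardinal.toENat (Algebra.trdeg k M) ≤ Cardinal.toENat (Algebra.trdeg k K) + d := by
  obtain ⟨y₀, φ, hφ⟩ := (EssDim.descends_isoCl_iff 𝒴 ⟨F.obj x.1, (F.w_obj x.1).trans x.2⟩ K).1 hK
  change F.obj x.1 ⟶ y₀.1 at φ
  obtain ⟨Y, ε, hε⟩ := exists_functor_of_obj_over h𝒴 y₀.1 (SGA7.pt (K := k) K) y₀.2
  have hφε : 𝒴.p.IsHomLift (EssDim.resPt K.val) (φ ≫ ε) := by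
    have := IsHomLift.comp (p := 𝒴.p) (EssDim.resPt K.val) (𝟙 (SGA7.pt (K := k) K)) φ ε
    rwa [Category.comp_id] at this
  obtain ⟨Z, e, he, ⟨⟨hlft, hqs⟩, hdim⟩⟩ := hF (SGA7.pt (K := k) K) Y
  obtain ⟨ζ, hgζ, ψ, hψ⟩ := exists_sec_of_hom h𝒴 F Y Z.obj e he x.1 x.2 (EssDim.resPt K.val) (φ ≫ ε) hφε
  let q : AlgSp.FieldPt Z.obj := ⟨L, (SGA7.pt (K := k) L).hom, ζ⟩
  obtain ⟨p, j, ι, hj, hι, htr⟩ := exists_residue_point K (SGA7.pt (K := k) K).hom Z.property
    (AlgSt.spMapOfOver (BasedFunctor.comp e (fpFst Y F))) d hlft hqs hdim q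
  have hζ : Z.obj.obj.map j.op p.val = ζ := by
    have h1 := congrArg (AlgSp.J _).uliftYonedaEquiv hj
    rw [Groth.Agent.Lib.Helper54.uliftYonedaEquiv_map_comp_toHom,
      AlgSp.FieldPt.uliftYonedaEquiv_toHom] at h1
    exact h1
  have hjι : j ≫ ι = EssDim.resPt K.val := by
    have h1 : (AlgSp.yon _).map (j ≫ ι) =
        q.toHom ≫ AlgSt.spMapOfOver (BasedFunctor.comp e (fpFst Y F)) := by
      rw [Functor.map_comp, ← hι, ← Category.assoc, hj]
    have h2 := congrArg (AlgSp.J _).uliftYonedaEquiv h1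
    rw [GrothendieckTopology.uliftYonedaEquiv_uliftYoneda_map,
      GrothendieckTopology.uliftYonedaEquiv_comp, AlgSp.FieldPt.uliftYonedaEquiv_toHom] at h2
    exact congrArg ULift.down (h2.trans hgζ)
  -- ring homomorphisms
  let ψj : p.K →+* L := (Spec.preimage j.left).hom
  let φι : K →+* p.K := (Spec.preimage ι.left).hom
  have hψj : Spec.map (CommRingCat.ofHom ψj) = j.left := Spec.map_preimage j.left
  have hφι : Spec.map (CommRingCat.ofHom φι) = ι.left := Spec.map_preimage ι.left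
  have hcomp' : ψj.comp φι = (K.val : K →+* L) := by
    have h1 : Spec.map (CommRingCat.ofHom (ψj.comp φι)) =
        Spec.map (CommRingCat.ofHom (K.val : K →+* L)) := by
      rw [CommRingCat.ofHom_comp, Spec.map_comp, hψj, hφι]
      exact congrArg (fun m => m.left) hjι
    exact congrArg (fun t => t.hom) (Spec.map_injective h1)
  have hcomp : ∀ a : K, ψj (φι a) = a := fun a => congr($hcomp' a)
  have hkmem : ∀ r : k, algebraMap k L r ∈ ψj.fieldRange := fun r =>
    ⟨φι (algebraMap k K r), (hcomp _).trans rfl⟩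
  let M : IntermediateField k L := ψj.fieldRange.toIntermediateField hkmem
  have hMmem : ∀ a : L, a ∈ M ↔ a ∈ Set.range ψj := fun a => Iff.rfl
  have hKM : K ≤ M := fun a ha => ⟨φι ⟨a, ha⟩, hcomp ⟨a, ha⟩⟩
  refine ⟨M, ?_, toENat_trdeg_le_add K M hKM p.K φι ψj hMmem hcomp d htr⟩
  rw [EssDim.descends_isoCl_iff]
  let ψM : p.K →+* M := ψj.codRestrict M (fun b => ⟨b, rfl⟩)
  let κ : k →+* p.K := (Spec.preimage p.str).hom
  have hκ : Spec.map (CommRingCat.ofHom κ) = p.str := Spec.map_preimage p.str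
  have hjw : j.left ≫ p.str = Spec.map (CommRingCat.ofHom (algebraMap k L)) := Over.w j
  have hκL : ψj.comp κ = algebraMap k L := by
    have h1 : Spec.map (CommRingCat.ofHom (ψj.comp κ)) =
        Spec.map (CommRingCat.ofHom (algebraMap k L)) := by
      rw [CommRingCat.ofHom_comp, Spec.map_comp, hκ, hψj, hjw]
    exact congrArg (fun t => t.hom) (Spec.map_injective h1)
  have hκM : ψM.comp κ = algebraMap k M := by
    ext r
    exact congr($hκL r)
  let jM : SGA7.pt (K := k) M ⟶ p.pt := Over.homMk (Spec.map (CommRingCat.ofHom ψM)) (by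
    change Spec.map _ ≫ p.str = Spec.map _
    rw [← hκ, ← Spec.map_comp, ← CommRingCat.ofHom_comp, hκM])
  have hjM : EssDim.resPt M.val ≫ jM = j := by
    apply Over.OverMorphism.ext
    change Spec.map (CommRingCat.ofHom (M.val : M →+* L)) ≫ Spec.map (CommRingCat.ofHom ψM) = j.left
    rw [← Spec.map_comp, ← CommRingCat.ofHom_comp]
    exact hψj
  obtain ⟨ψ₂, hψ₂⟩ := exists_hom_objOfSec' F Y e j p.val ζ hζ
  obtain ⟨x₀, χ, hχ⟩ := exists_lift_of_base_eq h𝒳 (objOfSec F Y e p.pt p.val) p.pt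
    (objOfSec_base F Y e p.pt p.val) jM
  have hx₀ : 𝒳.p.obj x₀ = SGA7.pt (K := k) M := IsHomLift.domain_eq 𝒳.p jM χ
  have hcart : 𝒳.p.IsStronglyCartesian jM χ := isStronglyCartesian_of_isFibGrpd 𝒳.p h𝒳 jM χ
  have hψψ₂ : 𝒳.p.IsHomLift (EssDim.resPt M.val ≫ jM) (ψ ≫ ψ₂) := by
    rw [hjM]
    have := IsHomLift.comp (p := 𝒳.p) (𝟙 (SGA7.pt (K := k) L)) j ψ ψ₂
    rwa [Category.id_comp] at this
  have hfac : EssDim.resPt M.val ≫ jM = EssDim.resPt M.val ≫ jM := rfl
  exact ⟨⟨x₀, hx₀⟩, IsStronglyCartesian.map 𝒳.p jM χ hfac (ψ ≫ ψ₂),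
    IsStronglyCartesian.map_isHomLift 𝒳.p jM χ hfac (ψ ≫ ψ₂)⟩

end Main

end Groth.Agent.Lib.Helper65.EssDim
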