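import Mathlib.CategoryTheory.FiberedCategory.Fibered
import Mathlib.CategoryTheory.FiberedCategory.Fiber
import Mathlib.CategoryTheory.IsConnected
import Mathlib.CategoryTheory.Comma.StructuredArrow.Basic

/-!
# Helper65: for a prefibred functor `f : C ⥤ D`, the comma category `(Y/f)` inherits connectedness and
simple connectedness from the fibre `f⁻¹(Y)`.
-/

set_option autoImplicit false

open CategoryTheory CategoryTheory.Functor

namespace Groth.Agent.Lib.Helper65.FibComma

universe v₁ v₂ v₃ u₁ u₂ u₃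

variable {C : Type u₁} [Category.{v₁} C] {D : Type u₂} [Category.{v₂} D] (f : C ⥤ D) (Y : D)

/-- the inclusion of the fibre into the comma category -/
def incl : f.Fiber Y ⥤ StructuredArrow Y f where
  obj c := StructuredArrow.mk (eqToHom c.2.symm : Y ⟶ f.obj c.1)
  map {c c'} φ := StructuredArrow.homMk φ.1 (by
    have := φ.2
    have h := IsHomLift.fac' f (𝟙 Y) φ.1
    change eqToHom c.2.symm ≫ f.map φ.1 = eqToHom c'.2.symm
    rw [h]
    simp)
  map_id c := by
    apply StructuredArrow.hom_ext
    rfl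
  map_comp φ ψ := by
    apply StructuredArrow.hom_ext
    rfl

@[simp] theorem incl_obj_right (c : f.Fiber Y) : ((incl f Y).obj c).right = c.1 := rfl

@[simp] theorem incl_map_right {c c' : f.Fiber Y} (φ : c ⟶ c') : ((incl f Y).map φ).right = φ.1 := rfl

variable [f.IsPreFibered]

/-- every object of the comma category receives a cartesian arrow from an object of the fibre -/
theorem exists_cart (X : StructuredArrow Y f) :
    ∃ (c : f.Fiber Y) (k : (incl f Y).obj c ⟶ X),
      f.IsCartesian (X.hom : Y ⟶ f.obj X.right) k.right := by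
  obtain ⟨b, φ, hφ⟩ := IsPreFibered.exists_isCartesian' (p := f) (a := X.right) X.hom
  have hb : f.obj b = Y := IsHomLift.domain_eq f X.hom φ
  refine ⟨⟨b, hb⟩, StructuredArrow.homMk φ ?_, hφ⟩
  have h := IsHomLift.fac' f X.hom φ
  change eqToHom hb.symm ≫ f.map φ = X.hom
  rw [h]
  simp

theorem isConnected_structuredArrow [IsConnected (f.Fiber Y)] : IsConnected (StructuredArrow Y f) := by
  have : Nonempty (StructuredArrow Y f) := ⟨(incl f Y).obj (Classical.arbitrary _)⟩
  apply IsConnected.of_constant_of_preserves_morphisms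
  intro α F hF X X'
  have h1 : ∀ X : StructuredArrow Y f, ∃ c : f.Fiber Y, F X = F ((incl f Y).obj c) := by
    intro X
    obtain ⟨c, k, -⟩ := exists_cart f Y X
    exact ⟨c, (hF k).symm⟩
  obtain ⟨c, hc⟩ := h1 X
  obtain ⟨c', hc'⟩ := h1 X'
  rw [hc, hc']
  exact constant_of_preserves_morphisms (fun c => F ((incl f Y).obj c))
    (fun c₁ c₂ φ => hF ((incl f Y).map φ)) c c'

/-- simple connectedness passes from the fibre to the comma category -/
theorem exists_const_iso {E : Type u₃} [Category.{v₃} E] (hE : ∀ {x y : E} (m : x ⟶ y), IsIso m)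
    (T : StructuredArrow Y f ⥤ E)
    (h : ∃ g : E, Nonempty (incl f Y ⋙ T ≅ (Functor.const _).obj g)) :
    ∃ g : E, Nonempty (T ≅ (Functor.const _).obj g) := by
  obtain ⟨g, ⟨e⟩⟩ := h
  choose c k hk using exists_cart f Y
  have hiso : ∀ {x y : E} (m : x ⟶ y), IsIso m := hE
  -- the components
  let θ : ∀ X : StructuredArrow Y f, T.obj X ⟶ g := fun X =>
    @CategoryTheory.inv _ _ _ _ (T.map (k X)) (hE _) ≫ e.hom.app (c X)
  have hθ : ∀ X, T.map (k X) ≫ θ X = e.hom.app (c X) := by
    intro X
    have := hE (T.map (k X))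
    simp [θ]
  have hnat : ∀ {X X' : StructuredArrow Y f} (m : X ⟶ X'), T.map m ≫ θ X' = θ X := by
    intro X X' m
    have i1 := hk X'
    have i2 := hk X
    have i3 : f.IsHomLift (X'.hom : Y ⟶ f.obj X'.right) ((k X).right ≫ m.right) := by
      have h0 : f.IsHomLift ((X.hom : Y ⟶ f.obj X.right) ≫ f.map m.right)
          ((k X).right ≫ m.right) := inferInstance
      have hw : (X.hom : Y ⟶ f.obj X.right) ≫ f.map m.right = X'.hom := StructuredArrow.w m
      rw [hw] at h0
      exact h0
    -- the induced morphism in the fibre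
    obtain ⟨j₀, hj₀, hj₀fac⟩ : ∃ j₀ : (c X).1 ⟶ (c X').1, f.IsHomLift (𝟙 Y) j₀ ∧
        j₀ ≫ (k X').right = (k X).right ≫ m.right :=
      ⟨@IsCartesian.map _ _ _ _ f Y _ _ _ X'.hom (k X').right i1 _ ((k X).right ≫ m.right) i3,
        @IsCartesian.map_isHomLift _ _ _ _ f Y _ _ _ X'.hom (k X').right i1 _
          ((k X).right ≫ m.right) i3,
        @IsCartesian.fac _ _ _ _ f Y _ _ _ X'.hom (k X').right i1 _ ((k X).right ≫ m.right) i3⟩
    let j : c X ⟶ c X' := ⟨j₀, hj₀⟩
    have hj : (incl f Y).map j ≫ k X' = k X ≫ m := by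
      apply StructuredArrow.hom_ext
      exact hj₀fac
    have e1 : T.map ((incl f Y).map j) ≫ e.hom.app (c X') = e.hom.app (c X) := by
      have := e.hom.naturality j
      simpa using this
    have := hE (T.map (k X))
    rw [← cancel_epi (T.map (k X)), hθ X, ← Category.assoc, ← T.map_comp, ← hj, T.map_comp,
      Category.assoc, hθ X', e1]
  refine ⟨g, ⟨NatIso.ofComponents (fun X => @asIso _ _ _ _ (θ X) (hE _)) (fun {X X'} m => ?_)⟩⟩
  change T.map m ≫ θ X' = θ X ≫ 𝟙 g
  rw [hnat m, Category.comp_id]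

end Groth.Agent.Lib.Helper65.FibComma
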