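import Groth.Agent.Lib.Helper65.GerbeSmooth
import Groth.Agent.Lib.Helper66.AlgStCmp
import Groth.Agent.Lib.Helper66.AlgStDiagRep
import Groth.Agent.Lib.Helper66.RepWithPDet

/-!
# Helper65: the diagonal of a gerbe morphism of algebraic stacks is flat, locally of finite presentation and surjective
-/

set_option autoImplicit false
set_option backward.isDefEq.respectTransparency false
set_option backward.isDefEq.respectTransparency.types false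

universe u

open CategoryTheory CategoryTheory.Functor CategoryTheory.Limits Opposite AlgebraicGeometry

namespace Groth.Agent.Lib.Helper65.GerbeDiag

open FibCat Groth.Agent.Lib.Helper31 Groth.Agent.Lib.Helper65 Groth.Agent.Lib.Helper51 Gerb
  Groth.Agent.Lib.Helper66 Groth.Agent.Lib.Helper66.AlgStLocQSq Groth.Agent.Lib.Helper65.GerbeSection
  Groth.Agent.Lib.Helper66.StackCmp

variable {S : Scheme.{u}} {𝒳 𝒴 𝒵 : AlgSt.Cat S}

/-- A section of a gerbe over a scheme is flat, locally of finite presentation and surjective. -/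
theorem section_props_overCat (h𝒳 : AlgSt.IsAlgStack Scheme.fppfPrecoverage 𝒳) (V : Over S)
    (f : 𝒳 ⥤ᵇ FibCat.overCat V) (hf : IsGerbeOver (AlgSp.J S) f)
    (σ : FibCat.overCat V ⥤ᵇ 𝒳) (ε : BasedFunctor.comp σ f ≅ BasedFunctor.id _) :
    AlgSt.RepByAlgSpWith (AlgSp.LocP @Flat) σ ∧
      AlgSt.RepByAlgSpWith (AlgSp.LocP @LocallyOfFinitePresentation) σ ∧
      AlgSt.RepByAlgSpWith AlgSp.IsSurjectiveMor σ := by
  have hfX : IsFibGrpd 𝒳.p := h𝒳.isStack.1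
  have hfV : IsFibGrpd (FibCat.overCat V).p := isFibGrpd_overForget V
  let U : AlgSp.Space S := ⟨(AlgSp.yon S).obj V, AlgSp.IsAlgSpace.yon_obj V⟩
  let π : 𝒳 ⥤ᵇ AlgSt.ofSp U.obj := BasedFunctor.comp f (AlgSt.ofOverCat V)
  have hπ : IsGerbeOver (AlgSp.J S) π :=
    isGerbeOver_comp _ hfX hfV f (AlgSt.ofOverCat V) hf
      (isGerbeOver_of_isEquivOver _ hfV _ (ofOverCat_isEquivOver V))
  let x : AlgSt.ofSp U.obj ⥤ᵇ 𝒳 := BasedFunctor.comp (AlgSt.toOverCat V) σ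
  let e : BasedFunctor.comp x π ≅ BasedFunctor.id (AlgSt.ofSp U.obj) :=
    bWhiskerLeftIso (AlgSt.toOverCat V) (bWhiskerRightIso ε (AlgSt.ofOverCat V))
  obtain ⟨h1, h2, h3⟩ := section_flat_lfp_surjective h𝒳 U π hπ x e
  exact ⟨repByAlgSpWith_equiv_comp _ (AlgSt.ofOverCat V) (ofOverCat_isEquivOver V) x h1,
    repByAlgSpWith_equiv_comp _ (AlgSt.ofOverCat V) (ofOverCat_isEquivOver V) x h2,
    repByAlgSpWith_equiv_comp _ (AlgSt.ofOverCat V) (ofOverCat_isEquivOver V) x h3⟩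

/-- From local surjectivity on objects to the functor form used by `repByAlgSpWith_of_locally_essSurj`. -/
theorem factor_of_locSurjObj (h𝒴 : IsFibGrpd 𝒴.p) (h𝒵 : IsFibGrpd 𝒵.p) (g : 𝒵 ⥤ᵇ 𝒴)
    (hg : LocSurjObj (AlgSp.J S) g) (U : Over S) (y : FibCat.overCat U ⥤ᵇ 𝒴) :
    ∃ R ∈ (QuotSh.J Scheme.fppfPrecoverage S) U, ∀ ⦃V : Over S⦄ (h : V ⟶ U), R.arrows h →
      ∃ z : FibCat.overCat V ⥤ᵇ 𝒵,
        Nonempty (BasedFunctor.comp z g ≅ BasedFunctor.comp (AlgSt.overMap h) y) := by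
  have hyU : 𝒴.p.obj (y.obj (Over.mk (𝟙 U))) = U := y.w_obj _
  refine ⟨objSieve h𝒵 g (y.obj (Over.mk (𝟙 U))) hyU,
    objSieve_mem (AlgSp.J S) h𝒵 g hg _ hyU, ?_⟩
  rintro V h ⟨z₀, γ, hγ⟩
  have hz₀ : 𝒵.p.obj z₀ = V := by rw [← g.w_obj]; exact IsHomLift.domain_eq 𝒴.p h γ
  obtain ⟨z, ε₀, hε₀⟩ := EssDim.exists_functor_of_obj_over h𝒵 z₀ V hz₀
  have := isIso_of_isHomLift_id h𝒵 ε₀ hε₀
  have hinv : 𝒵.p.IsHomLift (𝟙 V) (inv ε₀) := inferInstance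
  have hginv : 𝒴.p.IsHomLift (𝟙 V) (g.map (inv ε₀)) := BasedFunctor.preserves_isHomLift g _ _
  have hγ' : 𝒴.p.IsHomLift h (g.map (inv ε₀) ≫ γ) := isHomLift_comp_id_left _ h _ _ hginv hγ
  let m : (AlgSt.overMap h).obj (Over.mk (𝟙 V)) ⟶ Over.mk (𝟙 U) :=
    Over.homMk h (by simp [AlgSt.overMap])
  have hm : (FibCat.overCat U).p.IsHomLift h m :=
    (inferInstance : (FibCat.overCat U).p.IsHomLift ((FibCat.overCat U).p.map m) m)
  have hym : 𝒴.p.IsHomLift h (y.map m) := BasedFunctor.preserves_isHomLift y h m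
  obtain ⟨κ, hκ, -⟩ := exists_comparison h𝒴 h (y.map m) hym (g.map (inv ε₀) ≫ γ) hγ'
  exact ⟨z, nonempty_iso_of_hom_at_id h𝒴 (BasedFunctor.comp z g)
    (BasedFunctor.comp (AlgSt.overMap h) y) κ.hom hκ⟩

section Magic

variable {𝒜 ℬ 𝒯 : AlgSt.Cat S} (H : 𝒜 ⥤ᵇ 𝒳) (G : ℬ ⥤ᵇ 𝒳) (t : 𝒳 ⥤ᵇ 𝒯)

/-- `cQ` is locally surjective on objects if both functors are. -/
theorem locSurjObj_cQ (h𝒜 : IsFibGrpd 𝒜.p) (hℬ : IsFibGrpd ℬ.p)
    (h𝒯 : IsFibGrpd 𝒯.p)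
    (hH : LocSurjObj (AlgSp.J S) H) (hG : LocSurjObj (AlgSp.J S) G) :
    LocSurjObj (AlgSp.J S) (cQ H G t) := by
  intro ξ
  have hξ2 : 𝒳.p.obj ξ.obj.snd = (fp t t).p.obj ξ := fp_snd_obj ξ
  refine ⟨objSieve h𝒜 H ξ.obj.fst rfl ⊓ objSieve hℬ G ξ.obj.snd hξ2,
    (AlgSp.J S).intersection_covering (objSieve_mem _ h𝒜 H hH _ rfl)
      (objSieve_mem _ hℬ G hG _ hξ2), ?_⟩
  rintro V h ⟨⟨α, γ₁, hγ₁⟩, ⟨β, γ₂, hγ₂⟩⟩
  have hα : 𝒜.p.obj α = V := by rw [← H.w_obj]; exact IsHomLift.domain_eq 𝒳.p h γ₁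
  have ht1 : 𝒯.p.IsHomLift h (t.map γ₁) := BasedFunctor.preserves_isHomLift t h γ₁
  have ht2 : 𝒯.p.IsHomLift h (t.map γ₂) := BasedFunctor.preserves_isHomLift t h γ₂
  have hξi : 𝒯.p.IsHomLift (𝟙 ((fp t t).p.obj ξ)) ξ.obj.iso.hom := ξ.property
  have h1 : 𝒯.p.IsHomLift h (t.map γ₁ ≫ ξ.obj.iso.hom) :=
    isHomLift_comp_id_right 𝒯.p h _ _ ht1 hξi
  obtain ⟨ι, hι, eι⟩ := exists_comparison h𝒯 h (t.map γ₂) ht2 (t.map γ₁ ≫ ξ.obj.iso.hom) h1
  have hprop : 𝒯.p.IsHomLift (𝟙 (𝒜.p.obj α)) ι.hom := by rw [hα]; exact hι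
  let o : (fp (BasedFunctor.comp H t) (BasedFunctor.comp G t)).obj :=
    fpObjMk (BasedFunctor.comp H t) (BasedFunctor.comp G t) α β ι hprop
  let ν : (cQ H G t).obj o ⟶ ξ := fpHomMk (F := t) (G := t) γ₁ γ₂ (by
    change t.map γ₁ ≫ ξ.obj.iso.hom = ι.hom ≫ t.map γ₂
    exact eι.symm)
  refine ⟨o, ν, ?_⟩
  rw [fp_isHomLift_iff]
  exact hγ₁

variable (e : BasedFunctor.comp (FibCat.fpFst H G) (BasedFunctor.comp H t) ≅
      BasedFunctor.comp (FibCat.fpSnd H G) (BasedFunctor.comp G t))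
  (he : ∀ x, e.hom.toNatTrans.app x = t.map x.obj.iso.hom)

include he in
/-- Converse of `repByAlgSpWith_fpComparison`: the base change of the diagonal along `cQ` has `P` if the
comparison functor has `P`. -/
theorem repByAlgSpWith_fpFst_cQ_diag (P : MorphismProperty (AlgSp.Sp S))
    (h : AlgSt.RepByAlgSpWith P (cI H G t e)) :
    AlgSt.RepByAlgSpWith P (fpFst (cQ H G t) (FibCat.diag t)) := by
  intro U y
  have h0 := h U y
  obtain ⟨Ψ₁, hΨ₁, ⟨i₁⟩, ⟨i₂⟩⟩ :=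
    exists_inverse_equivOver (cTh H G t e y he) (isEquivOver_cTh H G t e y he)
  let j₁ : BasedFunctor.comp Ψ₁ (fpFst (BasedFunctor.comp y (cQ H G t)) (FibCat.diag t)) ≅
      fpFst y (cI H G t e) := bWhiskerRightIso i₂ (fpFst y (cI H G t e))
  have h1 := exists_rep_of_equiv P Ψ₁ hΨ₁ j₁ h0
  obtain ⟨Ψ₂, hΨ₂, ⟨k₁⟩, ⟨k₂⟩⟩ :=
    exists_inverse_equivOver _ (fpPasteFst_isEquivOver y (cQ H G t) (FibCat.diag t))
  let j₂ : BasedFunctor.comp Ψ₂ (fpFst y (fpFst (cQ H G t) (FibCat.diag t))) ≅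
      fpFst (BasedFunctor.comp y (cQ H G t)) (FibCat.diag t) :=
    bWhiskerRightIso k₂ (fpFst (BasedFunctor.comp y (cQ H G t)) (FibCat.diag t))
  exact exists_rep_of_equiv P Ψ₂ hΨ₂ j₂ h1

end Magic

section Diag

theorem locSurjObj_id (h𝒳 : IsFibGrpd 𝒳.p) : LocSurjObj (AlgSp.J S) (BasedFunctor.id 𝒳) := fun y =>
  ⟨⊤, (AlgSp.J S).top_mem _, fun V f _ => by
    obtain ⟨y', c, hc⟩ := h𝒳.exists_lift (x := y) f
    exact ⟨y', c, hc⟩⟩

/-- **The diagonal of a gerbe morphism of algebraic stacks is flat, locally of finite presentation and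
surjective.** -/
theorem repByAlgSpWith_diag_of_isGerbeOver (h𝒳 : AlgSt.IsAlgStack Scheme.fppfPrecoverage 𝒳)
    (h𝒴 : AlgSt.IsAlgStack Scheme.fppfPrecoverage 𝒴) (f : 𝒳 ⥤ᵇ 𝒴)
    (hf : IsGerbeOver (AlgSp.J S) f) :
    AlgSt.RepByAlgSpWith (AlgSp.LocP @Flat) (FibCat.diag f) ∧
      AlgSt.RepByAlgSpWith (AlgSp.LocP @LocallyOfFinitePresentation) (FibCat.diag f) ∧
      AlgSt.RepByAlgSpWith AlgSp.IsSurjectiveMor (FibCat.diag f) := by
  have hfX : IsFibGrpd 𝒳.p := h𝒳.isStack.1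
  have hfY : IsFibGrpd 𝒴.p := h𝒴.isStack.1
  obtain ⟨W, a, ha1, ha2⟩ := h𝒳.atlas
  have hfW : IsFibGrpd (FibCat.overCat W).p := isFibGrpd_overForget W
  have haf : AlgSt.RepByAlgSpWith (AlgSp.LocP @Flat) a :=
    repByAlgSpWith_mono (locP_mono smooth_le_flat) _ ha1
  have hap : AlgSt.RepByAlgSpWith (AlgSp.LocP @LocallyOfFinitePresentation) a :=
    repByAlgSpWith_mono (locP_mono smooth_le_lfp) _ ha1
  have has : AlgSt.IsSurjective a := isSurjective_of_repByAlgSpWith hfW hfX a ha2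
  have haL : LocSurjObj (AlgSp.J S) a := locSurjObj_of_fppf hfX hfW a haf hap has
  let I : 𝒳 ⥤ᵇ 𝒳 := BasedFunctor.id 𝒳
  let q : fp (BasedFunctor.comp a f) (BasedFunctor.comp I f) ⥤ᵇ fp f f := cQ a I f
  have hfFF : IsFibGrpd (fp f f).p := isFibGrpd_fp f f hfX hfX hfY
  have hfXW : IsFibGrpd (fp (BasedFunctor.comp a f) (BasedFunctor.comp I f)).p :=
    isFibGrpd_fp _ _ hfW hfX hfY
  have hqL : LocSurjObj (AlgSp.J S) q := locSurjObj_cQ a I f hfW hfX hfY haL (locSurjObj_id hfX)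
  have hΔ1 : AlgSt.RepByAlgSp1 (FibCat.diag f) :=
    Groth.Agent.Lib.Helper66.AlgStDiagRep.repByAlgSp1_diag hfX hfY h𝒳.diag h𝒴.diag f
  let e : BasedFunctor.comp (fpFst a I) (BasedFunctor.comp a f) ≅
      BasedFunctor.comp (fpSnd a I) (BasedFunctor.comp I f) :=
    Groth.Agent.Lib.Helper90.LiftSqComp.whiskerRightIso (fpIso a I) f
  have he : ∀ x, e.hom.toNatTrans.app x = f.map x.obj.iso.hom := fun x => rfl
  have hE : IsEquivOver (fpFst a I) :=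
    isEquivOver_comp _ _ (fpSwap_isEquivOver a I) (fpSnd_isEquivOver I a (isEquivOver_id _))
  obtain ⟨E', hE', ⟨l₁⟩, ⟨l₂⟩⟩ := exists_inverse_equivOver _ hE
  let σ : FibCat.overCat W ⥤ᵇ fp (BasedFunctor.comp a f) (BasedFunctor.comp I f) :=
    BasedFunctor.comp E' (cI a I f e)
  let ε : BasedFunctor.comp σ (fpFst (BasedFunctor.comp a f) (BasedFunctor.comp I f)) ≅
      BasedFunctor.id _ := l₂
  have h𝒳W : AlgSt.IsAlgStack Scheme.fppfPrecoverage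
      (fp (BasedFunctor.comp a f) (BasedFunctor.comp I f)) :=
    Groth.Agent.S12763.result h𝒴.isStack h𝒴.diag (isAlgStack_overCat W) h𝒳 _ _
  have hf' : IsGerbeOver (AlgSp.J S) (BasedFunctor.comp I f) := hf
  have hgerbe : IsGerbeOver (AlgSp.J S)
      (fpFst (BasedFunctor.comp a f) (BasedFunctor.comp I f)) :=
    isGerbeOver_fpFst _ hfX hfY hfW (BasedFunctor.comp I f) (BasedFunctor.comp a f) hf'
  obtain ⟨hσ1, hσ2, hσ3⟩ := section_props_overCat h𝒳W W _ hgerbe σ ε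
  have hcI : ∀ P : MorphismProperty (AlgSp.Sp S), AlgSt.RepByAlgSpWith P σ →
      AlgSt.RepByAlgSpWith P (cI a I f e) := fun P hσ => by
    have h1 : AlgSt.RepByAlgSpWith P (BasedFunctor.comp (fpFst a I) σ) :=
      repByAlgSpWith_equiv_comp P (fpFst a I) hE σ hσ
    have i : cI a I f e ≅ BasedFunctor.comp (fpFst a I) σ :=
      bWhiskerRightIso l₁.symm (cI a I f e)
    exact Groth.Agent.Lib.Helper66.RepWithPDet.repByAlgSpWith_of_iso (P := P) i h1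
  have key : ∀ P : MorphismProperty (AlgSp.Sp S), StableBC P →
      AlgSp.IsLocalOnBase AlgSp.IsFppfCover P → AlgSt.RepByAlgSpWith P σ →
      AlgSt.RepByAlgSpWith P (FibCat.diag f) := fun P hPb hP hσ =>
    repByAlgSpWith_of_locally_essSurj hfX hfFF hfXW P hPb hP (FibCat.diag f) hΔ1 q
      (factor_of_locSurjObj hfFF hfXW q hqL)
      (repByAlgSpWith_fpFst_cQ_diag a I f e he P (hcI P hσ))
  exact ⟨key _ (stableBC_locP _ (Or.inr (Or.inr (Or.inl rfl)))) isLocalOnBase_fppf_locP_flat hσ1,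
    key _ (stableBC_locP _ (Or.inr (Or.inl rfl))) isLocalOnBase_fppf_locP_lfp hσ2,
    key _ stableBC_isSurjectiveMor isLocalOnBase_fppf_isSurjectiveMor hσ3⟩

end Diag

end Groth.Agent.Lib.Helper65.GerbeDiag
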