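import Groth.Agent.Lib.Helper65.SourceLocal
import Groth.Agent.Lib.Helper65.FpSwap

/-!
# Helper65: properties of schemes local in the smooth topology, read on smooth charts of a stack
-/

set_option autoImplicit false
set_option backward.isDefEq.respectTransparency false
set_option backward.isDefEq.respectTransparency.types false

universe u

open CategoryTheory CategoryTheory.Functor CategoryTheory.Limits Opposite AlgebraicGeometry

namespace Groth.Agent.Lib.Helper65

open FibCat Groth.Agent.Lib.Helper31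

variable {S : Scheme.{u}}

/-- `P` is local in the smooth topology (the form of the statements). -/
def SmoothLocalProp (P : Scheme.{u} → Prop) : Prop :=
  ∀ (U : Scheme.{u}) (R : Presieve U), R ∈ Scheme.precoverage @Smooth U →
    (P U ↔ ∀ ⦃V : Scheme.{u}⦄ (g : V ⟶ U), R g → P V)

theorem SmoothLocalProp.of_smooth {P : Scheme.{u} → Prop} (hP : SmoothLocalProp P) {T U : Scheme.{u}}
    (g : T ⟶ U) [Smooth g] (hU : P U) : P T := by
  let X : Bool → Scheme.{u} := fun b => Bool.rec U T b
  let f : ∀ b, X b ⟶ U := fun b => Bool.rec (motive := fun b => X b ⟶ U) (𝟙 U) g b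
  have hmem : Presieve.ofArrows X f ∈ Scheme.precoverage @Smooth U := by
    rw [Scheme.ofArrows_mem_precoverage_iff]
    refine ⟨fun x => ⟨false, x, rfl⟩, fun b => ?_⟩
    cases b
    · exact (inferInstance : Smooth (𝟙 U))
    · exact (inferInstance : Smooth g)
  exact (hP U _ hmem).1 hU (f true) (Presieve.ofArrows.mk true)

theorem SmoothLocalProp.of_smooth_surjective {P : Scheme.{u} → Prop} (hP : SmoothLocalProp P)
    {T U : Scheme.{u}} (g : T ⟶ U) [Smooth g] (hg : Function.Surjective g.base) (hT : P T) : P U := by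
  have hmem : Presieve.singleton g ∈ Scheme.precoverage @Smooth U :=
    (Scheme.singleton_mem_precoverage_iff @Smooth g).2 ⟨hg, inferInstance⟩
  refine (hP U _ hmem).2 ?_
  intro V h hh
  cases hh
  exact hT

/-- Precomposing with a representable etale morphism preserves "`P` etale locally on source and target". -/
theorem locP_precomp_etale (P : MorphismProperty Scheme.{u}) {F G H : AlgSp.Sp S} (p : F ⟶ G)
    (hp : AlgSp.RepWith @Etale p) (d : G ⟶ H) (hd : AlgSp.LocP P d) : AlgSp.LocP P (p ≫ d) := by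
  intro U V a b h ha hb comm
  exact hd (a ≫ p) b h ((AlgSp.RepWith (S := S) @Etale).comp_mem a p ha hp) hb
    (by rw [Category.assoc]; exact comm)

theorem surjective_of_points_map_yon {T T' : Over S} (φ : T ⟶ T')
    (h : Function.Surjective (AlgSp.Points.map ((AlgSp.yon S).map φ))) :
    Function.Surjective φ.left.base := by
  intro t'
  obtain ⟨x, hx⟩ := h (AlgSp.Points.schemeHomeo T' t')
  rw [AlgSp.Points.map_yon_map_eq] at hx
  exact ⟨(AlgSp.Points.schemeHomeo T).symm x, (AlgSp.Points.schemeHomeo T').injective hx⟩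

section Charts

variable {𝒳 : AlgSt.Cat S}

/-- A smooth-local property passes from a smooth surjective chart to every smooth chart. -/
theorem prop_of_smooth_charts {P : Scheme.{u} → Prop} (hP : SmoothLocalProp P) {U U' : Over S}
    (x : FibCat.overCat U ⥤ᵇ 𝒳) (hx₁ : AlgSt.RepByAlgSpWith (AlgSp.LocP @Smooth) x)
    (hx₂ : AlgSt.RepByAlgSpWith AlgSp.IsSurjectiveMor x)
    (x' : FibCat.overCat U' ⥤ᵇ 𝒳) (hx' : AlgSt.RepByAlgSpWith (AlgSp.LocP @Smooth) x')
    (hPU : P U.left) : P U'.left := by
  obtain ⟨G, e, he, hsm, hsurj⟩ := repByAlgSpWith_and stableBC_isSurjectiveMor x hx₁ hx₂ U' x'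
  obtain ⟨G₂, e₂, he₂, hsm₂⟩ := hx' U x
  let E : AlgSt.ofSp G.obj ⥤ᵇ fp x x' := BasedFunctor.comp e (fpSwap x' x)
  have hE : IsEquivOver E := isEquivOver_comp _ _ he (fpSwap_isEquivOver x' x)
  obtain ⟨ι, hι⟩ := exists_iso_spMapOfOver (fpFst x x') E hE e₂ he₂
  have hd : AlgSp.LocP @Smooth (AlgSt.spMapOfOver (BasedFunctor.comp E (fpFst x x'))) := by
    rw [hι]
    exact stableBC_locP_smooth.precomp_iso G₂.property (AlgSp.IsAlgSpace.yon_obj U) ι _ hsm₂
  obtain ⟨T, p, hpe, hps⟩ := G.property.atlas
  obtain ⟨g', hg'⟩ := (AlgSp.yon S).map_surjective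
    (p ≫ AlgSt.spMapOfOver (BasedFunctor.comp e (fpFst x' x)))
  obtain ⟨g, hg⟩ := (AlgSp.yon S).map_surjective
    (p ≫ AlgSt.spMapOfOver (BasedFunctor.comp E (fpFst x x')))
  have hgs : Smooth g.left := AlgSp.locP_yon_map (by rw [hg]; exact locP_precomp_etale _ p hpe _ hd)
  have hg's : Smooth g'.left := AlgSp.locP_yon_map (by rw [hg']; exact locP_precomp_etale _ p hpe _ hsm)
  have hg'surj : Function.Surjective g'.left.base := by
    apply surjective_of_points_map_yon
    rw [hg']
    intro z
    obtain ⟨y, rfl⟩ := hsurj z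
    obtain ⟨t, rfl⟩ := Groth.Agent.H52.surjective_points_of_repWith_surjective p hps y
    exact ⟨t, AlgSp.Points.map_comp _ _ t⟩
  exact hP.of_smooth_surjective g'.left hg'surj (hP.of_smooth g.left hPU)

end Charts

end Groth.Agent.Lib.Helper65
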