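import Groth.Agent.Lib.Helper65.RepDesc3
import Groth.Agent.S10544

/-!
# Helper65: properties local on the source descend along surjective covering morphisms of stacks
-/

set_option autoImplicit false
set_option backward.isDefEq.respectTransparency false
set_option backward.isDefEq.respectTransparency.types false

universe u

open CategoryTheory CategoryTheory.Functor CategoryTheory.Limits Opposite AlgebraicGeometry

namespace Groth.Agent.Lib.Helper65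

open FibCat Groth.Agent.Lib.Helper31

variable {S : Scheme.{u}}

theorem isLocalOnBase_fppf_isEtaleMor :
    AlgSp.IsLocalOnBase AlgSp.IsFppfCover (AlgSp.IsEtaleMor (S := S)) :=
  isLocalOnBase_fppf_of_fpqc (Groth.Agent.S10544.result S)

section Inf

variable {𝒳 𝒴 : AlgSt.Cat S}

/-- Two algebraic spaces representing the same base change are isomorphic over the base. -/
theorem exists_iso_of_two_reps (f : 𝒳 ⥤ᵇ 𝒴) {G F₁ F₂ : AlgSp.Sp S} (y : AlgSt.ofSp G ⥤ᵇ 𝒴)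
    (E₁ : AlgSt.ofSp F₁ ⥤ᵇ fp y f) (hE₁ : IsEquivOver E₁) (a₁ : F₁ ⟶ G)
    (i₁ : BasedFunctor.comp E₁ (fpFst y f) ≅ AlgSt.ofSpMap a₁)
    (E₂ : AlgSt.ofSp F₂ ⥤ᵇ fp y f) (hE₂ : IsEquivOver E₂) (a₂ : F₂ ⟶ G)
    (i₂ : BasedFunctor.comp E₂ (fpFst y f) ≅ AlgSt.ofSpMap a₂) :
    ∃ ι : F₂ ≅ F₁, a₂ = ι.hom ≫ a₁ := by
  obtain ⟨b', hb'⟩ := exists_isPullback_of_fp f y E₁ hE₁ a₁ i₁ (𝟙 G) y (Iso.refl _) E₂ hE₂ a₂ i₂
  have : IsIso b' := hb'.isIso_fst_of_isIso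
  exact ⟨asIso b', by rw [asIso_hom, hb'.w, Category.comp_id]⟩

theorem stableBC_and {Q₁ Q₂ : MorphismProperty (AlgSp.Sp S)} (h₁ : StableBC Q₁) (h₂ : StableBC Q₂) :
    StableBC (fun _ _ f => Q₁ f ∧ Q₂ f) := by
  intro X₁ Y₁ X₂ Y₂ hX₁ hY₁ hX₂ hY₂ a b a' b' sq ha
  exact ⟨h₁ hX₁ hY₁ hX₂ hY₂ a b a' b' sq ha.1, h₂ hX₁ hY₁ hX₂ hY₂ a b a' b' sq ha.2⟩

theorem isLocalOnBase_and {τ : AlgSp.CovNotion S} {Q₁ Q₂ : MorphismProperty (AlgSp.Sp S)}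
    (h₁ : AlgSp.IsLocalOnBase τ Q₁) (h₂ : AlgSp.IsLocalOnBase τ Q₂) :
    AlgSp.IsLocalOnBase τ (fun _ _ f => Q₁ f ∧ Q₂ f) := by
  intro ι Y Yi g hY hYi hcov X f hX Xi p q hXi sq
  have e₁ := h₁ Yi g hY hYi hcov f hX Xi p q hXi sq
  have e₂ := h₂ Yi g hY hYi hcov f hX Xi p q hXi sq
  constructor
  · intro h i
    exact ⟨e₁.1 h.1 i, e₂.1 h.2 i⟩
  · intro h
    exact ⟨e₁.2 (fun i => (h i).1), e₂.2 (fun i => (h i).2)⟩

/-- Representable with `Q₁` and representable with `Q₂` gives representable with both on the same space. -/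
theorem repByAlgSpWith_and {Q₁ Q₂ : MorphismProperty (AlgSp.Sp S)} (hQ₂b : StableBC Q₂) (x : 𝒳 ⥤ᵇ 𝒴)
    (h₁ : AlgSt.RepByAlgSpWith Q₁ x) (h₂ : AlgSt.RepByAlgSpWith Q₂ x) :
    AlgSt.RepByAlgSpWith (fun _ _ f => Q₁ f ∧ Q₂ f) x := by
  intro U y
  obtain ⟨F₁, e₁, he₁, hp₁⟩ := h₁ U y
  obtain ⟨F₂, e₂, he₂, hp₂⟩ := h₂ U y
  refine ⟨F₁, e₁, he₁, hp₁, ?_⟩
  obtain ⟨ι, hι⟩ := exists_iso_spMapOfOver (fpFst y x) e₁ he₁ e₂ he₂
  rw [hι]
  exact hQ₂b.precomp_iso F₂.property (AlgSp.IsAlgSpace.yon_obj U) ι _ hp₂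

end Inf

section Cover

variable {𝒳 𝒴 𝒵 : AlgSt.Cat S}

/-- A surjective morphism representable by algebraic spaces with `Q` gives, after base change to an algebraic space,
a one-member `Q`-covering. -/
theorem exists_rep_cover (Q : MorphismProperty (AlgSp.Sp S)) (hQb : StableBC Q)
    (hQ : AlgSp.IsLocalOnBase AlgSp.IsFppfCover Q) (h𝒳 : IsFibGrpd 𝒳.p) (h𝒴 : IsFibGrpd 𝒴.p)
    (x : 𝒳 ⥤ᵇ 𝒴) (hx₁ : AlgSt.RepByAlgSpWith Q x) (hx₂ : AlgSt.RepByAlgSpWith AlgSp.IsSurjectiveMor x)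
    (G : AlgSp.Space S) (g : AlgSt.ofSp G.obj ⥤ᵇ 𝒴) :
    ∃ (H : AlgSp.Space S) (b : H ⟶ G) (E : AlgSt.ofSp H.obj ⥤ᵇ fp g x), IsEquivOver E ∧
      Nonempty (BasedFunctor.comp E (fpFst g x) ≅ AlgSt.ofSpMap b.hom) ∧
      AlgSp.IsCover Q (fun _ : PUnit.{u + 1} => H.obj) (fun _ => b.hom) := by
  have h := repByAlgSpWith_and stableBC_isSurjectiveMor x hx₁ hx₂
  obtain ⟨H, b, E, hE, i, hb⟩ := exists_rep_ofSp_of_repByAlgSpWith _
    (stableBC_and hQb stableBC_isSurjectiveMor) (isLocalOnBase_and hQ isLocalOnBase_fppf_isSurjectiveMor)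
    h𝒳 h𝒴 x h G g
  exact ⟨H, b, E, hE, i, fun _ => hb.1, fun p => ⟨PUnit.unit, hb.2 p⟩⟩

/-- If `P` is local on the source for `τ`-coverings and `x` becomes a one-member `τ`-covering after every base change
to an algebraic space, then `P` for `y ∘ x` implies `P` for `y`. -/
theorem repByAlgSpWith_of_comp_of_cover (τ : AlgSp.CovNotion S) (P : MorphismProperty (AlgSp.Sp S))
    (hPb : StableBC P) (hP' : AlgSp.IsLocalOnSource τ P)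
    (x : 𝒳 ⥤ᵇ 𝒴) (y : 𝒴 ⥤ᵇ 𝒵) (hy : AlgSt.RepByAlgSp1 y)
    (hx : ∀ (G : AlgSp.Space S) (g : AlgSt.ofSp G.obj ⥤ᵇ 𝒴), ∃ (H : AlgSp.Space S) (b : H ⟶ G)
      (E : AlgSt.ofSp H.obj ⥤ᵇ fp g x), IsEquivOver E ∧
      Nonempty (BasedFunctor.comp E (fpFst g x) ≅ AlgSt.ofSpMap b.hom) ∧
      τ (fun _ : PUnit.{u + 1} => H.obj) (fun _ => b.hom))
    (h : AlgSt.RepByAlgSpWith P (BasedFunctor.comp x y)) : AlgSt.RepByAlgSpWith P y := by
  intro U z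
  obtain ⟨G, eG, heG⟩ := hy U z
  refine ⟨G, eG, heG, ?_⟩
  let g : AlgSt.ofSp G.obj ⥤ᵇ 𝒴 := BasedFunctor.comp eG (fpSnd z y)
  obtain ⟨H, b, E, hE, ⟨i⟩, hcov⟩ := hx G g
  let Φ : fp g x ⥤ᵇ fp (fpSnd z y) x :=
    fpMap (F := g) (G := x) (F' := fpSnd z y) (G' := x) eG (BasedFunctor.id _) (BasedFunctor.id _)
      (Iso.refl _) (Iso.refl _)
  have hΦ : IsEquivOver Φ := fpMap_isEquivOver _ _ _ _ _ heG (isEquivOver_id _) (isEquivOver_id _)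
  let Ψ : AlgSt.ofSp H.obj ⥤ᵇ fp z (BasedFunctor.comp x y) :=
    BasedFunctor.comp (BasedFunctor.comp E Φ) (fpPasteSnd z y x)
  have hΨ : IsEquivOver Ψ :=
    isEquivOver_comp _ _ (isEquivOver_comp E Φ hE hΦ) (fpPasteSnd_isEquivOver z y x)
  have j : BasedFunctor.comp Ψ (fpFst z (BasedFunctor.comp x y)) ≅
      BasedFunctor.comp (AlgSt.ofSpMap b.hom) (BasedFunctor.comp eG (fpFst z y)) :=
    bWhiskerRightIso i (BasedFunctor.comp eG (fpFst z y))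
  obtain ⟨F', e', he', hp'⟩ := h U z
  obtain ⟨ι, hι⟩ := exists_iso_spMapOfOver (fpFst z (BasedFunctor.comp x y)) Ψ hΨ e' he'
  have hcomp : P (b.hom ≫ AlgSt.spMapOfOver (BasedFunctor.comp eG (fpFst z y))) := by
    rw [← spMapOfOver_ofSpMap_comp, ← spMapOfOver_congr j, hι]
    exact hPb.precomp_iso F'.property (AlgSp.IsAlgSpace.yon_obj U) ι _ hp'
  exact (hP' (fun _ : PUnit.{u + 1} => H.obj) (fun _ => b.hom) G.property (fun _ => H.property) hcov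
    (AlgSt.spMapOfOver (BasedFunctor.comp eG (fpFst z y))) (AlgSp.IsAlgSpace.yon_obj U)).2 (fun _ => hcomp)

end Cover

end Groth.Agent.Lib.Helper65
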