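import Groth.Agent.Lib.Helper65.LocQFlat
import Groth.Agent.Lib.Helper66.AlgStLocQCover2
import Groth.Agent.Lib.Helper65.SourceLocal
import Groth.Agent.Lib.Helper65.SmoothLocal
import Groth.Agent.H52.Points

/-!
# Helper65: lifting objects along jointly surjective fppf families, fppf locally
-/

set_option autoImplicit false
set_option backward.isDefEq.respectTransparency false
set_option backward.isDefEq.respectTransparency.types false

universe u

open CategoryTheory CategoryTheory.Functor CategoryTheory.Limits Opposite AlgebraicGeometry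

namespace Groth.Agent.Lib.Helper65.FppfLift

open FibCat Groth.Agent.Lib.Helper31 Groth.Agent.Lib.Helper65 Groth.Agent.Lib.Helper66
  Groth.Agent.Lib.Helper66.AlgStLocQSq

variable {S : Scheme.{u}} {𝒳 𝒲 : AlgSt.Cat S}

/-- For `φ : 𝒲 ⟶ 𝒳` representable by algebraic spaces, flat and locally of finite presentation, and an object
`x` of `𝒳` over `U`, there are a flat, locally finitely presented `g : V ⟶ U` and a lift of `x|_V` to `𝒲`,
such that `g` hits every point of `U` whose image in `|𝒳|` comes from `|𝒲|`. -/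
theorem exists_chart_lift (h𝒳 : IsFibGrpd 𝒳.p) (h𝒲 : IsFibGrpd 𝒲.p) (φ : 𝒲 ⥤ᵇ 𝒳)
    (hφ₁ : AlgSt.RepByAlgSpWith (AlgSp.LocP @Flat) φ)
    (hφ₂ : AlgSt.RepByAlgSpWith (AlgSp.LocP @LocallyOfFinitePresentation) φ)
    (U : Over S) (x : FibCat.overCat U ⥤ᵇ 𝒳) :
    ∃ (V : Over S) (g : V ⟶ U) (x' : FibCat.overCat V ⥤ᵇ 𝒲),
      Nonempty (BasedFunctor.comp x' φ ≅ BasedFunctor.comp (AlgSt.overMap g) x) ∧
      Flat g.left ∧ LocallyOfFinitePresentation g.left ∧
      ∀ z' : AlgSt.Points (FibCat.overCat U),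
        (∃ r : AlgSt.Points 𝒲, AlgSt.Points.map x z' = AlgSt.Points.map φ r) →
        ∃ v : ↥V.left, g.left v = (AlgSp.Points.schemeHomeo U).symm (overPts U z') := by
  obtain ⟨G, e, he, hfl, hfp⟩ := repByAlgSpWith_and
    (stableBC_locP @LocallyOfFinitePresentation (Or.inr (Or.inl rfl))) φ hφ₁ hφ₂ U x
  obtain ⟨V, a, hae, has⟩ := G.property.atlas
  obtain ⟨Ψ, hΨ⟩ : ∃ Ψ : AlgSt.ofSp ((AlgSp.yon S).obj V) ⥤ᵇ FibCat.overCat U,
      Ψ = BasedFunctor.comp (AlgSt.ofSpMap a) (BasedFunctor.comp e (fpFst x φ)) := ⟨_, rfl⟩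
  obtain ⟨g, hg, ⟨i⟩⟩ := exists_iso_overMap (BasedFunctor.comp (AlgSt.ofOverCat V) Ψ)
  have e1 : BasedFunctor.comp (AlgSt.toOverCat V) (BasedFunctor.comp (AlgSt.ofOverCat V) Ψ) = Ψ := by
    change BasedFunctor.comp (BasedFunctor.comp (AlgSt.toOverCat V) (AlgSt.ofOverCat V)) Ψ = Ψ
    rw [toOverCat_comp_ofOverCat]
    rfl
  have hg' : (AlgSp.yon S).map g = a ≫ AlgSt.spMapOfOver (BasedFunctor.comp e (fpFst x φ)) := by
    rw [hg, e1, hΨ]
    exact spMapOfOver_ofSpMap_comp a _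
  rw [hΨ] at i
  let E : FibCat.overCat V ⥤ᵇ fp x φ :=
    BasedFunctor.comp (AlgSt.ofOverCat V) (BasedFunctor.comp (AlgSt.ofSpMap a) e)
  refine ⟨V, g, BasedFunctor.comp E (fpSnd x φ), ⟨?_⟩, ?_, ?_, ?_⟩
  · exact bWhiskerLeftIso E (fpIso x φ).symm ≪≫ bWhiskerRightIso i x
  · exact hfl a (𝟙 _) g hae (AlgSp.repWith_id _ U) (by rw [Category.comp_id]; exact hg'.symm)
  · exact hfp a (𝟙 _) g hae (AlgSp.repWith_id _ U) (by rw [Category.comp_id]; exact hg'.symm)
  · rintro z' ⟨r, hr⟩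
    obtain ⟨w, hw, -⟩ := exists_points_fp h𝒲 h𝒳 (isFibGrpd_overForget U) φ x z' r hr
    obtain ⟨w', rfl⟩ := (points_map_bijective_of_isEquivOver e he).2 w
    obtain ⟨y, hy⟩ := Groth.Agent.H52.surjective_points_of_repWith_surjective a has (ptsEquiv G.obj w')
    have h1 : AlgSp.Points.map ((AlgSp.yon S).map g) y = overPts U z' := by
      rw [hg', AlgSp.Points.map_comp, hy, ← overPts_map, points_map_comp, hw]
    rw [AlgSp.Points.map_yon_map_eq] at h1
    refine ⟨(AlgSp.Points.schemeHomeo V).symm y, ?_⟩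
    rw [← h1]
    simp

end Groth.Agent.Lib.Helper65.FppfLift
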