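import Groth.Agent.Lib.Helper65.GeomQuotSheaf
import Groth.Prelude.Def_W4bk4git07Quot
import Groth.Prelude.Def_NonAbH2
import Mathlib.AlgebraicGeometry.Morphisms.UniversallyOpen
import Mathlib.AlgebraicGeometry.Morphisms.Flat
import Mathlib.AlgebraicGeometry.PullbackCarrier

/-!
# Helper65: topological consequences of being an fppf quotient
-/

set_option autoImplicit false
set_option backward.isDefEq.respectTransparency false
set_option backward.isDefEq.respectTransparency.types false

universe u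

open CategoryTheory CategoryTheory.Limits AlgebraicGeometry Opposite MonoidalCategory MonObj
  CartesianMonoidalCategory Topology

namespace Groth.Agent.Lib.Helper65.GeomQuotTop

open Groth.Agent.Lib.Helper26.PseudoTorsor Groth.Agent.Lib.Helper65.GeomQuotSheaf

/-- every point is hit by a member of the sieve -/
def PtSurj {X : Scheme.{u}} (E : Sieve X) : Prop :=
  ∀ x : X, ∃ (W : Scheme.{u}) (f : W ⟶ X), E f ∧ x ∈ Set.range f.base

theorem ptSurj_of_mem_fppfTopology {X : Scheme.{u}} (R : Sieve X)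
    (hR : R ∈ Scheme.fppfTopology X) : PtSurj R := by
  rw [Precoverage.mem_toGrothendieck_iff] at hR
  induction hR with
  | of X S hS =>
    intro x
    have hS1 : S ∈ Scheme.jointlySurjectivePrecoverage X := hS.1
    obtain ⟨Y', g', hg', y, hy⟩ := hS1 x
    cases hg' with
    | of h => exact ⟨_, _, Sieve.le_generate S _ _ h, y, hy⟩
  | top X => intro x; exact ⟨X, 𝟙 X, trivial, x, rfl⟩
  | pullback X S hS Y f ih =>
    intro y
    obtain ⟨W, g, hg, w, hw⟩ := ih (f y)
    obtain ⟨z, -, hz⟩ := Scheme.Pullback.exists_preimage_pullback (f := g) (g := f) w y hw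
    refine ⟨pullback g f, pullback.snd g f, ?_, z, hz⟩
    change S (pullback.snd g f ≫ f)
    rw [← pullback.condition]
    exact S.downward_closed hg _
  | transitive X S R hS hR ih1 ih2 =>
    intro x
    obtain ⟨Y, f, hf, y, hy⟩ := ih1 x
    obtain ⟨W, g, hg, w, hw⟩ := ih2 hf y
    refine ⟨W, g ≫ f, hg, w, ?_⟩
    rw [Scheme.Hom.comp_apply, hw, hy]

variable {S : Scheme.{u}}

theorem ptSurj_of_mem_J {T : Over S} (E : Sieve T) (hE : E ∈ QuotSh.J Scheme.fppfPrecoverage S T) (t : T.left) :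
    ∃ (T' : Over S) (f : T' ⟶ T), E f ∧ t ∈ Set.range f.left.base := by
  rw [GrothendieckTopology.mem_over_iff] at hE
  obtain ⟨W, f, hf, w, hw⟩ := ptSurj_of_mem_fppfTopology _ hE t
  rw [Sieve.overEquiv_iff] at hf
  exact ⟨_, _, hf, w, hw⟩

section Geom

variable {G X Y : Over S} [GrpObj G] {a : AlgGrp.Action G X} (q : X ⟶ Y)

theorem exists_cover_sections (hq : QuotSh.IsQuotient Scheme.fppfPrecoverage a.act (snd G X) q) :
    ∃ R₀ ∈ Scheme.fppfPrecoverage Y.left, ∀ {W : Scheme.{u}} (g : W ⟶ Y.left), R₀ g →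
      ∃ σ : W ⟶ X.left, σ ≫ q.left = g := by
  haveI := epi_repMap_of_isQuotient q hq
  exact Groth.Agent.Lib.Helper26.QuotRep.exists_cover_of_epi Scheme.fppfPrecoverage q

theorem surjective_of_isQuotient (hq : QuotSh.IsQuotient Scheme.fppfPrecoverage a.act (snd G X) q) :
    Function.Surjective q.left.base := by
  obtain ⟨R₀, hR₀, hlift⟩ := exists_cover_sections q hq
  have := Groth.Agent.Lib.Helper26.QuotRep.surjective_of_cover q R₀ hR₀.1 hlift
  exact this.surj

theorem orbit_surjective (hq : QuotSh.IsQuotient Scheme.fppfPrecoverage a.act (snd G X) q)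
    (hinv : GIT.IsInvariant a q) : Function.Surjective (GIT.PsiY a q hinv).base := by
  intro z
  let P := pullback q.left q.left
  let t₀ : Spec (P.residueField z) ⟶ P := P.fromSpecResidueField z
  have hw : (t₀ ≫ pullback.snd q.left q.left) ≫ X.hom = (t₀ ≫ pullback.fst q.left q.left) ≫ X.hom := by
    rw [← Over.w q]
    simp only [Category.assoc]
    rw [← Category.assoc (pullback.snd q.left q.left), ← pullback.condition, Category.assoc]
  let T : Over S := Over.mk ((t₀ ≫ pullback.fst q.left q.left) ≫ X.hom)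
  let x₁ : T ⟶ X := Over.homMk (t₀ ≫ pullback.fst q.left q.left) rfl
  let x₂ : T ⟶ X := Over.homMk (t₀ ≫ pullback.snd q.left q.left) hw
  have h12 : x₁ ≫ q = x₂ ≫ q := by
    apply Over.OverMorphism.ext
    change (t₀ ≫ pullback.fst _ _) ≫ q.left = (t₀ ≫ pullback.snd _ _) ≫ q.left
    rw [Category.assoc, Category.assoc, pullback.condition]
  obtain ⟨E, hE, hE'⟩ := exists_cover_orbit q hq x₁ x₂ h12
  obtain ⟨t⟩ : Nonempty (Spec (P.residueField z)) := inferInstance
  obtain ⟨T', f, hf, t', ht'⟩ := ptSurj_of_mem_J E hE t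
  obtain ⟨g, hg⟩ := hE' f hf
  refine ⟨(lift g (f ≫ x₂)).left t', ?_⟩
  have hcomp : (lift g (f ≫ x₂)).left ≫ GIT.PsiY a q hinv = f.left ≫ t₀ := by
    unfold GIT.PsiY
    apply pullback.hom_ext
    · rw [Category.assoc, pullback.lift_fst, Category.assoc]
      exact congrArg CommaMorphism.left hg
    · rw [Category.assoc, pullback.lift_snd, Category.assoc]
      have := congrArg CommaMorphism.left (lift_snd g (f ≫ x₂))
      exact this
  rw [← Scheme.Hom.comp_apply, hcomp, Scheme.Hom.comp_apply]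
  exact P.fromSpecResidueField_apply z _

theorem isUnivSubmersive_of_isQuotient
    (hq : QuotSh.IsQuotient Scheme.fppfPrecoverage a.act (snd G X) q) :
    GIT.IsUnivSubmersive q.left := by
  obtain ⟨R₀, hR₀, hlift⟩ := exists_cover_sections q hq
  have hS1 : R₀ ∈ Scheme.jointlySurjectivePrecoverage Y.left := hR₀.1
  have hS2 : ∀ ⦃W : Scheme.{u}⦄ (g : W ⟶ Y.left), R₀ g → (@Flat ⊓ @LocallyOfFinitePresentation :
      MorphismProperty Scheme.{u}) g := fun W g hg => hR₀.2 hg
  intro X' Y' i₁ i₂ f' h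
  -- for each point of `Y'` a member of the family, base changed, with a section into `X'`
  have key : ∀ y' : Y', ∃ (W' : Scheme.{u}) (p : W' ⟶ Y') (τ : W' ⟶ X'), τ ≫ f' = p ∧
      IsOpenMap p.base ∧ y' ∈ Set.range p.base := by
    intro y'
    obtain ⟨W, g, hg, w, hw⟩ : ∃ (W : Scheme.{u}) (g : W ⟶ Y.left), R₀ g ∧ ∃ w : W, g w = i₂ y' := by
      obtain ⟨W, g, hg', w, hw⟩ := hS1 (i₂ y')
      cases hg' with
      | of hg => exact ⟨_, _, hg, w, hw⟩
    obtain ⟨σ, hσ⟩ := hlift g hg
    haveI : Flat g := (hS2 g hg).1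
    haveI : LocallyOfFinitePresentation g := (hS2 g hg).2
    obtain ⟨z, -, hz⟩ := Scheme.Pullback.exists_preimage_pullback (f := g) (g := i₂) w y' hw
    refine ⟨pullback g i₂, pullback.snd g i₂,
      h.lift (pullback.snd g i₂) (pullback.fst g i₂ ≫ σ) (by
        rw [Category.assoc, hσ, pullback.condition]), h.lift_fst _ _ _, ?_, z, hz⟩
    exact (pullback.snd g i₂).isOpenMap
  change IsQuotientMap f'.base
  rw [Topology.isQuotientMap_iff, isCoinducing_iff]
  refine ⟨fun V => ⟨fun hV => ?_, fun hV => hV.preimage f'.continuous⟩, fun y' => ?_⟩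
  · rw [isOpen_iff_forall_mem_open]
    intro y' hy'
    obtain ⟨W', p, τ, hτ, hp, w', hw'⟩ := key y'
    refine ⟨p.base '' (p.base ⁻¹' V), Set.image_preimage_subset _ _, hp _ ?_, w', ?_, hw'⟩
    · have : p.base ⁻¹' V = τ.base ⁻¹' (f'.base ⁻¹' V) := by
        rw [← Set.preimage_comp, ← hτ]
        rfl
      rw [this]
      exact hV.preimage τ.continuous
    · change p.base w' ∈ V
      rw [hw']
      exact hy'
  · obtain ⟨W', p, τ, hτ, -, w', hw'⟩ := key y'
    refine ⟨τ.base w', ?_⟩
    rw [← hw', ← hτ]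
    rfl

end Geom

end Groth.Agent.Lib.Helper65.GeomQuotTop
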