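import Groth.Agent.Lib.Helper65.RepDesc
import Groth.Prelude.Def_AlgSt3
import Groth.Agent.Lib.Helper54.Points

/-!
# Helper65: descent of properties of representable morphisms along fppf-locally essentially surjective maps
-/

set_option autoImplicit false
set_option backward.isDefEq.respectTransparency false
set_option backward.isDefEq.respectTransparency.types false

universe u

open CategoryTheory CategoryTheory.Functor CategoryTheory.Limits Opposite AlgebraicGeometry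

namespace Groth.Agent.Lib.Helper65

open FibCat Groth.Agent.Lib.Helper31

variable {S : Scheme.{u}}

theorem toOverCat_comp_overMap {U V : Over S} (h : V ⟶ U) :
    BasedFunctor.comp (AlgSt.toOverCat V) (AlgSt.overMap h) =
      BasedFunctor.comp (AlgSt.ofSpMap ((AlgSp.yon S).map h)) (AlgSt.toOverCat U) := rfl

/-- A covering sieve for the fppf topology over `S` contains an fppf covering family of schemes, indexed by a
type in `Type u`. -/
theorem exists_fppf_family_of_mem_J {U : Over S} {R : Sieve U} (hR : R ∈ AlgSp.J S U) :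
    ∃ (ι : Type u) (V : ι → Over S) (h : ∀ i, V i ⟶ U), (∀ i, R.arrows (h i)) ∧
      (∀ i, Flat (h i).left) ∧ (∀ i, LocallyOfFinitePresentation (h i).left) ∧
      ∀ x : ↥U.left, ∃ i, x ∈ Set.range (h i).left := by
  rw [GrothendieckTopology.mem_over_iff] at hR
  have := Groth.Agent.Lib.Helper54.isMultiplicative_lfp.{u}
  obtain ⟨𝒰, h𝒰⟩ := (Scheme.mem_grothendieckTopology_iff
    (P := (@Flat ⊓ @LocallyOfFinitePresentation : MorphismProperty Scheme.{u}))).1 hR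
  refine ⟨𝒰.I₀, fun i => Over.mk (𝒰.f i ≫ U.hom), fun i => Over.homMk (𝒰.f i) rfl, fun i => ?_,
    fun i => (𝒰.map_prop i).1, fun i => (𝒰.map_prop i).2, fun x => ?_⟩
  · have h1 := h𝒰 _ _ (Presieve.ofArrows.mk i)
    rw [Sieve.overEquiv_iff] at h1
    exact h1
  · obtain ⟨i, y, hy⟩ := 𝒰.exists_eq x
    exact ⟨i, y, hy⟩

/-- An fppf covering family of schemes gives an fppf covering of the sheaf `h_U` by the sheaves `h_{V i}`. -/
theorem isFppfCover_yon {U : Over S} {ι : Type u} (V : ι → Over S) (h : ∀ i, V i ⟶ U)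
    (h1 : ∀ i, Flat (h i).left) (h2 : ∀ i, LocallyOfFinitePresentation (h i).left)
    (h3 : ∀ x : ↥U.left, ∃ i, x ∈ Set.range (h i).left) :
    AlgSp.IsFppfCover (fun i => (AlgSp.yon S).obj (V i)) (fun i => (AlgSp.yon S).map (h i)) := by
  refine ⟨fun i => ⟨?_, ?_⟩, fun x => ?_⟩
  · have k := Groth.Agent.Lib.Helper54.locP_yon_map_comp (S := S) @Flat
      (fun A B φ hφ => by have : Etale φ := hφ; exact (inferInstance : Flat φ))
      (h i) (h1 i) (𝟙 _) (AlgSp.repWith_id _ U)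
    rwa [Category.comp_id] at k
  · have := Groth.Agent.Lib.Helper54.isMultiplicative_lfp.{u}
    have k := Groth.Agent.Lib.Helper54.locP_yon_map_comp (S := S) @LocallyOfFinitePresentation
      (fun A B φ hφ => by have : Etale φ := hφ; exact (inferInstance : LocallyOfFinitePresentation φ))
      (h i) (h2 i) (𝟙 _) (AlgSp.repWith_id _ U)
    rwa [Category.comp_id] at k
  · obtain ⟨u, rfl⟩ := Groth.Agent.Lib.Helper54.exists_ofScheme_eq U x
    obtain ⟨i, v, hv⟩ := h3 u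
    refine ⟨i, AlgSp.Points.ofScheme (V i) v, ?_⟩
    exact (AlgSp.Points.map_yon_map_apply (h i) v).trans (congrArg _ hv)

section Desc

variable {𝒳 𝒴 𝒵 : AlgSt.Cat S}

/-- A property of `f : 𝒳 ⟶ 𝒴` may be checked after base change along `g : 𝒵 ⟶ 𝒴` through which every object of
`𝒴` factors fppf locally. -/
theorem repByAlgSpWith_of_locally_essSurj (h𝒳 : IsFibGrpd 𝒳.p) (h𝒴 : IsFibGrpd 𝒴.p) (h𝒵 : IsFibGrpd 𝒵.p)
    (P : MorphismProperty (AlgSp.Sp S)) (hPb : StableBC P)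
    (hP : AlgSp.IsLocalOnBase AlgSp.IsFppfCover P)
    (f : 𝒳 ⥤ᵇ 𝒴) (hf : AlgSt.RepByAlgSp1 f) (g : 𝒵 ⥤ᵇ 𝒴)
    (hg : ∀ (U : Over S) (y : FibCat.overCat U ⥤ᵇ 𝒴), ∃ R ∈ (QuotSh.J Scheme.fppfPrecoverage S) U,
      ∀ ⦃V : Over S⦄ (h : V ⟶ U), R.arrows h →
        ∃ z : FibCat.overCat V ⥤ᵇ 𝒵,
          Nonempty (BasedFunctor.comp z g ≅ BasedFunctor.comp (AlgSt.overMap h) y))
    (h' : AlgSt.RepByAlgSpWith P (FibCat.fpFst g f)) :
    AlgSt.RepByAlgSpWith P f := by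
  intro U y
  let Z : AlgSp.Space S := ⟨(AlgSp.yon S).obj U, AlgSp.IsAlgSpace.yon_obj U⟩
  let y₁ : AlgSt.ofSp Z.obj ⥤ᵇ 𝒴 := BasedFunctor.comp (AlgSt.toOverCat U) y
  obtain ⟨F, c, E₁, hE₁, ⟨i₁⟩⟩ := exists_space_fp h𝒳 h𝒴 f hf Z y₁
  let Φ : fp y₁ f ⥤ᵇ fp y f :=
    fpMap (F := y₁) (G := f) (F' := y) (G' := f) (AlgSt.toOverCat U)
      (BasedFunctor.id _) (BasedFunctor.id _) (Iso.refl _) (Iso.refl _)
  have hΦ : IsEquivOver Φ :=
    fpMap_isEquivOver _ _ _ _ _ (toOverCat_isEquivOver U) (isEquivOver_id _) (isEquivOver_id _)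
  refine ⟨F, BasedFunctor.comp E₁ Φ, isEquivOver_comp E₁ Φ hE₁ hΦ, ?_⟩
  have j : BasedFunctor.comp (BasedFunctor.comp E₁ Φ) (fpFst y f) ≅
      BasedFunctor.comp (AlgSt.ofSpMap c.hom) (AlgSt.toOverCat U) :=
    bWhiskerRightIso i₁ (AlgSt.toOverCat U)
  rw [spMapOfOver_congr j, spMapOfOver_ofSpMap_toOverCat]
  obtain ⟨R, hR, hR'⟩ := hg U y
  obtain ⟨ι, V, h, hRh, h1, h2, h3⟩ := exists_fppf_family_of_mem_J hR
  have hfib : IsFibGrpd (fp g f).p := isFibGrpd_fp g f h𝒵 h𝒳 h𝒴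
  refine prop_of_cover P hP f y₁ E₁ hE₁ c i₁
    (fun i => ⟨(AlgSp.yon S).obj (V i), AlgSp.IsAlgSpace.yon_obj (V i)⟩)
    (fun i => ObjectProperty.homMk ((AlgSp.yon S).map (h i))) (isFppfCover_yon V h h1 h2 h3) (fun i => ?_)
  obtain ⟨z, ⟨iz⟩⟩ := hR' (h i) (hRh i)
  let G : AlgSp.Space S := ⟨(AlgSp.yon S).obj (V i), AlgSp.IsAlgSpace.yon_obj (V i)⟩
  let z' : AlgSt.ofSp G.obj ⥤ᵇ 𝒵 := BasedFunctor.comp (AlgSt.toOverCat (V i)) z
  obtain ⟨V', a', e', he', ⟨i'⟩, hPa'⟩ :=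
    exists_rep_ofSp_of_repByAlgSpWith P hPb hP hfib h𝒵 (fpFst g f) h' G z'
  refine ⟨BasedFunctor.comp z' g, ?_, V', a', BasedFunctor.comp e' (fpPasteFst z' g f),
    isEquivOver_comp _ _ he' (fpPasteFst_isEquivOver z' g f), ⟨i'⟩, hPa'⟩
  exact bWhiskerLeftIso (AlgSt.toOverCat (V i)) iz

end Desc

end Groth.Agent.Lib.Helper65
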