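import Groth.Prelude.Def_AlgSt4
import Groth.Agent.Lib.Helper65.FpMap
import Groth.Agent.Lib.Helper31.FibCat

/-!
# Helper65: points of categories fibred in groupoids over `(Sch/S)`: the relation is an equivalence relation,
points of 2-fibre products
-/

set_option autoImplicit false
set_option backward.isDefEq.respectTransparency false
set_option backward.isDefEq.respectTransparency.types false

universe u

open CategoryTheory CategoryTheory.Functor CategoryTheory.Limits Opposite AlgebraicGeometry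

namespace Groth.Agent.Lib.Helper65

open FibCat Groth.Agent.Lib.Helper31

variable {S : Scheme.{u}}

/-- Amalgamation of two spectra of fields over a third, over `S`. -/
theorem exists_over_amalgamation {K K₁ K₂ : Type u} [Field K] [Field K₁] [Field K₂]
    {w : Spec (CommRingCat.of K) ⟶ S} {w₁ : Spec (CommRingCat.of K₁) ⟶ S}
    {w₂ : Spec (CommRingCat.of K₂) ⟶ S}
    (b₁ : Over.mk w₁ ⟶ Over.mk w) (b₂ : Over.mk w₂ ⟶ Over.mk w) :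
    ∃ (Ω : Type u) (_ : Field Ω) (w' : Spec (CommRingCat.of Ω) ⟶ S) (d₁ : Over.mk w' ⟶ Over.mk w₁)
      (d₂ : Over.mk w' ⟶ Over.mk w₂), d₁ ≫ b₁ = d₂ ≫ b₂ := by
  obtain ⟨Ω, _, i₁, i₂, hi⟩ :=
    AlgSp.FieldPt.exists_amalgamation (Spec.preimage b₁.left).hom (Spec.preimage b₂.left).hom
  have hL : Spec.map (CommRingCat.ofHom i₁) ≫ b₁.left = Spec.map (CommRingCat.ofHom i₂) ≫ b₂.left := by
    conv_lhs => rw [← Spec.map_preimage b₁.left]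
    conv_rhs => rw [← Spec.map_preimage b₂.left]
    rw [← Spec.map_comp, ← Spec.map_comp]
    congr 1
    exact CommRingCat.hom_ext hi
  let w' : Spec (CommRingCat.of Ω) ⟶ S := Spec.map (CommRingCat.ofHom i₁) ≫ w₁
  let d₁ : Over.mk w' ⟶ Over.mk w₁ := Over.homMk (Spec.map (CommRingCat.ofHom i₁)) rfl
  have e₁ : b₁.left ≫ w = w₁ := Over.w b₁
  have e₂ : b₂.left ≫ w = w₂ := Over.w b₂
  have hw : Spec.map (CommRingCat.ofHom i₂) ≫ w₂ = w' := by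
    change _ = Spec.map (CommRingCat.ofHom i₁) ≫ w₁
    rw [← e₁, ← e₂, ← Category.assoc, ← Category.assoc, hL]
  let d₂ : Over.mk w' ⟶ Over.mk w₂ := Over.homMk (Spec.map (CommRingCat.ofHom i₂)) hw
  exact ⟨Ω, inferInstance, w', d₁, d₂, Over.OverMorphism.ext (by simpa [d₁, d₂] using hL)⟩

section FPt

variable {𝒳 : AlgSt.Cat S}

/-- The morphism of spectra over `S` under a morphism between the objects of two field-valued points. -/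
noncomputable def fptBaseHom {p q : AlgSt.FPt 𝒳} (a : p.obj ⟶ q.obj) : Over.mk p.str ⟶ Over.mk q.str :=
  eqToHom p.lies.symm ≫ 𝒳.p.map a ≫ eqToHom q.lies

instance fptBaseHom_isHomLift {p q : AlgSt.FPt 𝒳} (a : p.obj ⟶ q.obj) :
    𝒳.p.IsHomLift (fptBaseHom a) a :=
  IsHomLift.of_fac _ _ _ p.lies q.lies rfl

/-- Pulling back a field-valued point along a morphism of spectra of fields over `S`. -/
theorem exists_fpt_lift (h𝒳 : IsFibGrpd 𝒳.p) (p : AlgSt.FPt 𝒳) {Ω : Type u} [Field Ω]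
    {w : Spec (CommRingCat.of Ω) ⟶ S} (d : Over.mk w ⟶ Over.mk p.str) :
    ∃ (o : 𝒳.obj) (c : o ⟶ p.obj), 𝒳.p.IsHomLift d c := by
  obtain ⟨o, c, hc⟩ := h𝒳.exists_lift (x := p.obj) (d ≫ eqToHom p.lies.symm)
  exact ⟨o, c, (IsHomLift.lift_comp_eqToHom_iff 𝒳.p d c p.lies.symm).1 hc⟩

theorem fptRel_refl (p : AlgSt.FPt 𝒳) : AlgSt.FPt.Rel p p := ⟨p, 𝟙 _, 𝟙 _, trivial⟩

theorem fptRel_symm {p q : AlgSt.FPt 𝒳} (h : AlgSt.FPt.Rel p q) : AlgSt.FPt.Rel q p := by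
  obtain ⟨r, a, b, -⟩ := h
  exact ⟨r, b, a, trivial⟩

theorem fptRel_trans (h𝒳 : IsFibGrpd 𝒳.p) {p q s : AlgSt.FPt 𝒳} (h₁ : AlgSt.FPt.Rel p q)
    (h₂ : AlgSt.FPt.Rel q s) : AlgSt.FPt.Rel p s := by
  obtain ⟨r₁, a₁, b₁, -⟩ := h₁
  obtain ⟨r₂, a₂, b₂, -⟩ := h₂
  obtain ⟨Ω, _, w', d₁, d₂, hd⟩ := exists_over_amalgamation (fptBaseHom b₁) (fptBaseHom a₂)
  obtain ⟨ro, c, hc⟩ := exists_fpt_lift h𝒳 r₁ d₁
  have hcart := isStronglyCartesian_of_isFibGrpd 𝒳.p h𝒳 (fptBaseHom a₂) a₂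
  have hlift : 𝒳.p.IsHomLift (d₂ ≫ fptBaseHom a₂) (c ≫ b₁) := by
    rw [← hd]; infer_instance
  let d := IsStronglyCartesian.map 𝒳.p (fptBaseHom a₂) a₂ (rfl : d₂ ≫ fptBaseHom a₂ = _) (c ≫ b₁)
  let r : AlgSt.FPt 𝒳 := { K := Ω, str := w', obj := ro, lies := IsHomLift.domain_eq 𝒳.p d₁ c }
  exact ⟨r, c ≫ a₁, d ≫ b₂, trivial⟩

theorem fptRel_equivalence (h𝒳 : IsFibGrpd 𝒳.p) : _root_.Equivalence (@AlgSt.FPt.Rel S 𝒳) :=
  ⟨fptRel_refl, fptRel_symm, fptRel_trans h𝒳⟩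

theorem points_mk_eq_iff (h𝒳 : IsFibGrpd 𝒳.p) {p q : AlgSt.FPt 𝒳} :
    AlgSt.Points.mk p = AlgSt.Points.mk q ↔ AlgSt.FPt.Rel p q := by
  constructor
  · intro h
    exact ((fptRel_equivalence h𝒳).eqvGen_iff).1 (Quot.eqvGen_exact h)
  · exact AlgSt.Points.sound

end FPt

section Fp

variable {𝒳 𝒴 𝒵 : AlgSt.Cat S}

/-- The map `|𝒵 ×_𝒴 𝒳| → |𝒵| ×_{|𝒴|} |𝒳|` is surjective. -/
theorem exists_points_fp (h𝒳 : IsFibGrpd 𝒳.p) (h𝒴 : IsFibGrpd 𝒴.p) (h𝒵 : IsFibGrpd 𝒵.p)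
    (f : 𝒳 ⥤ᵇ 𝒴) (g : 𝒵 ⥤ᵇ 𝒴) (z : AlgSt.Points 𝒵) (x : AlgSt.Points 𝒳)
    (h : AlgSt.Points.map g z = AlgSt.Points.map f x) :
    ∃ w : AlgSt.Points (FibCat.fp g f),
      AlgSt.Points.map (FibCat.fpFst g f) w = z ∧ AlgSt.Points.map (FibCat.fpSnd g f) w = x := by
  obtain ⟨pz, rfl⟩ := AlgSt.Points.mk_surjective z
  obtain ⟨px, rfl⟩ := AlgSt.Points.mk_surjective x
  obtain ⟨r, a, b, -⟩ := (points_mk_eq_iff h𝒴).1 h
  let α : Over.mk r.str ⟶ Over.mk pz.str := fptBaseHom (p := r) (q := pz.map g) a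
  let β : Over.mk r.str ⟶ Over.mk px.str := fptBaseHom (p := r) (q := px.map f) b
  have hαa : 𝒴.p.IsHomLift α a := fptBaseHom_isHomLift (p := r) (q := pz.map g) a
  have hβb : 𝒴.p.IsHomLift β b := fptBaseHom_isHomLift (p := r) (q := px.map f) b
  obtain ⟨z', cz, hcz⟩ := exists_fpt_lift h𝒵 pz α
  obtain ⟨x', cx, hcx⟩ := exists_fpt_lift h𝒳 px β
  have hz' : 𝒵.p.obj z' = Over.mk r.str := IsHomLift.domain_eq 𝒵.p α cz
  have ha := isStronglyCartesian_of_isFibGrpd 𝒴.p h𝒴 α a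
  have hb := isStronglyCartesian_of_isFibGrpd 𝒴.p h𝒴 β b
  have hga : 𝒴.p.IsHomLift α (g.map cz) := inferInstance
  have hfb : 𝒴.p.IsHomLift β (f.map cx) := inferInstance
  have hga' := isStronglyCartesian_of_isFibGrpd 𝒴.p h𝒴 α (g.map cz)
  have hfb' := isStronglyCartesian_of_isFibGrpd 𝒴.p h𝒴 β (f.map cx)
  let ι₁ : g.obj z' ≅ r.obj := IsCartesian.domainUniqueUpToIso 𝒴.p α a (g.map cz)
  let ι₂ : f.obj x' ≅ r.obj := IsCartesian.domainUniqueUpToIso 𝒴.p β b (f.map cx)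
  have h1 : 𝒴.p.IsHomLift (𝟙 (Over.mk r.str)) ι₁.hom := inferInstance
  have h2 : 𝒴.p.IsHomLift (𝟙 (Over.mk r.str)) ι₂.inv := inferInstance
  have h3 : 𝒴.p.IsHomLift (𝟙 (Over.mk r.str)) (ι₁ ≪≫ ι₂.symm).hom := by
    change 𝒴.p.IsHomLift (𝟙 (Over.mk r.str)) (ι₁.hom ≫ ι₂.inv)
    infer_instance
  have h4 : 𝒴.p.IsHomLift (𝟙 (𝒵.p.obj z')) (ι₁ ≪≫ ι₂.symm).hom := isHomLift_id_of_eq 𝒴.p hz'.symm _
  let w : AlgSt.FPt (FibCat.fp g f) :=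
    { K := r.K, str := r.str, obj := fpObjMk g f z' x' (ι₁ ≪≫ ι₂.symm) h4, lies := hz' }
  refine ⟨AlgSt.Points.mk w, ?_, ?_⟩
  · exact AlgSt.Points.sound ⟨w.map (FibCat.fpFst g f), 𝟙 _, cz, trivial⟩
  · exact AlgSt.Points.sound ⟨w.map (FibCat.fpSnd g f), 𝟙 _, cx, trivial⟩

end Fp

end Groth.Agent.Lib.Helper65
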