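import Groth.Agent.Lib.Helper65.StTop2

/-!
# Helper65: quasi-compact algebraic stacks and their spaces of points
-/

set_option autoImplicit false
set_option backward.isDefEq.respectTransparency false
set_option backward.isDefEq.respectTransparency.types false

universe u

open CategoryTheory CategoryTheory.Functor CategoryTheory.Limits Opposite AlgebraicGeometry

namespace Groth.Agent.Lib.Helper65

open FibCat Groth.Agent.Lib.Helper31

variable {S : Scheme.{u}} {𝒳 𝒴 : AlgSt.Cat S}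

theorem chartFunctor_comp_eq_overMap_comp {T U : Over S} (g : T ⟶ U) (x : FibCat.overCat U ⥤ᵇ 𝒳) :
    BasedFunctor.comp (chartFunctor ((AlgSp.yon S).map g)) (BasedFunctor.comp (AlgSt.toOverCat U) x) =
      BasedFunctor.comp (AlgSt.overMap g) x := rfl

theorem ofChart_overMap_comp {T U : Over S} (g : T ⟶ U) (x : FibCat.overCat U ⥤ᵇ 𝒳) (t : ↥T.left) :
    AlgSt.Points.ofChart (BasedFunctor.comp (AlgSt.overMap g) x) t =
      AlgSt.Points.ofChart x (g.left t) := by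
  rw [ofChart_eq, ofChart_eq, points_map_comp, points_map_overMap_chartPt]

/-- Precomposing a smooth chart with an etale morphism of schemes gives a smooth chart. -/
theorem overMap_comp_smooth (h𝒳 : IsFibGrpd 𝒳.p) {T U : Over S} (g : T ⟶ U) [Etale g.left]
    (x : FibCat.overCat U ⥤ᵇ 𝒳) (hx : AlgSt.RepByAlgSpWith (AlgSp.LocP @Smooth) x) :
    AlgSt.RepByAlgSpWith (AlgSp.LocP @Smooth) (BasedFunctor.comp (AlgSt.overMap g) x) :=
  chart_comp_smooth h𝒳 ⟨(AlgSp.yon S).obj U, AlgSp.IsAlgSpace.yon_obj U⟩ ((AlgSp.yon S).map g)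
    ((AlgSp.repWith_yon_map_iff _ _).2 inferInstance) _ (repByAlgSpWith_toOverCat_comp _ x hx)

theorem compactSpace_points_of_isQuasiCompact (h𝒳 : IsFibGrpd 𝒳.p)
    (hatlas : AlgSt.HasAtlas (AlgSp.LocP @Smooth) 𝒳) (hqc : AlgSt.IsQuasiCompact 𝒳) :
    CompactSpace (AlgSt.Points 𝒳) := by
  obtain ⟨U, x, hU, hx1, hx2⟩ := hqc
  have hcont := continuous_ofChart h𝒳 hatlas x
  have hsurj := ofChart_surjective h𝒳 x hx2
  have : CompactSpace ↥U.left := inferInstance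
  refine ⟨?_⟩
  rw [← Set.range_eq_univ.2 hsurj]
  exact isCompact_range hcont

theorem repByAlgSp1_of_repByAlgSpWith {P : MorphismProperty (AlgSp.Sp S)} {f : 𝒳 ⥤ᵇ 𝒴}
    (hf : AlgSt.RepByAlgSpWith P f) : AlgSt.RepByAlgSp1 f := by
  intro U y
  obtain ⟨G, e, he, -⟩ := hf U y
  exact ⟨G, e, he⟩

/-- A smooth chart by a scheme whose image on points is everything, from a quasi-compact open. -/
theorem isQuasiCompact_of_compactSpace (h𝒳 : IsFibGrpd 𝒳.p)
    (hatlas : AlgSt.HasAtlas (AlgSp.LocP @Smooth) 𝒳) [CompactSpace (AlgSt.Points 𝒳)] :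
    AlgSt.IsQuasiCompact 𝒳 := by
  obtain ⟨U₀, x₀, hx1, hx2⟩ := hatlas
  have hcont := continuous_ofChart h𝒳 ⟨U₀, x₀, hx1, hx2⟩ x₀
  have hopen := isOpenMap_ofChart_smooth h𝒳 x₀ hx1
  have hsurj := ofChart_surjective h𝒳 x₀ hx2
  -- the open cover by images of affine opens
  obtain ⟨t, ht⟩ := isCompact_univ.elim_finite_subcover
    (fun A : U₀.left.affineOpens => AlgSt.Points.ofChart x₀ '' (A.1 : Set ↥U₀.left))
    (fun A => hopen _ A.1.2) (by
      intro z _
      obtain ⟨u, rfl⟩ := hsurj z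
      obtain ⟨A, hA, huA, -⟩ :=
        TopologicalSpace.Opens.isBasis_iff_nbhd.1 U₀.left.isBasis_affineOpens (U := ⊤) (x := u) trivial
      exact Set.mem_iUnion.2 ⟨⟨A, hA⟩, u, huA, rfl⟩)
  let O : U₀.left.Opens := ⨆ A ∈ t, (A : U₀.left.affineOpens).1
  have hO : IsCompact (O : Set ↥U₀.left) := by
    have : (O : Set ↥U₀.left) = ⋃ A ∈ t, ((A : U₀.left.affineOpens).1 : Set ↥U₀.left) := by
      simp [O]
    rw [this]
    exact t.isCompact_biUnion (fun A _ => A.2.isCompact)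
  let U' : Over S := Over.mk (O.ι ≫ U₀.hom)
  let g : U' ⟶ U₀ := Over.homMk O.ι rfl
  have : CompactSpace ↥U'.left := isCompact_iff_compactSpace.1 hO
  have : Etale g.left := inferInstanceAs (Etale O.ι)
  have hs := overMap_comp_smooth h𝒳 g x₀ hx1
  refine isQuasiCompact_of_compact_chart h𝒳 U' (BasedFunctor.comp (AlgSt.overMap g) x₀) hs ?_
  refine repByAlgSpWith_isSurjectiveMor_of_isSurjective (isFibGrpd_overForget U') h𝒳 _
    (repByAlgSp1_of_repByAlgSpWith hs) ?_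
  intro z
  obtain ⟨A, hAt, u, huA, rfl⟩ : ∃ A ∈ t, z ∈ AlgSt.Points.ofChart x₀ '' (A.1 : Set ↥U₀.left) := by
    simpa using ht (Set.mem_univ z)
  have huO : u ∈ O := by
    simp only [O, TopologicalSpace.Opens.mem_iSup]
    exact ⟨A, hAt, huA⟩
  refine ⟨chartPt U' ⟨u, huO⟩, ?_⟩
  rw [← ofChart_eq, ofChart_overMap_comp]
  rfl

theorem isQuasiCompact_iff_compactSpace (h𝒳 : IsFibGrpd 𝒳.p)
    (hatlas : AlgSt.HasAtlas (AlgSp.LocP @Smooth) 𝒳) :
    AlgSt.IsQuasiCompact 𝒳 ↔ CompactSpace (AlgSt.Points 𝒳) :=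
  ⟨compactSpace_points_of_isQuasiCompact h𝒳 hatlas, fun _ => isQuasiCompact_of_compactSpace h𝒳 hatlas⟩

/-- The image of a quasi-compact stack under a surjective morphism is quasi-compact. -/
theorem isQuasiCompact_of_isSurjective {𝒰 : AlgSt.Cat S} (h𝒰 : IsFibGrpd 𝒰.p)
    (h𝒰a : AlgSt.HasAtlas (AlgSp.LocP @Smooth) 𝒰) (h𝒳 : IsFibGrpd 𝒳.p)
    (hatlas : AlgSt.HasAtlas (AlgSp.LocP @Smooth) 𝒳) (f : 𝒰 ⥤ᵇ 𝒳) (hf : AlgSt.IsSurjective f)
    (hqc : AlgSt.IsQuasiCompact 𝒰) : AlgSt.IsQuasiCompact 𝒳 := by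
  have := compactSpace_points_of_isQuasiCompact h𝒰 h𝒰a hqc
  have hc := continuous_points_map h𝒳 hatlas f
  have : CompactSpace (AlgSt.Points 𝒳) := by
    refine ⟨?_⟩
    rw [← Set.range_eq_univ.2 hf]
    exact isCompact_range hc
  exact isQuasiCompact_of_compactSpace h𝒳 hatlas

end Groth.Agent.Lib.Helper65
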