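import Groth.Agent.Lib.Helper65.SpectralQuot
import Groth.Agent.Lib.Helper65.StQC
import Groth.Agent.Lib.Helper65.StPoints
import Groth.Agent.Lib.Helper66.AlgStQC6
import Groth.Agent.Lib.Helper66.AlgStQC4

/-!
# Helper65: the space of points of an algebraic stack with quasi-compact diagonal is locally spectral
-/

set_option autoImplicit false
set_option backward.isDefEq.respectTransparency false
set_option backward.isDefEq.respectTransparency.types false

universe u

open CategoryTheory CategoryTheory.Functor CategoryTheory.Limits Opposite AlgebraicGeometry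

namespace Groth.Agent.Lib.Helper65.SpectralPts

open FibCat Groth.Agent.Lib.Helper31 Groth.Agent.Lib.Helper65 Groth.Agent.Lib.Helper65.SpectralQuot

variable {S : Scheme.{u}} {𝒳 𝒴 𝒵 : AlgSt.Cat S}

/-- Quasi-compactness of a 2-fibre product over a stack with quasi-compact diagonal (quasi-separated base). -/
theorem isQuasiCompact_fp_of_qc_diag [QuasiSeparatedSpace S] (h𝒳 : IsFibGrpd 𝒳.p)
    (h𝒴 : IsFibGrpd 𝒴.p) (h𝒵 : IsFibGrpd 𝒵.p) (a : 𝒳 ⥤ᵇ 𝒴) (b : 𝒵 ⥤ᵇ 𝒴)
    (hX : AlgSt.IsQuasiCompact 𝒳)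
    (hY : AlgSt.RepByAlgSpWith AlgSp.IsQuasiCompactMor (FibCat.diag (FibCat.toSelf 𝒴)))
    (hZ : AlgSt.IsQuasiCompact 𝒵) : AlgSt.IsQuasiCompact (fp a b) := by
  let e : BasedFunctor.comp (fpFst a b) (BasedFunctor.comp a (toSelf 𝒴)) ≅
      BasedFunctor.comp (fpSnd a b) (BasedFunctor.comp b (toSelf 𝒴)) :=
    bWhiskerRightIso (fpIso a b) (toSelf 𝒴)
  have hc' : AlgSt.RepByAlgSpWith AlgSp.IsQuasiCompactMor
      (FibCat.fpLift (FibCat.fpFst a b) (FibCat.fpSnd a b) e) :=
    Groth.Agent.Lib.Helper66.AlgStCmp.repByAlgSpWith_fpComparison _ a b (FibCat.toSelf 𝒴) e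
      (fun _ => rfl) hY
  have h1 : AlgSt.IsQuasiCompact (FibCat.fp (BasedFunctor.comp a (FibCat.toSelf 𝒴))
      (BasedFunctor.comp b (FibCat.toSelf 𝒴))) :=
    Groth.Agent.Lib.Helper66.AlgStQC3.isQuasiCompact_prod h𝒳 h𝒵 a b hX hZ
  have hS : FibCat.IsFibGrpd (FibCat.selfOver (Over S)).p := isFibGrpd_selfOver
  have hA : FibCat.IsFibGrpd (FibCat.fp (BasedFunctor.comp a (FibCat.toSelf 𝒴))
      (BasedFunctor.comp b (FibCat.toSelf 𝒴))).p := isFibGrpd_fp _ _ h𝒳 h𝒵 hS
  have hB : FibCat.IsFibGrpd (FibCat.fp a b).p := isFibGrpd_fp _ _ h𝒳 h𝒵 h𝒴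
  have h2 := Groth.Agent.Lib.Helper66.AlgStQC.isQuasiCompact_fp_of_repByAlgSpWith hB hA hA _ hc' h1
    (BasedFunctor.id _)
  exact Groth.Agent.Lib.Helper66.AlgStEquiv.isQuasiCompact_of_equivOver _
    (fpSnd_isEquivOver _ _ (isEquivOver_id _)) h2

/-- The underlying space of an affine scheme is spectral. -/
theorem spectralSpace_of_isAffine (X : Scheme.{u}) [IsAffine X] : SpectralSpace ↥X := by
  have e : ↥X ≃ₜ ↥(Spec Γ(X, ⊤)) := Scheme.homeoOfIso X.isoSpec
  have : SpectralSpace ↥(Spec Γ(X, ⊤)) := inferInstanceAs (SpectralSpace (PrimeSpectrum Γ(X, ⊤)))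
  exact e.isOpenEmbedding.spectralSpace

theorem ofChart_congr {U : Over S} {x x' : FibCat.overCat U ⥤ᵇ 𝒳} (e : x ≅ x') (t : ↥U.left) :
    AlgSt.Points.ofChart x t = AlgSt.Points.ofChart x' t := by
  rw [ofChart_eq, ofChart_eq]
  exact points_map_congr e _

/-- **Main step**: for a chart `x : U ⟶ 𝒳` from an affine scheme to an algebraic stack with quasi-compact
diagonal which is open on points, the image of `|U| → |𝒳|` is a spectral space. -/
theorem spectralSpace_range_ofChart [QuasiSeparatedSpace S]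
    (h𝒳 : AlgSt.IsAlgStack Scheme.fppfPrecoverage 𝒳)
    (hΔ : AlgSt.RepByAlgSpWith AlgSp.IsQuasiCompactMor (FibCat.diag (FibCat.toSelf 𝒳)))
    (U : Over S) [IsAffine U.left] (x : FibCat.overCat U ⥤ᵇ 𝒳)
    (hopen : IsOpenMap (AlgSt.Points.ofChart x)) :
    SpectralSpace ↥(Set.range (AlgSt.Points.ofChart x)) := by
  have hfib := h𝒳.isStack.1
  have hUf : IsFibGrpd (FibCat.overCat U).p := isFibGrpd_overForget U
  have hqcU : AlgSt.IsQuasiCompact (FibCat.overCat U) :=
    Groth.Agent.Lib.Helper66.AlgStQC4.isQuasiCompact_overCat U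
  have hfp : AlgSt.IsQuasiCompact (fp x x) :=
    isQuasiCompact_fp_of_qc_diag hUf hfib hUf x x hqcU hΔ hqcU
  have hfpfib : IsFibGrpd (fp x x).p := isFibGrpd_fp x x hUf hUf hfib
  obtain ⟨R, ρ, hRaff, -, hρ2⟩ := hfp
  have : IsAffine R.left := hRaff
  obtain ⟨σ, -, ⟨iσ⟩⟩ := exists_iso_overMap (BasedFunctor.comp ρ (fpFst x x))
  obtain ⟨τ, -, ⟨iτ⟩⟩ := exists_iso_overMap (BasedFunctor.comp ρ (fpSnd x x))
  have hcont : Continuous (AlgSt.Points.ofChart x) := continuous_ofChart hfib h𝒳.atlas x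
  have hrel : ∀ a b : ↥U.left, AlgSt.Points.ofChart x a = AlgSt.Points.ofChart x b ↔
      ∃ r : ↥R.left, σ.left r = a ∧ τ.left r = b := by
    intro a b
    constructor
    · intro h
      obtain ⟨w, hw1, hw2⟩ := exists_points_fp hUf hfib hUf x x (chartPt U a) (chartPt U b) h
      obtain ⟨r, rfl⟩ := ofChart_surjective hfpfib ρ hρ2 w
      refine ⟨r, ?_, ?_⟩
      · apply (chartPt_bijective U).1
        rw [← points_map_overMap_chartPt, ← hw1, ofChart_eq, ← points_map_comp]
        exact (points_map_congr iσ _).symm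
      · apply (chartPt_bijective U).1
        rw [← points_map_overMap_chartPt, ← hw2, ofChart_eq, ← points_map_comp]
        exact (points_map_congr iτ _).symm
    · rintro ⟨r, rfl, rfl⟩
      rw [← ofChart_overMap_comp σ x r, ← ofChart_overMap_comp τ x r]
      exact (ofChart_congr (bWhiskerRightIso iσ x).symm r).trans
        ((ofChart_congr (bWhiskerLeftIso ρ (fpIso x x)) r).trans
          (ofChart_congr (bWhiskerRightIso iτ x) r))
  have hU : SpectralSpace ↥U.left := spectralSpace_of_isAffine U.left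
  have hR : SpectralSpace ↥R.left := spectralSpace_of_isAffine R.left
  have hσqc : QuasiCompact σ.left := quasiCompact_of_compactSpace σ.left
  have hτqc : QuasiCompact τ.left := quasiCompact_of_compactSpace τ.left
  let p : ↥U.left → ↥(Set.range (AlgSt.Points.ofChart x)) :=
    fun u => ⟨AlgSt.Points.ofChart x u, Set.mem_range_self u⟩
  have hRel : Rel p σ.left.base τ.left.base :=
    { cont := hcont.subtype_mk _
      isOpenMap := by
        intro O hO
        have he : p '' O = Subtype.val ⁻¹' (AlgSt.Points.ofChart x '' O) := by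
          ext ⟨y, hy⟩
          constructor
          · rintro ⟨u, hu, h⟩
            exact ⟨u, hu, congrArg Subtype.val h⟩
          · rintro ⟨u, hu, h⟩
            exact ⟨u, hu, Subtype.ext h⟩
        rw [he]
        exact (hopen O hO).preimage continuous_subtype_val
      surj := by
        rintro ⟨_, u, rfl⟩
        exact ⟨u, rfl⟩
      s_cont := σ.left.continuous
      t_cont := τ.left.continuous
      s_comp := hσqc.isCompact_preimage
      t_comp := hτqc.isCompact_preimage
      rel := fun a b => by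
        rw [← hrel a b]
        exact Subtype.ext_iff }
  exact hRel.spectralSpace

end Groth.Agent.Lib.Helper65.SpectralPts
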