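import Groth.Agent.Lib.Helper65.GerbeBasic
import Groth.Agent.Lib.Helper65.GeomQuotTop
import Groth.Agent.Lib.Helper65.RepDesc2
import Groth.Agent.Lib.Helper65.StOpen
import Groth.Agent.Lib.Helper65.SpectralPts
import Groth.Agent.Lib.Helper66.AlgStFp

/-!
# Helper65: a gerbe morphism of algebraic stacks is a universal homeomorphism
-/

set_option autoImplicit false
set_option backward.isDefEq.respectTransparency false
set_option backward.isDefEq.respectTransparency.types false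

universe u

open CategoryTheory CategoryTheory.Functor CategoryTheory.Limits Opposite AlgebraicGeometry

namespace Groth.Agent.Lib.Helper65.GerbeHomeo

open FibCat Groth.Agent.Lib.Helper31 Groth.Agent.Lib.Helper65 Gerb

variable {S : Scheme.{u}} {𝒳 𝒴 𝒵 : AlgSt.Cat S}

/-- A covering sieve of the spectrum of a field contains a morphism from the spectrum of a field. -/
theorem exists_field_mem_of_mem_J {K : Type u} [Field K] (str : Spec (CommRingCat.of K) ⟶ S)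
    (E : Sieve (Over.mk str)) (hE : E ∈ QuotSh.J Scheme.fppfPrecoverage S (Over.mk str)) :
    ∃ (K' : Type u) (_ : Field K') (str' : Spec (CommRingCat.of K') ⟶ S)
      (d : Over.mk str' ⟶ Over.mk str), E d := by
  obtain ⟨t⟩ : Nonempty (Spec (CommRingCat.of K)) := inferInstance
  obtain ⟨T', f, hf, t', -⟩ := GeomQuotTop.ptSurj_of_mem_J E hE t
  let d' : Over.mk (T'.left.fromSpecResidueField t' ≫ T'.hom) ⟶ T' :=
    Over.homMk (T'.left.fromSpecResidueField t') rfl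
  exact ⟨T'.left.residueField t', inferInstance, _, d' ≫ f, E.downward_closed hf d'⟩

section Bij

variable (h𝒳 : IsFibGrpd 𝒳.p) (h𝒴 : IsFibGrpd 𝒴.p) (f : 𝒳 ⥤ᵇ 𝒴)

include h𝒳 in
theorem surjective_of_locSurjObj (hf : LocSurjObj (QuotSh.J Scheme.fppfPrecoverage S) f) :
    Function.Surjective (AlgSt.Points.map f) := by
  intro z
  obtain ⟨q, rfl⟩ := AlgSt.Points.mk_surjective z
  have hE := objSieve_mem (QuotSh.J Scheme.fppfPrecoverage S) h𝒳 f hf q.obj q.lies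
  obtain ⟨K', _, str', d, x, g, hg⟩ := exists_field_mem_of_mem_J q.str _ hE
  let p : AlgSt.FPt 𝒳 :=
    { K := K', str := str', obj := x
      lies := by rw [← f.w_obj]; exact IsHomLift.domain_eq 𝒴.p d g }
  exact ⟨AlgSt.Points.mk p, AlgSt.Points.sound ⟨p.map f, 𝟙 _, g, trivial⟩⟩

include h𝒳 h𝒴 in
theorem injective_of_locSurjHom (hf : LocSurjHom (QuotSh.J Scheme.fppfPrecoverage S) f) :
    Function.Injective (AlgSt.Points.map f) := by
  intro w w' h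
  obtain ⟨p, rfl⟩ := AlgSt.Points.mk_surjective w
  obtain ⟨p', rfl⟩ := AlgSt.Points.mk_surjective w'
  obtain ⟨r, a, b, -⟩ := (points_mk_eq_iff h𝒴).1 h
  let α : Over.mk r.str ⟶ Over.mk p.str := fptBaseHom (p := r) (q := p.map f) a
  let β : Over.mk r.str ⟶ Over.mk p'.str := fptBaseHom (p := r) (q := p'.map f) b
  have hα : 𝒴.p.IsHomLift α a := fptBaseHom_isHomLift (p := r) (q := p.map f) a
  have hβ : 𝒴.p.IsHomLift β b := fptBaseHom_isHomLift (p := r) (q := p'.map f) b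
  obtain ⟨x₁, c₁, hc₁⟩ := exists_fpt_lift h𝒳 p α
  obtain ⟨x₂, c₂, hc₂⟩ := exists_fpt_lift h𝒳 p' β
  have hfc₁ : 𝒴.p.IsHomLift α (f.map c₁) := inferInstance
  have hfc₂ : 𝒴.p.IsHomLift β (f.map c₂) := inferInstance
  obtain ⟨ι₁, hι₁, -⟩ := exists_comparison h𝒴 α (f.map c₁) hfc₁ a hα
  obtain ⟨ι₂, hι₂, -⟩ := exists_comparison h𝒴 β (f.map c₂) hfc₂ b hβ
  have hι₁' : 𝒴.p.IsHomLift (𝟙 (Over.mk r.str)) ι₁.inv := by
    have : 𝒴.p.IsHomLift (𝟙 (Over.mk r.str)) (inv ι₁.hom) := inferInstance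
    simpa using this
  have hU : 𝒳.p.obj x₁ = Over.mk r.str := IsHomLift.domain_eq 𝒳.p α c₁
  have hb' : 𝒴.p.IsHomLift (𝟙 (Over.mk r.str)) (ι₁.inv ≫ ι₂.hom) := inferInstance
  have hE := homSieve_mem (QuotSh.J Scheme.fppfPrecoverage S) h𝒳 f hf x₁ x₂ hU (ι₁.inv ≫ ι₂.hom) hb'
  obtain ⟨K', _, str', d, x₀, φ, ψ, hφ, hψ, -⟩ := exists_field_mem_of_mem_J r.str _ hE
  let r' : AlgSt.FPt 𝒳 :=
    { K := K', str := str', obj := x₀, lies := IsHomLift.domain_eq 𝒳.p d φ }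
  exact AlgSt.Points.sound ⟨r', φ ≫ c₁, ψ ≫ c₂, trivial⟩

end Bij

/-- Two charts whose objects over the identity are isomorphic in the fibre have the same map on points. -/
theorem ofChart_eq_of_fiber_iso (h𝒴 : IsFibGrpd 𝒴.p) {U : Over S} (y₁ y₂ : FibCat.overCat U ⥤ᵇ 𝒴)
    (e : (FibCat.evalAtId 𝒴 U).obj y₁ ≅ (FibCat.evalAtId 𝒴 U).obj y₂) (t : ↥U.left) :
    AlgSt.Points.ofChart y₁ t = AlgSt.Points.ofChart y₂ t := by
  have hE : (FibCat.evalAtId 𝒴 U).IsEquivalence := evalAtId_isEquivalence_of_isFibGrpd h𝒴 _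
  exact SpectralPts.ofChart_congr ((FibCat.evalAtId 𝒴 U).preimageIso e) t

/-- A gerbe morphism of algebraic stacks is open on points. -/
theorem isOpenMap_of_isGerbeOver (h𝒳 : AlgSt.IsAlgStack Scheme.fppfPrecoverage 𝒳)
    (h𝒴 : AlgSt.IsAlgStack Scheme.fppfPrecoverage 𝒴) (f : 𝒳 ⥤ᵇ 𝒴)
    (hf : IsGerbeOver (QuotSh.J Scheme.fppfPrecoverage S) f) : IsOpenMap (AlgSt.Points.map f) := by
  have hinj := injective_of_locSurjHom h𝒳.isStack.1 h𝒴.isStack.1 f hf.2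
  intro A hA V y _
  -- the covering family over which `y` lifts
  have hyV : 𝒴.p.obj (y.obj (Over.mk (𝟙 V))) = V := y.w_obj _
  have hE : objSieve h𝒳.isStack.1 f (y.obj (Over.mk (𝟙 V))) hyV ∈
      QuotSh.J Scheme.fppfPrecoverage S V :=
    objSieve_mem (QuotSh.J Scheme.fppfPrecoverage S) h𝒳.isStack.1 f hf.1
      (y.obj (Over.mk (𝟙 V))) hyV
  obtain ⟨ι, W, h, hmem, hflat, hlfp, hsurj⟩ := exists_fppf_family_of_mem_J (U := V) hE
  have key : ∀ i, IsOpen ((h i).left.base ⁻¹' (AlgSt.Points.ofChart y ⁻¹' (AlgSt.Points.map f '' A))) := by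
    intro i
    obtain ⟨x, g, hg⟩ := hmem i
    have hx : 𝒳.p.obj x = W i := by rw [← f.w_obj]; exact IsHomLift.domain_eq 𝒴.p (h i) g
    have hE𝒳 : (FibCat.evalAtId 𝒳 (W i)).IsEquivalence :=
      evalAtId_isEquivalence_of_isFibGrpd h𝒳.isStack.1 _
    let x₀ : 𝒳.p.Fiber (W i) := ⟨x, hx⟩
    let xt : FibCat.overCat (W i) ⥤ᵇ 𝒳 := (FibCat.evalAtId 𝒳 (W i)).objPreimage x₀
    have e₀ : (FibCat.evalAtId 𝒳 (W i)).obj xt ≅ x₀ := (FibCat.evalAtId 𝒳 (W i)).objObjPreimageIso x₀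
    -- the comparison in `𝒴`
    let m : (Over.mk (h i) : Over V) ⟶ Over.mk (𝟙 V) := Over.homMk (h i) (by simp)
    have hm : (FibCat.overCat V).p.IsHomLift (h i) m :=
      (inferInstance : (FibCat.overCat V).p.IsHomLift ((FibCat.overCat V).p.map m) m)
    have hym : 𝒴.p.IsHomLift (h i) (y.map m) := inferInstance
    have he₀ : 𝒳.p.IsHomLift (𝟙 (W i)) e₀.hom.1 := e₀.hom.2
    have hfe₀ : 𝒴.p.IsHomLift (𝟙 (W i)) (f.map e₀.hom.1) := inferInstance
    have hcomp : 𝒴.p.IsHomLift (h i) (f.map e₀.hom.1 ≫ g) :=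
      isHomLift_comp_id_left 𝒴.p (h i) _ _ hfe₀ hg
    obtain ⟨κ, hκ, -⟩ := exists_comparison h𝒴.isStack.1 (h i) (y.map m) hym
      (f.map e₀.hom.1 ≫ g) hcomp
    have := isGroupoid_fiber_of_isFibGrpd 𝒴.p h𝒴.isStack.1 (W i)
    let mκ : (FibCat.evalAtId 𝒴 (W i)).obj (BasedFunctor.comp xt f) ⟶
        (FibCat.evalAtId 𝒴 (W i)).obj (BasedFunctor.comp (AlgSt.overMap (h i)) y) := ⟨κ.hom, hκ⟩
    have hpt : ∀ w : ↥(W i).left, AlgSt.Points.ofChart y ((h i).left w) =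
        AlgSt.Points.map f (AlgSt.Points.ofChart xt w) := by
      intro w
      rw [← ofChart_overMap_comp (h i) y w, ← ofChart_comp xt f w]
      exact (ofChart_eq_of_fiber_iso h𝒴.isStack.1 _ _ (asIso mκ) w).symm
    have hpre : (h i).left.base ⁻¹' (AlgSt.Points.ofChart y ⁻¹' (AlgSt.Points.map f '' A)) =
        AlgSt.Points.ofChart xt ⁻¹' A := by
      ext w
      change AlgSt.Points.ofChart y ((h i).left w) ∈ AlgSt.Points.map f '' A ↔
        AlgSt.Points.ofChart xt w ∈ A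
      rw [hpt w]
      exact hinj.mem_set_image
    rw [hpre]
    exact (continuous_ofChart h𝒳.isStack.1 h𝒳.atlas xt).isOpen_preimage A hA
  have hU : AlgSt.Points.ofChart y ⁻¹' (AlgSt.Points.map f '' A) =
      ⋃ i, (h i).left.base ''
        ((h i).left.base ⁻¹' (AlgSt.Points.ofChart y ⁻¹' (AlgSt.Points.map f '' A))) := by
    ext v
    constructor
    · intro hv
      obtain ⟨i, w, hw⟩ := hsurj v
      refine Set.mem_iUnion.2 ⟨i, w, ?_, hw⟩
      change AlgSt.Points.ofChart y ((h i).left.base w) ∈ AlgSt.Points.map f '' A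
      rw [show (h i).left.base w = v from hw]
      exact hv
    · intro hv
      obtain ⟨i, w, hw, rfl⟩ := Set.mem_iUnion.1 hv
      exact hw
  rw [hU]
  exact isOpen_iUnion fun i => isOpenMap_of_flat_lfp (h i).left (hflat i) (hlfp i) _ (key i)

/-- A gerbe morphism of algebraic stacks is a homeomorphism on points. -/
theorem isHomeomorph_of_isGerbeOver (h𝒳 : AlgSt.IsAlgStack Scheme.fppfPrecoverage 𝒳)
    (h𝒴 : AlgSt.IsAlgStack Scheme.fppfPrecoverage 𝒴) (f : 𝒳 ⥤ᵇ 𝒴)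
    (hf : IsGerbeOver (QuotSh.J Scheme.fppfPrecoverage S) f) : IsHomeomorph (AlgSt.Points.map f) :=
  ⟨continuous_points_map h𝒴.isStack.1 h𝒴.atlas f, isOpenMap_of_isGerbeOver h𝒳 h𝒴 f hf,
    injective_of_locSurjHom h𝒳.isStack.1 h𝒴.isStack.1 f hf.2,
    surjective_of_locSurjObj h𝒳.isStack.1 f hf.1⟩

/-- A gerbe morphism of algebraic stacks is a universal homeomorphism. -/
theorem isUnivHomeo_of_isGerbeOver (h𝒳 : AlgSt.IsAlgStack Scheme.fppfPrecoverage 𝒳)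
    (h𝒴 : AlgSt.IsAlgStack Scheme.fppfPrecoverage 𝒴) (f : 𝒳 ⥤ᵇ 𝒴)
    (hf : IsGerbeOver (QuotSh.J Scheme.fppfPrecoverage S) f) :
    AlgSt.IsUnivHomeo Scheme.fppfPrecoverage f := by
  intro 𝒵 h𝒵 g
  have hfp : AlgSt.IsAlgStack Scheme.fppfPrecoverage (FibCat.fp g f) :=
    { isStack := isStack_fp _ _ _ h𝒵.isStack h𝒳.isStack (isPrestack_of_isStack _ h𝒴.isStack)
      diag := Groth.Agent.Lib.Helper66.AlgStFp.repByAlgSp1_diag_fp h𝒴.isStack.1 h𝒴.diag
        h𝒵.isStack.1 h𝒵.diag h𝒳.isStack.1 h𝒳.diag g f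
      atlas := Groth.Agent.Lib.Helper66.AlgStFp.hasAtlas_fp h𝒴.isStack.1 h𝒴.diag
        h𝒵.isStack.1 h𝒵.atlas h𝒳.isStack.1 h𝒳.atlas g f }
  exact isHomeomorph_of_isGerbeOver hfp h𝒵 _
    (isGerbeOver_fpFst _ h𝒳.isStack.1 h𝒴.isStack.1 h𝒵.isStack.1 f g hf)

end Groth.Agent.Lib.Helper65.GerbeHomeo
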