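import Groth.Prelude.Def_AlgSt
import Groth.Agent.Lib.Helper31.SetoidToSet
import Groth.Agent.Lib.Helper65.CatPbFib
import Groth.Agent.Lib.Helper65.OfPsh
import Groth.Agent.Lib.Helper65.FpStack
import Groth.Agent.Lib.Helper65.LocalEq

/-!
# Helper65: a category fibred in setoids is equivalent to the category of a presheaf of sets
-/

set_option autoImplicit false
set_option backward.isDefEq.respectTransparency false
set_option backward.isDefEq.respectTransparency.types false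

universe w v₅ u₅ v₄ u₄ v₃ u₃ v₂ u₂ v u

open CategoryTheory CategoryTheory.Functor CategoryTheory.Limits Opposite

namespace Groth.Agent.Lib.Helper65

open FibCat Groth.Agent.Lib.Helper31

section FibSetPsh

variable {C : Type u} [Category.{v} C] {𝒴 : BasedCategory.{v₂, u₂} C}

/-- In a category fibred in sets, two lifts of the same arrow with the same target have the same source. -/
theorem source_eq_of_isFibSet (h : IsFibSet 𝒴.p) {a a' x : 𝒴.obj} {T' T : C} (g : T' ⟶ T)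
    (φ : a ⟶ x) (φ' : a' ⟶ x) (hφ : 𝒴.p.IsHomLift g φ) (hφ' : 𝒴.p.IsHomLift g φ') : a = a' := by
  obtain ⟨ι, hι, -⟩ := exists_comparison' 𝒴.p h.1 g φ' hφ' φ hφ
  have := h.2 T'
  have e := IsDiscrete.eq_of_hom (Functor.Fiber.homMk 𝒴.p T' ι.hom)
  exact congrArg Subtype.val e

theorem exists_pull (h : IsFibGrpd 𝒴.p) {T' T : C} (g : T' ⟶ T) (x : 𝒴.p.Fiber T) :
    ∃ (y : 𝒴.p.Fiber T') (φ : y.1 ⟶ x.1), 𝒴.p.IsHomLift g φ := by
  obtain ⟨x, rfl⟩ := x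
  obtain ⟨y, φ, hφ⟩ := h.exists_lift (x := x) g
  exact ⟨⟨y, IsHomLift.domain_eq 𝒴.p g φ⟩, φ, hφ⟩

/-- The chosen pullback of an object of the fibre. -/
noncomputable def pullFib (h : IsFibGrpd 𝒴.p) {T' T : C} (g : T' ⟶ T) (x : 𝒴.p.Fiber T) : 𝒴.p.Fiber T' :=
  (exists_pull h g x).choose

/-- The chosen cartesian arrow. -/
noncomputable def pullHom (h : IsFibGrpd 𝒴.p) {T' T : C} (g : T' ⟶ T) (x : 𝒴.p.Fiber T) :
    (pullFib h g x).1 ⟶ x.1 :=
  (exists_pull h g x).choose_spec.choose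

instance pullHom_isHomLift (h : IsFibGrpd 𝒴.p) {T' T : C} (g : T' ⟶ T) (x : 𝒴.p.Fiber T) :
    𝒴.p.IsHomLift g (pullHom h g x) :=
  (exists_pull h g x).choose_spec.choose_spec

theorem pullFib_eq (h : IsFibSet 𝒴.p) {T' T : C} (g : T' ⟶ T) (x : 𝒴.p.Fiber T) (y : 𝒴.p.Fiber T')
    (φ : y.1 ⟶ x.1) (hφ : 𝒴.p.IsHomLift g φ) : pullFib h.1 g x = y :=
  Subtype.ext (source_eq_of_isFibSet h g (pullHom h.1 g x) φ inferInstance hφ)

/-- The presheaf of sets of a category fibred in sets. -/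
noncomputable def pshOfFibSet (h : IsFibSet 𝒴.p) : Cᵒᵖ ⥤ Type u₂ where
  obj T := 𝒴.p.Fiber T.unop
  map g := ↾(pullFib h.1 g.unop)
  map_id T := by
    ext x
    exact pullFib_eq h (𝟙 _) x x (𝟙 x.1) (IsHomLift.id x.2)
  map_comp g g' := by
    ext x
    exact pullFib_eq h _ x _ (pullHom h.1 g'.unop (pullFib h.1 g.unop x) ≫ pullHom h.1 g.unop x)
      (inferInstanceAs (𝒴.p.IsHomLift (g'.unop ≫ g.unop)
        (pullHom h.1 g'.unop (pullFib h.1 g.unop x) ≫ pullHom h.1 g.unop x)))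

theorem pshOfFibSet_map (h : IsFibSet 𝒴.p) {T' T : C} (g : T' ⟶ T) (x : 𝒴.p.Fiber T) :
    (pshOfFibSet h).map g.op x = pullFib h.1 g x := rfl

/-- The canonical functor to the category of the presheaf. -/
noncomputable def toPsh (h : IsFibSet 𝒴.p) : 𝒴 ⥤ᵇ Stk.ofPsh (pshOfFibSet h) :=
  ofSec (P := pshOfFibSet h) (fun y => (⟨y, rfl⟩ : 𝒴.p.Fiber (𝒴.p.obj y)))
    (fun {a b} k => pullFib_eq h (𝒴.p.map k) ⟨b, rfl⟩ ⟨a, rfl⟩ k inferInstance)

theorem isThin_of_isFibSet (h : IsFibSet 𝒴.p) (U : C) : Quiver.IsThin (𝒴.p.Fiber U) := by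
  have := h.2 U
  intro a b
  infer_instance

instance toPsh_faithful (h : IsFibSet 𝒴.p) : (toPsh h).toFunctor.Faithful :=
  faithful_of_aut_trivial h.1 (Stk.isFibGrpd_ofPsh _) (toPsh h) (fun t χ hχ _ =>
    haveI : 𝒴.p.IsHomLift (𝟙 (𝒴.p.obj t)) (𝟙 t) := IsHomLift.id rfl
    eq_of_isThin_fiber (U := 𝒴.p.obj t) (isThin_of_isFibSet h) χ (𝟙 t))

instance toPsh_full (h : IsFibSet 𝒴.p) : (toPsh h).toFunctor.Full where
  map_surjective := by
    intro a b m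
    have key : ∀ (y : 𝒴.p.Fiber (𝒴.p.obj a)) (φ : y.1 ⟶ b), 𝒴.p.IsHomLift m.hom φ →
        y = ⟨a, rfl⟩ → ∃ ψ : a ⟶ b, 𝒴.p.map ψ = m.hom := by
      rintro ⟨y, hy⟩ φ hφ hya
      obtain rfl : y = a := congrArg Subtype.val hya
      have := IsHomLift.fac 𝒴.p m.hom φ
      exact ⟨φ, by simpa using this.symm⟩
    have hm : pullFib h.1 m.hom ⟨b, rfl⟩ = ⟨a, rfl⟩ := m.map_sec
    obtain ⟨ψ, hψ⟩ := key _ (pullHom h.1 m.hom ⟨b, rfl⟩) inferInstance hm
    exact ⟨ψ, Stk.EltObj.hom_ext hψ⟩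

theorem toPsh_essSurjOver (h : IsFibSet 𝒴.p) : EssSurjOver (toPsh h) := by
  intro y
  obtain ⟨T, s⟩ := y
  obtain ⟨x, hx⟩ := s
  change 𝒴.p.obj x = T at hx
  subst hx
  exact ⟨x, Iso.refl _, IsHomLift.id rfl⟩

theorem toPsh_isEquivOver (h : IsFibSet 𝒴.p) : IsEquivOver (toPsh h) :=
  isEquivOver_of_ff_ess (toPsh h) (toPsh_essSurjOver h)

end FibSetPsh

section Setoid

variable {C : Type u} [Category.{v} C] {𝒳 : BasedCategory.{v₂, u₂} C}

/-- A category fibred in setoids over `C` is equivalent over `C` to the category of a presheaf of sets. -/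
theorem exists_psh_of_isFibSetoid (h : IsFibSetoid 𝒳.p) :
    ∃ (P : Cᵒᵖ ⥤ Type u₂) (E : Stk.ofPsh P ⥤ᵇ 𝒳), IsEquivOver E := by
  obtain ⟨𝒴, F, h𝒴, hF⟩ := SetoidToSet.exists_fibSet_of_fibSetoid h
  have h1 : IsEquivOver (BasedFunctor.comp F (toPsh h𝒴)) :=
    isEquivOver_comp F (toPsh h𝒴) hF (toPsh_isEquivOver h𝒴)
  obtain ⟨E, hE, -, -⟩ := exists_inverse_equivOver _ h1
  exact ⟨pshOfFibSet h𝒴, E, hE⟩

end Setoid

end Groth.Agent.Lib.Helper65
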