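import Groth.Prelude.Def_AlgSt
import Groth.Agent.Lib.Helper65.BasedPost

/-!
# Helper65: basic facts on `Stk.ofPsh`
-/

set_option autoImplicit false
set_option backward.isDefEq.respectTransparency false
set_option backward.isDefEq.respectTransparency.types false

universe w v₅ u₅ v₄ u₄ v₃ u₃ v₂ u₂ v u

open CategoryTheory CategoryTheory.Functor Opposite

namespace Groth.Agent.Lib.Helper65

open FibCat Groth.Agent.Lib.Helper31

variable {C : Type u} [Category.{v} C]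

/-- The fibres of the category of a presheaf are thin. -/
theorem isThin_fiber_ofPsh (P : Cᵒᵖ ⥤ Type w) (U : C) : Quiver.IsThin ((Stk.ofPsh P).p.Fiber U) := by
  intro X Y
  refine ⟨fun φ ψ => ?_⟩
  have h2 : (Stk.ofPsh P).p.IsHomLift (𝟙 U) φ.1 := φ.2
  have h3 : (Stk.ofPsh P).p.IsHomLift (𝟙 U) ψ.1 := ψ.2
  apply Fiber.hom_ext
  apply Stk.EltObj.hom_ext
  have e1 := IsHomLift.fac' (Stk.ofPsh P).p (𝟙 U) φ.1
  have e2 := IsHomLift.fac' (Stk.ofPsh P).p (𝟙 U) ψ.1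
  exact e1.trans e2.symm

theorem isFibSetoid_ofPsh (P : Cᵒᵖ ⥤ Type w) : IsFibSetoid (Stk.ofPsh P).p :=
  ⟨Stk.isFibGrpd_ofPsh P, isThin_fiber_ofPsh P⟩

end Groth.Agent.Lib.Helper65
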