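import Groth.Prelude.Def_AlgSt2
import Groth.Agent.Lib.Helper31.Yoneda2
import Groth.Agent.Lib.Helper31.FibCatFiber
import Groth.Agent.Lib.Helper65.FpStack
import Groth.Agent.Lib.Helper65.StkBasic

/-!
# Helper65: a 1-morphism all of whose base changes to slices are fibred in setoids is faithful
-/

set_option autoImplicit false
set_option backward.isDefEq.respectTransparency false
set_option backward.isDefEq.respectTransparency.types false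

universe v₅ u₅ v₄ u₄ v₃ u₃ v₂ u₂ v u

open CategoryTheory CategoryTheory.Functor CategoryTheory.Limits

namespace Groth.Agent.Lib.Helper65

open FibCat Groth.Agent.Lib.Helper31

variable {C : Type u} [Category.{v} C]
variable {𝒳 : BasedCategory.{v₂, u₂} C} {𝒴 : BasedCategory.{v₃, u₃} C}

/-- If every base change `(C/U) ×_𝒴 𝒳` has thin fibres, then `f` is faithful. -/
theorem faithful_of_fp_thin (h𝒳 : IsFibGrpd 𝒳.p) (h𝒴 : IsFibGrpd 𝒴.p) (f : 𝒳 ⥤ᵇ 𝒴)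
    (H : ∀ (U : C) (y : overCat U ⥤ᵇ 𝒴) (V : C), Quiver.IsThin ((fp y f).p.Fiber V)) :
    f.toFunctor.Faithful := by
  apply faithful_of_fiberFunctor_faithful f h𝒳 h𝒴
  intro U
  constructor
  intro X X' φ ψ h
  have hφ : 𝒳.p.IsHomLift (𝟙 U) φ.1 := φ.2
  have hψ : 𝒳.p.IsHomLift (𝟙 U) ψ.1 := ψ.2
  have hfφψ : f.map φ.1 = f.map ψ.1 := congrArg (fun t => t.1) h
  have hE : (evalAtId 𝒴 U).IsEquivalence := evalAtId_isEquivalence_of_isFibGrpd h𝒴 U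
  obtain ⟨y, ⟨ι₀⟩⟩ := Functor.EssSurj.mem_essImage (evalAtId 𝒴 U) ((fiberFunctor f U).obj X')
  let ι : y.obj (Over.mk (𝟙 U)) ≅ f.obj X'.1 :=
    (Functor.Fiber.fiberInclusion (p := 𝒴.p) (S := U)).mapIso ι₀
  have hι : 𝒴.p.IsHomLift (𝟙 U) ι.hom := ι₀.hom.2
  have hisoφ : IsIso (𝒳.p.map φ.1) := by
    rw [IsHomLift.fac' 𝒳.p (𝟙 U) φ.1]; infer_instance
  have hφiso : IsIso φ.1 := isIso_of_isFibGrpd 𝒳.p h𝒳 φ.1
  let κ : f.obj X.1 ≅ f.obj X'.1 := f.toFunctor.mapIso (asIso φ.1)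
  have hκ : κ.hom = f.map φ.1 := rfl
  have hκlift : 𝒴.p.IsHomLift (𝟙 U) κ.hom := by rw [hκ]; infer_instance
  have hκinv : 𝒴.p.IsHomLift (𝟙 U) κ.inv := inferInstance
  let ι' : y.obj (Over.mk (𝟙 U)) ≅ f.obj X.1 := ι ≪≫ κ.symm
  have hι' : 𝒴.p.IsHomLift (𝟙 U) ι'.hom := by
    have : 𝒴.p.IsHomLift (𝟙 U ≫ 𝟙 U) (ι.hom ≫ κ.inv) := inferInstance
    rw [Category.comp_id] at this
    exact this
  let T' : (fp y f).obj := fpObjMk y f (Over.mk (𝟙 U)) X'.1 ι hι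
  let T : (fp y f).obj := fpObjMk y f (Over.mk (𝟙 U)) X.1 ι' hι'
  have w : y.map (𝟙 (Over.mk (𝟙 U))) ≫ ι.hom = ι'.hom ≫ f.map φ.1 := by
    change _ = (ι.hom ≫ κ.inv) ≫ f.map φ.1
    rw [← hκ, Category.assoc, Iso.inv_hom_id, Category.comp_id, y.map_id, Category.id_comp]
  have w' : y.map (𝟙 (Over.mk (𝟙 U))) ≫ ι.hom = ι'.hom ≫ f.map ψ.1 := by
    rw [← hfφψ]; exact w
  let Φ : T ⟶ T' := fpHomMk (𝟙 (Over.mk (𝟙 U))) φ.1 w
  let Ψ : T ⟶ T' := fpHomMk (𝟙 (Over.mk (𝟙 U))) ψ.1 w'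
  have hid : (overCat U).p.IsHomLift (𝟙 U) (𝟙 (Over.mk (𝟙 U))) := IsHomLift.id rfl
  have hΦ : (fp y f).p.IsHomLift (𝟙 U) Φ := (fp_isHomLift_iff y f (𝟙 U) Φ).mpr hid
  have hΨ : (fp y f).p.IsHomLift (𝟙 U) Ψ := (fp_isHomLift_iff y f (𝟙 U) Ψ).mpr hid
  have hΦΨ : Φ = Ψ := eq_of_isThin_fiber (H U y) (U := U) Φ Ψ
  apply Functor.Fiber.hom_ext
  exact congrArg (fun t => t.hom.snd) hΦΨ

end Groth.Agent.Lib.Helper65
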