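import Groth.Agent.Lib.Helper65.RepSp
import Groth.Agent.Lib.Helper65.SetoidPsh
import Groth.Agent.S12776
import Groth.Agent.S10091

/-!
# Helper65: base change of a morphism representable by algebraic spaces to an algebraic space
-/

set_option autoImplicit false
set_option backward.isDefEq.respectTransparency false
set_option backward.isDefEq.respectTransparency.types false

universe v₃ u₃ v₂ u₂ u

open CategoryTheory CategoryTheory.Functor CategoryTheory.Limits Opposite AlgebraicGeometry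

namespace Groth.Agent.Lib.Helper65

open FibCat Groth.Agent.Lib.Helper31

variable {S : Scheme.{u}}

section BaseChange

variable {𝒳 𝒴 𝒵 : AlgSt.Cat S}

/-- If `π : 𝒲 ⟶ ofSp Z` is representable by algebraic spaces, `Z` an algebraic space and `𝒲` fibred in
groupoids, then `𝒲` is representable by an algebraic space. -/
theorem repByAlgSp_of_repByAlgSp1_ofSp {𝒲 : AlgSt.Cat S} (h𝒲 : IsFibGrpd 𝒲.p) (Z : AlgSp.Space S)
    (π : 𝒲 ⥤ᵇ AlgSt.ofSp Z.obj) (hπ : AlgSt.RepByAlgSp1 π) : AlgSt.RepByAlgSp 𝒲 := by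
  have hZfib : IsFibGrpd (AlgSt.ofSp Z.obj).p := Stk.isFibGrpd_ofPsh _
  have hfaith : π.toFunctor.Faithful := Groth.Agent.S12776.result h𝒲 hZfib π hπ
  have hset : IsFibSetoid 𝒲.p := by
    refine ⟨h𝒲, fun U => fun a b => ⟨fun φ ψ => ?_⟩⟩
    apply Functor.Fiber.hom_ext
    have hφ : 𝒲.p.IsHomLift (𝟙 U) φ.1 := φ.2
    have hψ : 𝒲.p.IsHomLift (𝟙 U) ψ.1 := ψ.2
    have h1 : (AlgSt.ofSp Z.obj).p.IsHomLift (𝟙 U) (π.map φ.1) := BasedFunctor.preserves_isHomLift π _ _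
    have h2 : (AlgSt.ofSp Z.obj).p.IsHomLift (𝟙 U) (π.map ψ.1) := BasedFunctor.preserves_isHomLift π _ _
    have e : π.map φ.1 = π.map ψ.1 :=
      eq_of_isThin_fiber (U := U) (isThin_fiber_ofPsh Z.obj.obj) (π.map φ.1) (π.map ψ.1)
    exact hfaith.map_injective e
  obtain ⟨P, E, hE⟩ := exists_psh_of_isFibSetoid hset
  let a : P ⟶ Z.obj.obj := pshMapOf (BasedFunctor.comp E π)
  have ha1 : AlgSt.RepByAlgSp1 (Stk.ofPshMap a) := by
    rw [repByAlgSp1_iff_top] at hπ ⊢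
    exact repByAlgSpWith_of_square ⊤ π (Stk.ofPshMap a) E (BasedFunctor.id _) hE (isEquivOver_id _)
      (isoOfPshMap (BasedFunctor.comp E π)).symm hπ
  have ha : AlgSp.RepBySp a := repBySp_of_repByAlgSp1 a ha1
  obtain ⟨hsh, hsp⟩ := Groth.Agent.S10091.result S P Z.obj.obj a ha
    ((AlgSp.isAlgSpaceP_obj_iff Z.obj).2 Z.property)
  exact ⟨⟨⟨P, hsh⟩, hsp⟩, E, hE⟩

/-- The base change of a morphism representable by algebraic spaces to a category representable by an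
algebraic space is representable by an algebraic space. -/
theorem repByAlgSp_fp_of_repByAlgSp (h𝒳 : IsFibGrpd 𝒳.p) (h𝒴 : IsFibGrpd 𝒴.p)
    (f : 𝒳 ⥤ᵇ 𝒴) (g : 𝒵 ⥤ᵇ 𝒴) (hf : AlgSt.RepByAlgSp1 f) (hZ : AlgSt.RepByAlgSp 𝒵) :
    AlgSt.RepByAlgSp (fp g f) := by
  obtain ⟨Z, eZ, heZ⟩ := hZ
  let g' : AlgSt.ofSp Z.obj ⥤ᵇ 𝒴 := BasedFunctor.comp eZ g
  let Φ : fp g' f ⥤ᵇ fp g f :=
    fpMap (F := g') (G := f) (F' := g) (G' := f) eZ (BasedFunctor.id _) (BasedFunctor.id _)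
      (Iso.refl _) (Iso.refl _)
  have hΦ : IsEquivOver Φ := fpMap_isEquivOver _ _ _ _ _ heZ (isEquivOver_id _) (isEquivOver_id _)
  refine repByAlgSp_of_equivOver Φ hΦ ?_
  have hπ : AlgSt.RepByAlgSp1 (fpFst g' f) :=
    (repByAlgSp1_iff_top _).2 (repByAlgSpWith_fpFst ⊤ f g' ((repByAlgSp1_iff_top f).1 hf))
  have hfib : IsFibGrpd (fp g' f).p := isFibGrpd_fp g' f (Stk.isFibGrpd_ofPsh _) h𝒳 h𝒴
  exact repByAlgSp_of_repByAlgSp1_ofSp hfib Z (fpFst g' f) hπ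

end BaseChange

end Groth.Agent.Lib.Helper65
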