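import Groth.Agent.Lib.Helper65.LocSurjFam
import Groth.Agent.Lib.Helper65.FppfLift
import Groth.Agent.Lib.Helper65.GerbeHomeo
import Groth.Agent.Lib.Helper65.FpSwap
import Groth.Agent.Lib.Helper65.RepSp2
import Groth.Agent.Lib.Helper65.LocalProps
import Groth.Agent.Lib.Helper66.AlgStQC5

/-!
# Helper65: a section of a gerbe over an algebraic space is flat, locally of finite presentation and surjective
-/

set_option autoImplicit false
set_option backward.isDefEq.respectTransparency false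
set_option backward.isDefEq.respectTransparency.types false

universe u

open CategoryTheory CategoryTheory.Functor CategoryTheory.Limits Opposite AlgebraicGeometry

namespace Groth.Agent.Lib.Helper65.GerbeSection

open FibCat Groth.Agent.Lib.Helper31 Groth.Agent.Lib.Helper65 Groth.Agent.Lib.Helper51 Gerb

variable {S : Scheme.{u}} {𝒳 𝒲 : AlgSt.Cat S}

/-- Two functors from a slice to a category fibred in groupoids are isomorphic as soon as their values at the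
identity are connected by a morphism over the identity. -/
theorem nonempty_iso_of_hom_at_id (h𝒳 : IsFibGrpd 𝒳.p) {V : Over S} (A B : FibCat.overCat V ⥤ᵇ 𝒳)
    (κ : A.obj (Over.mk (𝟙 V)) ⟶ B.obj (Over.mk (𝟙 V))) (hκ : 𝒳.p.IsHomLift (𝟙 V) κ) :
    Nonempty (A ≅ B) := by
  have hE : (FibCat.evalAtId 𝒳 V).IsEquivalence := evalAtId_isEquivalence_of_isFibGrpd h𝒳 _
  have := isGroupoid_fiber_of_isFibGrpd 𝒳.p h𝒳 V
  let mκ : (FibCat.evalAtId 𝒳 V).obj A ⟶ (FibCat.evalAtId 𝒳 V).obj B := ⟨κ, hκ⟩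
  exact ⟨(FibCat.evalAtId 𝒳 V).preimageIso (asIso mκ)⟩

/-- A covering sieve contains an fppf family of schemes generating a covering sieve. -/
theorem exists_fppf_family_generate {W : Over S} {R : Sieve W} (hR : R ∈ AlgSp.J S W) :
    ∃ (ι : Type u) (V : ι → Over S) (h : ∀ i, V i ⟶ W), (∀ i, R.arrows (h i)) ∧
      (∀ i, Flat (h i).left) ∧ (∀ i, LocallyOfFinitePresentation (h i).left) ∧
      Sieve.generate (Presieve.ofArrows V h) ∈ AlgSp.J S W := by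
  have hR' := hR
  rw [GrothendieckTopology.mem_over_iff] at hR
  have := Groth.Agent.Lib.Helper54.isMultiplicative_lfp.{u}
  obtain ⟨𝒰, h𝒰⟩ := (Scheme.mem_grothendieckTopology_iff
    (P := (@Flat ⊓ @LocallyOfFinitePresentation : MorphismProperty Scheme.{u}))).1 hR
  refine ⟨𝒰.I₀, fun i => Over.mk (𝒰.f i ≫ W.hom), fun i => Over.homMk (𝒰.f i) rfl, fun i => ?_,
    fun i => (𝒰.map_prop i).1, fun i => (𝒰.map_prop i).2, ?_⟩
  · have h1 := h𝒰 _ _ (Presieve.ofArrows.mk i)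
    rw [Sieve.overEquiv_iff] at h1
    exact h1
  · rw [AlgSp.J_eq, GrothendieckTopology.mem_over_iff]
    refine (Scheme.mem_grothendieckTopology_iff
      (P := (@Flat ⊓ @LocallyOfFinitePresentation : MorphismProperty Scheme.{u}))).2 ⟨𝒰, ?_⟩
    rintro _ _ ⟨i⟩
    rw [Sieve.overEquiv_iff]
    exact Sieve.le_generate _ _ _ (Presieve.ofArrows.mk (ι := 𝒰.I₀)
      (Y := fun i => Over.mk (𝒰.f i ≫ W.hom)) (f := fun i => Over.homMk (𝒰.f i) rfl) i)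

/-- A flat, locally finitely presented, surjective morphism representable by algebraic spaces is locally
surjective on objects for the fppf topology. -/
theorem locSurjObj_of_fppf (h𝒳 : IsFibGrpd 𝒳.p) (h𝒲 : IsFibGrpd 𝒲.p) (φ : 𝒲 ⥤ᵇ 𝒳)
    (hφ₁ : AlgSt.RepByAlgSpWith (AlgSp.LocP @Flat) φ)
    (hφ₂ : AlgSt.RepByAlgSpWith (AlgSp.LocP @LocallyOfFinitePresentation) φ)
    (hφ₃ : AlgSt.IsSurjective φ) : LocSurjObj (AlgSp.J S) φ := by
  apply locSurjObj_of_objSieve _ h𝒲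
  intro p₀
  obtain ⟨p, ε, hε⟩ := EssDim.exists_functor_of_obj_over h𝒳 p₀ (𝒳.p.obj p₀) rfl
  obtain ⟨V, g, x', ⟨i⟩, hfl, hfp, hsurj⟩ := FppfLift.exists_chart_lift h𝒳 h𝒲 φ hφ₁ hφ₂ _ p
  have hgs : Surjective g.left := ⟨fun t => by
    obtain ⟨z', hz'⟩ := (overPts_bijective _).2 (AlgSp.Points.schemeHomeo _ t)
    obtain ⟨r, hr⟩ := hφ₃ (AlgSt.Points.map p z')
    obtain ⟨v, hv⟩ := hsurj z' ⟨r, hr.symm⟩
    exact ⟨v, by rw [hv, hz']; simp⟩⟩
  apply mem_J_of_fppf g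
  let m : (AlgSt.overMap g).obj (Over.mk (𝟙 V)) ⟶ Over.mk (𝟙 (𝒳.p.obj p₀)) :=
    Over.homMk g (by simp [AlgSt.overMap])
  have hm : (FibCat.overCat (𝒳.p.obj p₀)).p.IsHomLift g m :=
    (inferInstance : (FibCat.overCat (𝒳.p.obj p₀)).p.IsHomLift
      ((FibCat.overCat (𝒳.p.obj p₀)).p.map m) m)
  have hpm : 𝒳.p.IsHomLift g (p.map m) := inferInstance
  have := isIso_of_isHomLift_id h𝒳 ε hε
  have hinv : 𝒳.p.IsHomLift (𝟙 (𝒳.p.obj p₀)) (inv ε) := inferInstance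
  have hi : 𝒳.p.IsHomLift (𝟙 V) (i.hom.toNatTrans.app (Over.mk (𝟙 V))) :=
    BasedNatTrans.isHomLift i.hom rfl
  refine ⟨x'.obj (Over.mk (𝟙 V)), i.hom.toNatTrans.app (Over.mk (𝟙 V)) ≫ p.map m ≫ inv ε, ?_⟩
  exact isHomLift_comp_id_left 𝒳.p g _ _ hi (isHomLift_comp_id_right 𝒳.p g _ _ hpm hinv)

section Section

variable {U : AlgSp.Sp S} (π : 𝒳 ⥤ᵇ AlgSt.ofSp U) (x : AlgSt.ofSp U ⥤ᵇ 𝒳)
  (e : BasedFunctor.comp x π ≅ BasedFunctor.id (AlgSt.ofSp U))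

include e in
/-- Objects of a gerbe with a section are locally isomorphic to the value of the section. -/
theorem exists_sieve_local_iso (h𝒳 : IsFibGrpd 𝒳.p) (hπ : LocSurjHom (AlgSp.J S) π)
    (p : 𝒳.obj) (T : Over S) (hp : 𝒳.p.obj p = T) :
    ∃ R ∈ AlgSp.J S T, ∀ ⦃V : Over S⦄ (h : V ⟶ T), R.arrows h → ∀ (p' : 𝒳.obj) (c : p' ⟶ p),
      𝒳.p.IsHomLift h c → ∃ ι : x.obj (π.obj p') ⟶ p', 𝒳.p.IsHomLift (𝟙 V) ι := by
  have hπp : (AlgSt.ofSp U).p.obj (π.obj p) = T := (π.w_obj p).trans hp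
  let b : π.obj p ⟶ π.obj (x.obj (π.obj p)) := e.inv.toNatTrans.app (π.obj p)
  have hb : (AlgSt.ofSp U).p.IsHomLift (𝟙 T) b := BasedNatTrans.isHomLift e.inv hπp
  refine ⟨homSieve h𝒳 π p (x.obj (π.obj p)) hp b, homSieve_mem _ h𝒳 π hπ p _ hp b hb, ?_⟩
  rintro V h ⟨x₀, φ, ψ, hφ, hψ, -⟩ p' c hc
  obtain ⟨ι₁, hι₁, -⟩ := exists_comparison h𝒳 h c hc φ hφ
  have hπc : (AlgSt.ofSp U).p.IsHomLift h (π.map c) := BasedFunctor.preserves_isHomLift π h c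
  have hxc : 𝒳.p.IsHomLift h (x.map (π.map c)) := BasedFunctor.preserves_isHomLift x h _
  obtain ⟨ι₂, hι₂, -⟩ := exists_comparison h𝒳 h (x.map (π.map c)) hxc ψ hψ
  have hι₂inv : 𝒳.p.IsHomLift (𝟙 V) ι₂.inv := by
    have : 𝒳.p.IsHomLift (𝟙 V) (inv ι₂.hom) := inferInstance
    simpa using this
  exact ⟨ι₂.inv ≫ ι₁.hom, isHomLift_comp_id_left 𝒳.p _ _ _ hι₂inv hι₁⟩

include e in
theorem locSurjObj_section (h𝒳 : IsFibGrpd 𝒳.p) (hπ : LocSurjHom (AlgSp.J S) π) :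
    LocSurjObj (AlgSp.J S) x := by
  intro p
  obtain ⟨R, hR, hR'⟩ := exists_sieve_local_iso π x e h𝒳 hπ p _ rfl
  refine ⟨R, hR, fun V h hh => ?_⟩
  obtain ⟨p', c, hc⟩ := h𝒳.exists_lift (x := p) h
  obtain ⟨ι, hι⟩ := hR' h hh p' c hc
  exact ⟨π.obj p', ι ≫ c, isHomLift_comp_id_left 𝒳.p _ _ _ hι hc⟩

end Section

section Core

open Groth.Agent.Lib.Helper66

theorem locP_flat_yon_map {T W : Over S} (g : T ⟶ W) (hg : Flat g.left) :
    AlgSp.LocP @Flat ((AlgSp.yon S).map g) := by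
  have k := Groth.Agent.Lib.Helper54.locP_yon_map_comp (S := S) @Flat
    (fun A B φ hφ => by have : Etale φ := hφ; exact (inferInstance : Flat φ))
    g hg (𝟙 _) (AlgSp.repWith_id _ W)
  rwa [Category.comp_id] at k

theorem locP_lfp_yon_map {T W : Over S} (g : T ⟶ W) (hg : LocallyOfFinitePresentation g.left) :
    AlgSp.LocP @LocallyOfFinitePresentation ((AlgSp.yon S).map g) := by
  have := Groth.Agent.Lib.Helper54.isMultiplicative_lfp.{u}
  have k := Groth.Agent.Lib.Helper54.locP_yon_map_comp (S := S) @LocallyOfFinitePresentation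
    (fun A B φ hφ => by have : Etale φ := hφ; exact (inferInstance : LocallyOfFinitePresentation φ))
    g hg (𝟙 _) (AlgSp.repWith_id _ W)
  rwa [Category.comp_id] at k

/-- Descent of flat / locally of finite presentation along a jointly locally surjective family. -/
theorem flat_lfp_of_locSurj_family {𝒳₁ 𝒴 : AlgSt.Cat S} {κ : Type u}
    (h𝒳₁ : IsFibGrpd 𝒳₁.p) (h𝒴 : IsFibGrpd 𝒴.p)
    (f : 𝒳₁ ⥤ᵇ 𝒴) (hf : AlgSt.RepByAlgSp1 f)
    (𝒲 : κ → AlgSt.Cat S) (h𝒲 : ∀ j, IsFibGrpd (𝒲 j).p)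
    (r : ∀ j, 𝒲 j ⥤ᵇ 𝒳₁) (f' : ∀ j, 𝒲 j ⥤ᵇ 𝒴) (θ : ∀ j, BasedFunctor.comp (r j) f ≅ f' j)
    (hr : ∀ x₁ : 𝒳₁.obj, ∃ R ∈ AlgSp.J S (𝒳₁.p.obj x₁), ∀ ⦃V : Over S⦄ (t : V ⟶ 𝒳₁.p.obj x₁),
      R.arrows t → ∃ (j : κ) (w : (𝒲 j).obj) (γ : (r j).obj w ⟶ x₁), 𝒳₁.p.IsHomLift t γ) :
    ((∀ j, AlgSt.RepByAlgSpWith (AlgSp.LocP @Flat) (f' j)) →
        AlgSt.RepByAlgSpWith (AlgSp.LocP @Flat) f) ∧
      ((∀ j, AlgSt.RepByAlgSpWith (AlgSp.LocP @LocallyOfFinitePresentation) (f' j)) →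
        AlgSt.RepByAlgSpWith (AlgSp.LocP @LocallyOfFinitePresentation) f) :=
  ⟨LocSurjFam.repByAlgSpWith_of_locSurj_family (AlgSp.LocP @Flat)
      (fun hX hY g h hg hgh => (FppfSurjFam.main hX hY g h hg).1 hgh) h𝒳₁ h𝒴 f hf 𝒲 h𝒲 r f' θ hr,
    LocSurjFam.repByAlgSpWith_of_locSurj_family (AlgSp.LocP @LocallyOfFinitePresentation)
      (fun hX hY g h hg hgh => (FppfSurjFam.main hX hY g h hg).2.2 hgh) h𝒳₁ h𝒴 f hf 𝒲 h𝒲 r f' θ hr⟩

/-- **A section of a gerbe over an algebraic space is flat, locally of finite presentation and surjective.** -/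
theorem section_flat_lfp_surjective (h𝒳 : AlgSt.IsAlgStack Scheme.fppfPrecoverage 𝒳) (U : AlgSp.Space S)
    (π : 𝒳 ⥤ᵇ AlgSt.ofSp U.obj) (hπ : IsGerbeOver (AlgSp.J S) π)
    (x : AlgSt.ofSp U.obj ⥤ᵇ 𝒳) (e : BasedFunctor.comp x π ≅ BasedFunctor.id (AlgSt.ofSp U.obj)) :
    AlgSt.RepByAlgSpWith (AlgSp.LocP @Flat) x ∧
      AlgSt.RepByAlgSpWith (AlgSp.LocP @LocallyOfFinitePresentation) x ∧
      AlgSt.RepByAlgSpWith AlgSp.IsSurjectiveMor x := by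
  have hfX : IsFibGrpd 𝒳.p := h𝒳.isStack.1
  have hfU : IsFibGrpd (AlgSt.ofSp U.obj).p := Stk.isFibGrpd_ofPsh _
  have hx1 : AlgSt.RepByAlgSp1 x := fun T y =>
    repByAlgSp_of_equivOver (fpSwap x y) (fpSwap_isEquivOver x y)
      (repByAlgSp_fp_of_repByAlgSp (isFibGrpd_overForget T) hfX y x
        (repByAlgSp1_of_diag h𝒳.diag T y) ⟨U, BasedFunctor.id _, isEquivOver_id _⟩)
  obtain ⟨W, a, ha1, ha2⟩ := h𝒳.atlas
  have hfW : IsFibGrpd (FibCat.overCat W).p := isFibGrpd_overForget W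
  have haf : AlgSt.RepByAlgSpWith (AlgSp.LocP @Flat) a :=
    repByAlgSpWith_mono (locP_mono smooth_le_flat) _ ha1
  have hap : AlgSt.RepByAlgSpWith (AlgSp.LocP @LocallyOfFinitePresentation) a :=
    repByAlgSpWith_mono (locP_mono smooth_le_lfp) _ ha1
  have has : AlgSt.IsSurjective a := isSurjective_of_repByAlgSpWith hfW hfX a ha2
  have haL : LocSurjObj (AlgSp.J S) a := locSurjObj_of_fppf hfX hfW a haf hap has
  let x' : FibCat.overCat W ⥤ᵇ 𝒳 := BasedFunctor.comp (BasedFunctor.comp a π) x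
  have hx'1 : AlgSt.RepByAlgSp1 x' := repByAlgSp1_of_diag h𝒳.diag W x'
  obtain ⟨R, hR, hR'⟩ :=
    exists_sieve_local_iso π x e hfX hπ.2 (a.obj (Over.mk (𝟙 W))) W (a.w_obj _)
  obtain ⟨ι, V, h, hRh, hfl, hfp, hgen⟩ := exists_fppf_family_generate hR
  have hθ : ∀ i, Nonempty (BasedFunctor.comp (AlgSt.overMap (h i)) x' ≅
      BasedFunctor.comp (AlgSt.overMap (h i)) a) := fun i => by
    let m : (AlgSt.overMap (h i)).obj (Over.mk (𝟙 (V i))) ⟶ Over.mk (𝟙 W) :=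
      Over.homMk (h i) (by simp [AlgSt.overMap])
    have hm : (FibCat.overCat W).p.IsHomLift (h i) m :=
      (inferInstance : (FibCat.overCat W).p.IsHomLift ((FibCat.overCat W).p.map m) m)
    have ham : 𝒳.p.IsHomLift (h i) (a.map m) := BasedFunctor.preserves_isHomLift a (h i) m
    obtain ⟨κ, hκ⟩ := hR' (h i) (hRh i) _ (a.map m) ham
    exact nonempty_iso_of_hom_at_id hfX _ _ κ hκ
  have hr1 : ∀ a₁ : (FibCat.overCat W).obj, ∃ R' ∈ AlgSp.J S ((FibCat.overCat W).p.obj a₁),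
      ∀ ⦃T' : Over S⦄ (t : T' ⟶ (FibCat.overCat W).p.obj a₁), R'.arrows t →
        ∃ (j : ι) (w : (FibCat.overCat (V j)).obj) (γ : (AlgSt.overMap (h j)).obj w ⟶ a₁),
          (FibCat.overCat W).p.IsHomLift t γ := by
    intro a₁
    refine ⟨(Sieve.generate (Presieve.ofArrows V h)).pullback a₁.hom,
      (AlgSp.J S).pullback_stable a₁.hom hgen, ?_⟩
    rintro T' t ⟨Y, k, g, ⟨j⟩, hk⟩
    let γ : (AlgSt.overMap (h j)).obj (Over.mk k) ⟶ a₁ := Over.homMk t (by simpa [AlgSt.overMap] using hk.symm)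
    exact ⟨j, Over.mk k, γ,
      (inferInstance : (FibCat.overCat W).p.IsHomLift ((FibCat.overCat W).p.map γ) γ)⟩
  have step1 := flat_lfp_of_locSurj_family (κ := ι) hfW hfX x' hx'1
    (fun i => FibCat.overCat (V i)) (fun i => isFibGrpd_overForget (V i))
    (fun i => AlgSt.overMap (h i)) (fun i => BasedFunctor.comp (AlgSt.overMap (h i)) a)
    (fun i => Classical.choice (hθ i)) hr1
  have hx'f : AlgSt.RepByAlgSpWith (AlgSp.LocP @Flat) x' := step1.1 fun i =>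
    AlgStQC5.repByAlgSpWith_overMap_comp @Flat (Or.inr (Or.inr (Or.inl rfl)))
      isLocalOnBase_fppf_locP_flat (h i) (locP_flat_yon_map (h i) (hfl i)) a haf
  have hx'p : AlgSt.RepByAlgSpWith (AlgSp.LocP @LocallyOfFinitePresentation) x' := step1.2 fun i =>
    AlgStQC5.repByAlgSpWith_overMap_comp @LocallyOfFinitePresentation (Or.inr (Or.inl rfl))
      isLocalOnBase_fppf_locP_lfp (h i) (locP_lfp_yon_map (h i) (hfp i)) a hap
  have hr2 : ∀ u₁ : (AlgSt.ofSp U.obj).obj, ∃ R' ∈ AlgSp.J S ((AlgSt.ofSp U.obj).p.obj u₁),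
      ∀ ⦃T' : Over S⦄ (t : T' ⟶ (AlgSt.ofSp U.obj).p.obj u₁), R'.arrows t →
        ∃ (_ : PUnit.{u + 1}) (w : (FibCat.overCat W).obj)
          (γ : (BasedFunctor.comp a π).obj w ⟶ u₁), (AlgSt.ofSp U.obj).p.IsHomLift t γ := by
    intro u₁
    obtain ⟨R', hR', h'⟩ := locSurjObj_comp (AlgSp.J S) hfW hfX a π haL hπ.1 u₁
    exact ⟨R', hR', fun T' t ht => by
      obtain ⟨w, γ, hγ⟩ := h' t ht
      exact ⟨PUnit.unit, w, γ, hγ⟩⟩
  have step2 := flat_lfp_of_locSurj_family (κ := PUnit.{u + 1}) hfU hfX x hx1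
    (fun _ => FibCat.overCat W) (fun _ => hfW)
    (fun _ => BasedFunctor.comp a π) (fun _ => x') (fun _ => Iso.refl _) hr2
  refine ⟨step2.1 fun _ => hx'f, step2.2 fun _ => hx'p, ?_⟩
  exact repByAlgSpWith_isSurjectiveMor_of_isSurjective hfU hfX x hx1
    (GerbeHomeo.surjective_of_locSurjObj hfU x (locSurjObj_section π x e hfX hπ.2))

end Core

end Groth.Agent.Lib.Helper65.GerbeSection
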