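import Groth.Agent.Lib.Helper65.RepPsh
import Groth.Agent.Lib.Helper65.DiagRep
import Groth.Agent.S9874

/-!
# Helper65: categories representable by algebraic spaces; the diagonal criterion for `RepByAlgSp1`
-/

set_option autoImplicit false
set_option backward.isDefEq.respectTransparency false
set_option backward.isDefEq.respectTransparency.types false

universe v₃ u₃ v₂ u₂ u

open CategoryTheory CategoryTheory.Functor CategoryTheory.Limits Opposite AlgebraicGeometry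

namespace Groth.Agent.Lib.Helper65

open FibCat Groth.Agent.Lib.Helper31

variable {S : Scheme.{u}}

section Basic

variable {𝒳 : BasedCategory.{v₂, u₂} (Over S)} {𝒴 : BasedCategory.{v₃, u₃} (Over S)}

theorem repByAlgSp_of_equivOver (e : 𝒳 ⥤ᵇ 𝒴) (he : IsEquivOver e) (h : AlgSt.RepByAlgSp 𝒳) :
    AlgSt.RepByAlgSp 𝒴 := by
  obtain ⟨F, e', he'⟩ := h
  exact ⟨F, BasedFunctor.comp e' e, isEquivOver_comp e' e he' he⟩

theorem repByAlgSp_iff_of_equivOver (e : 𝒳 ⥤ᵇ 𝒴) (he : IsEquivOver e) :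
    AlgSt.RepByAlgSp 𝒳 ↔ AlgSt.RepByAlgSp 𝒴 := by
  refine ⟨repByAlgSp_of_equivOver e he, ?_⟩
  obtain ⟨e', he', -, -⟩ := exists_inverse_equivOver e he
  exact repByAlgSp_of_equivOver e' he'

/-- Every map between algebraic spaces is representable by algebraic spaces. -/
theorem repBySp_of_space {F G : AlgSp.Space S} (a : F.obj ⟶ G.obj) : AlgSp.RepBySp a.hom := by
  rw [AlgSp.repBySp_hom_iff]
  intro U ξ F' fst snd sq
  exact Groth.Agent.S9874.result S G.obj G.property.diag F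
    ⟨(AlgSp.yon S).obj U, AlgSp.IsAlgSpace.yon_obj U⟩ a ξ F' fst snd sq

theorem repByAlgSp_overCat (U : Over S) : AlgSt.RepByAlgSp (overCat U) :=
  ⟨⟨(AlgSp.yon S).obj U, AlgSp.IsAlgSpace.yon_obj U⟩, AlgSt.toOverCat U, toOverCat_isEquivOver U⟩

end Basic

section Mor

variable {𝒳 𝒴 : AlgSt.Cat S}

/-- Every functor over `(Sch/S)` between categories representable by algebraic spaces is
representable by algebraic spaces. -/
theorem repByAlgSp1_of_repByAlgSp (f : 𝒳 ⥤ᵇ 𝒴) (hX : AlgSt.RepByAlgSp 𝒳) (hY : AlgSt.RepByAlgSp 𝒴) :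
    AlgSt.RepByAlgSp1 f := by
  obtain ⟨F, eX, heX⟩ := hX
  obtain ⟨G, eY, heY⟩ := hY
  obtain ⟨eY', heY', ⟨i1⟩, ⟨i2⟩⟩ := exists_inverse_equivOver eY heY
  let f' : AlgSt.ofSp F.obj ⥤ᵇ AlgSt.ofSp G.obj := BasedFunctor.comp (BasedFunctor.comp eX f) eY'
  let a : F.obj.obj ⟶ G.obj.obj := pshMapOf f'
  have h1 : AlgSt.RepByAlgSp1 (Stk.ofPshMap a) :=
    repByAlgSp1_of_repBySp a (repBySp_of_space (F := F) (G := G) (ObjectProperty.homMk a))
  have e : BasedFunctor.comp (Stk.ofPshMap a) eY ≅ BasedFunctor.comp eX f :=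
    bWhiskerRightIso (isoOfPshMap f').symm eY ≪≫
      bWhiskerLeftIso (BasedFunctor.comp eX f) i2
  rw [repByAlgSp1_iff_top] at h1 ⊢
  exact repByAlgSpWith_of_square' ⊤ f (Stk.ofPshMap a) eX eY heX heY e h1

end Mor

section Diag

open Groth.Agent.Lib.Helper90.LiftSqComp Groth.Agent.Lib.Helper66.StackCmp

variable {𝒮 : AlgSt.Cat S}

/-- If the diagonal of `𝒮` is representable by algebraic spaces, every `(Sch/U) ⟶ 𝒮` is. -/
theorem repByAlgSp1_of_diag
    (hΔ : AlgSt.RepByAlgSp1 (diag (toSelf 𝒮))) (U : Over S) (G : overCat U ⥤ᵇ 𝒮) :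
    AlgSt.RepByAlgSp1 G := by
  intro V H
  let t := toSelf 𝒮
  let e : BasedFunctor.comp (fpFst H G) (BasedFunctor.comp H t) ≅
      BasedFunctor.comp (fpSnd H G) (BasedFunctor.comp G t) :=
    Groth.Agent.Lib.Helper90.LiftSqComp.whiskerRightIso (fpIso H G) t
  have he : ∀ x, app e.hom x = t.map x.obj.iso.hom := fun x => rfl
  obtain ⟨y, hy⟩ := exists_prodSlice_equiv H G
  have h1 : AlgSt.RepByAlgSp (fp (BasedFunctor.comp y (cQ H G t)) (diag t)) :=
    hΔ (V ⨯ U) (BasedFunctor.comp y (cQ H G t))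
  have h2 : AlgSt.RepByAlgSp (fp y (cI H G t e)) :=
    (repByAlgSp_iff_of_equivOver (cTh H G t e y he) (isEquivOver_cTh H G t e y he)).1 h1
  exact (repByAlgSp_iff_of_equivOver (fpSnd y (cI H G t e))
    (fpSnd_isEquivOver y (cI H G t e) hy)).1 h2

/-- If every `(Sch/U) ⟶ 𝒮` is representable by algebraic spaces, so is the diagonal. -/
theorem repByAlgSp1_diag_of_all
    (hAll : ∀ (U : Over S) (G : overCat U ⥤ᵇ 𝒮), AlgSt.RepByAlgSp1 G) :
    AlgSt.RepByAlgSp1 (diag (toSelf 𝒮)) := by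
  intro W y
  let t := toSelf 𝒮
  let a : overCat W ⥤ᵇ 𝒮 := BasedFunctor.comp y (fpFst t t)
  let b : overCat W ⥤ᵇ 𝒮 := BasedFunctor.comp y (fpSnd t t)
  let e : BasedFunctor.comp (fpFst a b) (BasedFunctor.comp a t) ≅
      BasedFunctor.comp (fpSnd a b) (BasedFunctor.comp b t) :=
    Groth.Agent.Lib.Helper90.LiftSqComp.whiskerRightIso (fpIso a b) t
  have he : ∀ x, app e.hom x = t.map x.obj.iso.hom := fun x => rfl
  let ε : BasedFunctor.comp (BasedFunctor.id (overCat W)) (BasedFunctor.comp a t) ≅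
      BasedFunctor.comp (BasedFunctor.id (overCat W)) (BasedFunctor.comp b t) :=
    Groth.Agent.Lib.Helper90.LiftSqComp.whiskerLeftIso y (fpIso t t)
  let δ : overCat W ⥤ᵇ fp (BasedFunctor.comp a t) (BasedFunctor.comp b t) :=
    fpLift (BasedFunctor.id _) (BasedFunctor.id _) ε
  have κ : BasedFunctor.comp δ (cQ a b t) ≅ y :=
    Groth.Agent.Lib.Helper90.LiftSqFp.fpIsoMk (Iso.refl _) (Iso.refl _) (fun w => by
      change t.map (𝟙 _) ≫ (y.obj w).obj.iso.hom = (y.obj w).obj.iso.hom ≫ t.map (𝟙 _)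
      rw [t.map_id, t.map_id, Category.id_comp, Category.comp_id])
  let Φ : fp y (diag t) ⥤ᵇ fp (BasedFunctor.comp δ (cQ a b t)) (diag t) :=
    fpMap (F := y) (G := diag t) (F' := BasedFunctor.comp δ (cQ a b t)) (G' := diag t)
      (BasedFunctor.id _) (BasedFunctor.id _) (BasedFunctor.id _) κ.symm (Iso.refl _)
  have hΦ : IsEquivOver Φ := fpMap_isEquivOver _ _ _ _ _ (isEquivOver_id _) (isEquivOver_id _)
    (isEquivOver_id _)
  have hfp : AlgSt.RepByAlgSp (fp a b) := hAll W b W a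
  have hP : AlgSt.RepByAlgSp (fp (BasedFunctor.comp a t) (BasedFunctor.comp b t)) := by
    obtain ⟨y', hy'⟩ := exists_prodSlice_equiv a b
    exact (repByAlgSp_iff_of_equivOver y' hy').1 (repByAlgSp_overCat (W ⨯ W))
  have hcI : AlgSt.RepByAlgSp1 (cI a b t e) := repByAlgSp1_of_repByAlgSp _ hfp hP
  have h1 : AlgSt.RepByAlgSp (fp δ (cI a b t e)) := hcI W δ
  have h2 : AlgSt.RepByAlgSp (fp (BasedFunctor.comp δ (cQ a b t)) (diag t)) :=
    (repByAlgSp_iff_of_equivOver (cTh a b t e δ he) (isEquivOver_cTh a b t e δ he)).2 h1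
  obtain ⟨Φ', hΦ', -, -⟩ := exists_inverse_equivOver Φ hΦ
  exact repByAlgSp_of_equivOver Φ' hΦ' h2

end Diag

end Groth.Agent.Lib.Helper65
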