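import Groth.Agent.Lib.Helper65.StPoints
import Groth.Agent.Lib.Helper65.RepDesc
import Groth.Agent.H52.Points

/-!
# Helper65: points of stacks: functoriality, invariance under equivalences, comparison with the points of sheaves,
points of `(Sch/U)`
-/

set_option autoImplicit false
set_option backward.isDefEq.respectTransparency false
set_option backward.isDefEq.respectTransparency.types false

universe u

open CategoryTheory CategoryTheory.Functor CategoryTheory.Limits Opposite AlgebraicGeometry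

namespace Groth.Agent.Lib.Helper65

open FibCat Groth.Agent.Lib.Helper31

variable {S : Scheme.{u}}

section Functoriality

variable {𝒳 𝒴 𝒵 : AlgSt.Cat S}

theorem points_map_comp (f : 𝒳 ⥤ᵇ 𝒴) (g : 𝒴 ⥤ᵇ 𝒵) (x : AlgSt.Points 𝒳) :
    AlgSt.Points.map (BasedFunctor.comp f g) x = AlgSt.Points.map g (AlgSt.Points.map f x) := by
  obtain ⟨p, rfl⟩ := AlgSt.Points.mk_surjective x
  rfl

theorem points_map_id (x : AlgSt.Points 𝒳) : AlgSt.Points.map (BasedFunctor.id 𝒳) x = x := by
  obtain ⟨p, rfl⟩ := AlgSt.Points.mk_surjective x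
  rfl

/-- 2-isomorphic functors induce the same map on points. -/
theorem points_map_congr {f g : 𝒳 ⥤ᵇ 𝒴} (e : f ≅ g) (x : AlgSt.Points 𝒳) :
    AlgSt.Points.map f x = AlgSt.Points.map g x := by
  obtain ⟨p, rfl⟩ := AlgSt.Points.mk_surjective x
  exact AlgSt.Points.sound ⟨p.map f, 𝟙 _, e.hom.toNatTrans.app p.obj, trivial⟩

theorem points_map_bijective_of_isEquivOver (e : 𝒳 ⥤ᵇ 𝒴) (he : IsEquivOver e) :
    Function.Bijective (AlgSt.Points.map e) := by
  obtain ⟨e', ⟨i₁⟩, ⟨i₂⟩⟩ := he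
  refine Function.bijective_iff_has_inverse.2 ⟨AlgSt.Points.map e', fun x => ?_, fun y => ?_⟩
  · rw [← points_map_comp, points_map_congr i₁, points_map_id]
  · rw [← points_map_comp, points_map_congr i₂, points_map_id]

end Functoriality

section Bridge

variable {F G : AlgSp.Sp S}

/-- The field-valued point of the sheaf `F` of a field-valued point of its category. -/
noncomputable def toFieldPt (p : AlgSt.FPt (AlgSt.ofSp F)) : AlgSp.FieldPt F :=
  { K := p.K, str := p.str, val := F.obj.map (eqToHom p.lies.symm).op p.obj.sec }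

/-- The field-valued point of the category of `F` of a field-valued point of the sheaf `F`. -/
noncomputable def ofFieldPt (q : AlgSp.FieldPt F) : AlgSt.FPt (AlgSt.ofSp F) :=
  { K := q.K, str := q.str, obj := ⟨Over.mk q.str, q.val⟩, lies := rfl }

theorem toFieldPt_ofFieldPt (q : AlgSp.FieldPt F) : toFieldPt (ofFieldPt q) = q := by
  obtain ⟨K, str, val⟩ := q
  change AlgSp.FieldPt.mk K str (F.obj.map (𝟙 _) val) = _
  rw [FunctorToTypes.map_id_apply]

theorem toFieldPt_rel {p q : AlgSt.FPt (AlgSt.ofSp F)} (h : AlgSt.FPt.Rel p q) :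
    AlgSp.FieldPt.Rel (toFieldPt p) (toFieldPt q) := by
  obtain ⟨r, a, b, -⟩ := h
  refine ⟨r.K, inferInstance, r.str, eqToHom r.lies.symm ≫ a.hom ≫ eqToHom p.lies,
    eqToHom r.lies.symm ≫ b.hom ≫ eqToHom q.lies, ?_⟩
  have key : ∀ (s : AlgSt.FPt (AlgSt.ofSp F)) (c : r.obj ⟶ s.obj),
      F.obj.map (eqToHom r.lies.symm ≫ c.hom ≫ eqToHom s.lies).op (toFieldPt s).val =
        F.obj.map (eqToHom r.lies.symm).op r.obj.sec := by
    intro s c
    change F.obj.map _ (F.obj.map _ s.obj.sec) = _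
    rw [← FunctorToTypes.map_comp_apply, ← op_comp]
    have e1 : (eqToHom r.lies.symm ≫ c.hom ≫ eqToHom s.lies) ≫ eqToHom s.lies.symm =
        eqToHom r.lies.symm ≫ c.hom := by simp
    rw [e1, op_comp, FunctorToTypes.map_comp_apply]
    exact congrArg _ c.map_sec
  exact (key p a).trans (key q b).symm

theorem ofFieldPt_rel {p q : AlgSp.FieldPt F} (h : AlgSp.FieldPt.Rel p q) :
    AlgSt.FPt.Rel (ofFieldPt p) (ofFieldPt q) := by
  obtain ⟨Ω, _, w, a, b, hab⟩ := h
  let r : AlgSt.FPt (AlgSt.ofSp F) :=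
    { K := Ω, str := w, obj := ⟨Over.mk w, F.obj.map a.op p.val⟩, lies := rfl }
  exact ⟨r, ⟨a, rfl⟩, ⟨b, hab.symm⟩, trivial⟩

theorem ofFieldPt_toFieldPt_rel (p : AlgSt.FPt (AlgSt.ofSp F)) :
    AlgSt.FPt.Rel (ofFieldPt (toFieldPt p)) p :=
  ⟨ofFieldPt (toFieldPt p), 𝟙 _, ⟨eqToHom p.lies.symm, rfl⟩, trivial⟩

/-- The points of the category of a sheaf are the points of the sheaf. -/
noncomputable def ptsEquiv (F : AlgSp.Sp S) : AlgSt.Points (AlgSt.ofSp F) ≃ AlgSp.Points F where
  toFun := Quot.lift (fun p => AlgSp.Points.mk (toFieldPt p))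
    (fun _ _ h => AlgSp.Points.sound (toFieldPt_rel h))
  invFun := Quotient.lift (fun q => AlgSt.Points.mk (ofFieldPt q))
    (fun _ _ h => AlgSt.Points.sound (ofFieldPt_rel h))
  left_inv x := by
    obtain ⟨p, rfl⟩ := AlgSt.Points.mk_surjective x
    exact AlgSt.Points.sound (ofFieldPt_toFieldPt_rel p)
  right_inv y := by
    induction y using AlgSp.Points.ind with
    | h q =>
      change AlgSp.Points.mk (toFieldPt (ofFieldPt q)) = _
      rw [toFieldPt_ofFieldPt]

theorem ptsEquiv_mk (p : AlgSt.FPt (AlgSt.ofSp F)) :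
    ptsEquiv F (AlgSt.Points.mk p) = AlgSp.Points.mk (toFieldPt p) := rfl

theorem ptsEquiv_symm_mk (q : AlgSp.FieldPt F) :
    (ptsEquiv F).symm (AlgSp.Points.mk q) = AlgSt.Points.mk (ofFieldPt q) := rfl

theorem ptsEquiv_map (φ : F ⟶ G) (x : AlgSt.Points (AlgSt.ofSp F)) :
    ptsEquiv G (AlgSt.Points.map (AlgSt.ofSpMap φ) x) = AlgSp.Points.map φ (ptsEquiv F x) := by
  obtain ⟨p, rfl⟩ := AlgSt.Points.mk_surjective x
  change AlgSp.Points.mk (toFieldPt (p.map (AlgSt.ofSpMap φ))) =
    AlgSp.Points.mk ((toFieldPt p).map φ)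
  congr 1
  change AlgSp.FieldPt.mk p.K p.str (G.obj.map _ (φ.hom.app _ p.obj.sec)) =
    AlgSp.FieldPt.mk p.K p.str (φ.hom.app _ (F.obj.map _ p.obj.sec))
  congr 1
  exact (NatTrans.naturality_apply φ.hom _ _).symm

end Bridge

section ChartPts

/-- The field-valued point of `(Sch/U)` at a point `t` of `U`. -/
noncomputable def schPt (U : Over S) (t : ↥U.left) : AlgSt.FPt (FibCat.overCat U) :=
  { K := ↥(U.left.residueField t)
    str := U.left.fromSpecResidueField t ≫ U.hom
    obj := Over.mk (Over.homMk (U.left.fromSpecResidueField t) rfl :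
      Over.mk (U.left.fromSpecResidueField t ≫ U.hom) ⟶ U)
    lies := rfl }

/-- The point of `(Sch/U)` at a point `t` of `U`. -/
noncomputable def chartPt (U : Over S) (t : ↥U.left) : AlgSt.Points (FibCat.overCat U) :=
  AlgSt.Points.mk (schPt U t)

theorem ofChart_eq {𝒳 : AlgSt.Cat S} {U : Over S} (x : FibCat.overCat U ⥤ᵇ 𝒳) (t : ↥U.left) :
    AlgSt.Points.ofChart x t = AlgSt.Points.map x (chartPt U t) := rfl

/-- The comparison `|(Sch/U)| → U`. -/
noncomputable def chartInv (U : Over S) (x : AlgSt.Points (FibCat.overCat U)) : ↥U.left :=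
  (AlgSp.Points.schemeEquiv U).symm (ptsEquiv ((AlgSp.yon S).obj U) (AlgSt.Points.map (AlgSt.ofOverCat U) x))

theorem chartInv_bijective (U : Over S) : Function.Bijective (chartInv U) :=
  (AlgSp.Points.schemeEquiv U).symm.bijective.comp
    ((ptsEquiv _).bijective.comp (points_map_bijective_of_isEquivOver _ (ofOverCat_isEquivOver U)))

theorem ptsEquiv_ofOverCat_chartPt (U : Over S) (t : ↥U.left) :
    ptsEquiv ((AlgSp.yon S).obj U) (AlgSt.Points.map (AlgSt.ofOverCat U) (chartPt U t)) =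
      AlgSp.Points.ofScheme U t := by
  change AlgSp.Points.mk (AlgSp.FieldPt.mk _ _ (((AlgSp.yon S).obj U).obj.map (𝟙 _) _)) = _
  rw [FunctorToTypes.map_id_apply]
  rfl

theorem chartInv_chartPt (U : Over S) (t : ↥U.left) : chartInv U (chartPt U t) = t := by
  change (AlgSp.Points.schemeEquiv U).symm _ = t
  rw [ptsEquiv_ofOverCat_chartPt]
  exact (AlgSp.Points.schemeEquiv U).symm_apply_apply t

theorem chartPt_chartInv (U : Over S) (x : AlgSt.Points (FibCat.overCat U)) :
    chartPt U (chartInv U x) = x :=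
  (chartInv_bijective U).1 (chartInv_chartPt U _)

theorem chartPt_bijective (U : Over S) : Function.Bijective (chartPt U) :=
  Function.bijective_iff_has_inverse.2 ⟨chartInv U, chartInv_chartPt U, chartPt_chartInv U⟩

theorem overMap_comp_ofOverCat {T U : Over S} (h : T ⟶ U) :
    BasedFunctor.comp (AlgSt.overMap h) (AlgSt.ofOverCat U) =
      BasedFunctor.comp (AlgSt.ofOverCat T) (AlgSt.ofSpMap ((AlgSp.yon S).map h)) := rfl

/-- Naturality of `chartPt`. -/
theorem points_map_overMap_chartPt {T U : Over S} (h : T ⟶ U) (t : ↥T.left) :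
    AlgSt.Points.map (AlgSt.overMap h) (chartPt T t) = chartPt U (h.left t) := by
  apply (chartInv_bijective U).1
  rw [chartInv_chartPt]
  change (AlgSp.Points.schemeEquiv U).symm (ptsEquiv _ (AlgSt.Points.map (AlgSt.ofOverCat U)
    (AlgSt.Points.map (AlgSt.overMap h) (chartPt T t)))) = _
  rw [← points_map_comp, overMap_comp_ofOverCat, points_map_comp, ptsEquiv_map,
    ptsEquiv_ofOverCat_chartPt]
  exact AlgSp.Points.toScheme_ofPt h t

/-- Every functor `(Sch/T) ⟶ (Sch/U)` over `(Sch/S)` is 2-isomorphic to the functor of a morphism `T ⟶ U`. -/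
theorem exists_iso_overMap {T U : Over S} (Φ : FibCat.overCat T ⥤ᵇ FibCat.overCat U) :
    ∃ a : T ⟶ U, (AlgSp.yon S).map a = AlgSt.spMapOfOver (BasedFunctor.comp (AlgSt.toOverCat T) Φ) ∧
      Nonempty (Φ ≅ AlgSt.overMap a) := by
  obtain ⟨a, ha⟩ := (AlgSp.yon S).map_surjective
    (AlgSt.spMapOfOver (BasedFunctor.comp (AlgSt.toOverCat T) Φ))
  refine ⟨a, ha, ⟨?_⟩⟩
  have i := isoSpMapOfOver (BasedFunctor.comp (AlgSt.toOverCat T) Φ)
  rw [← ha] at i
  exact bWhiskerLeftIso (AlgSt.ofOverCat T) i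

end ChartPts

section Lift

variable {𝒳 : AlgSt.Cat S}

/-- Every field-valued point of a category fibred in groupoids comes from a functor `(Sch/Spec K) ⟶ 𝒳`. -/
theorem exists_functor_of_fpt (h𝒳 : IsFibGrpd 𝒳.p) (p : AlgSt.FPt 𝒳) :
    ∃ y : FibCat.overCat (Over.mk p.str) ⥤ᵇ 𝒳,
      AlgSt.Points.map y (AlgSt.Points.mk
        { K := p.K, str := p.str, obj := Over.mk (𝟙 (Over.mk p.str)), lies := rfl }) = AlgSt.Points.mk p := by
  have hE : (FibCat.evalAtId 𝒳 (Over.mk p.str)).IsEquivalence :=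
    evalAtId_isEquivalence_of_isFibGrpd h𝒳 _
  let x : 𝒳.p.Fiber (Over.mk p.str) := ⟨p.obj, p.lies⟩
  have e := (FibCat.evalAtId 𝒳 (Over.mk p.str)).objObjPreimageIso x
  refine ⟨(FibCat.evalAtId 𝒳 (Over.mk p.str)).objPreimage x, ?_⟩
  exact AlgSt.Points.sound ⟨_, 𝟙 _, e.hom.1, trivial⟩

/-- An etale surjective chart of an algebraic space is surjective on points of categories. -/
theorem points_map_chart_surjective {G : AlgSp.Sp S} {T : Over S} (p : (AlgSp.yon S).obj T ⟶ G)
    (hps : AlgSp.RepWith @Surjective p) :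
    Function.Surjective (AlgSt.Points.map
      (BasedFunctor.comp (AlgSt.ofOverCat T) (AlgSt.ofSpMap p))) := by
  intro w
  obtain ⟨g, hg⟩ := Groth.Agent.H52.surjective_points_of_repWith_surjective p hps (ptsEquiv G w)
  obtain ⟨w', hw'⟩ := (points_map_bijective_of_isEquivOver _ (ofOverCat_isEquivOver T)).2
    ((ptsEquiv _).symm g)
  refine ⟨w', ?_⟩
  rw [points_map_comp, hw']
  apply (ptsEquiv G).injective
  rw [ptsEquiv_map, Equiv.apply_symm_apply, hg]

end Lift

end Groth.Agent.Lib.Helper65
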