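import Groth.Agent.Lib.Helper65.StTop

/-!
# Helper65: surjectivity on points of morphisms of stacks representable by algebraic spaces
-/

set_option autoImplicit false
set_option backward.isDefEq.respectTransparency false
set_option backward.isDefEq.respectTransparency.types false

universe u

open CategoryTheory CategoryTheory.Functor CategoryTheory.Limits Opposite AlgebraicGeometry

namespace Groth.Agent.Lib.Helper65

open FibCat Groth.Agent.Lib.Helper31

variable {S : Scheme.{u}}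

/-- The comparison `|(Sch/U)| ≃ |h_U|` (points of the sheaf). -/
noncomputable def overPts (U : Over S) (x : AlgSt.Points (FibCat.overCat U)) :
    AlgSp.Points ((AlgSp.yon S).obj U) :=
  ptsEquiv ((AlgSp.yon S).obj U) (AlgSt.Points.map (AlgSt.ofOverCat U) x)

theorem overPts_bijective (U : Over S) : Function.Bijective (overPts U) :=
  (ptsEquiv _).bijective.comp (points_map_bijective_of_isEquivOver _ (ofOverCat_isEquivOver U))

/-- The map on points of a functor `ofSp G ⟶ (Sch/U)` is the map on points of its map of sheaves. -/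
theorem overPts_map {G : AlgSp.Sp S} {U : Over S} (Φ : AlgSt.ofSp G ⥤ᵇ FibCat.overCat U)
    (w : AlgSt.Points (AlgSt.ofSp G)) :
    overPts U (AlgSt.Points.map Φ w) = AlgSp.Points.map (AlgSt.spMapOfOver Φ) (ptsEquiv G w) := by
  rw [← ptsEquiv_map]
  change ptsEquiv _ (AlgSt.Points.map (AlgSt.ofOverCat U) (AlgSt.Points.map Φ w)) = _
  rw [points_map_congr (isoSpMapOfOver Φ), ← points_map_comp]
  rfl

section Surj

variable {𝒳 𝒴 : AlgSt.Cat S}

theorem isSurjective_of_repByAlgSpWith (h𝒳 : IsFibGrpd 𝒳.p) (h𝒴 : IsFibGrpd 𝒴.p) (f : 𝒳 ⥤ᵇ 𝒴)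
    (hf : AlgSt.RepByAlgSpWith AlgSp.IsSurjectiveMor f) : AlgSt.IsSurjective f := by
  intro z
  obtain ⟨pz, rfl⟩ := AlgSt.Points.mk_surjective z
  obtain ⟨y, hy⟩ := exists_functor_of_fpt h𝒴 pz
  obtain ⟨G, e, he, hsurj⟩ := hf (Over.mk pz.str) y
  obtain ⟨g, hg⟩ := hsurj (overPts _ (AlgSt.Points.mk
    { K := pz.K, str := pz.str, obj := Over.mk (𝟙 (Over.mk pz.str)), lies := rfl }))
  let w' : AlgSt.Points (AlgSt.ofSp G.obj) := (ptsEquiv G.obj).symm g
  have h1 : AlgSt.Points.map (BasedFunctor.comp e (fpFst y f)) w' = AlgSt.Points.mk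
      { K := pz.K, str := pz.str, obj := Over.mk (𝟙 (Over.mk pz.str)), lies := rfl } := by
    apply (overPts_bijective _).1
    rw [overPts_map, Equiv.apply_symm_apply, hg]
  refine ⟨AlgSt.Points.map (fpSnd y f) (AlgSt.Points.map e w'), ?_⟩
  rw [← points_map_comp, ← points_map_congr (fpIso y f), points_map_comp, ← points_map_comp e, h1, hy]

theorem repByAlgSpWith_isSurjectiveMor_of_isSurjective (h𝒳 : IsFibGrpd 𝒳.p) (h𝒴 : IsFibGrpd 𝒴.p)
    (f : 𝒳 ⥤ᵇ 𝒴) (hf1 : AlgSt.RepByAlgSp1 f) (hf : AlgSt.IsSurjective f) :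
    AlgSt.RepByAlgSpWith AlgSp.IsSurjectiveMor f := by
  intro U y
  obtain ⟨G, e, he⟩ := hf1 U y
  refine ⟨G, e, he, ?_⟩
  intro z
  obtain ⟨z', rfl⟩ := (overPts_bijective U).2 z
  obtain ⟨x, hx⟩ := hf (AlgSt.Points.map y z')
  obtain ⟨w, hw, -⟩ := exists_points_fp h𝒳 h𝒴 (isFibGrpd_overForget U) f y z' x hx.symm
  obtain ⟨w', rfl⟩ := (points_map_bijective_of_isEquivOver e he).2 w
  refine ⟨ptsEquiv G.obj w', ?_⟩
  rw [← overPts_map, points_map_comp, hw]

end Surj

end Groth.Agent.Lib.Helper65
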