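import Groth.Prelude.Def_AlgSt
import Groth.Agent.Lib.Helper65.OfPsh
import Groth.Agent.Lib.Helper65.FpPaste
import Mathlib.CategoryTheory.Limits.Types.Pullbacks
import Mathlib.CategoryTheory.Limits.Types.Limits
import Mathlib.CategoryTheory.Limits.Shapes.Pullback.IsPullback.Basic

/-!
# Helper65: functors between categories fibred in sets of presheaves, and their 2-fibre products
-/

set_option autoImplicit false
set_option backward.isDefEq.respectTransparency false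
set_option backward.isDefEq.respectTransparency.types false

universe w v₅ u₅ v₄ u₄ v₃ u₃ v₂ u₂ v u

open CategoryTheory CategoryTheory.Functor CategoryTheory.Limits Opposite

namespace Groth.Agent.Lib.Helper65

open FibCat Groth.Agent.Lib.Helper31

variable {C : Type u} [Category.{v} C] {P Q G : Cᵒᵖ ⥤ Type w}

section PshMapOf

@[simp] theorem secOf_ofPshMap (φ : P ⟶ Q) (a : (Stk.ofPsh P).obj) :
    secOf (Stk.ofPshMap φ) a = φ.app (op a.base) a.sec := by
  change Q.map (eqToHom rfl).op (φ.app (op a.base) a.sec) = _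
  exact psh_map_id Q _

/-- The map of presheaves attached to a functor over `C` between their categories. -/
def pshMapOf (Φ : Stk.ofPsh P ⥤ᵇ Stk.ofPsh Q) : P ⟶ Q where
  app T := ↾fun x => secOf Φ ⟨T.unop, x⟩
  naturality := fun T T' g => by
    ext x
    let k : (⟨T'.unop, P.map g x⟩ : (Stk.ofPsh P).obj) ⟶ ⟨T.unop, x⟩ := ⟨g.unop, rfl⟩
    exact (secOf_compat Φ k).symm

theorem pshMapOf_app (Φ : Stk.ofPsh P ⥤ᵇ Stk.ofPsh Q) (a : (Stk.ofPsh P).obj) :
    (pshMapOf Φ).app (op a.base) a.sec = secOf Φ a := rfl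

/-- Every functor over `C` between categories of presheaves comes from a map of presheaves. -/
def isoOfPshMap (Φ : Stk.ofPsh P ⥤ᵇ Stk.ofPsh Q) : Φ ≅ Stk.ofPshMap (pshMapOf Φ) :=
  isoOfSecEq (fun a => by rw [secOf_ofPshMap]; rfl)

theorem pshMapOf_ofPshMap (φ : P ⟶ Q) : pshMapOf (Stk.ofPshMap φ) = φ := by
  ext T x
  change secOf (Stk.ofPshMap φ) ⟨T.unop, x⟩ = _
  rw [secOf_ofPshMap]
  rfl

theorem pshMapOf_congr {Φ Ψ : Stk.ofPsh P ⥤ᵇ Stk.ofPsh Q} (α : Φ ⟶ Ψ) : pshMapOf Φ = pshMapOf Ψ := by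
  ext T x
  exact secOf_eq_of_hom α ⟨T.unop, x⟩

theorem ofPshMap_injective {φ ψ : P ⟶ Q} (α : Stk.ofPshMap φ ⟶ Stk.ofPshMap ψ) : φ = ψ := by
  rw [← pshMapOf_ofPshMap φ, ← pshMapOf_ofPshMap ψ]
  exact pshMapOf_congr α

theorem ofPshMap_comp (φ : P ⟶ Q) (ψ : Q ⟶ G) :
    Stk.ofPshMap (φ ≫ ψ) = BasedFunctor.comp (Stk.ofPshMap φ) (Stk.ofPshMap ψ) := rfl

theorem ofPshMap_id : Stk.ofPshMap (𝟙 P) = BasedFunctor.id (Stk.ofPsh P) := rfl

/-- An equivalence over `C` between the categories of two presheaves gives an isomorphism of presheaves. -/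
theorem nonempty_iso_of_equivOver (E : Stk.ofPsh P ⥤ᵇ Stk.ofPsh Q) (hE : IsEquivOver E) :
    ∃ e : P ≅ Q, e.hom = pshMapOf E := by
  obtain ⟨E', ⟨e₁⟩, ⟨e₂⟩⟩ := hE
  have h1 : pshMapOf E ≫ pshMapOf E' = 𝟙 P := by
    apply ofPshMap_injective
    rw [ofPshMap_comp, ofPshMap_id]
    exact (bWhiskerRightIso (isoOfPshMap E).symm (Stk.ofPshMap (pshMapOf E')) ≪≫
      bWhiskerLeftIso E (isoOfPshMap E').symm ≪≫ e₁).hom
  have h2 : pshMapOf E' ≫ pshMapOf E = 𝟙 Q := by
    apply ofPshMap_injective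
    rw [ofPshMap_comp, ofPshMap_id]
    exact (bWhiskerRightIso (isoOfPshMap E').symm (Stk.ofPshMap (pshMapOf E)) ≪≫
      bWhiskerLeftIso E' (isoOfPshMap E).symm ≪≫ e₂).hom
  exact ⟨⟨pshMapOf E, pshMapOf E', h1, h2⟩, rfl⟩

end PshMapOf

end Groth.Agent.Lib.Helper65

namespace Groth.Agent.Lib.Helper65

open FibCat Groth.Agent.Lib.Helper31

section FpPullback

variable {C : Type u} [Category.{v} C] {P Q G F' : Cᵒᵖ ⥤ Type w}

/-- Constructor for isomorphisms of `ofPsh P`. -/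
def eltIsoMk {x y : (Stk.ofPsh P).obj} (e : x.base ≅ y.base) (h : P.map e.hom.op y.sec = x.sec) : x ≅ y where
  hom := ⟨e.hom, h⟩
  inv := ⟨e.inv, by rw [← h, psh_map_map, e.inv_hom_id]; exact psh_map_id P _⟩
  hom_inv_id := Stk.EltObj.hom_ext e.hom_inv_id
  inv_hom_id := Stk.EltObj.hom_ext e.inv_hom_id

theorem psh_naturality {P Q : Cᵒᵖ ⥤ Type w} (φ : P ⟶ Q) {X Y : C} (f : X ⟶ Y) (s : P.obj (op Y)) :
    φ.app (op X) (P.map f.op s) = Q.map f.op (φ.app (op Y) s) :=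
  NatTrans.naturality_apply φ f.op s

variable {a : P ⟶ G} {b : Q ⟶ G} {fst : F' ⟶ P} {snd : F' ⟶ Q}

/-- The 2-isomorphism of a commutative square of presheaves. -/
def pbLiftIso (w : fst ≫ a = snd ≫ b) :
    BasedFunctor.comp (Stk.ofPshMap fst) (Stk.ofPshMap a) ≅
      BasedFunctor.comp (Stk.ofPshMap snd) (Stk.ofPshMap b) :=
  isoOfSecEq (fun z => by
    change secOf (Stk.ofPshMap (fst ≫ a)) z = secOf (Stk.ofPshMap (snd ≫ b)) z
    rw [w])

theorem pbLiftIso_hom_app_hom (w : fst ≫ a = snd ≫ b) (z : (Stk.ofPsh F').obj) :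
    ((pbLiftIso w).hom.toNatTrans.app z).hom = 𝟙 z.base := rfl

/-- The comparison functor from the category of the corner of a commutative square of presheaves to the
2-fibre product. -/
def pbLift (w : fst ≫ a = snd ≫ b) : Stk.ofPsh F' ⥤ᵇ fp (Stk.ofPshMap a) (Stk.ofPshMap b) :=
  fpLift (Stk.ofPshMap fst) (Stk.ofPshMap snd) (pbLiftIso w)

theorem pbLift_comp_fpFst (w : fst ≫ a = snd ≫ b) :
    BasedFunctor.comp (pbLift w) (fpFst (Stk.ofPshMap a) (Stk.ofPshMap b)) = Stk.ofPshMap fst := rfl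

theorem pbLift_comp_fpSnd (w : fst ≫ a = snd ≫ b) :
    BasedFunctor.comp (pbLift w) (fpSnd (Stk.ofPshMap a) (Stk.ofPshMap b)) = Stk.ofPshMap snd := rfl

instance pbLift_faithful (w : fst ≫ a = snd ≫ b) : (pbLift w).toFunctor.Faithful where
  map_injective := by
    intro z z' k l h
    apply Stk.EltObj.hom_ext
    have := congrArg (fun t => t.hom.fst.hom) h
    exact this

theorem pbLift_full (sq : IsPullback fst snd a b) : (pbLift sq.w).toFunctor.Full where
  map_surjective := by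
    intro z z' ψ
    have hw := congrArg (fun t => t.hom) (fp_hom_w ψ)
    have hw' : ψ.hom.fst.hom ≫ 𝟙 z'.base = 𝟙 z.base ≫ ψ.hom.snd.hom := hw
    have hk : ψ.hom.fst.hom = ψ.hom.snd.hom :=
      (Category.comp_id _).symm.trans (hw'.trans (Category.id_comp _))
    have h1 : P.map ψ.hom.fst.hom.op (fst.app (op z'.base) z'.sec) = fst.app (op z.base) z.sec :=
      ψ.hom.fst.map_sec
    have h2 : Q.map ψ.hom.snd.hom.op (snd.app (op z'.base) z'.sec) = snd.app (op z.base) z.sec :=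
      ψ.hom.snd.map_sec
    have hsec : F'.map ψ.hom.fst.hom.op z'.sec = z.sec := by
      apply Types.ext_of_isPullback (sq.app (op z.base))
      · exact (psh_naturality fst _ _).trans h1
      · rw [hk]; exact (psh_naturality snd _ _).trans h2
    refine ⟨⟨ψ.hom.fst.hom, hsec⟩, ?_⟩
    apply fp_hom_ext
    · apply Stk.EltObj.hom_ext; rfl
    · apply Stk.EltObj.hom_ext; exact hk

theorem pbLift_essSurjOver (sq : IsPullback fst snd a b) : EssSurjOver (pbLift sq.w) := by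
  apply essSurjOver_fp_of
  intro Y
  have hY : (Stk.ofPsh G).p.IsHomLift (𝟙 Y.obj.fst.base) Y.obj.iso.hom := Y.property
  let j : Y.obj.fst.base ≅ Y.obj.snd.base := (Stk.ofPsh G).p.mapIso Y.obj.iso
  have hj : G.map j.hom.op (b.app (op Y.obj.snd.base) Y.obj.snd.sec) =
      a.app (op Y.obj.fst.base) Y.obj.fst.sec := Y.obj.iso.hom.map_sec
  obtain ⟨z, hz1, hz2⟩ := Types.exists_of_isPullback (sq.app (op Y.obj.fst.base)) Y.obj.fst.sec
    (Q.map j.hom.op Y.obj.snd.sec) (by rw [psh_naturality b, hj])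
  let W : (Stk.ofPsh F').obj := ⟨Y.obj.fst.base, z⟩
  let ε₁ : ((pbLift sq.w).obj W).obj.fst ≅ Y.obj.fst :=
    eltIsoMk (x := ((pbLift sq.w).obj W).obj.fst) (y := Y.obj.fst) (Iso.refl _) (by
      change P.map (𝟙 _).op Y.obj.fst.sec = fst.app _ z
      rw [hz1]; exact psh_map_id P _)
  let ε₂ : ((pbLift sq.w).obj W).obj.snd ≅ Y.obj.snd :=
    eltIsoMk (x := ((pbLift sq.w).obj W).obj.snd) (y := Y.obj.snd) j (by
      change Q.map j.hom.op Y.obj.snd.sec = snd.app _ z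
      rw [hz2])
  refine ⟨W, ε₁, ε₂, ?_, ?_⟩
  · exact inferInstanceAs ((Stk.ofPsh P).p.IsHomLift ((Stk.ofPsh P).p.map ε₁.hom) ε₁.hom)
  · apply Stk.EltObj.hom_ext
    change 𝟙 _ ≫ Y.obj.iso.hom.hom = 𝟙 _ ≫ j.hom
    rfl

theorem pbLift_isEquivOver (sq : IsPullback fst snd a b) : IsEquivOver (pbLift sq.w) := by
  have := pbLift_full sq
  exact isEquivOver_of_ff_ess _ (pbLift_essSurjOver sq)

end FpPullback

end Groth.Agent.Lib.Helper65
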