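import Groth.Prelude.Def_AlgSt2
import Groth.Prelude.Def_AlgSpRep
import Groth.Agent.Lib.Helper65.OfPshMap
import Groth.Agent.Lib.Helper65.AlgStInv

/-!
# Helper65: representability by algebraic spaces for maps of presheaves and for the associated functors
-/

set_option autoImplicit false
set_option backward.isDefEq.respectTransparency false
set_option backward.isDefEq.respectTransparency.types false

universe u

open CategoryTheory CategoryTheory.Functor CategoryTheory.Limits Opposite AlgebraicGeometry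

namespace Groth.Agent.Lib.Helper65

open FibCat Groth.Agent.Lib.Helper31

variable {S : Scheme.{u}}

section OverCat

variable (U : Over S)

theorem toOverCat_comp_ofOverCat :
    BasedFunctor.comp (AlgSt.toOverCat U) (AlgSt.ofOverCat U) = BasedFunctor.id _ := rfl

theorem ofOverCat_comp_toOverCat :
    BasedFunctor.comp (AlgSt.ofOverCat U) (AlgSt.toOverCat U) = BasedFunctor.id _ := rfl

theorem toOverCat_isEquivOver : IsEquivOver (AlgSt.toOverCat U) :=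
  ⟨AlgSt.ofOverCat U, ⟨eqToIso (toOverCat_comp_ofOverCat U)⟩, ⟨eqToIso (ofOverCat_comp_toOverCat U)⟩⟩

theorem ofOverCat_isEquivOver : IsEquivOver (AlgSt.ofOverCat U) :=
  ⟨AlgSt.toOverCat U, ⟨eqToIso (ofOverCat_comp_toOverCat U)⟩, ⟨eqToIso (toOverCat_comp_ofOverCat U)⟩⟩

end OverCat

end Groth.Agent.Lib.Helper65

namespace Groth.Agent.Lib.Helper65

open FibCat Groth.Agent.Lib.Helper31

section RepBySp

variable {S : Scheme.{u}} {F G : AlgSp.PSp S} (a : F ⟶ G)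

/-- The equivalence `ofPsh F' ≃ (Sch/U) ×_G F` attached to a pullback square of presheaves and a
functor `y : (Sch/U) ⟶ ofPsh G` inducing its bottom map. -/
theorem exists_equiv_of_isPullback {U : Over S} (ξ : (AlgSp.pyon S).obj U ⟶ G) {F' : AlgSp.PSp S}
    (fst : F' ⟶ F) (snd : F' ⟶ (AlgSp.pyon S).obj U) (sq : IsPullback fst snd a ξ)
    (y : overCat U ⥤ᵇ Stk.ofPsh G)
    (α : BasedFunctor.comp (Stk.ofPshMap ξ) (BasedFunctor.id _) ≅ BasedFunctor.comp (AlgSt.toOverCat U) y) :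
    ∃ e : Stk.ofPsh F' ⥤ᵇ fp y (Stk.ofPshMap a), IsEquivOver e ∧
      BasedFunctor.comp e (fpFst y (Stk.ofPshMap a)) =
        BasedFunctor.comp (Stk.ofPshMap snd) (AlgSt.toOverCat U) := by
  let e₁ : Stk.ofPsh F' ⥤ᵇ fp (Stk.ofPshMap ξ) (Stk.ofPshMap a) := pbLift sq.flip.w
  have he₁ : IsEquivOver e₁ := pbLift_isEquivOver sq.flip
  let e₂ : fp (Stk.ofPshMap ξ) (Stk.ofPshMap a) ⥤ᵇ fp y (Stk.ofPshMap a) :=
    fpMap (F := Stk.ofPshMap ξ) (G := Stk.ofPshMap a) (F' := y) (G' := Stk.ofPshMap a)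
      (AlgSt.toOverCat U) (BasedFunctor.id _) (BasedFunctor.id _) α (Iso.refl _)
  have he₂ : IsEquivOver e₂ := fpMap_isEquivOver _ _ _ _ _ (toOverCat_isEquivOver U) (isEquivOver_id _)
    (isEquivOver_id _)
  exact ⟨BasedFunctor.comp e₁ e₂, isEquivOver_comp e₁ e₂ he₁ he₂, rfl⟩

theorem repByAlgSp1_of_repBySp (h : AlgSp.RepBySp a) : AlgSt.RepByAlgSp1 (Stk.ofPshMap a) := by
  intro U y
  let y' : Stk.ofPsh ((AlgSp.pyon S).obj U) ⥤ᵇ Stk.ofPsh G := BasedFunctor.comp (AlgSt.toOverCat U) y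
  let ξ : (AlgSp.pyon S).obj U ⟶ G := pshMapOf y'
  have sq : IsPullback (pullback.fst a ξ) (pullback.snd a ξ) a ξ := IsPullback.of_hasPullback a ξ
  obtain ⟨hsh, hX⟩ := h ξ (pullback.fst a ξ) (pullback.snd a ξ) sq
  obtain ⟨e, he, -⟩ := exists_equiv_of_isPullback a ξ _ _ sq y (isoOfPshMap y').symm
  exact ⟨⟨⟨pullback a ξ, hsh⟩, hX⟩, e, he⟩

theorem repBySp_of_repByAlgSp1 (h : AlgSt.RepByAlgSp1 (Stk.ofPshMap a)) : AlgSp.RepBySp a := by
  intro U ξ F' fst snd sq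
  let y : overCat U ⥤ᵇ Stk.ofPsh G := BasedFunctor.comp (AlgSt.ofOverCat U) (Stk.ofPshMap ξ)
  obtain ⟨X, e, he⟩ := h U y
  obtain ⟨L, hL, -⟩ := exists_equiv_of_isPullback a ξ fst snd sq y (Iso.refl _)
  obtain ⟨L', hL', -, -⟩ := exists_inverse_equivOver L hL
  obtain ⟨ι, -⟩ := nonempty_iso_of_equivOver (BasedFunctor.comp e L') (isEquivOver_comp e L' he hL')
  exact AlgSp.IsAlgSpaceP.of_iso ((AlgSp.isAlgSpaceP_obj_iff X.obj).2 X.property) ι

theorem repBySp_iff_repByAlgSp1 : AlgSp.RepBySp a ↔ AlgSt.RepByAlgSp1 (Stk.ofPshMap a) :=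
  ⟨repByAlgSp1_of_repBySp a, repBySp_of_repByAlgSp1 a⟩

end RepBySp

end Groth.Agent.Lib.Helper65

namespace Groth.Agent.Lib.Helper65

open FibCat Groth.Agent.Lib.Helper31

section RepBySpWith

variable {S : Scheme.{u}}

theorem spMapOfOver_ofSpMap_toOverCat {X : AlgSp.Sp S} {U : Over S} (s : X ⟶ (AlgSp.yon S).obj U) :
    AlgSt.spMapOfOver (BasedFunctor.comp (AlgSt.ofSpMap s) (AlgSt.toOverCat U)) = s := by
  apply ObjectProperty.hom_ext
  apply NatTrans.ext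
  funext T
  ext x
  change (⟨AlgSt.secHom (BasedFunctor.comp (AlgSt.ofSpMap s) (AlgSt.toOverCat U)) ⟨T.unop, x⟩⟩ : ULift _) =
    s.hom.app T x
  apply ULift.ext
  change eqToHom rfl ≫ (s.hom.app T x).down = (s.hom.app T x).down
  simp

variable {F G : AlgSp.PSp S} (a : F ⟶ G) (Q : MorphismProperty (AlgSp.Sp S))

theorem repByAlgSpWith_of_repBySpWith (h : AlgSp.RepBySpWith Q a) :
    AlgSt.RepByAlgSpWith Q (Stk.ofPshMap a) := by
  intro U y
  let y' : Stk.ofPsh ((AlgSp.pyon S).obj U) ⥤ᵇ Stk.ofPsh G := BasedFunctor.comp (AlgSt.toOverCat U) y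
  let ξ : (AlgSp.pyon S).obj U ⟶ G := pshMapOf y'
  have sq : IsPullback (pullback.fst a ξ) (pullback.snd a ξ) a ξ := IsPullback.of_hasPullback a ξ
  obtain ⟨hsh, hX, hQ⟩ := h ξ (pullback.fst a ξ) (pullback.snd a ξ) sq
  obtain ⟨e, he, hfst⟩ := exists_equiv_of_isPullback a ξ _ _ sq y (isoOfPshMap y').symm
  refine ⟨⟨⟨pullback a ξ, hsh⟩, hX⟩, e, he, ?_⟩
  have key : AlgSt.spMapOfOver (F := ⟨pullback a ξ, hsh⟩) (BasedFunctor.comp e (fpFst y (Stk.ofPshMap a))) =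
      (ObjectProperty.homMk (pullback.snd a ξ) : (⟨pullback a ξ, hsh⟩ : AlgSp.Sp S) ⟶ (AlgSp.yon S).obj U) := by
    rw [hfst]
    exact spMapOfOver_ofSpMap_toOverCat (X := ⟨pullback a ξ, hsh⟩)
      (ObjectProperty.homMk (pullback.snd a ξ))
  rw [key]
  exact hQ

theorem repBySpWith_of_repByAlgSpWith [Q.RespectsIso] (ha : AlgSp.RepBySp a)
    (h : AlgSt.RepByAlgSpWith Q (Stk.ofPshMap a)) : AlgSp.RepBySpWith Q a := by
  intro U ξ F' fst snd sq
  obtain ⟨hsh, hF'⟩ := ha ξ fst snd sq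
  refine ⟨hsh, hF', ?_⟩
  let y : overCat U ⥤ᵇ Stk.ofPsh G := BasedFunctor.comp (AlgSt.ofOverCat U) (Stk.ofPshMap ξ)
  obtain ⟨X, e, he, hQ⟩ := h U y
  obtain ⟨L, hL, hLfst⟩ := exists_equiv_of_isPullback a ξ fst snd sq y (Iso.refl _)
  obtain ⟨L', hL', -, ⟨i₂⟩⟩ := exists_inverse_equivOver L hL
  obtain ⟨ι₀, hι₀⟩ := nonempty_iso_of_equivOver (BasedFunctor.comp e L') (isEquivOver_comp e L' he hL')
  let ι : X.obj ≅ (⟨F', hsh⟩ : AlgSp.Sp S) :=
    (fullyFaithfulSheafToPresheaf (AlgSp.J S) _).preimageIso (X := X.obj) (Y := (⟨F', hsh⟩ : AlgSp.Sp S)) ι₀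
  have hι : ι.hom.hom = ι₀.hom :=
    (fullyFaithfulSheafToPresheaf (AlgSp.J S) _).map_preimage (X := X.obj) (Y := (⟨F', hsh⟩ : AlgSp.Sp S)) ι₀.hom
  let s : X.obj ⟶ (AlgSp.yon S).obj U :=
    ι.hom ≫ (ObjectProperty.homMk snd : (⟨F', hsh⟩ : AlgSp.Sp S) ⟶ (AlgSp.yon S).obj U)
  have hs : s.hom = pshMapOf (BasedFunctor.comp e L') ≫ snd := by
    change ι.hom.hom ≫ snd = _
    rw [hι, hι₀]
  have j : BasedFunctor.comp e (fpFst y (Stk.ofPshMap a)) ≅
      BasedFunctor.comp (AlgSt.ofSpMap s) (AlgSt.toOverCat U) := by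
    have j1 : BasedFunctor.comp e (fpFst y (Stk.ofPshMap a)) ≅
        BasedFunctor.comp (BasedFunctor.comp e L') (BasedFunctor.comp L (fpFst y (Stk.ofPshMap a))) :=
      bWhiskerLeftIso e (bWhiskerRightIso i₂.symm (fpFst y (Stk.ofPshMap a)))
    have j2 : BasedFunctor.comp (BasedFunctor.comp e L') (BasedFunctor.comp L (fpFst y (Stk.ofPshMap a))) ≅
        BasedFunctor.comp (Stk.ofPshMap (pshMapOf (BasedFunctor.comp e L')))
          (BasedFunctor.comp (Stk.ofPshMap snd) (AlgSt.toOverCat U)) := by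
      rw [hLfst]
      exact bWhiskerRightIso (isoOfPshMap (BasedFunctor.comp e L')) _
    have e3 : BasedFunctor.comp (Stk.ofPshMap (pshMapOf (BasedFunctor.comp e L')))
          (BasedFunctor.comp (Stk.ofPshMap snd) (AlgSt.toOverCat U)) =
        BasedFunctor.comp (AlgSt.ofSpMap s) (AlgSt.toOverCat U) := by
      change BasedFunctor.comp (Stk.ofPshMap (pshMapOf (BasedFunctor.comp e L') ≫ snd)) (AlgSt.toOverCat U) =
        BasedFunctor.comp (Stk.ofPshMap s.hom) (AlgSt.toOverCat U)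
      rw [hs]
    exact j1 ≪≫ j2 ≪≫ eqToIso e3
  have key : AlgSt.spMapOfOver (BasedFunctor.comp e (fpFst y (Stk.ofPshMap a))) = s := by
    rw [spMapOfOver_congr j, spMapOfOver_ofSpMap_toOverCat]
  rw [key] at hQ
  exact (Q.cancel_left_of_respectsIso ι.hom _).1 hQ

end RepBySpWith

end Groth.Agent.Lib.Helper65
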