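import Groth.Agent.Lib.Helper65.AlgStRep
import Groth.Agent.Lib.Helper65.OverRep
import Groth.Agent.Lib.Helper65.RepPsh

/-!
# Helper65: full substacks, and substacks cut out by an open condition
-/

set_option autoImplicit false
set_option backward.isDefEq.respectTransparency false
set_option backward.isDefEq.respectTransparency.types false

universe u

open CategoryTheory CategoryTheory.Functor CategoryTheory.Limits Opposite AlgebraicGeometry

namespace Groth.Agent.Lib.Helper65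

open FibCat Groth.Agent.Lib.Helper31

variable {S : Scheme.{u}} {𝒳 : AlgSt.Cat S} (Q : 𝒳.obj → Prop)

section FullSub

theorem fullSub_isHomLift_iff {R T : Over S} (f : R ⟶ T) {a b : (AlgSt.fullSub 𝒳 Q).obj} (φ : a ⟶ b) :
    (AlgSt.fullSub 𝒳 Q).p.IsHomLift f φ ↔ 𝒳.p.IsHomLift f φ.hom := by
  constructor
  · intro h
    exact IsHomLift.of_fac' 𝒳.p f φ.hom (IsHomLift.domain_eq (AlgSt.fullSub 𝒳 Q).p f φ)
      (IsHomLift.codomain_eq (AlgSt.fullSub 𝒳 Q).p f φ) (IsHomLift.fac' (AlgSt.fullSub 𝒳 Q).p f φ)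
  · intro h
    exact IsHomLift.of_fac' (AlgSt.fullSub 𝒳 Q).p f φ (IsHomLift.domain_eq 𝒳.p f φ.hom)
      (IsHomLift.codomain_eq 𝒳.p f φ.hom) (IsHomLift.fac' 𝒳.p f φ.hom)

/-- The full subcategory on a property stable under pullback is fibred in groupoids. -/
theorem isFibGrpd_fullSub (h𝒳 : IsFibGrpd 𝒳.p) (hQ : ∀ ⦃y' y : 𝒳.obj⦄ (_ : y' ⟶ y), Q y → Q y') :
    IsFibGrpd (AlgSt.fullSub 𝒳 Q).p where
  exists_lift := by
    intro x V f
    obtain ⟨y, φ, hφ⟩ := h𝒳.exists_lift (x := x.obj) f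
    exact ⟨⟨y, hQ φ x.property⟩, ObjectProperty.homMk φ, (fullSub_isHomLift_iff Q f _).2 hφ⟩
  isStronglyCartesian := by
    intro y x φ
    have hc : 𝒳.p.IsStronglyCartesian (𝒳.p.map φ.hom) φ.hom := h𝒳.isStronglyCartesian φ.hom
    refine { toIsHomLift := inferInstance, universal_property' := ?_ }
    intro a' g φ' hφ'
    have hφ'' : 𝒳.p.IsHomLift (g ≫ 𝒳.p.map φ.hom) φ'.hom := (fullSub_isHomLift_iff Q _ φ').1 hφ'
    obtain ⟨χ, ⟨hχ1, hχ2⟩, hχu⟩ := hc.universal_property' g φ'.hom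
    refine ⟨ObjectProperty.homMk χ, ⟨(fullSub_isHomLift_iff Q g _).2 hχ1, ?_⟩, ?_⟩
    · apply ObjectProperty.hom_ext
      exact hχ2
    · rintro χ' ⟨h1, h2⟩
      apply ObjectProperty.hom_ext
      exact hχu χ'.hom ⟨(fullSub_isHomLift_iff Q g χ').1 h1, congrArg (fun t => t.hom) h2⟩

/-- The factorisation of a functor with values in `Q` through the full subcategory. -/
def liftFullSub {𝒲 : AlgSt.Cat S} (Φ : 𝒲 ⥤ᵇ 𝒳) (hΦ : ∀ w, Q (Φ.obj w)) : 𝒲 ⥤ᵇ AlgSt.fullSub 𝒳 Q where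
  toFunctor := ObjectProperty.lift Q Φ.toFunctor hΦ
  w := Φ.w

theorem liftFullSub_comp_subIncl {𝒲 : AlgSt.Cat S} (Φ : 𝒲 ⥤ᵇ 𝒳) (hΦ : ∀ w, Q (Φ.obj w)) :
    BasedFunctor.comp (liftFullSub Q Φ hΦ) (AlgSt.subIncl 𝒳 Q) = Φ := rfl

end FullSub

section SubLift

variable {U O : Over S} (g : O ⟶ U) (Y : FibCat.overCat U ⥤ᵇ 𝒳)
  (hO' : ∀ b : Over O, Q (Y.obj ((Over.map g).obj b)))

/-- The comparison functor `(Sch/O) ⟶ (Sch/U) ×_𝒳 𝒳_Q`. -/
def subLift : FibCat.overCat O ⥤ᵇ fp Y (AlgSt.subIncl 𝒳 Q) :=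
  fpLift (AlgSt.overMap g) (liftFullSub Q (BasedFunctor.comp (AlgSt.overMap g) Y) hO')
    (Iso.refl (BasedFunctor.comp (AlgSt.overMap g) Y))

theorem subLift_comp_fpFst :
    BasedFunctor.comp (subLift Q g Y hO') (fpFst Y (AlgSt.subIncl 𝒳 Q)) = AlgSt.overMap g := rfl

instance subLift_faithful : (subLift Q g Y hO').toFunctor.Faithful where
  map_injective := by
    intro a b k l h
    apply Over.OverMorphism.ext
    have := congrArg (fun t => t.hom.fst.left) h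
    exact this

theorem subLift_full [Mono g] : (subLift Q g Y hO').toFunctor.Full where
  map_surjective := by
    intro a b ψ
    have w1 : ψ.hom.fst.left ≫ (b.hom ≫ g) = a.hom ≫ g := Over.w ψ.hom.fst
    have hk : ψ.hom.fst.left ≫ b.hom = a.hom := by
      rw [← cancel_mono g, Category.assoc]
      exact w1
    have hfst : (Over.map g).map (Over.homMk ψ.hom.fst.left hk : a ⟶ b) = ψ.hom.fst := by
      apply Over.OverMorphism.ext
      rfl
    refine ⟨Over.homMk ψ.hom.fst.left hk, ?_⟩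
    apply fp_hom_ext
    · exact hfst
    · apply ObjectProperty.hom_ext
      have hw := fp_hom_w ψ
      have hw' : Y.map ψ.hom.fst ≫ 𝟙 _ = 𝟙 _ ≫ ψ.hom.snd.hom := hw
      rw [Category.comp_id, Category.id_comp] at hw'
      refine Eq.trans ?_ hw'
      exact congrArg (fun t => Y.map t) hfst

theorem subLift_essSurjOver (hQi : ObjectProperty.IsClosedUnderIsomorphisms Q)
    (hO : ∀ a : Over U, Q (Y.obj a) → ∃ b : a.left ⟶ O, b ≫ g = a.hom) :
    EssSurjOver (subLift Q g Y hO') := by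
  apply essSurjOver_fp_of
  intro T
  have hQT : Q (Y.obj T.obj.fst) := hQi.of_iso T.obj.iso.symm T.obj.snd.property
  obtain ⟨b, hb⟩ := hO T.obj.fst hQT
  let ε₁ : (Over.map g).obj (Over.mk b) ≅ T.obj.fst := Over.isoMk (Iso.refl _) (by
    change 𝟙 _ ≫ T.obj.fst.hom = b ≫ g
    rw [Category.id_comp, hb])
  let ε₂ : ((subLift Q g Y hO').obj (Over.mk b)).obj.snd ≅ T.obj.snd :=
    ObjectProperty.isoMk _ (Y.toFunctor.mapIso ε₁ ≪≫ T.obj.iso)
  refine ⟨Over.mk b, ε₁, ε₂, ?_, ?_⟩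
  · change (Over.forget U).IsHomLift (𝟙 T.obj.fst.left) ε₁.hom
    have : (Over.forget U).IsHomLift ((Over.forget U).map ε₁.hom) ε₁.hom := inferInstance
    exact this
  · change Y.map ε₁.hom ≫ T.obj.iso.hom = 𝟙 _ ≫ (Y.map ε₁.hom ≫ T.obj.iso.hom)
    rw [Category.id_comp]

theorem subLift_isEquivOver [Mono g] (hQi : ObjectProperty.IsClosedUnderIsomorphisms Q)
    (hO : ∀ a : Over U, Q (Y.obj a) → ∃ b : a.left ⟶ O, b ≫ g = a.hom) :
    IsEquivOver (subLift Q g Y hO') := by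
  haveI := subLift_full Q g Y hO'
  exact isEquivOver_of_ff_ess _ (subLift_essSurjOver Q g Y hO' hQi hO)

end SubLift

end Groth.Agent.Lib.Helper65
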