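import Groth.Agent.Lib.Helper65.StOpen

/-!
# Helper65: open substacks and open subsets of the space of points
-/

set_option autoImplicit false
set_option backward.isDefEq.respectTransparency false
set_option backward.isDefEq.respectTransparency.types false

universe u

open CategoryTheory CategoryTheory.Functor CategoryTheory.Limits Opposite AlgebraicGeometry

namespace Groth.Agent.Lib.Helper65

open FibCat Groth.Agent.Lib.Helper31

variable {S : Scheme.{u}} {𝒳 : AlgSt.Cat S}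

section RepSubIncl

variable (Q : 𝒳.obj → Prop)

/-- If membership in `Q` of the values of every `(Sch/U) ⟶ 𝒳` is cut out by a monomorphism `O ⟶ U` with
property `P`, the inclusion of the full subcategory on `Q` is representable with property `P`. -/
theorem repByAlgSpWith_subIncl (P : MorphismProperty (AlgSp.Sp S))
    (hQi : ObjectProperty.IsClosedUnderIsomorphisms Q)
    (h : ∀ (U : Over S) (Y : FibCat.overCat U ⥤ᵇ 𝒳), ∃ (O : Over S) (g : O ⟶ U), Mono g ∧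
      P ((AlgSp.yon S).map g) ∧ ∀ a : Over U, Q (Y.obj a) ↔ ∃ b : a.left ⟶ O, b ≫ g = a.hom) :
    AlgSt.RepByAlgSpWith P (AlgSt.subIncl 𝒳 Q) := by
  intro U Y
  obtain ⟨O, g, hg, hP, hO⟩ := h U Y
  have hO' : ∀ b : Over O, Q (Y.obj ((Over.map g).obj b)) := fun b => (hO _).2 ⟨b.hom, rfl⟩
  refine ⟨⟨(AlgSp.yon S).obj O, AlgSp.IsAlgSpace.yon_obj O⟩,
    BasedFunctor.comp (AlgSt.toOverCat O) (subLift Q g Y hO'),
    isEquivOver_comp _ _ (toOverCat_isEquivOver O)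
      (subLift_isEquivOver Q g Y hO' hQi (fun a ha => (hO a).1 ha)), ?_⟩
  change P (AlgSt.spMapOfOver (BasedFunctor.comp (AlgSt.ofSpMap ((AlgSp.yon S).map g)) (AlgSt.toOverCat U)))
  rw [spMapOfOver_ofSpMap_toOverCat]
  exact hP

theorem exists_lift_iff_range_subset {U : Over S} (O : U.left.Opens) (a : Over U) :
    (∃ b : a.left ⟶ Over.mk (O.ι ≫ U.hom), b ≫ (Over.homMk O.ι rfl : Over.mk (O.ι ≫ U.hom) ⟶ U) = a.hom) ↔
      Set.range a.hom.left ⊆ O := by
  constructor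
  · rintro ⟨b, hb⟩
    have h1 : b.left ≫ O.ι = a.hom.left := congrArg (fun t => t.left) hb
    rw [← h1]
    intro z hz
    obtain ⟨t, rfl⟩ := hz
    have : (b.left ≫ O.ι) t ∈ Set.range O.ι := ⟨b.left t, rfl⟩
    rwa [Scheme.Opens.range_ι] at this
  · intro h
    have h' : Set.range a.hom.left ⊆ Set.range O.ι := by rwa [Scheme.Opens.range_ι]
    have hfac := IsOpenImmersion.lift_fac O.ι a.hom.left h'
    refine ⟨Over.homMk (IsOpenImmersion.lift O.ι a.hom.left h') ?_, ?_⟩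
    · change IsOpenImmersion.lift O.ι a.hom.left h' ≫ (O.ι ≫ U.hom) = a.left.hom
      rw [← Category.assoc, hfac]
      exact Over.w a.hom
    · apply Over.OverMorphism.ext
      exact hfac

/-- A property of objects cut out, on every scheme, by an open subscheme gives an open immersion. -/
theorem isOpenImm_subIncl_of_open (hQi : ObjectProperty.IsClosedUnderIsomorphisms Q)
    (hopen : ∀ (U : Over S) (Y : FibCat.overCat U ⥤ᵇ 𝒳), ∃ O : U.left.Opens,
      ∀ a : Over U, Q (Y.obj a) ↔ Set.range a.hom.left ⊆ O) :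
    AlgSt.IsOpenImm (AlgSt.subIncl 𝒳 Q) := by
  apply repByAlgSpWith_subIncl Q _ hQi
  intro U Y
  obtain ⟨O, hO⟩ := hopen U Y
  refine ⟨Over.mk (O.ι ≫ U.hom), Over.homMk O.ι rfl, ?_, ?_, ?_⟩
  · have : Mono ((Over.forget S).map (Over.homMk O.ι rfl : Over.mk (O.ι ≫ U.hom) ⟶ U)) :=
      inferInstanceAs (Mono O.ι)
    exact (Over.forget S).mono_of_mono_map this
  · exact (AlgSp.repWith_yon_map_iff _ _).2 (inferInstanceAs (IsOpenImmersion O.ι))
  · intro a
    rw [hO a, exists_lift_iff_range_subset]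

/-- A pullback-stable, isomorphism-closed property cut out by opens defines an open substack. -/
theorem isOpenSubstack_of_open (h𝒳 : AlgSt.IsAlgStack Scheme.fppfPrecoverage 𝒳)
    (hQi : ObjectProperty.IsClosedUnderIsomorphisms Q)
    (hQ : ∀ ⦃y' y : 𝒳.obj⦄ (_ : y' ⟶ y), Q y → Q y')
    (hopen : ∀ (U : Over S) (Y : FibCat.overCat U ⥤ᵇ 𝒳), ∃ O : U.left.Opens,
      ∀ a : Over U, Q (Y.obj a) ↔ Set.range a.hom.left ⊆ O) :
    AlgSt.IsOpenSubstack 𝒳 Q Scheme.fppfPrecoverage := by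
  have h1 := isOpenImm_subIncl_of_open Q hQi hopen
  exact ⟨hQi, isAlgStack_of_repByAlgSp1 (isFibGrpd_fullSub Q h𝒳.isStack.1 hQ) h𝒳 _
    (repByAlgSp1_of_repByAlgSpWith h1), h1⟩

end RepSubIncl

section PtsProp

/-- The objects all of whose field-valued points lie in `T`. -/
def ptsProp (T : Set (AlgSt.Points 𝒳)) (y : 𝒳.obj) : Prop :=
  ∀ (p : AlgSt.FPt 𝒳) (_ : p.obj ⟶ y), AlgSt.Points.mk p ∈ T

variable (T : Set (AlgSt.Points 𝒳))

theorem ptsProp_of_hom {y' y : 𝒳.obj} (φ : y' ⟶ y) (h : ptsProp T y) : ptsProp T y' :=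
  fun p c => h p (c ≫ φ)

theorem ptsProp_isClosedUnderIsomorphisms : ObjectProperty.IsClosedUnderIsomorphisms (ptsProp T) :=
  ⟨fun e h => ptsProp_of_hom T e.inv h⟩

theorem ptsProp_obj_iff (h𝒳 : IsFibGrpd 𝒳.p) {U : Over S} (Y : FibCat.overCat U ⥤ᵇ 𝒳) (a : Over U) :
    ptsProp T (Y.obj a) ↔ ∀ t : ↥a.left.left, AlgSt.Points.ofChart Y (a.hom.left t) ∈ T := by
  constructor
  · intro h t
    rw [← ofChart_overMap_comp a.hom Y t]
    exact h _ (Y.map (Over.homMk (Over.homMk (a.left.left.fromSpecResidueField t) rfl :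
      Over.mk (a.left.left.fromSpecResidueField t ≫ a.left.hom) ⟶ a.left) rfl))
  · intro h p c
    let β : Over.mk p.str ⟶ a.left := eqToHom p.lies.symm ≫ 𝒳.p.map c ≫ eqToHom (Y.w_obj a)
    have hc : 𝒳.p.IsHomLift β c := IsHomLift.of_fac _ _ _ p.lies (Y.w_obj a) rfl
    let q : AlgSt.FPt (FibCat.overCat a.left) :=
      { K := p.K, str := p.str, obj := Over.mk β, lies := rfl }
    let x : FibCat.overCat a.left ⥤ᵇ 𝒳 := BasedFunctor.comp (AlgSt.overMap a.hom) Y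
    let k : (Over.map a.hom).obj (Over.mk β) ⟶ a := Over.homMk β rfl
    have hk : (FibCat.overCat U).p.IsHomLift β k := by
      have : (Over.forget U).IsHomLift ((Over.forget U).map k) k := inferInstance
      exact this
    have hc' : 𝒳.p.IsHomLift β (Y.map k) := inferInstance
    obtain ⟨ι, -, -⟩ := exists_comparison h𝒳 β (Y.map k) hc' c hc
    have h1 : AlgSt.Points.mk p = AlgSt.Points.map x (AlgSt.Points.mk q) :=
      AlgSt.Points.sound ⟨p, 𝟙 _, ι.hom, trivial⟩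
    obtain ⟨t, ht⟩ := (chartPt_bijective a.left).2 (AlgSt.Points.mk q)
    rw [h1, ← ht, ← ofChart_eq, ofChart_overMap_comp]
    exact h t

theorem ptsProp_open (h𝒳 : IsFibGrpd 𝒳.p) (hatlas : AlgSt.HasAtlas (AlgSp.LocP @Smooth) 𝒳)
    (hT : IsOpen T) (U : Over S) (Y : FibCat.overCat U ⥤ᵇ 𝒳) :
    ∃ O : U.left.Opens, ∀ a : Over U, ptsProp T (Y.obj a) ↔ Set.range a.hom.left ⊆ O := by
  refine ⟨⟨AlgSt.Points.ofChart Y ⁻¹' T, (continuous_ofChart h𝒳 hatlas Y).isOpen_preimage T hT⟩, ?_⟩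
  intro a
  rw [ptsProp_obj_iff T h𝒳, Set.range_subset_iff]
  rfl

/-- The open substack of an open set of points. -/
theorem isOpenSubstack_ptsProp (h𝒳 : AlgSt.IsAlgStack Scheme.fppfPrecoverage 𝒳) (hT : IsOpen T) :
    AlgSt.IsOpenSubstack 𝒳 (ptsProp T) Scheme.fppfPrecoverage :=
  isOpenSubstack_of_open _ h𝒳 (ptsProp_isClosedUnderIsomorphisms T)
    (fun _ _ φ h => ptsProp_of_hom T φ h) (ptsProp_open T h𝒳.isStack.1 h𝒳.atlas hT)

/-- The points of the substack on `ptsProp T` are `T`. -/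
theorem range_subIncl_ptsProp :
    Set.range (AlgSt.Points.map (AlgSt.subIncl 𝒳 (ptsProp T))) = T := by
  ext w
  constructor
  · rintro ⟨z, rfl⟩
    obtain ⟨p, rfl⟩ := AlgSt.Points.mk_surjective z
    exact p.obj.property (p.map (AlgSt.subIncl 𝒳 (ptsProp T))) (𝟙 _)
  · intro hw
    obtain ⟨p, rfl⟩ := AlgSt.Points.mk_surjective w
    have hp : ptsProp T p.obj := by
      intro p' c
      have : AlgSt.Points.mk p' = AlgSt.Points.mk p := AlgSt.Points.sound ⟨p', 𝟙 _, c, trivial⟩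
      rw [this]
      exact hw
    exact ⟨AlgSt.Points.mk { K := p.K, str := p.str, obj := ⟨p.obj, hp⟩, lies := p.lies }, rfl⟩

end PtsProp

section OpenSubstacks

universe w

variable (Q : 𝒳.obj → Prop)

/-- An isomorphism-closed property whose full subcategory is fibred in groupoids is stable under pullback. -/
theorem prop_of_hom_of_isFibGrpd_fullSub (h𝒳 : IsFibGrpd 𝒳.p)
    (hQi : ObjectProperty.IsClosedUnderIsomorphisms Q) (hfib : IsFibGrpd (AlgSt.fullSub 𝒳 Q).p)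
    {y' y : 𝒳.obj} (φ : y' ⟶ y) (hy : Q y) : Q y' := by
  obtain ⟨y'', ψ, hψ⟩ := hfib.exists_lift (x := (⟨y, hy⟩ : (AlgSt.fullSub 𝒳 Q).obj)) (𝒳.p.map φ)
  have hψ' : 𝒳.p.IsHomLift (𝒳.p.map φ) ψ.hom := (fullSub_isHomLift_iff Q _ ψ).1 hψ
  obtain ⟨ι, -, -⟩ := exists_comparison h𝒳 (𝒳.p.map φ) ψ.hom hψ' φ inferInstance
  exact hQi.of_iso ι.symm y''.property

theorem IsOpenSubstack.prop_of_hom (h𝒳 : IsFibGrpd 𝒳.p)
    (hQ : AlgSt.IsOpenSubstack 𝒳 Q Scheme.fppfPrecoverage) {y' y : 𝒳.obj} (φ : y' ⟶ y) (hy : Q y) :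
    Q y' :=
  prop_of_hom_of_isFibGrpd_fullSub Q h𝒳 hQ.1 hQ.2.1.isStack.1 φ hy

/-- Objects of a pullback-stable property have their points in the points of the substack. -/
theorem ptsProp_range_of_prop (hQ : ∀ ⦃y' y : 𝒳.obj⦄ (_ : y' ⟶ y), Q y → Q y') {y : 𝒳.obj} (hy : Q y) :
    ptsProp (Set.range (AlgSt.Points.map (AlgSt.subIncl 𝒳 Q))) y := by
  intro p c
  exact ⟨AlgSt.Points.mk { K := p.K, str := p.str, obj := ⟨p.obj, hQ c hy⟩, lies := p.lies }, rfl⟩

theorem exists_union_openSubstacks (h𝒳 : AlgSt.IsAlgStack Scheme.fppfPrecoverage 𝒳) {ι : Type w}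
    (Q : ι → 𝒳.obj → Prop) (hQ : ∀ i, AlgSt.IsOpenSubstack 𝒳 (Q i) Scheme.fppfPrecoverage) :
    ∃ Q' : 𝒳.obj → Prop, AlgSt.IsOpenSubstack 𝒳 Q' Scheme.fppfPrecoverage ∧ (∀ i y, Q i y → Q' y) ∧
      Set.range (AlgSt.Points.map (AlgSt.subIncl 𝒳 Q')) =
        ⋃ i, Set.range (AlgSt.Points.map (AlgSt.subIncl 𝒳 (Q i))) := by
  refine ⟨ptsProp (⋃ i, Set.range (AlgSt.Points.map (AlgSt.subIncl 𝒳 (Q i)))),
    isOpenSubstack_ptsProp _ h𝒳 (isOpen_iUnion fun i => isOpen_range_subIncl h𝒳 (Q i) (hQ i)), ?_,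
    range_subIncl_ptsProp _⟩
  intro i y hy p c
  exact Set.mem_iUnion.2 ⟨i, ptsProp_range_of_prop (Q i)
    (fun _ _ φ h => IsOpenSubstack.prop_of_hom (Q i) h𝒳.isStack.1 (hQ i) φ h) hy p c⟩

end OpenSubstacks

end Groth.Agent.Lib.Helper65
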