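import Groth.Agent.Lib.Helper65.SmoothLocal

/-!
# Helper65: smooth-local properties of schemes on algebraic stacks: charts by algebraic spaces
-/

set_option autoImplicit false
set_option backward.isDefEq.respectTransparency false
set_option backward.isDefEq.respectTransparency.types false

universe u

open CategoryTheory CategoryTheory.Functor CategoryTheory.Limits Opposite AlgebraicGeometry

namespace Groth.Agent.Lib.Helper65

open FibCat Groth.Agent.Lib.Helper31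

variable {S : Scheme.{u}}

section Chart

/-- The functor `(Sch/T) ⟶ ofSp X` of a map `h_T ⟶ X`. -/
abbrev chartFunctor {X : AlgSp.Sp S} {T : Over S} (p : (AlgSp.yon S).obj T ⟶ X) :
    FibCat.overCat T ⥤ᵇ AlgSt.ofSp X :=
  BasedFunctor.comp (AlgSt.ofOverCat T) (AlgSt.ofSpMap p)

theorem locP_smooth_of_repWith_etale {X : AlgSp.Sp S} {T : Over S} (p : (AlgSp.yon S).obj T ⟶ X)
    (hpe : AlgSp.RepWith @Etale p) : AlgSp.LocP @Smooth p := by
  have := Groth.Agent.Lib.Helper54.isMultiplicative_smooth.{u}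
  have h := Groth.Agent.Lib.Helper54.locP_yon_map_comp (S := S) @Smooth
    (fun A B φ hφ => by have : Etale φ := hφ; exact (inferInstance : Smooth φ))
    (𝟙 T) (inferInstanceAs (Smooth (𝟙 T.left))) p hpe
  rwa [(AlgSp.yon S).map_id, Category.id_comp] at h

theorem chartFunctor_smooth (X : AlgSp.Space S) {T : Over S} (p : (AlgSp.yon S).obj T ⟶ X.obj)
    (hpe : AlgSp.RepWith @Etale p) : AlgSt.RepByAlgSpWith (AlgSp.LocP @Smooth) (chartFunctor p) :=
  repByAlgSpWith_of_prop _ stableBC_locP_smooth X T p (locP_smooth_of_repWith_etale p hpe)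

theorem chartFunctor_surjective (X : AlgSp.Space S) {T : Over S} (p : (AlgSp.yon S).obj T ⟶ X.obj)
    (hps : AlgSp.RepWith @Surjective p) : AlgSt.RepByAlgSpWith AlgSp.IsSurjectiveMor (chartFunctor p) :=
  repByAlgSpWith_of_prop _ stableBC_isSurjectiveMor X T p
    (Groth.Agent.H52.surjective_points_of_repWith_surjective p hps)

variable {𝒳 : AlgSt.Cat S}

theorem chart_comp_smooth (h𝒳 : IsFibGrpd 𝒳.p) (X : AlgSp.Space S) {T : Over S}
    (p : (AlgSp.yon S).obj T ⟶ X.obj) (hpe : AlgSp.RepWith @Etale p) (x : AlgSt.ofSp X.obj ⥤ᵇ 𝒳)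
    (hx : AlgSt.RepByAlgSpWith (AlgSp.LocP @Smooth) x) :
    AlgSt.RepByAlgSpWith (AlgSp.LocP @Smooth) (BasedFunctor.comp (chartFunctor p) x) :=
  repByAlgSpWith_comp _ stableBC_locP_smooth (stableComp_locP _ (Or.inr (Or.inr (Or.inr (Or.inl rfl)))))
    isLocalOnBase_fppf_locP_smooth (isFibGrpd_overForget T) (Stk.isFibGrpd_ofPsh _) (chartFunctor p) x
    (chartFunctor_smooth X p hpe) hx

theorem chart_comp_surjective (h𝒳 : IsFibGrpd 𝒳.p) (X : AlgSp.Space S) {T : Over S}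
    (p : (AlgSp.yon S).obj T ⟶ X.obj) (hps : AlgSp.RepWith @Surjective p) (x : AlgSt.ofSp X.obj ⥤ᵇ 𝒳)
    (hx : AlgSt.RepByAlgSpWith AlgSp.IsSurjectiveMor x) :
    AlgSt.RepByAlgSpWith AlgSp.IsSurjectiveMor (BasedFunctor.comp (chartFunctor p) x) :=
  repByAlgSpWith_comp _ stableBC_isSurjectiveMor stableComp_isSurjectiveMor
    isLocalOnBase_fppf_isSurjectiveMor (isFibGrpd_overForget T) (Stk.isFibGrpd_ofPsh _) (chartFunctor p) x
    (chartFunctor_surjective X p hps) hx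

end Chart

section Thms

variable {𝒳 : AlgSt.Cat S} {P : Scheme.{u} → Prop}

/-- An etale surjective scheme chart with `P` of `h_U` gives `P` for `U`. -/
theorem prop_of_etaleLocally_yon (hP : SmoothLocalProp P) (U : Over S)
    (h : AlgSp.EtaleLocally P ((AlgSp.yon S).obj U)) : P U.left := by
  obtain ⟨T, p, hpe, hps, hPT⟩ := h
  obtain ⟨g, rfl⟩ := (AlgSp.yon S).map_surjective p
  have hge : Etale g.left := (AlgSp.repWith_yon_map_iff _ _).1 hpe
  have hgs : Surjective g.left := (AlgSp.repWith_yon_map_iff _ _).1 hps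
  have : Smooth g.left := inferInstance
  exact hP.of_smooth_surjective g.left hgs.surj hPT

theorem smoothLocally_iff_forall_space_chart (h𝒳 : IsFibGrpd 𝒳.p) (hP : SmoothLocalProp P) :
    AlgSt.SmoothLocally P 𝒳 ↔
      ∀ (U : AlgSp.Space S) (x : AlgSt.ofSp U.obj ⥤ᵇ 𝒳),
        AlgSt.RepByAlgSpWith (AlgSp.LocP @Smooth) x → AlgSp.EtaleLocally P U.obj := by
  constructor
  · intro h U x hx
    obtain ⟨T, p, hpe, hps⟩ := U.property.atlas
    exact ⟨T, p, hpe, hps, h T _ (chart_comp_smooth h𝒳 U p hpe x hx)⟩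
  · intro h U' x' hx'
    exact prop_of_etaleLocally_yon hP U'
      (h ⟨(AlgSp.yon S).obj U', AlgSp.IsAlgSpace.yon_obj U'⟩ _ (repByAlgSpWith_toOverCat_comp _ x' hx'))

theorem smoothLocally_iff_exists_space_chart (h𝒳 : IsFibGrpd 𝒳.p)
    (hatlas : AlgSt.HasAtlas (AlgSp.LocP @Smooth) 𝒳) (hP : SmoothLocalProp P) :
    AlgSt.SmoothLocally P 𝒳 ↔
      ∃ (U : AlgSp.Space S) (x : AlgSt.ofSp U.obj ⥤ᵇ 𝒳),
        AlgSt.RepByAlgSpWith (AlgSp.LocP @Smooth) x ∧ AlgSt.RepByAlgSpWith AlgSp.IsSurjectiveMor x ∧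
          AlgSp.EtaleLocally P U.obj := by
  constructor
  · intro h
    obtain ⟨U₀, x₀, hx1, hx2⟩ := hatlas
    refine ⟨⟨(AlgSp.yon S).obj U₀, AlgSp.IsAlgSpace.yon_obj U₀⟩, _,
      repByAlgSpWith_toOverCat_comp _ x₀ hx1, repByAlgSpWith_toOverCat_comp _ x₀ hx2, ?_⟩
    exact ⟨U₀, 𝟙 _, AlgSp.repWith_id _ U₀, AlgSp.repWith_id _ U₀, h U₀ x₀ hx1⟩
  · rintro ⟨U, x, hx1, hx2, T, p, hpe, hps, hPT⟩ U' x' hx'
    exact prop_of_smooth_charts hP _ (chart_comp_smooth h𝒳 U p hpe x hx1)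
      (chart_comp_surjective h𝒳 U p hps x hx2) x' hx' hPT

theorem smoothLocally_ofSp_iff (X : AlgSp.Space S) (hP : SmoothLocalProp P) :
    AlgSt.SmoothLocally P (AlgSt.ofSp X.obj) ↔ AlgSp.EtaleLocally P X.obj := by
  constructor
  · intro h
    obtain ⟨T, p, hpe, hps⟩ := X.property.atlas
    exact ⟨T, p, hpe, hps, h T _ (chartFunctor_smooth X p hpe)⟩
  · rintro ⟨T, p, hpe, hps, hPT⟩ U' x' hx'
    exact prop_of_smooth_charts hP _ (chartFunctor_smooth X p hpe) (chartFunctor_surjective X p hps)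
      x' hx' hPT

theorem smoothLocally_ofSch_iff (U : Over S) (hP : SmoothLocalProp P) :
    AlgSt.SmoothLocally P (AlgSt.ofSch U) ↔ P U.left := by
  rw [show AlgSt.ofSch U = AlgSt.ofSp (⟨(AlgSp.yon S).obj U, AlgSp.IsAlgSpace.yon_obj U⟩ :
    AlgSp.Space S).obj from rfl, smoothLocally_ofSp_iff _ hP]
  constructor
  · intro h
    exact prop_of_etaleLocally_yon hP U h
  · intro h
    exact ⟨U, 𝟙 _, AlgSp.repWith_id _ U, AlgSp.repWith_id _ U, h⟩

end Thms

end Groth.Agent.Lib.Helper65
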