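import Groth.Prelude.Def_AlgSt
import Groth.Agent.Lib.Helper65.LocalEss
import Groth.Agent.Lib.Helper65.BasedPost

/-!
# Helper65: the full subcategory of a stack on a local property is a stack
-/

set_option autoImplicit false
set_option backward.isDefEq.respectTransparency false
set_option backward.isDefEq.respectTransparency.types false

universe v₂ u₂ v u

open CategoryTheory CategoryTheory.Functor

namespace Groth.Agent.Lib.Helper65.SubStackQ

open FibCat Groth.Agent.Lib.Helper31 Groth.Agent.Lib.Helper65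

variable {C : Type u} [Category.{v} C] {𝒳 : BasedCategory.{v₂, u₂} C} (Q : ObjectProperty 𝒳.obj)

/-- the full subcategory on `Q` as a category over `C` -/
abbrev sub : BasedCategory.{v₂, u₂} C := .ofFunctor (Q.ι ⋙ 𝒳.p)

/-- its inclusion -/
def incl : sub Q ⥤ᵇ 𝒳 where
  toFunctor := Q.ι
  w := rfl

instance : (incl Q).toFunctor.Full := inferInstanceAs Q.ι.Full

instance : (incl Q).toFunctor.Faithful := inferInstanceAs Q.ι.Faithful

theorem sub_isHomLift_iff {R T : C} (f : R ⟶ T) {a b : (sub Q).obj} (φ : a ⟶ b) :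
    (sub Q).p.IsHomLift f φ ↔ 𝒳.p.IsHomLift f φ.hom :=
  (BasedFunctor.isHomLift_iff (incl Q) f φ).symm

theorem isFibGrpd_sub (h𝒳 : IsFibGrpd 𝒳.p)
    (h1 : ∀ ⦃y x : 𝒳.obj⦄ (_ : y ⟶ x), Q x →
      ∃ (y' : 𝒳.obj) (e : y ≅ y'), Q y' ∧ 𝒳.p.IsHomLift (𝟙 (𝒳.p.obj y)) e.hom) :
    IsFibGrpd (Q.ι ⋙ 𝒳.p) where
  exists_lift := by
    intro x V f
    obtain ⟨y, φ, hφ⟩ := h𝒳.exists_lift (x := x.obj) f
    obtain ⟨y', e, hy', he⟩ := h1 φ x.property
    have hV : 𝒳.p.obj y = V := IsHomLift.domain_eq 𝒳.p f φ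
    subst hV
    refine ⟨⟨y', hy'⟩, ObjectProperty.homMk (e.inv ≫ φ), ?_⟩
    apply (sub_isHomLift_iff Q f _).2
    change 𝒳.p.IsHomLift f (e.inv ≫ φ)
    infer_instance
  isStronglyCartesian := by
    intro y x φ
    have hc : 𝒳.p.IsStronglyCartesian (𝒳.p.map φ.hom) φ.hom := h𝒳.isStronglyCartesian φ.hom
    refine { toIsHomLift := inferInstance, universal_property' := ?_ }
    intro a' g φ' hφ'
    have hφ'' : 𝒳.p.IsHomLift (g ≫ 𝒳.p.map φ.hom) φ'.hom := (sub_isHomLift_iff Q _ φ').1 hφ'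
    obtain ⟨χ, ⟨hχ1, hχ2⟩, hχu⟩ := hc.universal_property' g φ'.hom
    refine ⟨ObjectProperty.homMk χ, ⟨(sub_isHomLift_iff Q g _).2 hχ1, ?_⟩, ?_⟩
    · apply ObjectProperty.hom_ext
      exact hχ2
    · rintro χ' ⟨h1', h2'⟩
      apply ObjectProperty.hom_ext
      exact hχu χ'.hom ⟨(sub_isHomLift_iff Q g χ').1 h1', congrArg (fun t => t.hom) h2'⟩

variable {Q}

section Restr

variable {𝒜 : BasedCategory.{v, max u v} C} {ℬ : BasedCategory.{v, max u v} C} (ι : 𝒜 ⥤ᵇ ℬ)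

theorem restr_sub_faithful (h : (Stk.restr ι 𝒳).Faithful) : (Stk.restr ι (sub Q)).Faithful := by
  have h1 : (post ℬ (incl Q)).Faithful := post_faithful ℬ (incl Q)
  have h2 : (Stk.restr ι (sub Q) ⋙ post 𝒜 (incl Q)).Faithful := by
    rw [restr_post]
    infer_instance
  exact Functor.Faithful.of_comp (Stk.restr ι (sub Q)) (post 𝒜 (incl Q))

theorem restr_sub_full (h : (Stk.restr ι 𝒳).Full) (h' : (Stk.restr ι 𝒳).Faithful) :
    (Stk.restr ι (sub Q)).Full := by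
  have h1 : (post ℬ (incl Q)).Full := post_full ℬ (incl Q)
  have h1' : (post 𝒜 (incl Q)).Faithful := post_faithful 𝒜 (incl Q)
  have h2 : (Stk.restr ι (sub Q) ⋙ post 𝒜 (incl Q)).Full := by
    rw [restr_post]
    infer_instance
  exact Functor.Full.of_comp_faithful (Stk.restr ι (sub Q)) (post 𝒜 (incl Q))

end Restr

theorem isStackFor_sub {𝒳' : BasedCategory.{v, max u v} C} {Q' : ObjectProperty 𝒳'.obj}
    (h𝒳' : IsFibGrpd 𝒳'.p) {U : C} (R : Sieve U) (hR : Stk.IsStackFor R 𝒳')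
    (hloc : ∀ (a : Over U) (x : 𝒳'.obj), 𝒳'.p.obj x = a.left →
      (∀ ⦃V : C⦄ (f : V ⟶ a.left), R (f ≫ a.hom) → ∀ (y : 𝒳'.obj) (φ : y ⟶ x), 𝒳'.p.IsHomLift f φ →
        ∃ (y' : 𝒳'.obj) (e : y ≅ y'), Q' y' ∧ 𝒳'.p.IsHomLift (𝟙 V) e.hom) →
      ∃ (x' : 𝒳'.obj) (e : x ≅ x'), Q' x' ∧ 𝒳'.p.IsHomLift (𝟙 a.left) e.hom) :
    Stk.IsStackFor R (sub Q') := by
  have hE : (Stk.restr (Stk.sieveIncl R) 𝒳').IsEquivalence := hR
  have hfa : (Stk.restr (Stk.sieveIncl R) (sub Q')).Faithful := restr_sub_faithful _ inferInstance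
  have hfu : (Stk.restr (Stk.sieveIncl R) (sub Q')).Full := restr_sub_full _ inferInstance inferInstance
  have hes : (Stk.restr (Stk.sieveIncl R) (sub Q')).EssSurj := by
    constructor
    intro t
    obtain ⟨s, ⟨σ⟩⟩ := Functor.EssSurj.mem_essImage (Stk.restr (Stk.sieveIncl R) 𝒳')
      (BasedFunctor.comp t (incl Q'))
    -- `σ : ι ⋙ s ≅ t ⋙ incl`
    have hs : ∀ a : (overCat U).obj, ∃ (x : (sub Q').obj) (ε : (incl Q').obj x ≅ s.obj a),
        𝒳'.p.IsHomLift (𝟙 ((overCat U).p.obj a)) ε.hom := by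
      intro a
      obtain ⟨x', e, hx', he⟩ := hloc a (s.obj a) (s.w_obj a) (by
        intro V f hf y φ hφ
        -- the object of the sieve
        let b : (Stk.sieveCat R).obj := ⟨Over.mk (f ≫ a.hom), hf⟩
        let k : Over.mk (f ≫ a.hom) ⟶ a := Over.homMk f rfl
        have hk : 𝒳'.p.IsHomLift f (s.map k) := map_isHomLift_left s k
        have c1 : 𝒳'.p.IsStronglyCartesian f φ := isStronglyCartesian_of_isFibGrpd 𝒳'.p h𝒳' _ _
        have c2 : 𝒳'.p.IsStronglyCartesian f (s.map k) := isStronglyCartesian_of_isFibGrpd 𝒳'.p h𝒳' _ _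
        have c1' : 𝒳'.p.IsCartesian f φ := inferInstance
        have c2' : 𝒳'.p.IsCartesian f (s.map k) := inferInstance
        let e₁ : y ≅ s.obj (Over.mk (f ≫ a.hom)) := IsCartesian.domainUniqueUpToIso 𝒳'.p f (s.map k) φ
        have he₁ : 𝒳'.p.IsHomLift (𝟙 V) e₁.hom := inferInstance
        let e₂ : s.obj (Over.mk (f ≫ a.hom)) ≅ (t.obj b).obj := (basedIsoToNatIso σ).app b
        have he₂ : 𝒳'.p.IsHomLift (𝟙 V) e₂.hom := σ.hom.isHomLift' b
        refine ⟨(t.obj b).obj, e₁ ≪≫ e₂, (t.obj b).property, ?_⟩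
        have : 𝒳'.p.IsHomLift (𝟙 V ≫ 𝟙 V) (e₁.hom ≫ e₂.hom) := inferInstance
        rw [Category.comp_id] at this
        exact this)
      exact ⟨⟨x', hx'⟩, e.symm, by change 𝒳'.p.IsHomLift (𝟙 a.left) e.inv; infer_instance⟩
    obtain ⟨K, ⟨κ⟩⟩ := exists_lift_of_ff (incl Q') s hs
    refine ⟨K, ⟨?_⟩⟩
    have h1 : (post (Stk.sieveCat R) (incl Q')).Faithful := post_faithful _ (incl Q')
    have h2 : (post (Stk.sieveCat R) (incl Q')).Full := post_full _ (incl Q')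
    let θ₀ : (post (Stk.sieveCat R) (incl Q')).obj ((Stk.restr (Stk.sieveIncl R) (sub Q')).obj K) ≅
        (post (Stk.sieveCat R) (incl Q')).obj t :=
      (Stk.restr (Stk.sieveIncl R) 𝒳').mapIso κ ≪≫ σ
    exact (post (Stk.sieveCat R) (incl Q')).preimageIso θ₀
  exact { }

end Groth.Agent.Lib.Helper65.SubStackQ
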