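import Groth.Prelude.Def_AlgSt3
import Groth.Prelude.Def_AlgSt4
import Groth.Agent.Lib.Helper65.SubSt
import Groth.Agent.Lib.Helper65.SubStPts
import Groth.Agent.Lib.Helper65.GerbeSection
import Groth.Agent.Lib.Helper65.GerbeDiag
import Groth.Agent.Lib.Helper51.OpenImmDescent
import Groth.Agent.H72.NormalBir3
import Groth.Agent.S12763
import Groth.Agent.Lib.Helper65.StUniv
import Groth.Agent.Lib.Helper65.RepWithP
import Groth.Agent.Lib.Helper65.SubStImage
import Groth.Agent.Lib.Helper65.SpaceDM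
import Groth.Agent.Lib.Helper65.LocalProps
import Groth.Agent.Lib.Helper65.StPoints2
import Groth.Agent.Lib.Helper65.StSurj
import Groth.Agent.Lib.Helper66.AlgStLocQSq6
import Groth.Agent.Lib.Helper66.AlgSpSmLocalSmooth
import Groth.Agent.Lib.Helper66.RepWithPDet
import Groth.Agent.Lib.Helper54.Reduced
import Groth.Agent.S12795
import Groth.Agent.Lib.Helper65.RepSp
import Groth.Agent.Lib.Helper65.RepDesc2
import Groth.Agent.Lib.Helper65.AlgStRep
import Groth.Agent.Lib.Helper66.SmoothPres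
import Groth.Agent.Lib.Helper66.MonoOfFull
import Groth.Agent.Lib.Helper66.ProdSliceFst
import Groth.Agent.Lib.Helper66.AlgStImmFacts
import Groth.Agent.Lib.Helper66.AlgStBC
import Groth.Agent.H53.InvImm
import Groth.Agent.Lib.Helper66.ResGerbe2

/-!
# Helper65: the reduced closed substack on a closed subset of the points of an algebraic stack
-/

set_option autoImplicit false
set_option backward.isDefEq.respectTransparency false
set_option backward.isDefEq.respectTransparency.types false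

universe u

open CategoryTheory CategoryTheory.Functor CategoryTheory.Limits Opposite AlgebraicGeometry TopologicalSpace

namespace Groth.Agent.Lib.Helper65.RedSubSt

open FibCat Groth.Agent.Lib.Helper31 Groth.Agent.Lib.Helper65 Gerb

variable {S : Scheme.{u}} {𝒳 : AlgSt.Cat S}

section SchemeLevel

/-- A morphism from a reduced scheme whose image lies in a closed subset factors through the reduced
induced closed subscheme. -/
theorem exists_lift_reducedInduced {V U : Scheme.{u}} [IsReduced V] (r : V ⟶ U) (E : Closeds ↥U)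
    (h : Set.range r ⊆ (E : Set ↥U)) :
    ∃ q : V ⟶ (Scheme.IdealSheafData.vanishingIdeal E).subscheme,
      q ≫ (Scheme.IdealSheafData.vanishingIdeal E).subschemeι = r := by
  have hle : (Scheme.IdealSheafData.vanishingIdeal E).subschemeι.ker ≤ r.ker := by
    rw [Scheme.IdealSheafData.ker_subschemeι]
    exact Groth.Agent.H72.NormalBir.vanishingIdeal_le_ker r E h
  exact ⟨IsClosedImmersion.lift _ r hle, IsClosedImmersion.lift_fac _ _ _⟩

end SchemeLevel

variable {U₀ Z₀ : Over S} (u : FibCat.overCat U₀ ⥤ᵇ 𝒳) (j : Z₀ ⟶ U₀)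

/-- The objects of `𝒳` all of whose chart points (for the chart `u`) lie in the subscheme `j`. -/
def Q (ξ : 𝒳.obj) : Prop :=
  ∀ (A : Over U₀) (_ : u.obj A ⟶ ξ), ∃ b : A.left ⟶ Z₀, b ≫ j = A.hom

theorem Q_of_hom {ξ' ξ : 𝒳.obj} (φ : ξ' ⟶ ξ) (h : Q u j ξ) : Q u j ξ' :=
  fun A c => h A (c ≫ φ)

theorem Q_isClosedUnderIsomorphisms : ObjectProperty.IsClosedUnderIsomorphisms (Q u j) where
  of_iso e h := Q_of_hom u j e.inv h

/-- Locality of `Q`. -/
theorem Q_local [Mono j] {T : Over S} (R : Sieve T) (hR : R ∈ AlgSp.J S T) (ξ : 𝒳.obj)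
    (hξ : 𝒳.p.obj ξ = T)
    (h : ∀ ⦃V : Over S⦄ (f : V ⟶ T), R f → ∀ (y : 𝒳.obj) (φ : y ⟶ ξ), 𝒳.p.IsHomLift f φ → Q u j y) :
    Q u j ξ := by
  intro A c
  subst hξ
  -- the base morphism of `c`
  have hA : 𝒳.p.obj (u.obj A) = A.left := u.w_obj A
  obtain ⟨b', hb'⟩ : ∃ b' : A.left ⟶ 𝒳.p.obj ξ, 𝒳.p.IsHomLift b' c := by
    have : ∀ (R' : Over S) (_ : 𝒳.p.obj (u.obj A) = R'), ∃ b' : R' ⟶ 𝒳.p.obj ξ, 𝒳.p.IsHomLift b' c := by
      rintro R' rfl
      exact ⟨𝒳.p.map c, inferInstance⟩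
    exact this _ hA
  have hm : Mono ((AlgSp.yon S).map j) := Groth.Agent.H52.mono_yon_map j
  obtain ⟨η, hη⟩ := Groth.Agent.Lib.Helper51.exists_factor_of_factorSieve_mem
    (φ := (AlgSp.yon S).map j) ((AlgSp.yon S).map A.hom) (by
      refine (AlgSp.J S).superset_covering ?_ ((AlgSp.J S).pullback_stable b' hR)
      intro W k hk
      let A' : Over U₀ := Over.mk (k ≫ A.hom)
      let κ : A' ⟶ A := Over.homMk k rfl
      have hκ : (FibCat.overCat U₀).p.IsHomLift k κ := by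
        have : (FibCat.overCat U₀).p.IsHomLift ((FibCat.overCat U₀).p.map κ) κ := inferInstance
        exact this
      have huκ : 𝒳.p.IsHomLift k (u.map κ) := BasedFunctor.preserves_isHomLift u k κ
      have hφ : 𝒳.p.IsHomLift (k ≫ b') (u.map κ ≫ c) := inferInstance
      obtain ⟨b, hb⟩ := h (k ≫ b') hk (u.obj A') (u.map κ ≫ c) hφ A' (𝟙 _)
      refine ⟨(AlgSp.yon S).map b, ?_⟩
      rw [← Functor.map_comp, ← Functor.map_comp]
      exact congrArg _ hb)
  obtain ⟨b, rfl⟩ := (AlgSp.yon S).map_surjective η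
  refine ⟨b, ?_⟩
  apply (AlgSp.yon S).map_injective
  rw [Functor.map_comp]
  exact hη

section Smooth

/-- A morphism of schemes whose functor is smooth is smooth. -/
theorem smooth_of_repByAlgSpWith_overMap {W T : Over S} (g : W ⟶ T)
    (h : AlgSt.RepByAlgSpWith (AlgSp.LocP @Smooth) (AlgSt.overMap g)) : Smooth g.left := by
  have hP := Groth.Agent.Lib.Helper66.AlgSpSmLocalLft.isSmoothLocalST_locP_smooth (S := S)
  have h5 : AlgSt.LocQ (AlgSp.LocP @Smooth) (AlgSt.overMap g) :=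
    Groth.Agent.Lib.Helper66.AlgStLocQSq.locQ_of_repByAlgSpWith _ hP (isFibGrpd_overForget _)
      (isFibGrpd_overForget _) (isAlgStack_overCat T).atlas _ h
  exact AlgSp.locP_yon_map (Groth.Agent.Lib.Helper66.AlgStLocQSq.prop_of_locQ_overMap _ hP _ h5)

end Smooth

section Inv

variable (E : Closeds ↥U₀.left)

/-- The reduced induced closed subscheme on `E`, over `S`. -/
noncomputable def ZE : Over S :=
  Over.mk ((Scheme.IdealSheafData.vanishingIdeal E).subschemeι ≫ U₀.hom)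

/-- Its inclusion. -/
noncomputable def jE : ZE E ⟶ U₀ :=
  Over.homMk (Scheme.IdealSheafData.vanishingIdeal E).subschemeι rfl

instance : IsClosedImmersion (jE E).left :=
  inferInstanceAs (IsClosedImmersion (Scheme.IdealSheafData.vanishingIdeal E).subschemeι)

instance : IsReduced (ZE E).left :=
  inferInstanceAs (IsReduced (Scheme.IdealSheafData.vanishingIdeal E).subscheme)

instance : Mono (jE E) :=
  haveI : Mono (jE E).left := inferInstance
  Groth.Agent.H52.mono_over_of_mono_left (jE E)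

theorem range_jE : Set.range (jE E).left = (E : Set ↥U₀.left) := by
  change Set.range (Scheme.IdealSheafData.vanishingIdeal E).subschemeι = _
  rw [Scheme.IdealSheafData.range_subschemeι, Scheme.IdealSheafData.coe_support_vanishingIdeal]

theorem exists_base_hom {C : Type*} [Category C] {𝒲 : Type*} [Category 𝒲] (p : 𝒲 ⥤ C) {a b : 𝒲}
    (c : a ⟶ b) {R T : C} (ha : p.obj a = R) (hb : p.obj b = T) : ∃ k : R ⟶ T, p.IsHomLift k c := by
  subst ha hb
  exact ⟨p.map c, inferInstance⟩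

variable (h𝒳 : AlgSt.IsAlgStack Scheme.fppfPrecoverage 𝒳)
  (hu1 : AlgSt.RepByAlgSpWith (AlgSp.LocP @Smooth) u) (T : Set (AlgSt.Points 𝒳))
  (hE : (E : Set ↥U₀.left) = AlgSt.Points.ofChart u ⁻¹' T)

include h𝒳 hu1 hE in
/-- Invariance of the reduced induced subscheme under the groupoid `U₀ ×_𝒳 U₀`. -/
theorem inv (B₀ : Over (ZE E)) (A' : Over U₀)
    (c : u.obj A' ⟶ u.obj ((Over.map (jE E)).obj B₀)) :
    ∃ b : A'.left ⟶ ZE E, b ≫ jE E = A'.hom := by
  have hfX : IsFibGrpd 𝒳.p := h𝒳.isStack.1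
  let y : FibCat.overCat (ZE E) ⥤ᵇ 𝒳 := BasedFunctor.comp (AlgSt.overMap (jE E)) u
  have hZst := isAlgStack_overCat (ZE E)
  have hUst := isAlgStack_overCat U₀
  have h𝒫 : AlgSt.IsAlgStack Scheme.fppfPrecoverage (fp y u) :=
    Groth.Agent.S12763.result h𝒳.isStack h𝒳.diag hZst hUst y u
  obtain ⟨V, Ev, hEv1, hEv2⟩ := h𝒫.atlas
  have hfst1 : AlgSt.RepByAlgSpWith (AlgSp.LocP @Smooth) (fpFst y u) := repByAlgSpWith_fpFst _ u y hu1
  have hg1 : AlgSt.RepByAlgSpWith (AlgSp.LocP @Smooth) (BasedFunctor.comp Ev (fpFst y u)) :=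
    repByAlgSpWith_comp _ stableBC_locP_smooth stableComp_locP_smooth isLocalOnBase_fppf_locP_smooth
      (isFibGrpd_overForget V) h𝒫.isStack.1 Ev (fpFst y u) hEv1 hfst1
  obtain ⟨g₀, -, ⟨ig⟩⟩ := exists_iso_overMap (BasedFunctor.comp Ev (fpFst y u))
  obtain ⟨r₀, -, ⟨ir⟩⟩ := exists_iso_overMap (BasedFunctor.comp Ev (fpSnd y u))
  have hg₀ : Smooth g₀.left := smooth_of_repByAlgSpWith_overMap g₀
    (Groth.Agent.Lib.Helper66.RepWithPDet.repByAlgSpWith_of_iso _ ig.symm hg1)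
  have hVred : IsReduced V.left :=
    @Groth.Agent.Lib.Helper54.isReduced_of_smooth_scheme _ _ g₀.left hg₀ inferInstance
  let θ : BasedFunctor.comp (AlgSt.overMap g₀) y ≅ BasedFunctor.comp (AlgSt.overMap r₀) u :=
    bWhiskerRightIso ig.symm y ≪≫ bWhiskerLeftIso Ev (fpIso y u) ≪≫ bWhiskerRightIso ir u
  -- points of `V` land in `E`
  have hrange : Set.range r₀.left ⊆ (E : Set ↥U₀.left) := by
    rintro _ ⟨v, rfl⟩
    have h1 : AlgSt.Points.ofChart u (r₀.left v) =
        AlgSt.Points.ofChart u ((jE E).left (g₀.left v)) := by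
      calc AlgSt.Points.ofChart u (r₀.left v)
          = AlgSt.Points.map u (AlgSt.Points.map (AlgSt.overMap r₀) (chartPt V v)) := by
            rw [ofChart_eq, points_map_overMap_chartPt]
        _ = AlgSt.Points.map (BasedFunctor.comp (AlgSt.overMap r₀) u) (chartPt V v) :=
            (points_map_comp _ _ _).symm
        _ = AlgSt.Points.map (BasedFunctor.comp (AlgSt.overMap g₀) y) (chartPt V v) :=
            (points_map_congr θ _).symm
        _ = AlgSt.Points.map y (AlgSt.Points.map (AlgSt.overMap g₀) (chartPt V v)) :=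
            points_map_comp _ _ _
        _ = AlgSt.Points.map y (chartPt (ZE E) (g₀.left v)) := by rw [points_map_overMap_chartPt]
        _ = AlgSt.Points.map u (AlgSt.Points.map (AlgSt.overMap (jE E)) (chartPt (ZE E) (g₀.left v))) :=
            points_map_comp _ _ _
        _ = AlgSt.Points.ofChart u ((jE E).left (g₀.left v)) := by
            rw [points_map_overMap_chartPt, ofChart_eq]
    have h2 : (jE E).left (g₀.left v) ∈ (E : Set ↥U₀.left) := by
      rw [← range_jE]; exact ⟨_, rfl⟩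
    rw [hE] at h2 ⊢
    change AlgSt.Points.ofChart u (r₀.left v) ∈ T
    rw [h1]
    exact h2
  obtain ⟨q₀, hq₀⟩ := exists_lift_reducedInduced r₀.left E hrange
  let q : V ⟶ ZE E := Over.homMk q₀ (by
    change q₀ ≫ ((Scheme.IdealSheafData.vanishingIdeal E).subschemeι ≫ U₀.hom) = V.hom
    rw [← Category.assoc, hq₀]
    exact Over.w r₀)
  have hq : q ≫ jE E = r₀ := by
    apply Over.OverMorphism.ext
    exact hq₀
  -- local surjectivity of the atlas
  have hEvf := repByAlgSpWith_mono (locP_mono smooth_le_flat) Ev hEv1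
  have hEvp := repByAlgSpWith_mono (locP_mono smooth_le_lfp) Ev hEv1
  have hEvs : AlgSt.IsSurjective Ev :=
    isSurjective_of_repByAlgSpWith (isFibGrpd_overForget V) h𝒫.isStack.1 Ev hEv2
  have hloc : LocSurjObj (AlgSp.J S) Ev :=
    GerbeSection.locSurjObj_of_fppf h𝒫.isStack.1 (isFibGrpd_overForget V) Ev hEvf hEvp hEvs
  -- the object of the fibre product
  obtain ⟨k, hk⟩ := exists_base_hom 𝒳.p c (u.w_obj A') (y.w_obj B₀)
  let B₀' : Over (ZE E) := Over.mk (k ≫ B₀.hom)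
  let κ : B₀' ⟶ B₀ := Over.homMk k rfl
  have hκ : (FibCat.overCat (ZE E)).p.IsHomLift k κ := by
    have : (FibCat.overCat (ZE E)).p.IsHomLift ((FibCat.overCat (ZE E)).p.map κ) κ := inferInstance
    exact this
  have hyκ : 𝒳.p.IsHomLift k (y.map κ) := BasedFunctor.preserves_isHomLift y k κ
  have hc1 : 𝒳.p.IsStronglyCartesian k c := isStronglyCartesian_of_isFibGrpd 𝒳.p hfX k c
  have hc2 : 𝒳.p.IsStronglyCartesian k (y.map κ) := isStronglyCartesian_of_isFibGrpd 𝒳.p hfX k _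
  have hc1' : 𝒳.p.IsCartesian k c := inferInstance
  have hc2' : 𝒳.p.IsCartesian k (y.map κ) := inferInstance
  let ι : y.obj B₀' ≅ u.obj A' := IsCartesian.domainUniqueUpToIso 𝒳.p k c (y.map κ)
  have hι : 𝒳.p.IsHomLift (𝟙 A'.left) ι.hom := inferInstance
  let B : (fp y u).obj := fpObjMk y u B₀' A' ι hι
  obtain ⟨R, hR, hR'⟩ := hloc B
  have hm : Mono ((AlgSp.yon S).map (jE E)) := Groth.Agent.H52.mono_yon_map (jE E)
  obtain ⟨η, hη⟩ := Groth.Agent.Lib.Helper51.exists_factor_of_factorSieve_mem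
    (φ := (AlgSp.yon S).map (jE E)) ((AlgSp.yon S).map A'.hom) (by
      refine (AlgSp.J S).superset_covering ?_ hR
      intro W' f hf
      obtain ⟨A₀, γ, hγ⟩ := hR' f hf
      have hdom : A₀.left = W' := by
        have h1 : (fp y u).p.obj (Ev.obj A₀) = W' := IsHomLift.domain_eq (fp y u).p f γ
        rw [← h1]
        exact (Ev.w_obj A₀).symm
      subst hdom
      have hγ2 : (FibCat.overCat U₀).p.IsHomLift f ((fpSnd y u).map γ) :=
        BasedFunctor.preserves_isHomLift (fpSnd y u) f γ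
      have hir : (FibCat.overCat U₀).p.IsHomLift (𝟙 A₀.left) (ir.inv.toNatTrans.app A₀) :=
        ir.inv.isHomLift' A₀
      let μ : (Over.map r₀).obj A₀ ⟶ A' := ir.inv.toNatTrans.app A₀ ≫ (fpSnd y u).map γ
      have hμ : (FibCat.overCat U₀).p.IsHomLift f μ := isHomLift_comp_id_left _ f _ _ hir hγ2
      have hμl : f = μ.left :=
        IsHomLift.eq_of_isHomLift (FibCat.overCat U₀).p (a := (Over.map r₀).obj A₀) (b := A') f μ
      have hw : μ.left ≫ A'.hom = A₀.hom ≫ r₀ := Over.w μ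
      refine ⟨(AlgSp.yon S).map (A₀.hom ≫ q), ?_⟩
      rw [← Functor.map_comp, ← Functor.map_comp, Category.assoc, hq, hμl, hw])
  obtain ⟨b, rfl⟩ := (AlgSp.yon S).map_surjective η
  refine ⟨b, ?_⟩
  apply (AlgSp.yon S).map_injective
  rw [Functor.map_comp]
  exact hη

end Inv

section Main

variable (E : Closeds ↥U₀.left) (h𝒳 : AlgSt.IsAlgStack Scheme.fppfPrecoverage 𝒳)
  (hu1 : AlgSt.RepByAlgSpWith (AlgSp.LocP @Smooth) u)
  (hu2 : AlgSt.RepByAlgSpWith AlgSp.IsSurjectiveMor u) (T : Set (AlgSt.Points 𝒳))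
  (hE : (E : Set ↥U₀.left) = AlgSt.Points.ofChart u ⁻¹' T)

/-- The property cutting out the reduced closed substack. -/
abbrev QE : 𝒳.obj → Prop := Q u (jE E)

include h𝒳 hu1 hE in
theorem QE_chart_iff (A : Over U₀) :
    QE u E (u.obj A) ↔ ∃ b : A.left ⟶ ZE E, b ≫ jE E = A.hom := by
  constructor
  · intro h
    exact h A (𝟙 _)
  · rintro ⟨b, hb⟩ A' c
    let ε : A ≅ (Over.map (jE E)).obj (Over.mk b) := Over.isoMk (Iso.refl _) (by
      change 𝟙 _ ≫ (b ≫ jE E) = A.hom
      rw [Category.id_comp, hb])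
    exact inv u E h𝒳 hu1 T hE (Over.mk b) A' (c ≫ u.map ε.hom)

include h𝒳 hu1 hE in
theorem QE_chart (b : Over (ZE E)) : QE u E (u.obj ((Over.map (jE E)).obj b)) :=
  (QE_chart_iff u E h𝒳 hu1 T hE _).2 ⟨b.hom, rfl⟩

include h𝒳 in
theorem isStack_fullSub : Stk.IsStack (AlgSp.J S) (AlgSt.fullSub 𝒳 (QE u E)) := by
  refine Groth.Agent.S12795.result (AlgSp.J S) h𝒳.isStack (QE u E) ?_ ?_
  · intro y x φ hx
    refine ⟨y, Iso.refl y, Q_of_hom u (jE E) φ hx, ?_⟩
    change 𝒳.p.IsHomLift (𝟙 (𝒳.p.obj y)) (𝟙 y)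
    infer_instance
  · intro U R hR x hx hyp
    refine ⟨x, Iso.refl x, ?_, ?_⟩
    · apply Q_local u (jE E) R hR x hx
      intro V f hf y φ hφ
      obtain ⟨y', e, hy', -⟩ := hyp f hf y φ hφ
      exact (Q_isClosedUnderIsomorphisms u (jE E)).of_iso e.symm hy'
    · subst hx
      change 𝒳.p.IsHomLift (𝟙 (𝒳.p.obj x)) (𝟙 x)
      infer_instance

instance (Q' : 𝒳.obj → Prop) : (AlgSt.subIncl 𝒳 Q').toFunctor.Full :=
  inferInstanceAs (ObjectProperty.ι Q').Full

instance (Q' : 𝒳.obj → Prop) : (AlgSt.subIncl 𝒳 Q').toFunctor.Faithful :=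
  inferInstanceAs (ObjectProperty.ι Q').Faithful

include h𝒳 hu1 hu2 hE in
/-- The substack is algebraic, with the reduced subscheme of the chart as a chart, and its inclusion is
a closed immersion. -/
theorem isClosedSubstack_and_chart :
    AlgSt.IsClosedSubstack 𝒳 (QE u E) Scheme.fppfPrecoverage ∧
    ∃ ζ : FibCat.overCat (ZE E) ⥤ᵇ AlgSt.fullSub 𝒳 (QE u E),
      AlgSt.RepByAlgSpWith (AlgSp.LocP @Smooth) ζ ∧ AlgSt.RepByAlgSpWith AlgSp.IsSurjectiveMor ζ ∧
      BasedFunctor.comp ζ (AlgSt.subIncl 𝒳 (QE u E)) = BasedFunctor.comp (AlgSt.overMap (jE E)) u := by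
  have hfX : IsFibGrpd 𝒳.p := h𝒳.isStack.1
  have hQi := Q_isClosedUnderIsomorphisms u (jE E)
  have hstack := isStack_fullSub u E h𝒳
  let sub : FibCat.overCat (ZE E) ⥤ᵇ fp u (AlgSt.subIncl 𝒳 (QE u E)) :=
    subLift (QE u E) (jE E) u (QE_chart u E h𝒳 hu1 T hE)
  have hsub : IsEquivOver sub :=
    subLift_isEquivOver (QE u E) (jE E) u _ hQi (fun a h => (QE_chart_iff u E h𝒳 hu1 T hE a).1 h)
  let ζ : FibCat.overCat (ZE E) ⥤ᵇ AlgSt.fullSub 𝒳 (QE u E) :=
    BasedFunctor.comp sub (fpSnd u (AlgSt.subIncl 𝒳 (QE u E)))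
  have hζ1 : AlgSt.RepByAlgSpWith (AlgSp.LocP @Smooth) ζ :=
    repByAlgSpWith_equiv_comp _ sub hsub _
      (Groth.Agent.Lib.Helper66.AlgStBC.repByAlgSpWith_fpSnd _ (AlgSt.subIncl 𝒳 (QE u E)) u hu1)
  have hζ2 : AlgSt.RepByAlgSpWith AlgSp.IsSurjectiveMor ζ :=
    repByAlgSpWith_equiv_comp _ sub hsub _
      (Groth.Agent.Lib.Helper66.AlgStBC.repByAlgSpWith_fpSnd _ (AlgSt.subIncl 𝒳 (QE u E)) u hu2)
  have halg : AlgSt.IsAlgStack Scheme.fppfPrecoverage (AlgSt.fullSub 𝒳 (QE u E)) :=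
    { isStack := hstack
      diag := repByAlgSp1_diag_of_all (fun U G =>
        Groth.Agent.Lib.Helper66.SmoothPres.repByAlgSp1_of_smooth_cover
          (isAlgStack_overCat (ZE E)).isStack hstack (repByAlgSp_overCat (ZE E)) ζ hζ1 hζ2 U G)
      atlas := ⟨ZE E, ζ, hζ1, hζ2⟩ }
  have hmono : AlgSt.IsMono (AlgSt.subIncl 𝒳 (QE u E)) :=
    Groth.Agent.Lib.Helper66.MonoOfFull.isMono_of_full_faithful halg h𝒳 _
  -- the chart is locally surjective on objects
  have huf := repByAlgSpWith_mono (locP_mono smooth_le_flat) u hu1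
  have hup := repByAlgSpWith_mono (locP_mono smooth_le_lfp) u hu1
  have hus : AlgSt.IsSurjective u :=
    isSurjective_of_repByAlgSpWith (isFibGrpd_overForget U₀) hfX u hu2
  have hlocu : LocSurjObj (AlgSp.J S) u :=
    GerbeSection.locSurjObj_of_fppf hfX (isFibGrpd_overForget U₀) u huf hup hus
  have hcl0 : AlgSt.RepByAlgSpWith (AlgSp.RepWith @IsClosedImmersion) (AlgSt.overMap (jE E)) :=
    Groth.Agent.Lib.Helper66.ProdSliceFst.repByAlgSpWith_overMap_of_prop @IsClosedImmersion (jE E)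
      inferInstance
  have hcl1 : AlgSt.RepByAlgSpWith (AlgSp.RepWith @IsClosedImmersion)
      (fpFst u (AlgSt.subIncl 𝒳 (QE u E))) :=
    repByAlgSpWith_of_square' _ (fpFst u (AlgSt.subIncl 𝒳 (QE u E))) (AlgSt.overMap (jE E)) sub
      (BasedFunctor.id _) hsub (isEquivOver_id _) (Iso.refl _) hcl0
  have hcl : AlgSt.IsClosedImm (AlgSt.subIncl 𝒳 (QE u E)) :=
    repByAlgSpWith_of_locally_essSurj halg.isStack.1 hfX (isFibGrpd_overForget U₀) _
      (Groth.Agent.Lib.Helper66.AlgStImmFacts.stableBC_repWith _)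
      Groth.Agent.H53.InvImm.isLocalOnBase_fppf_closed (AlgSt.subIncl 𝒳 (QE u E))
      (repByAlgSp1_of_repByAlgSpWith hmono) u
      (GerbeDiag.factor_of_locSurjObj hfX (isFibGrpd_overForget U₀) u hlocu) hcl1
  exact ⟨⟨hQi, halg, hcl⟩, ζ, hζ1, hζ2, rfl⟩

include h𝒳 hu1 hu2 hE in
/-- **The reduced closed substack on a closed subset of the points.** -/
theorem main :
    AlgSt.IsClosedSubstack 𝒳 (QE u E) Scheme.fppfPrecoverage ∧
      Set.range (AlgSt.Points.map (AlgSt.subIncl 𝒳 (QE u E))) = T ∧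
      AlgSt.SmoothLocally (fun X => IsReduced X) (AlgSt.fullSub 𝒳 (QE u E)) := by
  obtain ⟨hcs, ζ, hζ1, hζ2, hζ⟩ := isClosedSubstack_and_chart u E h𝒳 hu1 hu2 T hE
  have hfX : IsFibGrpd 𝒳.p := h𝒳.isStack.1
  have halg := hcs.2.1
  have hζs : AlgSt.IsSurjective ζ :=
    isSurjective_of_repByAlgSpWith (isFibGrpd_overForget (ZE E)) halg.isStack.1 ζ hζ2
  have hus : AlgSt.IsSurjective u :=
    isSurjective_of_repByAlgSpWith (isFibGrpd_overForget U₀) hfX u hu2
  have key : ∀ z : ↥(ZE E).left, AlgSt.Points.map (AlgSt.subIncl 𝒳 (QE u E))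
      (AlgSt.Points.map ζ (chartPt (ZE E) z)) = AlgSt.Points.ofChart u ((jE E).left z) := by
    intro z
    rw [← points_map_comp, hζ, points_map_comp, points_map_overMap_chartPt, ofChart_eq]
  refine ⟨hcs, ?_, ?_⟩
  · apply Set.Subset.antisymm
    · rintro _ ⟨z₁, rfl⟩
      obtain ⟨w, rfl⟩ := hζs z₁
      obtain ⟨z, rfl⟩ := (chartPt_bijective (ZE E)).2 w
      rw [key]
      have h2 : (jE E).left z ∈ (E : Set ↥U₀.left) := by
        rw [← range_jE]; exact ⟨_, rfl⟩
      rw [hE] at h2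
      exact h2
    · intro t' ht'
      obtain ⟨w, rfl⟩ := hus t'
      obtain ⟨t, rfl⟩ := (chartPt_bijective U₀).2 w
      have h1 : t ∈ (E : Set ↥U₀.left) := by
        rw [hE]
        exact ht'
      rw [← range_jE] at h1
      obtain ⟨z, rfl⟩ := h1
      exact ⟨AlgSt.Points.map ζ (chartPt (ZE E) z), key z⟩
  · intro U x hx
    have hζf := repByAlgSpWith_mono (locP_mono smooth_le_flat) ζ hζ1
    obtain ⟨V, g, r, hgf, -, hgs, hrs, -⟩ :=
      Groth.Agent.Lib.Helper66.ResGerbe.exists_chart_pair @Smooth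
        (Or.inr (Or.inr (Or.inr (Or.inl rfl)))) halg (ZE E) ζ hζ2 hζf hζ1 U x hx
    have h1 : Smooth r.left := hrs
    have h2 : IsReduced V.left :=
      @Groth.Agent.Lib.Helper54.isReduced_of_smooth_scheme _ _ r.left h1 inferInstance
    exact Groth.Agent.Lib.Helper54.isReduced_of_flat_of_surjective g.left

end Main

end Groth.Agent.Lib.Helper65.RedSubSt
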