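import Groth.Agent.Lib.Helper65.FppfCoverSp
import Groth.Agent.Lib.Helper65.RedSubSt
import Groth.Agent.Lib.Helper65.GerbeDiag
import Groth.Agent.Lib.Helper66.ResGerbe7
import Groth.Agent.S12795
import Groth.Agent.S12768
import Groth.Agent.S12763

/-!
# Helper65: the fppf-local essential image of a field point `z : Spec k ⟶ 𝒵` that is flat, surjective and locally of
finite type is an algebraic substack on which `z` is flat, surjective and locally of finite presentation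
-/

set_option autoImplicit false
set_option backward.isDefEq.respectTransparency false
set_option backward.isDefEq.respectTransparency.types false

universe u

open CategoryTheory CategoryTheory.Functor CategoryTheory.Limits AlgebraicGeometry

namespace Groth.Agent.Lib.Helper65.FieldImg

open AlgSp Groth.Agent.Lib.Helper65 Groth.Agent.Lib.Helper31 FibCat Gerb
open Groth.Agent.Lib.Helper65.FppfCoverSp

section Setoid

universe v₂ u₂ v₃ u₃ v₄ u₄ v w

variable {C : Type w} [Category.{v} C]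
variable {𝒳 : BasedCategory.{v₂, u₂} C} {𝒴 : BasedCategory.{v₃, u₃} C} {𝒮 : BasedCategory.{v₄, u₄} C}

/-- The 2-fibre product of a category fibred in setoids with a faithful functor is fibred in setoids. -/
theorem isFibSetoid_fp_of_faithful (F : 𝒳 ⥤ᵇ 𝒮) (G : 𝒴 ⥤ᵇ 𝒮) (h𝒳 : IsFibSetoid 𝒳.p) (h𝒴 : IsFibGrpd 𝒴.p)
    (h𝒮 : IsFibGrpd 𝒮.p) [G.toFunctor.Faithful] : IsFibSetoid (fp F G).p := by
  refine ⟨isFibGrpd_fp F G h𝒳.1 h𝒴 h𝒮, fun U => fun a b => ⟨fun φ ψ => ?_⟩⟩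
  have hφ : (fp F G).p.IsHomLift (𝟙 U) φ.1 := φ.2
  have hψ : (fp F G).p.IsHomLift (𝟙 U) ψ.1 := ψ.2
  have hφ1 : 𝒳.p.IsHomLift (𝟙 U) φ.1.hom.fst := (fp_isHomLift_iff F G (𝟙 U) φ.1).mp hφ
  have hψ1 : 𝒳.p.IsHomLift (𝟙 U) ψ.1.hom.fst := (fp_isHomLift_iff F G (𝟙 U) ψ.1).mp hψ
  have e1 : φ.1.hom.fst = ψ.1.hom.fst :=
    @eq_of_isThin_fiber _ _ _ h𝒳.2 U _ _ φ.1.hom.fst ψ.1.hom.fst hφ1 hψ1
  apply Functor.Fiber.hom_ext
  apply fp_hom_ext
  · exact e1
  · apply G.toFunctor.map_injective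
    have w1 := fp_hom_w φ.1
    have w2 := fp_hom_w ψ.1
    rw [e1] at w1
    have : a.1.obj.iso.hom ≫ G.map φ.1.hom.snd = a.1.obj.iso.hom ≫ G.map ψ.1.hom.snd := by
      rw [← w1, ← w2]
    exact (cancel_epi _).1 this

end Setoid

variable {S : Scheme.{u}} {𝒵 : AlgSt.Cat S} {U₀ : Over S} (z : FibCat.overCat U₀ ⥤ᵇ 𝒵)

/-- The objects of `𝒵` which are fppf locally in the essential image of `z`. -/
def Q (ξ : 𝒵.obj) : Prop :=
  objSieve (isFibGrpd_overForget U₀) z ξ rfl ∈ AlgSp.J S (𝒵.p.obj ξ)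

theorem Q_of_hom (h𝒵 : IsFibGrpd 𝒵.p) {ξ' ξ : 𝒵.obj} (ψ : ξ' ⟶ ξ) (h : Q z ξ) : Q z ξ' := by
  refine (AlgSp.J S).superset_covering ?_ ((AlgSp.J S).pullback_stable (𝒵.p.map ψ) h)
  rintro V f ⟨c, g, hg⟩
  have cψ : 𝒵.p.IsStronglyCartesian (𝒵.p.map ψ) ψ := h𝒵.isStronglyCartesian ψ
  exact ⟨c, IsStronglyCartesian.map 𝒵.p (𝒵.p.map ψ) ψ (g := f) rfl g, inferInstance⟩

theorem Q_isClosedUnderIsomorphisms (h𝒵 : IsFibGrpd 𝒵.p) :
    ObjectProperty.IsClosedUnderIsomorphisms (Q z) where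
  of_iso e h := Q_of_hom z h𝒵 e.inv h

theorem Q_obj (c : (FibCat.overCat U₀).obj) : Q z (z.obj c) := by
  have h : objSieve (isFibGrpd_overForget U₀) z (z.obj c) rfl = ⊤ := by
    rw [← Sieve.id_mem_iff_eq_top]
    exact ⟨c, 𝟙 _, inferInstance⟩
  unfold Q
  rw [h]
  exact (AlgSp.J S).top_mem _

/-- Locality of `Q`. -/
theorem Q_local (h𝒵 : IsFibGrpd 𝒵.p) {T : Over S} (R : Sieve T) (hR : R ∈ AlgSp.J S T) (ξ : 𝒵.obj)
    (hξ : 𝒵.p.obj ξ = T)
    (h : ∀ ⦃V : Over S⦄ (f : V ⟶ T), R f → ∀ (y : 𝒵.obj) (φ : y ⟶ ξ), 𝒵.p.IsHomLift f φ → Q z y) :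
    Q z ξ := by
  subst hξ
  refine (AlgSp.J S).transitive hR _ ?_
  intro V f hf
  obtain ⟨y, φ, hφ⟩ := h𝒵.exists_lift (x := ξ) f
  have hy : 𝒵.p.obj y = V := IsHomLift.domain_eq 𝒵.p f φ
  have hQy := h f hf y φ hφ
  subst hy
  refine (AlgSp.J S).superset_covering ?_ hQy
  rintro W l ⟨c, g, hg⟩
  exact ⟨c, g ≫ φ, inferInstance⟩

/-- The factorisation of `z` through the full subcategory on `Q`. -/
def lift : FibCat.overCat U₀ ⥤ᵇ AlgSt.fullSub 𝒵 (Q z) := liftFullSub (Q z) z (Q_obj z)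

theorem lift_comp_subIncl : BasedFunctor.comp (lift z) (AlgSt.subIncl 𝒵 (Q z)) = z := rfl

theorem locSurjObj_lift : LocSurjObj (AlgSp.J S) (lift z) := by
  intro y
  refine ⟨objSieve (isFibGrpd_overForget U₀) z y.obj rfl, y.property, ?_⟩
  rintro V f ⟨c, g, hg⟩
  exact ⟨c, ObjectProperty.homMk g, (fullSub_isHomLift_iff (Q z) f _).2 hg⟩

theorem isFibGrpd_fullSub' (h𝒵 : IsFibGrpd 𝒵.p) : IsFibGrpd (AlgSt.fullSub 𝒵 (Q z)).p :=
  isFibGrpd_fullSub (Q z) h𝒵 (fun _ _ φ h => Q_of_hom z h𝒵 φ h)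

theorem isStack_fullSub (h𝒵 : Stk.IsStack (AlgSp.J S) 𝒵) :
    Stk.IsStack (AlgSp.J S) (AlgSt.fullSub 𝒵 (Q z)) := by
  refine Groth.Agent.S12795.result (AlgSp.J S) h𝒵 (Q z) ?_ ?_
  · intro y x φ hx
    refine ⟨y, Iso.refl y, Q_of_hom z h𝒵.1 φ hx, ?_⟩
    change 𝒵.p.IsHomLift (𝟙 (𝒵.p.obj y)) (𝟙 y)
    infer_instance
  · intro U R hR x hx hyp
    refine ⟨x, Iso.refl x, ?_, ?_⟩
    · apply Q_local z h𝒵.1 R hR x hx
      intro V f hf y φ hφ
      obtain ⟨y', e, hy', -⟩ := hyp f hf y φ hφ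
      exact (Q_isClosedUnderIsomorphisms z h𝒵.1).of_iso e.symm hy'
    · subst hx
      change 𝒵.p.IsHomLift (𝟙 (𝒵.p.obj x)) (𝟙 x)
      infer_instance

section Main

variable (h𝒵 : AlgSt.IsAlgStack Scheme.fppfPrecoverage 𝒵)

include h𝒵 in
theorem repByAlgSp1_lift : AlgSt.RepByAlgSp1 (lift z) := by
  rw [repByAlgSp1_iff_top]
  apply repByAlgSpWith_of_comp_ff ⊤ (AlgSt.subIncl 𝒵 (Q z))
  change AlgSt.RepByAlgSpWith ⊤ z
  exact (repByAlgSp1_iff_top z).1 (repByAlgSp1_of_diag h𝒵.diag U₀ z)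

include h𝒵 in
/-- A property of the projection `Spec k ×_𝒵 Spec k ⟶ Spec k` which is fppf local on the base holds for
`Spec k ⟶ 𝒵'`. -/
theorem lift_prop (P : MorphismProperty (AlgSp.Sp S)) (hPb : StableBC P)
    (hP : AlgSp.IsLocalOnBase AlgSp.IsFppfCover P)
    (h : AlgSt.RepByAlgSpWith P (fpFst z z)) : AlgSt.RepByAlgSpWith P (lift z) := by
  have hfib' := isFibGrpd_fullSub' z h𝒵.isStack.1
  have hO := isFibGrpd_overForget U₀
  refine repByAlgSpWith_of_locally_essSurj hO hfib' hO P hPb hP (lift z) (repByAlgSp1_lift z h𝒵) (lift z)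
    (GerbeDiag.factor_of_locSurjObj hfib' hO (lift z) (locSurjObj_lift z)) ?_
  let Φ : fp (lift z) (lift z) ⥤ᵇ fp z z :=
    fpMap (F := lift z) (G := lift z) (F' := BasedFunctor.comp (lift z) (AlgSt.subIncl 𝒵 (Q z)))
      (G' := BasedFunctor.comp (lift z) (AlgSt.subIncl 𝒵 (Q z)))
      (BasedFunctor.id _) (BasedFunctor.id _) (AlgSt.subIncl 𝒵 (Q z)) (Iso.refl _) (Iso.refl _)
  have hΦ : IsEquivOver Φ := fpMap_ff_isEquivOver (AlgSt.subIncl 𝒵 (Q z)) (lift z) (lift z)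
  exact repByAlgSpWith_of_square P (fpFst z z) (fpFst (lift z) (lift z)) Φ (BasedFunctor.id _) hΦ
    (isEquivOver_id _) (Iso.refl _) h

include h𝒵 in
/-- If `z` is flat, locally finitely presented and surjective onto the full subcategory on `Q`, the inclusion of
that subcategory is representable by algebraic spaces. -/
theorem repByAlgSp1_subIncl (hz1 : AlgSt.RepByAlgSpWith (LocP @Flat) (lift z))
    (hz2 : AlgSt.RepByAlgSpWith (LocP @LocallyOfFinitePresentation) (lift z))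
    (hz3 : AlgSt.RepByAlgSpWith IsSurjectiveMor (lift z)) :
    AlgSt.RepByAlgSp1 (AlgSt.subIncl 𝒵 (Q z)) := by
  intro T Y
  have hstack' := isStack_fullSub z h𝒵.isStack
  have hsetO : ∀ W : Over S, IsFibSetoid (overCat W).p := fun W =>
    isFibSetoid_of_equivOver (AlgSt.toOverCat W) (toOverCat_isEquivOver W) (isFibSetoid_ofPsh _)
  have hI_stack : Stk.IsStack (AlgSp.J S) (fp Y (AlgSt.subIncl 𝒵 (Q z))) :=
    isStack_fp Y (AlgSt.subIncl 𝒵 (Q z)) _ (isAlgStack_overCat T).isStack hstack'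
      (isPrestack_of_isStack _ h𝒵.isStack)
  have hI_set : IsFibSetoid (fp Y (AlgSt.subIncl 𝒵 (Q z))).p :=
    isFibSetoid_fp_of_faithful Y (AlgSt.subIncl 𝒵 (Q z)) (hsetO T) hstack'.1 h𝒵.isStack.1
  have hq1 := repByAlgSpWith_fpFst _ (lift z) (fpSnd Y (AlgSt.subIncl 𝒵 (Q z))) hz1
  have hq2 := repByAlgSpWith_fpFst _ (lift z) (fpSnd Y (AlgSt.subIncl 𝒵 (Q z))) hz2
  have hq3 := repByAlgSpWith_fpFst _ (lift z) (fpSnd Y (AlgSt.subIncl 𝒵 (Q z))) hz3
  have hc : AlgSt.RepByAlgSp (fp Y (BasedFunctor.comp (lift z) (AlgSt.subIncl 𝒵 (Q z)))) :=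
    repByAlgSp1_of_diag h𝒵.diag U₀ z T Y
  have ha : AlgSt.RepByAlgSp (fp (fpSnd Y (AlgSt.subIncl 𝒵 (Q z))) (lift z)) :=
    (repByAlgSp_iff_of_equivOver _ (fpPasteSnd_isEquivOver Y (AlgSt.subIncl 𝒵 (Q z)) (lift z))).2 hc
  exact repByAlgSp_of_fppf_cover hI_stack hI_set ha _ hq1 hq2 hq3

end Main

section Field

/-- The slice over the spectrum of a field is locally Noetherian. -/
theorem noeth_overCat_field {k : Type u} [Field k] (a : Spec (CommRingCat.of k) ⟶ S) :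
    AlgSt.SmoothLocally (fun T => IsLocallyNoetherian T) (FibCat.overCat (Over.mk a)) := by
  intro W x hx
  obtain ⟨g, -, ⟨i⟩⟩ := Groth.Agent.Lib.Helper65.exists_iso_overMap x
  have h1 : AlgSt.RepByAlgSpWith (LocP @Smooth) (AlgSt.overMap g) :=
    Groth.Agent.Lib.Helper66.RepWithPDet.repByAlgSpWith_of_iso _ i.symm hx
  have h2 : Smooth g.left := RedSubSt.smooth_of_repByAlgSpWith_overMap g h1
  have h3 : LocallyOfFiniteType (g.left : W.left ⟶ Spec (CommRingCat.of k)) := inferInstance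
  have h0 : IsLocallyNoetherian (Spec (CommRingCat.of k)) := inferInstance
  exact @LocallyOfFiniteType.isLocallyNoetherian _ _ (g.left : W.left ⟶ Spec (CommRingCat.of k)) h3 h0

variable (h𝒵 : AlgSt.IsAlgStack Scheme.fppfPrecoverage 𝒵)
  {k : Type u} [Field k] (a : Spec (CommRingCat.of k) ⟶ S) (z : FibCat.overCat (Over.mk a) ⥤ᵇ 𝒵)
  (hzs : AlgSt.RepByAlgSpWith IsSurjectiveMor z) (hzf : AlgSt.RepByAlgSpWith (LocP @Flat) z)
  (hzt : AlgSt.RepByAlgSpWith (LocP @LocallyOfFiniteType) z)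

include h𝒵 hzt in
theorem lfp_fpFst : AlgSt.RepByAlgSpWith (LocP @LocallyOfFinitePresentation) (fpFst z z) := by
  have halg : AlgSt.IsAlgStack Scheme.fppfPrecoverage (fp z z) :=
    Groth.Agent.S12763.result h𝒵.isStack h𝒵.diag (isAlgStack_overCat _) (isAlgStack_overCat _) z z
  exact Groth.Agent.Lib.Helper66.ResGerbe.repByAlgSpWith_lfp_of_lft_of_noeth halg (isAlgStack_overCat _)
    (noeth_overCat_field a) (fpFst z z) (repByAlgSpWith_fpFst _ z z hzt)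

include h𝒵 hzs hzf hzt in
/-- **The fppf-local essential image of a flat, surjective, locally finite type field point** is an algebraic
substack on which the point is flat, surjective and locally of finite presentation. -/
theorem main :
    ObjectProperty.IsClosedUnderIsomorphisms (Q z) ∧
      AlgSt.IsAlgStack Scheme.fppfPrecoverage (AlgSt.fullSub 𝒵 (Q z)) ∧
      AlgSt.RepByAlgSpWith (LocP @LocallyOfFinitePresentation) (lift z) ∧
      AlgSt.RepByAlgSpWith IsSurjectiveMor (lift z) ∧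
      AlgSt.RepByAlgSpWith (LocP @Flat) (lift z) ∧
      AlgSt.IsMono (AlgSt.subIncl 𝒵 (Q z)) := by
  have h1 : AlgSt.RepByAlgSpWith (LocP @Flat) (lift z) :=
    lift_prop z h𝒵 _ (Groth.Agent.Lib.Helper66.AlgStPFacts.stableBC_locP _ Groth.Agent.Lib.Helper66.ResGerbe.listed_flat)
      isLocalOnBase_fppf_locP_flat (repByAlgSpWith_fpFst _ z z hzf)
  have h2 : AlgSt.RepByAlgSpWith (LocP @LocallyOfFinitePresentation) (lift z) :=
    lift_prop z h𝒵 _ (Groth.Agent.Lib.Helper66.AlgStPFacts.stableBC_locP _ Groth.Agent.Lib.Helper66.ResGerbe.listed_lfp)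
      isLocalOnBase_fppf_locP_lfp (lfp_fpFst h𝒵 a z hzt)
  have h3 : AlgSt.RepByAlgSpWith IsSurjectiveMor (lift z) :=
    lift_prop z h𝒵 _ stableBC_isSurjectiveMor isLocalOnBase_fppf_isSurjectiveMor
      (repByAlgSpWith_fpFst _ z z hzs)
  have halg : AlgSt.IsAlgStack Scheme.fppfPrecoverage (AlgSt.fullSub 𝒵 (Q z)) :=
    Groth.Agent.S12768.result (isFibGrpd_fullSub' z h𝒵.isStack.1) h𝒵 (AlgSt.subIncl 𝒵 (Q z))
      (repByAlgSp1_subIncl z h𝒵 h1 h2 h3)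
  exact ⟨Q_isClosedUnderIsomorphisms z h𝒵.isStack.1, halg, h2, h3, h1,
    Groth.Agent.Lib.Helper66.MonoOfFull.isMono_of_full_faithful halg h𝒵 _⟩

end Field

end Groth.Agent.Lib.Helper65.FieldImg
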