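import Groth.Agent.Lib.Helper66.SmoothPres
import Groth.Agent.S10104

/-!
# Helper65: a stack in setoids with an fppf cover (representable by algebraic spaces) by an algebraic space is an
algebraic space; cancellation of a fully faithful functor in `RepByAlgSpWith`
-/

set_option autoImplicit false
set_option backward.isDefEq.respectTransparency false
set_option backward.isDefEq.respectTransparency.types false

universe u

open CategoryTheory CategoryTheory.Limits AlgebraicGeometry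

namespace Groth.Agent.Lib.Helper65.FppfCoverSp

open AlgSp Groth.Agent.Lib.Helper65 Groth.Agent.Lib.Helper31 FibCat

variable {S : Scheme.{u}}

/-- A stack in setoids with a flat, locally finitely presented, surjective cover by an algebraic space is an
algebraic space. -/
theorem repByAlgSp_of_fppf_cover {ℐ 𝒲 : AlgSt.Cat S} (hℐ : Stk.IsStack (AlgSp.J S) ℐ)
    (hset : IsFibSetoid ℐ.p) (h𝒲 : AlgSt.RepByAlgSp 𝒲) (q : 𝒲 ⥤ᵇ ℐ)
    (hq1 : AlgSt.RepByAlgSpWith (LocP @Flat) q)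
    (hq2 : AlgSt.RepByAlgSpWith (LocP @LocallyOfFinitePresentation) q)
    (hq3 : AlgSt.RepByAlgSpWith IsSurjectiveMor q) : AlgSt.RepByAlgSp ℐ := by
  obtain ⟨P, E, hE⟩ := exists_psh_of_isFibSetoid hset
  obtain ⟨E', hE', -, ⟨i₂⟩⟩ := exists_inverse_equivOver E hE
  have hstack : Stk.IsStack (AlgSp.J S) (Stk.ofPsh P) := (isStack_iff_of_equivOver _ E hE).2 hℐ
  have hP : Presheaf.IsSheaf (J S) P :=
    (isSheaf_iff_isSheaf_of_type _ _).2 ((isStack_ofPsh_iff _ P).1 hstack)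
  let F : Sp S := ⟨P, hP⟩
  obtain ⟨X, eX, heX⟩ := h𝒲
  let y : AlgSt.ofSp X.obj ⥤ᵇ Stk.ofPsh P := BasedFunctor.comp (BasedFunctor.comp eX q) E'
  let p₀ : X.obj.obj ⟶ P := pshMapOf y
  have hsq : ∀ (Q : MorphismProperty (Sp S)), AlgSt.RepByAlgSpWith Q q →
      AlgSt.RepByAlgSpWith Q (Stk.ofPshMap p₀) := by
    intro Q hQ
    refine repByAlgSpWith_of_square Q q (Stk.ofPshMap p₀) eX E heX hE ?_ hQ
    exact bWhiskerRightIso (isoOfPshMap y).symm E ≪≫ bWhiskerLeftIso (BasedFunctor.comp eX q) i₂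
  have h1 := hsq _ hq1
  have h2 := hsq _ hq2
  have h3 := hsq _ hq3
  have hrep : RepBySp p₀ := by
    apply repBySp_of_repByAlgSp1
    intro V z
    obtain ⟨G, e, he, -⟩ := h1 V z
    exact ⟨G, e, he⟩
  have hp1 : RepBySpWith (LocP @Flat) p₀ := repBySpWith_of_repByAlgSpWith p₀ _ hrep h1
  have hp2 : RepBySpWith (LocP @LocallyOfFinitePresentation) p₀ :=
    repBySpWith_of_repByAlgSpWith p₀ _ hrep h2
  have hp3 : RepBySpWith IsSurjectiveMor p₀ := repBySpWith_of_repByAlgSpWith p₀ _ hrep h3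
  have hp : RepBySpWith (IsSurjectiveMor ⊓ LocP @Flat ⊓ LocP @LocallyOfFinitePresentation) p₀ := by
    intro V ξ F' fst snd sq
    obtain ⟨hsh, hA, hs⟩ := hp3 ξ fst snd sq
    obtain ⟨_, _, hfl⟩ := hp1 ξ fst snd sq
    obtain ⟨_, _, hfp⟩ := hp2 ξ fst snd sq
    exact ⟨hsh, hA, ⟨hs, hfl⟩, hfp⟩
  have hF : IsAlgSpace F :=
    Groth.Agent.S10104.result S F X (ObjectProperty.homMk p₀ : X.obj ⟶ F) hp
  exact ⟨⟨F, hF⟩, E, hE⟩

section Cancel

variable {𝒳 𝒴 𝒴' : AlgSt.Cat S}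

/-- The comparison of 2-fibre products along a fully faithful functor is an equivalence. -/
theorem fpMap_ff_isEquivOver {𝒜 : AlgSt.Cat S} (i : 𝒴' ⥤ᵇ 𝒴) [i.toFunctor.Full] [i.toFunctor.Faithful]
    (y : 𝒜 ⥤ᵇ 𝒴') (f : 𝒳 ⥤ᵇ 𝒴') :
    IsEquivOver (fpMap (F := y) (G := f) (F' := BasedFunctor.comp y i) (G' := BasedFunctor.comp f i)
      (BasedFunctor.id _) (BasedFunctor.id _) i (Iso.refl _) (Iso.refl _)) := by
  obtain ⟨h1, h2, h3⟩ := isEquivOver_full_faithful_ess _ (isEquivOver_id 𝒜)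
  obtain ⟨h4, h5, h6⟩ := isEquivOver_full_faithful_ess _ (isEquivOver_id 𝒳)
  have := fpMap_full (F := y) (G := f) (F' := BasedFunctor.comp y i) (G' := BasedFunctor.comp f i)
    (BasedFunctor.id _) (BasedFunctor.id _) i (Iso.refl _) (Iso.refl _)
  exact isEquivOver_of_ff_ess _ (fpMap_essSurjOver _ _ _ _ _ h3 h6)

/-- Cancellation of a fully faithful functor. -/
theorem repByAlgSpWith_of_comp_ff (P : MorphismProperty (AlgSp.Sp S)) (i : 𝒴' ⥤ᵇ 𝒴)
    [i.toFunctor.Full] [i.toFunctor.Faithful] (f : 𝒳 ⥤ᵇ 𝒴')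
    (hf : AlgSt.RepByAlgSpWith P (BasedFunctor.comp f i)) : AlgSt.RepByAlgSpWith P f := by
  intro U y'
  let Φ : fp y' f ⥤ᵇ fp (BasedFunctor.comp y' i) (BasedFunctor.comp f i) :=
    fpMap (F := y') (G := f) (F' := BasedFunctor.comp y' i) (G' := BasedFunctor.comp f i)
      (BasedFunctor.id _) (BasedFunctor.id _) i (Iso.refl _) (Iso.refl _)
  have hΦ : IsEquivOver Φ := fpMap_ff_isEquivOver i y' f
  obtain ⟨Ψ, hΨ, ⟨i₁⟩, ⟨i₂⟩⟩ := exists_inverse_equivOver Φ hΦ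
  have hfst : BasedFunctor.comp Φ (fpFst (BasedFunctor.comp y' i) (BasedFunctor.comp f i)) = fpFst y' f := rfl
  let j : BasedFunctor.comp Ψ (fpFst y' f) ≅ fpFst (BasedFunctor.comp y' i) (BasedFunctor.comp f i) :=
    bWhiskerRightIso i₂ (fpFst (BasedFunctor.comp y' i) (BasedFunctor.comp f i))
  have := hf U (BasedFunctor.comp y' i)
  obtain ⟨F, e, he, hP⟩ := this
  refine ⟨F, BasedFunctor.comp e Ψ, isEquivOver_comp e Ψ he hΨ, ?_⟩
  have h' : AlgSt.spMapOfOver (BasedFunctor.comp (BasedFunctor.comp e Ψ) (fpFst y' f)) =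
      AlgSt.spMapOfOver (BasedFunctor.comp e (fpFst (BasedFunctor.comp y' i) (BasedFunctor.comp f i))) :=
    spMapOfOver_congr (bWhiskerLeftIso e j)
  rw [h']
  exact hP

end Cancel

end Groth.Agent.Lib.Helper65.FppfCoverSp
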