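import Groth.Agent.H53.FppfSurj2

/-!
# Helper65: descent of flat / locally of finite type / locally of finite presentation along a jointly
locally surjective FAMILY of maps of algebraic spaces on the source (family version of `H53.FppfSurj`)
-/

set_option autoImplicit false
set_option backward.isDefEq.respectTransparency false
universe u
open CategoryTheory CategoryTheory.Limits AlgebraicGeometry Opposite Topology
open AlgSp

namespace Groth.Agent.Lib.Helper65.FppfSurjFam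

open Groth.Agent.H53.FppfSurj

/-- Pointwise form of `H53.FppfSurj.of_fppf_refinement`. -/
theorem of_fppf_refinement_at {P : MorphismProperty Scheme.{u}}
    {Q : ∀ {R S : Type u} [CommRing R] [CommRing S], (R →+* S) → Prop} [HasRingHomProperty P Q]
    (hdesc : ∀ {C B A B' : Type u} [CommRing C] [CommRing B] [CommRing A] [CommRing B']
      (f : C →+* B) (r : B →+* A) (m : A →+* B'), (m.comp r).Flat →
      (m.comp r).FinitePresentation →
      Function.Surjective (PrimeSpectrum.comap (m.comp r)) → Q (r.comp f) → Q f)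
    {U V W : Scheme.{u}} (k : V ⟶ W) (r : U ⟶ V) (hrk : P (r ≫ k))
    (T : Scheme.{u}) (m : T ⟶ U)
    (hfl : Flat (m ≫ r)) (hfp : LocallyOfFinitePresentation (m ≫ r)) (t : ↥T) :
    ∃ (U₁ : W.affineOpens) (V₁ : V.affineOpens) (_ : (m ≫ r) t ∈ V₁.1) (e : V₁.1 ≤ k ⁻¹ᵁ U₁.1),
      Q (k.appLE U₁ V₁ e).hom := by
  obtain ⟨_, ⟨W₀ : W.Opens, hW₀, rfl⟩, hxW₀, -⟩ :=
    W.isBasis_affineOpens.exists_subset_of_mem_open (Set.mem_univ (k ((m ≫ r) t))) isOpen_univ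
  obtain ⟨_, ⟨V₀ : V.Opens, hV₀, rfl⟩, hxV₀, hV₀W₀⟩ :=
    V.isBasis_affineOpens.exists_subset_of_mem_open
      (show (m ≫ r) t ∈ ((k ⁻¹ᵁ W₀ : V.Opens) : Set V) from hxW₀) (k ⁻¹ᵁ W₀).2
  obtain ⟨_, ⟨U₀ : U.Opens, hU₀, rfl⟩, hxU₀, hU₀V₀⟩ :=
    U.isBasis_affineOpens.exists_subset_of_mem_open
      (show m t ∈ ((r ⁻¹ᵁ V₀ : U.Opens) : Set U) from hxV₀) (r ⁻¹ᵁ V₀).2
  obtain ⟨_, ⟨T₀ : (T).Opens, hT₀, rfl⟩, hxT₀, hT₀U₀⟩ :=
    (T).isBasis_affineOpens.exists_subset_of_mem_open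
      (show t ∈ ((m ⁻¹ᵁ U₀ : (T).Opens) : Set (T)) from hxU₀) (m ⁻¹ᵁ U₀).2
  have himg : IsOpen ((m ≫ r) '' (T₀ : Set (T))) := (m ≫ r).isOpenMap _ T₀.2
  let Oimg : V.Opens := ⟨(m ≫ r) '' (T₀ : Set (T)), himg⟩
  obtain ⟨a, haO, hxa⟩ :=
    hV₀.exists_basicOpen_le (V := Oimg) ⟨(m ≫ r) t, ⟨t, hxT₀, rfl⟩⟩ hxV₀
  have hV₁ : IsAffineOpen (V.basicOpen a) := hV₀.basicOpen a
  let ρ := r.appLE V₀ U₀ hU₀V₀
  have hU₁ : IsAffineOpen (U.basicOpen (ρ a)) := hU₀.basicOpen _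
  have hU₁eq : U.basicOpen (ρ a) = U₀ ⊓ r ⁻¹ᵁ (V.basicOpen a) :=
    Scheme.basicOpen_appLE r U₀ V₀ hU₀V₀ a
  let μ := (m).appLE U₀ T₀ hT₀U₀
  have hT₁ : IsAffineOpen ((T).basicOpen (μ (ρ a))) := hT₀.basicOpen _
  have hT₁eq : (T).basicOpen (μ (ρ a)) = T₀ ⊓ m ⁻¹ᵁ (U.basicOpen (ρ a)) :=
    Scheme.basicOpen_appLE (m) T₀ U₀ hT₀U₀ (ρ a)
  have hU₁V₁ : U.basicOpen (ρ a) ≤ r ⁻¹ᵁ (V.basicOpen a) := by rw [hU₁eq]; exact inf_le_right
  have hT₁U₁ : (T).basicOpen (μ (ρ a)) ≤ m ⁻¹ᵁ (U.basicOpen (ρ a)) := by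
    rw [hT₁eq]; exact inf_le_right
  have hV₁W₀ : V.basicOpen a ≤ k ⁻¹ᵁ W₀ := (V.basicOpen_le a).trans hV₀W₀
  have hT₁V₁ : (T).basicOpen (μ (ρ a)) ≤ (m ≫ r) ⁻¹ᵁ (V.basicOpen a) :=
    fun x hx => hU₁V₁ (hT₁U₁ hx)
  have hU₁W₀ : U.basicOpen (ρ a) ≤ (r ≫ k) ⁻¹ᵁ W₀ := fun x hx => hV₁W₀ (hU₁V₁ hx)
  refine ⟨⟨W₀, hW₀⟩, ⟨V.basicOpen a, hV₁⟩, hxa, hV₁W₀, ?_⟩
  have hcomp1 : (r.appLE (V.basicOpen a) _ hU₁V₁) ≫ ((m).appLE _ _ hT₁U₁) =
      (m ≫ r).appLE (V.basicOpen a) ((T).basicOpen (μ (ρ a))) hT₁V₁ :=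
    Scheme.Hom.appLE_comp_appLE _ _ _ _ _ _ _
  have hcomp2 : (k.appLE W₀ (V.basicOpen a) hV₁W₀) ≫ (r.appLE (V.basicOpen a) _ hU₁V₁) =
      (r ≫ k).appLE W₀ (U.basicOpen (ρ a)) hU₁W₀ :=
    Scheme.Hom.appLE_comp_appLE _ _ _ _ _ _ _
  refine hdesc (k.appLE W₀ (V.basicOpen a) hV₁W₀).hom (r.appLE (V.basicOpen a) _ hU₁V₁).hom
    ((m).appLE _ _ hT₁U₁).hom ?_ ?_ ?_ ?_
  · rw [← CommRingCat.hom_comp, hcomp1]
    exact HasRingHomProperty.appLE @Flat (m ≫ r) hfl ⟨_, hV₁⟩ ⟨_, hT₁⟩ hT₁V₁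
  · rw [← CommRingCat.hom_comp, hcomp1]
    exact HasRingHomProperty.appLE @LocallyOfFinitePresentation (m ≫ r) hfp ⟨_, hV₁⟩ ⟨_, hT₁⟩
      hT₁V₁
  · rw [← CommRingCat.hom_comp, hcomp1]
    intro p
    obtain ⟨y, rfl⟩ : ∃ y : V.basicOpen a, hV₁.primeIdealOf y = p :=
      (hV₁.isoSpec.hom.homeomorph.surjective p)
    obtain ⟨x', hx'T₀, hx'y⟩ := haO y.2
    have hx'T₁ : x' ∈ (T).basicOpen (μ (ρ a)) := by
      rw [hT₁eq]
      refine ⟨hx'T₀, ?_⟩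
      change m x' ∈ U.basicOpen (ρ a)
      rw [hU₁eq]
      refine ⟨hT₀U₀ hx'T₀, ?_⟩
      change (m ≫ r) x' ∈ V.basicOpen a
      rw [hx'y]; exact y.2
    refine ⟨hT₁.primeIdealOf ⟨x', hx'T₁⟩, ?_⟩
    have := IsAffineOpen.comap_primeIdealOf_appLE (f := m ≫ r) (x := x') (V.basicOpen a) hV₁
      ((T).basicOpen (μ (ρ a))) hT₁ hT₁V₁ hx'T₁
    rw [this]
    congr 1
    exact Subtype.ext hx'y
  · rw [← CommRingCat.hom_comp, hcomp2]
    exact HasRingHomProperty.appLE P (r ≫ k) hrk ⟨_, hW₀⟩ ⟨_, hU₁⟩ _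

/-- Family version of `H53.FppfSurj.of_fppf_refinement`. -/
theorem of_fppf_refinement_fam {P : MorphismProperty Scheme.{u}}
    {Q : ∀ {R S : Type u} [CommRing R] [CommRing S], (R →+* S) → Prop} [HasRingHomProperty P Q]
    (hQs : RingHom.StableUnderCompositionWithLocalizationAwaySource Q)
    (hdesc : ∀ {C B A B' : Type u} [CommRing C] [CommRing B] [CommRing A] [CommRing B']
      (f : C →+* B) (r : B →+* A) (m : A →+* B'), (m.comp r).Flat →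
      (m.comp r).FinitePresentation →
      Function.Surjective (PrimeSpectrum.comap (m.comp r)) → Q (r.comp f) → Q f)
    {ι : Type*} {V W : Scheme.{u}} (k : V ⟶ W) (Ui : ι → Scheme.{u}) (r : ∀ i, Ui i ⟶ V)
    (hrk : ∀ i, P (r i ≫ k))
    (Ti : ι → Scheme.{u}) (m : ∀ i, Ti i ⟶ Ui i)
    (hm : ∀ i, Flat (m i ≫ r i) ∧ LocallyOfFinitePresentation (m i ≫ r i))
    (hsurj : ∀ v : ↥V, ∃ i, v ∈ Set.range (m i ≫ r i)) : P k := by
  rw [HasRingHomProperty.iff_exists_appLE (P := P) hQs]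
  intro v
  obtain ⟨i, t, rfl⟩ := hsurj v
  exact of_fppf_refinement_at (P := P) hdesc k (r i) (hrk i) (Ti i) (m i) (hm i).1 (hm i).2 t

theorem flat_of_fppf_refinement_fam {ι : Type*} {V W : Scheme.{u}} (k : V ⟶ W)
    (Ui : ι → Scheme.{u}) (r : ∀ i, Ui i ⟶ V) (hrk : ∀ i, Flat (r i ≫ k))
    (Ti : ι → Scheme.{u}) (m : ∀ i, Ti i ⟶ Ui i)
    (hm : ∀ i, Flat (m i ≫ r i) ∧ LocallyOfFinitePresentation (m i ≫ r i))
    (hsurj : ∀ v : ↥V, ∃ i, v ∈ Set.range (m i ≫ r i)) : Flat k :=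
  of_fppf_refinement_fam (P := @Flat)
    (RingHom.Flat.stableUnderComposition.stableUnderCompositionWithLocalizationAway
      RingHom.Flat.holdsForLocalizationAway).left
    (fun f r m hfl _ hs h => flat_of_factor f r m hfl hs h) k Ui r hrk Ti m hm hsurj

theorem lft_of_fppf_refinement_fam {ι : Type*} {V W : Scheme.{u}} (k : V ⟶ W)
    (Ui : ι → Scheme.{u}) (r : ∀ i, Ui i ⟶ V) (hrk : ∀ i, LocallyOfFiniteType (r i ≫ k))
    (Ti : ι → Scheme.{u}) (m : ∀ i, Ti i ⟶ Ui i)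
    (hm : ∀ i, Flat (m i ≫ r i) ∧ LocallyOfFinitePresentation (m i ≫ r i))
    (hsurj : ∀ v : ↥V, ∃ i, v ∈ Set.range (m i ≫ r i)) : LocallyOfFiniteType k :=
  of_fppf_refinement_fam (P := @LocallyOfFiniteType)
    (RingHom.finiteType_stableUnderComposition.stableUnderCompositionWithLocalizationAway
      RingHom.finiteType_holdsForLocalizationAway).left
    (fun f r m hfl hfp hs h => finiteType_of_factor f r m hfl hfp hs h) k Ui r hrk Ti m hm hsurj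

theorem lfp_of_fppf_refinement_fam {ι : Type*} {V W : Scheme.{u}} (k : V ⟶ W)
    (Ui : ι → Scheme.{u}) (r : ∀ i, Ui i ⟶ V) (hrk : ∀ i, LocallyOfFinitePresentation (r i ≫ k))
    (Ti : ι → Scheme.{u}) (m : ∀ i, Ti i ⟶ Ui i)
    (hm : ∀ i, Flat (m i ≫ r i) ∧ LocallyOfFinitePresentation (m i ≫ r i))
    (hsurj : ∀ v : ↥V, ∃ i, v ∈ Set.range (m i ≫ r i)) : LocallyOfFinitePresentation k :=
  of_fppf_refinement_fam (P := @LocallyOfFinitePresentation)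
    (RingHom.finitePresentation_stableUnderComposition.stableUnderCompositionWithLocalizationAway
      RingHom.finitePresentation_holdsForLocalizationAway).left
    (fun f r m hfl hfp hs h => finitePresentation_of_factor f r m hfl hfp hs h) k Ui r hrk Ti m hm
    hsurj

variable {S : Scheme.{u}}

/-- Descent of `LocP P` along a jointly locally surjective family of maps of algebraic spaces on the source. -/
theorem locP_of_jointly_locallySurjective {P : MorphismProperty Scheme.{u}}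
    (hdesc : ∀ {ι : Type (u + 1)} {V W : Scheme.{u}} (k : V ⟶ W) (Ui : ι → Scheme.{u})
      (r : ∀ i, Ui i ⟶ V), (∀ i, P (r i ≫ k)) →
      ∀ (Ti : ι → Scheme.{u}) (m : ∀ i, Ti i ⟶ Ui i),
      (∀ i, Flat (m i ≫ r i) ∧ LocallyOfFinitePresentation (m i ≫ r i)) →
      (∀ v : ↥V, ∃ i, v ∈ Set.range (m i ≫ r i)) → P k)
    {κ : Type*} {X : κ → Sp S} {Y Z : Sp S} (hX : ∀ j, IsAlgSpace (X j)) (hY : IsAlgSpace Y)
    (g : ∀ j, X j ⟶ Y) (h : Y ⟶ Z)
    (hg : ∀ (T : Over S) (s : (yon S).obj T ⟶ Y), ∃ Sv ∈ J S T, ∀ ⦃T' : Over S⦄ (t : T' ⟶ T), Sv t →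
      ∃ (j : κ) (l : (yon S).obj T' ⟶ X j), l ≫ g j = (yon S).map t ≫ s)
    (hgh : ∀ j, LocP P (g j ≫ h)) : LocP P h := by
  have : (RepWith (S := S) @Etale).IsMultiplicative := repWith_isMultiplicative _
  have : (RepWith (S := S) @Etale).IsStableUnderBaseChange := repWith_isStableUnderBaseChange _
  intro V W a b k ha hb comm
  obtain ⟨Sv, hSv, hlift⟩ := hg V a
  rw [AlgSp.J_eq, GrothendieckTopology.mem_over_iff] at hSv
  have := Groth.Agent.Lib.Helper51.fppfPrecoverage_hasIsos.{u}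
  obtain ⟨R', hR', hle⟩ :=
    (Precoverage.mem_toGrothendieck_iff_of_isStableUnderComposition).1 hSv
  have hR'1 : ∀ v : ↥V.left, ∃ (T : Scheme.{u}) (t : T ⟶ V.left), R' t ∧ v ∈ Set.range t :=
    (Presieve.mem_comap_jointlySurjectivePrecoverage_iff Scheme.forget).1 hR'.1
  have hR'2 : ∀ {T : Scheme.{u}} (t : T ⟶ V.left), R' t →
      Flat t ∧ LocallyOfFinitePresentation t := fun t ht => hR'.2 ht
  let ι := Σ (T : Scheme.{u}), {t : T ⟶ V.left // R' t}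
  have key : ∀ j : ι, ∃ (U : Over S) (r : U ⟶ V) (T' : Over S) (mm : T' ⟶ U), P (r ≫ k).left ∧
      Flat (mm ≫ r).left ∧ LocallyOfFinitePresentation (mm ≫ r).left ∧
      Set.range j.2.1 ⊆ Set.range (mm ≫ r).left := by
    rintro ⟨T, t, hRt⟩
    have hSt := hle _ _ hRt
    rw [Sieve.overEquiv_iff] at hSt
    obtain ⟨j, l, hl⟩ := hlift _ hSt
    have sqA := IsPullback.of_hasPullback (g j) a
    have hX' : IsAlgSpace (pullback (g j) a) :=
      Groth.Agent.H52.isAlgSpace_of_isPullback sqA (hX j) hY (IsAlgSpace.yon_obj V)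
    have hfst : RepWith @Etale (pullback.fst (g j) a) := MorphismProperty.of_isPullback sqA.flip ha
    obtain ⟨U, p', hp'e, hp's⟩ := hX'.atlas
    obtain ⟨r, hr⟩ := (yon S).map_surjective (p' ≫ pullback.snd (g j) a)
    have ha' : RepWith @Etale (p' ≫ pullback.fst (g j) a) :=
      MorphismProperty.comp_mem _ _ _ hp'e hfst
    have hPrk : P (r ≫ k).left := hgh j (p' ≫ pullback.fst (g j) a) b (r ≫ k) ha' hb (by
      rw [Functor.map_comp, hr, Category.assoc, Category.assoc,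
        ← Category.assoc (pullback.fst (g j) a),
        pullback.condition, Category.assoc, comm, Category.assoc])
    let lam := sqA.lift l _ hl
    have hlam1 : lam ≫ pullback.fst (g j) a = l := sqA.lift_fst _ _ _
    have hlam2 : lam ≫ pullback.snd (g j) a = _ := sqA.lift_snd _ _ _
    have sq := hp'e.rep.isPullback' lam
    have hsnd_et : Etale (hp'e.rep.snd lam).left := hp'e.property lam _ _ sq
    have hsnd_surj : Surjective (hp'e.rep.snd lam).left := hp's.property lam _ _ sq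
    have heq : hp'e.rep.fst' lam ≫ r = hp'e.rep.snd lam ≫ Over.homMk t := by
      apply (yon S).map_injective
      rw [Functor.map_comp, Functor.map_comp, hr, ← Category.assoc, sq.w, Category.assoc, hlam2]
    have hleft : (hp'e.rep.fst' lam ≫ r).left = (hp'e.rep.snd lam).left ≫ t := by
      rw [heq]; rfl
    have hft : Flat t ∧ LocallyOfFinitePresentation t := hR'2 t hRt
    have := hft.1
    have := hft.2
    refine ⟨U, r, _, hp'e.rep.fst' lam, hPrk, ?_, ?_, ?_⟩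
    · rw [hleft]; infer_instance
    · rw [hleft]; infer_instance
    · rw [hleft]
      rintro _ ⟨x, rfl⟩
      obtain ⟨x', rfl⟩ := hsnd_surj.surj x
      exact ⟨x', rfl⟩
  choose U r T' mm h0 h1 h2 h3 using key
  refine hdesc (ι := ι) k.left (fun j => (U j).left) (fun j => (r j).left) h0
    (fun j => (T' j).left) (fun j => (mm j).left) (fun j => ⟨h1 j, h2 j⟩) ?_
  intro v
  obtain ⟨T, t, hRt, hv⟩ := hR'1 v
  exact ⟨⟨T, t, hRt⟩, h3 ⟨T, t, hRt⟩ hv⟩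

theorem main {κ : Type*} {X : κ → Sp S} {Y Z : Sp S} (hX : ∀ j, IsAlgSpace (X j)) (hY : IsAlgSpace Y)
    (g : ∀ j, X j ⟶ Y) (h : Y ⟶ Z)
    (hg : ∀ (T : Over S) (s : (yon S).obj T ⟶ Y), ∃ Sv ∈ J S T, ∀ ⦃T' : Over S⦄ (t : T' ⟶ T), Sv t →
      ∃ (j : κ) (l : (yon S).obj T' ⟶ X j), l ≫ g j = (yon S).map t ≫ s) :
    ((∀ j, LocP @Flat (g j ≫ h)) → LocP @Flat h) ∧
    ((∀ j, LocP @LocallyOfFiniteType (g j ≫ h)) → LocP @LocallyOfFiniteType h) ∧
    ((∀ j, LocP @LocallyOfFinitePresentation (g j ≫ h)) → LocP @LocallyOfFinitePresentation h) :=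
  ⟨locP_of_jointly_locallySurjective
      (fun k Ui r hrk Ti m hm hs => flat_of_fppf_refinement_fam k Ui r hrk Ti m hm hs) hX hY g h hg,
    locP_of_jointly_locallySurjective
      (fun k Ui r hrk Ti m hm hs => lft_of_fppf_refinement_fam k Ui r hrk Ti m hm hs) hX hY g h hg,
    locP_of_jointly_locallySurjective
      (fun k Ui r hrk Ti m hm hs => lfp_of_fppf_refinement_fam k Ui r hrk Ti m hm hs) hX hY g h hg⟩

end Groth.Agent.Lib.Helper65.FppfSurjFam
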