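import Groth.Prelude.Def_NonAbH2
import Groth.Agent.Lib.Helper26.FpqcLocal
import Groth.Agent.Lib.Helper26.QuotRep
import Groth.Agent.S0082
import Mathlib.AlgebraicGeometry.Noetherian

/-!
# fpqc torsors `φ : X ⟶ Y` under a group `G` over a base `S` (torsor over `Y`, group over `S`)

Properties of `G ⟶ S` stable under base change and fpqc local on the target pass to `φ`.
-/

set_option autoImplicit false
set_option backward.isDefEq.respectTransparency false
set_option backward.isDefEq.respectTransparency.types false
universe u

namespace Groth.Agent.Lib.Helper65.FpqcTorsor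

open CategoryTheory Limits AlgebraicGeometry MorphismProperty MonoidalCategory
open CartesianMonoidalCategory MonObj

variable {S : Scheme.{u}} {G X Y : Over S} [GrpObj G]

/-- For `φ : X ⟶ Y` with cartesian action square and a point `s` of `X` over `f : Y' ⟶ Y`, the base change of
`φ` along `f` inherits every property of `G ⟶ S` that is stable under base change. -/
theorem prop_snd_of_section (a : AlgGrp.Action G X) (φ : X ⟶ Y)
    (hcart : IsPullback a.act (snd G X) φ φ)
    (P : MorphismProperty Scheme.{u}) [P.IsStableUnderBaseChange] (hG : P G.hom)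
    {Y' : Scheme.{u}} (f : Y' ⟶ Y.left) (s : Y' ⟶ X.left) (hs : s ≫ φ.left = f) :
    P (pullback.snd φ.left f) := by
  haveI : P.RespectsIso := inferInstance
  have sqGX : IsPullback (fst G X).left (snd G X).left G.hom X.hom :=
    IsPullback.of_hasPullback G.hom X.hom
  have h1 : P (snd G X).left := P.of_isPullback sqGX hG
  have hc : IsPullback a.act.left (snd G X).left φ.left φ.left := hcart.map (Over.forget S)
  have h2 : P (pullback.snd φ.left φ.left) := by
    have e : hc.isoPullback.hom ≫ pullback.snd φ.left φ.left = (snd G X).left :=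
      hc.isoPullback_hom_snd
    rw [← e] at h1
    exact (P.cancel_left_of_respectsIso _ _).mp h1
  subst hs
  exact Groth.Agent.Lib.Helper26.FpqcLocal.snd_comp P φ.left φ.left s h2

/-- The structure morphism `φ` of a `K`-locally trivial torsor inherits every property of `G ⟶ S` which is stable
under base change and `K`-local on the target. -/
theorem prop_of_torsor (K : Precoverage Scheme.{u}) (a : AlgGrp.Action G X) (φ : X ⟶ Y)
    (hcart : IsPullback a.act (snd G X) φ φ)
    (hloc : NonAbH1.IsLocallyTrivialFor K (Over.mk φ.left : Over Y.left))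
    (P : MorphismProperty Scheme.{u}) [P.IsStableUnderBaseChange] [P.IsLocalAtTarget K]
    (hG : P G.hom) : P φ.left := by
  obtain ⟨R, hR, hsec⟩ := hloc
  refine IsLocalAtTarget.of_forall_pullbackSnd (K := K) hR ?_
  intro W g _ hg
  obtain ⟨s, hs⟩ := hsec g hg
  exact prop_snd_of_section a φ hcart P hG g s hs

instance isAffineHom_isLocalAtTarget_fpqc :
    MorphismProperty.IsLocalAtTarget (@IsAffineHom : MorphismProperty Scheme.{u})
      Scheme.fpqcPrecoverage :=
  haveI := Groth.Agent.S0082.result.{u}
  Groth.Agent.Lib.Helper26.FpqcLocal.isLocalAtTarget_fpqc_of_descendsAlong _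

/-- `G ⟶ S` is surjective, having the unit section. -/
theorem surjective_hom_of_grpObj : Surjective G.hom := by
  have h : (η[G] : 𝟙_ (Over S) ⟶ G).left ≫ G.hom = 𝟙 S := by
    simpa using Over.w (η[G] : 𝟙_ (Over S) ⟶ G)
  refine ⟨fun y => ⟨(η[G] : 𝟙_ (Over S) ⟶ G).left y, ?_⟩⟩
  rw [← Scheme.Hom.comp_apply, h]
  rfl

/-- An fpqc-locally trivial torsor `φ : X ⟶ Y` under a flat, locally finitely presented group is an fppf
covering of `Y`, and presents `Y` as the fppf quotient sheaf. -/
theorem isQuotient_of_torsor [Flat G.hom] [LocallyOfFinitePresentation G.hom]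
    (a : AlgGrp.Action G X) (φ : X ⟶ Y)
    (hcart : IsPullback a.act (snd G X) φ φ)
    (hloc : NonAbH1.IsLocallyTrivialFor Scheme.fpqcPrecoverage (Over.mk φ.left : Over Y.left)) :
    QuotSh.IsQuotient Scheme.fppfPrecoverage a.act (snd G X) φ := by
  haveI h1 : Surjective φ.left :=
    prop_of_torsor _ a φ hcart hloc @Surjective surjective_hom_of_grpObj
  haveI h2 : Flat φ.left := prop_of_torsor _ a φ hcart hloc @Flat inferInstance
  haveI h3 : LocallyOfFinitePresentation φ.left :=
    prop_of_torsor _ a φ hcart hloc @LocallyOfFinitePresentation inferInstance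
  exact Groth.Agent.Lib.Helper26.QuotRep.isQuotient_of_isKernelPair _ a.act (snd G X) φ hcart
    φ.left.singleton_mem_fppfPrecoverage

end Groth.Agent.Lib.Helper65.FpqcTorsor
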