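import Groth.Agent.S12838
import Groth.Agent.S12839
import Groth.Prelude.Def_StCoarse
import Groth.Agent.Lib.Helper65.OfPsh
import Groth.Agent.Lib.Helper65.OfPshMap
import Groth.Agent.Lib.Helper65.GeomPtCover
import Groth.Agent.Lib.Helper65.CoarseGerbe
import Groth.Agent.Lib.Helper66.QuotStCart

/-!
# Helper65: functors from a quotient stack `[X/G]` to a sheaf are determined on the atlas `X`, and are invariant
-/

set_option autoImplicit false
set_option backward.isDefEq.respectTransparency false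
set_option backward.isDefEq.respectTransparency.types false

universe u

open CategoryTheory CategoryTheory.Functor AlgebraicGeometry Opposite MonoidalCategory
  CartesianMonoidalCategory

namespace Groth.Agent.Lib.Helper65.QuotStUniv

open FibCat Groth.Agent.Lib.Helper31 Groth.Agent.Lib.Helper65

variable {S : Scheme.{u}}

/-- a sieve of `Over S` containing the members of an fppf covering family is covering -/
theorem mem_J_of_precoverage {U : Over S} (R : Presieve U.left)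
    (hR : R ∈ Scheme.fppfPrecoverage U.left) (E : Sieve U)
    (hE : ∀ ⦃T' : Scheme.{u}⦄ (f : T' ⟶ U.left), R f →
      E (Over.homMk f rfl : Over.mk (f ≫ U.hom) ⟶ U)) :
    E ∈ QuotSh.J Scheme.fppfPrecoverage S U := by
  rw [GrothendieckTopology.mem_over_iff]
  refine Scheme.fppfTopology.superset_covering ?_ (Precoverage.generate_mem_toGrothendieck hR)
  rintro W g ⟨Z, k, f, hf, rfl⟩
  rw [Sieve.overEquiv_iff]
  have : (Over.homMk (k ≫ f) : Over.mk ((k ≫ f) ≫ U.hom) ⟶ U) =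
      (Over.homMk k (by simp) : Over.mk ((k ≫ f) ≫ U.hom) ⟶ Over.mk (f ≫ U.hom)) ≫
        (Over.homMk f rfl : Over.mk (f ≫ U.hom) ⟶ U) := by
    ext; simp
  rw [this]
  exact E.downward_closed (hE f hf) _

/-- sections of a sheaf agreeing on a covering sieve are equal -/
theorem sec_ext (N : AlgSp.Sp S) {U : Over S} (s₁ s₂ : N.obj.obj (op U)) (E : Sieve U)
    (hE : E ∈ QuotSh.J Scheme.fppfPrecoverage S U)
    (h : ∀ ⦃V : Over S⦄ (g : V ⟶ U), E g → N.obj.map g.op s₁ = N.obj.map g.op s₂) : s₁ = s₂ := by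
  have hN : Presieve.IsSheaf (QuotSh.J Scheme.fppfPrecoverage S) N.obj :=
    (isSheaf_iff_isSheaf_of_type _ _).1 N.property
  exact (hN.isSeparated E hE).ext (fun V g hg => h g hg)

variable (G : Over S) [GrpObj G] {X : Over S} (aX : AlgGrp.Action G X)

/-- the image in `[X/G]` of a point of `X` -/
noncomputable abbrev qObj {T : Over S} (x : T ⟶ X) :
    (AlgSt.QuotSt Scheme.fppfPrecoverage G aX).obj :=
  (AlgSt.quotMap Scheme.fppfPrecoverage G aX).obj ((AlgSt.ofOverCat X).obj (Over.mk x))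

variable {G aX}

/-- **Functors from `[X/G]` to a sheaf which agree on the atlas are isomorphic.** -/
theorem iso_of_secOf_eq (N : AlgSp.Sp S)
    (Φ Ψ : AlgSt.QuotSt Scheme.fppfPrecoverage G aX ⥤ᵇ AlgSt.ofSp N)
    (h : ∀ {T : Over S} (x : T ⟶ X), secOf Φ (qObj G aX x) = secOf Ψ (qObj G aX x)) :
    Nonempty (Φ ≅ Ψ) := by
  refine ⟨isoOfSecEq fun A => ?_⟩
  obtain ⟨R, hR, hR'⟩ := Groth.Agent.S12839.result S G X aX A
  let E : Sieve A.base :=
    { arrows := fun V g => N.obj.map g.op (secOf Φ A) = N.obj.map g.op (secOf Ψ A)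
      downward_closed := by
        intro V W g hg l
        change N.obj.map (l ≫ g).op (secOf Φ A) = N.obj.map (l ≫ g).op (secOf Ψ A)
        rw [← psh_map_map, ← psh_map_map, hg] }
  have hE : E ∈ QuotSh.J Scheme.fppfPrecoverage S A.base := by
    apply mem_J_of_precoverage R hR
    intro T' f hf
    obtain ⟨x, k, hk⟩ := hR' f hf
    have e1 := secOf_compat Φ k
    have e2 := secOf_compat Ψ k
    have e3 : (AlgSt.QuotSt Scheme.fppfPrecoverage G aX).p.map k = Over.homMk f rfl := hk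
    rw [e3] at e1 e2
    change N.obj.map (Over.homMk f rfl : Over.mk (f ≫ A.base.hom) ⟶ A.base).op (secOf Φ A) =
      N.obj.map (Over.homMk f rfl : Over.mk (f ≫ A.base.hom) ⟶ A.base).op (secOf Ψ A)
    exact e1.trans ((h x).trans e2.symm)
  exact sec_ext N _ _ E hE (fun V g hg => hg)

/-- **Functors from `[X/G]` to a presheaf are invariant on the atlas.** -/
theorem secOf_act {P : (Over S)ᵒᵖ ⥤ Type (u + 1)}
    (Φ : AlgSt.QuotSt Scheme.fppfPrecoverage G aX ⥤ᵇ Stk.ofPsh P) {T : Over S} (g : T ⟶ G)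
    (x : T ⟶ X) : secOf Φ (qObj G aX (lift g x ≫ aX.act)) = secOf Φ (qObj G aX x) := by
  obtain ⟨k, hk, -⟩ := (Groth.Agent.S12838.result S G X aX T T (𝟙 T) (lift g x ≫ aX.act) x).2 g
    (by rw [Category.id_comp])
  have e1 := secOf_compat Φ k
  have e3 : (AlgSt.QuotSt Scheme.fppfPrecoverage G aX).p.map k = 𝟙 T := hk
  rw [e3] at e1
  exact e1.symm.trans (psh_map_id P _)

/-- an isomorphism of a based category lying over an identity gives an isomorphism in the fibre -/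
theorem nonempty_fiberIso_of_isIso {𝒳 : BasedCategory.{u, u + 1} (Over S)} {T : Over S}
    (a b : 𝒳.p.Fiber T) (k : a.1 ⟶ b.1) (hk : 𝒳.p.IsHomLift (𝟙 T) k) [IsIso k] : Nonempty (a ≅ b) := by
  have hi : 𝒳.p.IsHomLift (𝟙 T) (inv k) := inferInstance
  refine ⟨⟨⟨k, hk⟩, ⟨inv k, hi⟩, ?_, ?_⟩⟩
  · apply Functor.Fiber.hom_ext
    exact IsIso.hom_inv_id k
  · apply Functor.Fiber.hom_ext
    exact IsIso.inv_hom_id k

/-- the value on an atlas point of a functor to a scheme induced by a morphism of schemes -/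
theorem secOf_of_iso {Y : Over S} (f : X ⟶ Y)
    (π : AlgSt.QuotSt Scheme.fppfPrecoverage G aX ⥤ᵇ AlgSt.ofSch Y)
    (hπ : BasedFunctor.comp (AlgSt.quotMap Scheme.fppfPrecoverage G aX) π ≅
      AlgSt.ofSpMap ((AlgSp.yon S).map f)) {T : Over S} (x : T ⟶ X) :
    secOf π (qObj G aX x) = ⟨x ≫ f⟩ := by
  have e := secOf_eq_of_hom hπ.hom ((AlgSt.ofOverCat X).obj (Over.mk x))
  rw [secOf_ofPshMap] at e
  exact e

/-- over a geometric point every object of `[X/G]` comes from the atlas -/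
theorem exists_hom_from_qObj (Ω : Type u) [Field Ω] [IsAlgClosed Ω] (t : Spec (.of Ω) ⟶ S)
    (A : (AlgSt.QuotSt Scheme.fppfPrecoverage G aX).p.Fiber (Over.mk t)) :
    ∃ (x : Over.mk t ⟶ X) (h : qObj G aX x ⟶ A.1),
      (AlgSt.QuotSt Scheme.fppfPrecoverage G aX).p.IsHomLift (𝟙 (Over.mk t)) h := by
  obtain ⟨A, hA⟩ := A
  obtain ⟨base, P, act, π, cart, loc, φ, eqv⟩ := A
  change base = Over.mk t at hA
  subst hA
  obtain ⟨R, hR, hR'⟩ := Groth.Agent.S12839.result S G X aX ⟨Over.mk t, P, act, π, cart, loc, φ, eqv⟩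
  have hgen := GeomPtCover.geomPt_mem_of_mem_fppfTopology (Sieve.generate R)
    (Precoverage.generate_mem_toGrothendieck hR) Ω (𝟙 (Spec (.of Ω)))
  obtain ⟨T', s, f, hf, hsf⟩ := hgen
  obtain ⟨x, k, hk⟩ := hR' f hf
  let s' : Over.mk t ⟶ Over.mk (f ≫ t) := Over.homMk s (by
    change s ≫ f ≫ t = t
    rw [← Category.assoc, hsf, Category.id_comp])
  let m : (AlgSt.ofOverCat X).obj (Over.mk (s' ≫ x)) ⟶ (AlgSt.ofOverCat X).obj (Over.mk x) :=
    (AlgSt.ofOverCat X).map (Over.homMk s' rfl : Over.mk (s' ≫ x) ⟶ Over.mk x)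
  refine ⟨s' ≫ x, (AlgSt.quotMap Scheme.fppfPrecoverage G aX).map m ≫ k, ?_⟩
  have hb : (AlgSt.QuotSt Scheme.fppfPrecoverage G aX).p.map
      ((AlgSt.quotMap Scheme.fppfPrecoverage G aX).map m ≫ k) = 𝟙 (Over.mk t) := by
    change s' ≫ k.base = _
    rw [hk]
    ext
    exact hsf
  apply IsHomLift.of_fac (AlgSt.QuotSt Scheme.fppfPrecoverage G aX).p (𝟙 (Over.mk t)) _ rfl rfl
  rw [hb]
  simp

theorem isIso_of_lift_id {T : Over S} {A B : (AlgSt.QuotSt Scheme.fppfPrecoverage G aX).obj} (h : A ⟶ B)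
    (hh : (AlgSt.QuotSt Scheme.fppfPrecoverage G aX).p.IsHomLift (𝟙 T) h) : IsIso h := by
  haveI : IsIso h.base := by
    have e : (AlgSt.QuotSt Scheme.fppfPrecoverage G aX).p.map h = h.base := rfl
    rw [← e, IsHomLift.fac' (AlgSt.QuotSt Scheme.fppfPrecoverage G aX).p (𝟙 T) h]
    infer_instance
  exact Groth.Agent.Lib.Helper66.QuotStBasic.isIso_of_isIso_base h

/-- **Bijectivity on geometric points for `[X/G] ⟶ Y` when the geometric fibres of `X ⟶ Y` are orbits.** -/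
theorem geomPtBij_of_orbits {Y : Over S} (f : X ⟶ Y)
    (horb : ∀ (Ω : Type u) [Field Ω] [IsAlgClosed Ω] (t : Spec (CommRingCat.of Ω) ⟶ S),
      (∀ y : Over.mk t ⟶ Y, ∃ x : Over.mk t ⟶ X, x ≫ f = y) ∧
      (∀ x x' : Over.mk t ⟶ X, x ≫ f = x' ≫ f → ∃ g : Over.mk t ⟶ G, lift g x' ≫ aX.act = x))
    (π : AlgSt.QuotSt Scheme.fppfPrecoverage G aX ⥤ᵇ AlgSt.ofSch Y)
    (hπ : BasedFunctor.comp (AlgSt.quotMap Scheme.fppfPrecoverage G aX) π ≅
      AlgSt.ofSpMap ((AlgSp.yon S).map f)) : AlgSt.GeomPtBij π := by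
  intro Ω _ _ t
  obtain ⟨h1, h2⟩ := horb Ω t
  have key : ∀ (x : Over.mk t ⟶ X), AlgSt.fibSec π
      (⟨qObj G aX x, rfl⟩ : (AlgSt.QuotSt Scheme.fppfPrecoverage G aX).p.Fiber (Over.mk t)) =
        ⟨x ≫ f⟩ := by
    intro x
    rw [CoarseGerbe.fibSec_eq, secOf_of_iso f π hπ x]
    exact psh_map_id _ _
  refine ⟨fun m => ?_, fun A B hAB => ?_⟩
  · obtain ⟨x, hx⟩ := h1 m.down
    refine ⟨⟨qObj G aX x, rfl⟩, ?_⟩
    rw [key, hx]
    rfl
  · obtain ⟨xA, hA, hhA⟩ := exists_hom_from_qObj Ω t A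
    obtain ⟨xB, hB, hhB⟩ := exists_hom_from_qObj Ω t B
    have eA := CoarseGerbe.fibSec_eq_of_hom π ⟨qObj G aX xA, rfl⟩ A hA hhA
    have eB := CoarseGerbe.fibSec_eq_of_hom π ⟨qObj G aX xB, rfl⟩ B hB hhB
    rw [key] at eA eB
    have e : xA ≫ f = xB ≫ f := congrArg ULift.down (eA.trans (hAB.trans eB.symm))
    obtain ⟨g, hg⟩ := h2 xA xB e
    obtain ⟨h₀, hh₀, -⟩ := (Groth.Agent.S12838.result S G X aX _ _ (𝟙 _) xA xB).2 g
      (by rw [Category.id_comp]; exact hg)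
    have hh₀' : (AlgSt.QuotSt Scheme.fppfPrecoverage G aX).p.IsHomLift (𝟙 (Over.mk t)) h₀ := by
      apply IsHomLift.of_fac (AlgSt.QuotSt Scheme.fppfPrecoverage G aX).p (𝟙 (Over.mk t)) _ rfl rfl
      have : (AlgSt.QuotSt Scheme.fppfPrecoverage G aX).p.map h₀ = 𝟙 _ := hh₀
      rw [this]
      simp
    have iA : IsIso hA := isIso_of_lift_id hA hhA
    have iB : IsIso hB := isIso_of_lift_id hB hhB
    have i0 : IsIso h₀ := isIso_of_lift_id h₀ hh₀'
    have hi : (AlgSt.QuotSt Scheme.fppfPrecoverage G aX).p.IsHomLift (𝟙 (Over.mk t)) (inv hA) :=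
      inferInstance
    have hk : (AlgSt.QuotSt Scheme.fppfPrecoverage G aX).p.IsHomLift (𝟙 (Over.mk t))
        (inv hA ≫ h₀ ≫ hB) :=
      isHomLift_comp_id_right _ _ _ _ hi (isHomLift_comp_id_right _ _ _ _ hh₀' hhB)
    exact nonempty_fiberIso_of_isIso A B (inv hA ≫ h₀ ≫ hB) hk

theorem secOf_comp_ofPshMap {𝒜 : BasedCategory.{u, u + 1} (Over S)} {P Q : (Over S)ᵒᵖ ⥤ Type (u + 1)}
    (Φ : 𝒜 ⥤ᵇ Stk.ofPsh P) (φ : P ⟶ Q) (a : 𝒜.obj) :
    secOf (BasedFunctor.comp Φ (Stk.ofPshMap φ)) a = φ.app _ (secOf Φ a) := by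
  unfold secOf
  exact (psh_naturality φ _ _).symm

/-- **Categorical moduli for `[X/G] ⟶ Y` from a categorical quotient `X ⟶ Y` of sheaves in a class.** -/
theorem isCatModuliIn_of_catQuot (C : ObjectProperty (AlgSp.Sp S)) {Y : Over S} (f : X ⟶ Y)
    (hY : C ((AlgSp.yon S).obj Y))
    (hcat : ∀ (N : AlgSp.Sp S), C N → ∀ ψ : (AlgSp.yon S).obj X ⟶ N,
      (AlgSp.yon S).map aX.act ≫ ψ = (AlgSp.yon S).map (snd G X) ≫ ψ →
        ∃! χ : (AlgSp.yon S).obj Y ⟶ N, (AlgSp.yon S).map f ≫ χ = ψ)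
    (π : AlgSt.QuotSt Scheme.fppfPrecoverage G aX ⥤ᵇ AlgSt.ofSch Y)
    (hπ : BasedFunctor.comp (AlgSt.quotMap Scheme.fppfPrecoverage G aX) π ≅
      AlgSt.ofSpMap ((AlgSp.yon S).map f)) : AlgSt.IsCatModuliIn C π := by
  refine ⟨hY, fun N hN φ => ?_⟩
  let ψ₀ : ((AlgSp.yon S).obj X).obj ⟶ N.obj :=
    pshMapOf (BasedFunctor.comp (AlgSt.quotMap Scheme.fppfPrecoverage G aX) φ)
  let ψ : (AlgSp.yon S).obj X ⟶ N := ⟨ψ₀⟩
  have hψ : ∀ {T : Over S} (x : T ⟶ X), ψ₀.app (op T) ⟨x⟩ = secOf φ (qObj G aX x) := fun x => rfl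
  have hinv : (AlgSp.yon S).map aX.act ≫ ψ = (AlgSp.yon S).map (snd G X) ≫ ψ := by
    apply Sheaf.hom_ext
    ext T ⟨k⟩
    change ψ₀.app T ⟨k ≫ aX.act⟩ = ψ₀.app T ⟨k ≫ snd G X⟩
    have := secOf_act φ (k ≫ fst G X) (k ≫ snd G X)
    rw [lift_comp_fst_snd] at this
    exact this
  obtain ⟨χ, hχ, hχu⟩ := hcat N hN ψ hinv
  have hχ' : ∀ {T : Over S} (x : T ⟶ X), χ.hom.app (op T) ⟨x ≫ f⟩ = secOf φ (qObj G aX x) := by
    intro T x
    have := congrArg (fun (θ : (AlgSp.yon S).obj X ⟶ N) => θ.hom.app (op T) ⟨x⟩) hχ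
    exact this
  refine ⟨χ, ?_, ?_⟩
  · apply iso_of_secOf_eq N
    intro T x
    change secOf (BasedFunctor.comp π (Stk.ofPshMap χ.hom)) (qObj G aX x) = _
    rw [secOf_comp_ofPshMap, secOf_of_iso f π hπ x]
    exact hχ' x
  · rintro g' ⟨e'⟩
    apply hχu
    apply Sheaf.hom_ext
    ext T ⟨x⟩
    change g'.hom.app T ⟨x ≫ f⟩ = ψ₀.app T ⟨x⟩
    rw [hψ x, ← secOf_eq_of_hom e'.hom (qObj G aX x)]
    change _ = secOf (BasedFunctor.comp π (Stk.ofPshMap g'.hom)) (qObj G aX x)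
    rw [secOf_comp_ofPshMap, secOf_of_iso f π hπ x]
    rfl

end Groth.Agent.Lib.Helper65.QuotStUniv
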