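import Groth.Agent.Lib.Helper65.GeomQuotTop
import Groth.Agent.Lib.Helper65.QuotStUniv
import Mathlib.AlgebraicGeometry.AffineSpace
import Mathlib.AlgebraicGeometry.Restrict

/-!
# Helper65: functions on an fppf quotient are the invariant functions
-/

set_option autoImplicit false
set_option backward.isDefEq.respectTransparency false
set_option backward.isDefEq.respectTransparency.types false

universe u

open CategoryTheory CategoryTheory.Limits AlgebraicGeometry Opposite MonoidalCategory MonObj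
  CartesianMonoidalCategory

namespace Groth.Agent.Lib.Helper65.GeomQuotSec

open Groth.Agent.Lib.Helper26.PseudoTorsor Groth.Agent.Lib.Helper65.GeomQuotSheaf
  Groth.Agent.Lib.Helper65.GeomQuotTop

variable {S : Scheme.{u}}

section AffineLine

variable (S) in
/-- the affine line over `S` -/
noncomputable def A1 : Over S := Over.mk (AffineSpace PUnit.{u + 1} S ↘ S)

/-- the morphism to the affine line attached to a function -/
noncomputable def mOf {T : Over S} (s : Γ(T.left, ⊤)) : T ⟶ A1 S :=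
  Over.homMk (AffineSpace.homOfVector T.hom (fun _ => s)) (AffineSpace.homOfVector_over _ _)

theorem mOf_injective {T : Over S} {s s' : Γ(T.left, ⊤)} (h : mOf s = mOf s') : s = s' := by
  have h1 : AffineSpace.homOfVector T.hom (fun _ : PUnit.{u + 1} => s) =
      AffineSpace.homOfVector T.hom (fun _ => s') := congrArg CommaMorphism.left h
  have h2 := congrArg (fun (m : T.left ⟶ AffineSpace PUnit.{u + 1} S) =>
    m.appTop (AffineSpace.coord S PUnit.unit)) h1
  simp only [AffineSpace.homOfVector_appTop_coord] at h2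
  exact h2

theorem mOf_surjective {T : Over S} (m : T ⟶ A1 S) : ∃ s : Γ(T.left, ⊤), mOf s = m := by
  refine ⟨m.left.appTop (AffineSpace.coord S PUnit.unit), ?_⟩
  apply Over.OverMorphism.ext
  change AffineSpace.homOfVector T.hom _ = m.left
  apply AffineSpace.hom_ext
  · rw [AffineSpace.homOfVector_over]
    exact (Over.w m).symm
  · rintro ⟨⟩
    exact AffineSpace.homOfVector_appTop_coord _ _ _

theorem comp_mOf {T T' : Over S} (k : T' ⟶ T) (s : Γ(T.left, ⊤)) :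
    k ≫ mOf s = mOf (k.left.appTop s) := by
  apply Over.OverMorphism.ext
  change k.left ≫ AffineSpace.homOfVector T.hom (fun _ => s) = AffineSpace.homOfVector T'.hom _
  rw [AffineSpace.comp_homOfVector, Over.w k]
  rfl

end AffineLine

section Opens

/-- an open subscheme, as a scheme over `S` -/
abbrev oOver (Z : Over S) (U : Z.left.Opens) : Over S := Over.mk (U.ι ≫ Z.hom)

/-- the inclusion of an open subscheme -/
abbrev oι (Z : Over S) (U : Z.left.Opens) : oOver Z U ⟶ Z := Over.homMk U.ι rfl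

theorem oι_cancel (Z : Over S) (U : Z.left.Opens) {T : Over S} {k₁ k₂ : T ⟶ oOver Z U}
    (h : k₁ ≫ oι Z U = k₂ ≫ oι Z U) : k₁ = k₂ := by
  apply Over.OverMorphism.ext
  have h1 : k₁.left ≫ U.ι = k₂.left ≫ U.ι := congrArg CommaMorphism.left h
  exact (cancel_mono U.ι).1 h1

/-- the restriction of a morphism to open subschemes -/
noncomputable def resO {Z' Z : Over S} (f : Z' ⟶ Z) (U : Z.left.Opens) (V : Z'.left.Opens)
    (e : V ≤ f.left ⁻¹ᵁ U) : oOver Z' V ⟶ oOver Z U :=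
  Over.homMk (f.left.resLE U V e) (by
    change f.left.resLE U V e ≫ U.ι ≫ Z.hom = V.ι ≫ Z'.hom
    rw [Scheme.Hom.resLE_comp_ι_assoc, Over.w f])

theorem resO_ι {Z' Z : Over S} (f : Z' ⟶ Z) (U : Z.left.Opens) (V : Z'.left.Opens)
    (e : V ≤ f.left ⁻¹ᵁ U) : resO f U V e ≫ oι Z U = oι Z' V ≫ f := by
  apply Over.OverMorphism.ext
  exact Scheme.Hom.resLE_comp_ι _ _

/-- the morphism to the affine line attached to a function on an open subscheme -/
noncomputable def secMor (Z : Over S) (U : Z.left.Opens) (s : Γ(Z.left, U)) : oOver Z U ⟶ A1 S :=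
  mOf (T := oOver Z U) (U.topIso.inv s)

theorem secMor_injective (Z : Over S) (U : Z.left.Opens) {s s' : Γ(Z.left, U)}
    (h : secMor Z U s = secMor Z U s') : s = s' := by
  have h1 := mOf_injective h
  have h2 := congrArg U.topIso.hom h1
  rw [Iso.inv_hom_id_apply, Iso.inv_hom_id_apply] at h2
  exact h2

theorem secMor_surjective (Z : Over S) (U : Z.left.Opens) (m : oOver Z U ⟶ A1 S) :
    ∃ s : Γ(Z.left, U), secMor Z U s = m := by
  obtain ⟨s, hs⟩ := mOf_surjective m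
  refine ⟨U.topIso.hom s, ?_⟩
  unfold secMor
  rw [← hs, Iso.hom_inv_id_apply]

theorem resO_secMor {Z' Z : Over S} (f : Z' ⟶ Z) (U : Z.left.Opens) (V : Z'.left.Opens)
    (e : V ≤ f.left ⁻¹ᵁ U) (s : Γ(Z.left, U)) :
    resO f U V e ≫ secMor Z U s = secMor Z' V (f.left.appLE U V e s) := by
  unfold secMor
  rw [comp_mOf]
  congr 1
  change (f.left.resLE U V e).app ⊤ (U.topIso.inv s) = _
  rw [Scheme.Hom.resLE_app_top]
  change V.topIso.inv (f.left.appLE U V e (U.topIso.hom (U.topIso.inv s))) = _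
  rw [Iso.inv_hom_id_apply]

end Opens

section Descent

open Groth.Agent.Lib.Helper65.QuotStUniv

/-- morphisms descend along a map through which a covering sieve factors, when they are constant on its fibres -/
theorem existsUnique_desc_of_cover {B P Z : Over S} (π : P ⟶ B)
    (E : Sieve B) (hE : E ∈ QuotSh.J Scheme.fppfPrecoverage S B)
    (hEl : ∀ ⦃V : Over S⦄ (g : V ⟶ B), E g → ∃ l : V ⟶ P, l ≫ π = g)
    (m : P ⟶ Z)
    (hind : ∀ {V : Over S} (l l' : V ⟶ P), l ≫ π = l' ≫ π → l ≫ m = l' ≫ m) :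
    ∃ s : B ⟶ Z, π ≫ s = m := by
  let N : AlgSp.Sp S := (AlgSp.yon S).obj Z
  have hN : Presieve.IsSheaf (QuotSh.J Scheme.fppfPrecoverage S) N.obj :=
    (isSheaf_iff_isSheaf_of_type _ _).1 N.property
  let x : Presieve.FamilyOfElements N.obj (E : Presieve B) :=
    fun V g hg => (⟨(hEl g hg).choose ≫ m⟩ : ULift (V ⟶ Z))
  have hx' : ∀ {V : Over S} (g : V ⟶ B) (hg : E g) (l : V ⟶ P), l ≫ π = g →
      x g hg = ⟨l ≫ m⟩ := by
    intro V g hg l hl
    change (⟨(hEl g hg).choose ≫ m⟩ : ULift (V ⟶ Z)) = _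
    rw [hind (hEl g hg).choose l ((hEl g hg).choose_spec.trans hl.symm)]
  have hx : x.Compatible := by
    intro V₁ V₂ W k₁ k₂ g₁ g₂ h₁ h₂ hk
    obtain ⟨l₁, hl₁⟩ := hEl g₁ h₁
    obtain ⟨l₂, hl₂⟩ := hEl g₂ h₂
    rw [hx' g₁ h₁ l₁ hl₁, hx' g₂ h₂ l₂ hl₂]
    change (⟨k₁ ≫ l₁ ≫ m⟩ : ULift (W ⟶ Z)) = ⟨k₂ ≫ l₂ ≫ m⟩
    rw [← Category.assoc, ← Category.assoc, hind (k₁ ≫ l₁) (k₂ ≫ l₂)
      (by rw [Category.assoc, Category.assoc, hl₁, hl₂, hk])]
  obtain ⟨t, ht, -⟩ := hN E hE x hx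
  refine ⟨t.down, ?_⟩
  -- check `π ≫ t = m` locally on `P`
  have hP : E.pullback π ∈ QuotSh.J Scheme.fppfPrecoverage S P :=
    (QuotSh.J Scheme.fppfPrecoverage S).pullback_stable π hE
  have := sec_ext ((AlgSp.yon S).obj Z) (⟨π ≫ t.down⟩ : ULift (P ⟶ Z)) ⟨m⟩ (E.pullback π) hP ?_
  · exact congrArg ULift.down this
  · intro V g hg
    have h1 := ht (g ≫ π) hg
    rw [hx' (g ≫ π) hg g rfl] at h1
    change (⟨g ≫ π ≫ t.down⟩ : ULift (V ⟶ Z)) = ⟨g ≫ m⟩
    rw [← Category.assoc]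
    exact h1

end Descent

section Core

open Groth.Agent.Lib.Helper65.QuotStUniv

variable {G X Y : Over S} [GrpObj G] {a : AlgGrp.Action G X} (q : X ⟶ Y) (U : Y.left.Opens)

/-- the restriction of `q` over an open `U` of `Y` -/
noncomputable abbrev qU : oOver X (q.left ⁻¹ᵁ U) ⟶ oOver Y U := resO q U (q.left ⁻¹ᵁ U) le_rfl

/-- the sieve of the maps to `U` which lift to `q⁻¹U` -/
def liftSieve : Sieve (oOver Y U) where
  arrows T k := ∃ l : T ⟶ oOver X (q.left ⁻¹ᵁ U), l ≫ qU q U = k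
  downward_closed := by
    rintro T T' k ⟨l, rfl⟩ f
    exact ⟨f ≫ l, Category.assoc _ _ _⟩

theorem liftSieve_mem (hq : QuotSh.IsQuotient Scheme.fppfPrecoverage a.act (snd G X) q) :
    liftSieve q U ∈ QuotSh.J Scheme.fppfPrecoverage S (oOver Y U) := by
  obtain ⟨R₀, hR₀, hlift⟩ := exists_cover_sections q hq
  have key : ∀ (W : Scheme.{u}) (g : W ⟶ Y.left), R₀ g →
      (liftSieve q U).arrows (Over.homMk (pullback.snd g U.ι) rfl :
        Over.mk (pullback.snd g U.ι ≫ (oOver Y U).hom) ⟶ oOver Y U) := by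
    intro W g hg
    obtain ⟨σ, hσ⟩ := hlift g hg
    have hpb := isPullback_morphismRestrict q.left U
    have cond : pullback.snd g U.ι ≫ U.ι = (pullback.fst g U.ι ≫ σ) ≫ q.left := by
      rw [Category.assoc, hσ, pullback.condition]
    let l₀ : pullback g U.ι ⟶ (q.left ⁻¹ᵁ U).toScheme :=
      hpb.lift (pullback.snd g U.ι) (pullback.fst g U.ι ≫ σ) cond
    have h1 : l₀ ≫ (q.left ∣_ U) = pullback.snd g U.ι := hpb.lift_fst _ _ _
    have h2 : l₀ ≫ (q.left ⁻¹ᵁ U).ι = pullback.fst g U.ι ≫ σ := hpb.lift_snd _ _ _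
    have hov : l₀ ≫ (oOver X (q.left ⁻¹ᵁ U)).hom = pullback.snd g U.ι ≫ (oOver Y U).hom := by
      change l₀ ≫ (q.left ⁻¹ᵁ U).ι ≫ X.hom = pullback.snd g U.ι ≫ U.ι ≫ Y.hom
      rw [← Category.assoc, h2, ← Category.assoc (pullback.snd g U.ι), cond, ← Over.w q]
      simp only [Category.assoc]
    refine ⟨Over.homMk l₀ hov, ?_⟩
    apply Over.OverMorphism.ext
    change l₀ ≫ q.left.resLE U (q.left ⁻¹ᵁ U) le_rfl = pullback.snd g U.ι
    rw [Scheme.Hom.resLE_eq_morphismRestrict]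
    exact h1
  apply mem_J_of_precoverage (U := oOver Y U) (R₀.pullbackArrows U.ι)
    (Precoverage.pullbackArrows_mem U.ι hR₀)
  rintro T' f ⟨W, g, hg⟩
  exact key W g hg

/-- morphisms out of `U` are determined on `q⁻¹U` -/
theorem core_inj (hq : QuotSh.IsQuotient Scheme.fppfPrecoverage a.act (snd G X) q) {Z : Over S}
    (m₁ m₂ : oOver Y U ⟶ Z) (h : qU q U ≫ m₁ = qU q U ≫ m₂) : m₁ = m₂ := by
  have := sec_ext ((AlgSp.yon S).obj Z) (⟨m₁⟩ : ULift (oOver Y U ⟶ Z)) ⟨m₂⟩ (liftSieve q U)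
    (liftSieve_mem q U hq) ?_
  · exact congrArg ULift.down this
  · rintro T k ⟨l, rfl⟩
    change (⟨(l ≫ qU q U) ≫ m₁⟩ : ULift (T ⟶ Z)) = ⟨(l ≫ qU q U) ≫ m₂⟩
    rw [Category.assoc, Category.assoc, h]

/-- morphisms out of `q⁻¹U` which are constant on orbits descend to `U` -/
theorem core_desc (hq : QuotSh.IsQuotient Scheme.fppfPrecoverage a.act (snd G X) q) {Z : Over S}
    (m' : oOver X (q.left ⁻¹ᵁ U) ⟶ Z)
    (hm' : ∀ {T' : Over S} (ζ₁ ζ₂ : T' ⟶ oOver X (q.left ⁻¹ᵁ U)) (γ : T' ⟶ G),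
      smul a.act γ (ζ₂ ≫ oι X (q.left ⁻¹ᵁ U)) = ζ₁ ≫ oι X (q.left ⁻¹ᵁ U) → ζ₁ ≫ m' = ζ₂ ≫ m') :
    ∃ m : oOver Y U ⟶ Z, qU q U ≫ m = m' := by
  apply existsUnique_desc_of_cover (qU q U) (liftSieve q U) (liftSieve_mem q U hq)
    (fun V g hg => hg) m'
  intro T l l' hll
  have h12 : (l ≫ oι X (q.left ⁻¹ᵁ U)) ≫ q = (l' ≫ oι X (q.left ⁻¹ᵁ U)) ≫ q := by
    rw [Category.assoc, Category.assoc, ← resO_ι q U (q.left ⁻¹ᵁ U) le_rfl, ← Category.assoc,
      ← Category.assoc]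
    exact congrArg (· ≫ oι Y U) hll
  obtain ⟨E', hE', hE''⟩ := exists_cover_orbit q hq _ _ h12
  have := sec_ext ((AlgSp.yon S).obj Z) (⟨l ≫ m'⟩ : ULift (T ⟶ Z)) ⟨l' ≫ m'⟩ E' hE' ?_
  · exact congrArg ULift.down this
  · intro T' f hf
    obtain ⟨γ, hγ⟩ := hE'' f hf
    change (⟨f ≫ l ≫ m'⟩ : ULift (T' ⟶ Z)) = ⟨f ≫ l' ≫ m'⟩
    rw [← Category.assoc, ← Category.assoc, hm' (f ≫ l) (f ≫ l') γ
      (by rw [Category.assoc, Category.assoc]; exact hγ)]

end Core

section Sections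

variable {G X Y : Over S} [GrpObj G] {a : AlgGrp.Action G X} (q : X ⟶ Y) (U : Y.left.Opens)

/-- the open of `G × X` on which both the action and the projection land in `q⁻¹U` -/
noncomputable abbrev WW (a : AlgGrp.Action G X) : (G ⊗ X).left.Opens :=
  a.act.left ⁻¹ᵁ (q.left ⁻¹ᵁ U) ⊓ (snd G X).left ⁻¹ᵁ (q.left ⁻¹ᵁ U)

/-- the action restricted to `W` -/
noncomputable abbrev actW (a : AlgGrp.Action G X) :
    oOver (G ⊗ X) (WW q U a) ⟶ oOver X (q.left ⁻¹ᵁ U) :=
  resO a.act (q.left ⁻¹ᵁ U) (WW q U a) inf_le_left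

/-- the projection restricted to `W` -/
noncomputable abbrev sndW (a : AlgGrp.Action G X) :
    oOver (G ⊗ X) (WW q U a) ⟶ oOver X (q.left ⁻¹ᵁ U) :=
  resO (snd G X) (q.left ⁻¹ᵁ U) (WW q U a) inf_le_right

theorem actW_qU_eq (hinv : GIT.IsInvariant a q) :
    actW q U a ≫ qU q U = sndW q U a ≫ qU q U := by
  apply oι_cancel
  rw [Category.assoc, Category.assoc, resO_ι, ← Category.assoc, ← Category.assoc, resO_ι, resO_ι,
    Category.assoc, Category.assoc]
  exact congrArg (oι (G ⊗ X) (WW q U a) ≫ ·) hinv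

theorem const_on_orbits_of_eq {Z : Over S} (m' : oOver X (q.left ⁻¹ᵁ U) ⟶ Z)
    (e1 : actW q U a ≫ m' = sndW q U a ≫ m')
    {T' : Over S} (ζ₁ ζ₂ : T' ⟶ oOver X (q.left ⁻¹ᵁ U)) (γ : T' ⟶ G)
    (hγ : smul a.act γ (ζ₂ ≫ oι X (q.left ⁻¹ᵁ U)) = ζ₁ ≫ oι X (q.left ⁻¹ᵁ U)) :
    ζ₁ ≫ m' = ζ₂ ≫ m' := by
  let z : T' ⟶ G ⊗ X := lift γ (ζ₂ ≫ oι X (q.left ⁻¹ᵁ U))
  have hz1 : z ≫ a.act = ζ₁ ≫ oι X (q.left ⁻¹ᵁ U) := hγ
  have hz2 : z ≫ snd G X = ζ₂ ≫ oι X (q.left ⁻¹ᵁ U) := lift_snd _ _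
  have hmemW : ∀ t : T'.left, z.left t ∈ WW q U a := by
    intro t
    constructor
    · have e : a.act.left (z.left t) = (q.left ⁻¹ᵁ U).ι (ζ₁.left t) := by
        have h3 : z.left ≫ a.act.left = ζ₁.left ≫ (q.left ⁻¹ᵁ U).ι := congrArg CommaMorphism.left hz1
        calc a.act.left (z.left t) = (z.left ≫ a.act.left) t := (Scheme.Hom.comp_apply _ _ _).symm
          _ = (ζ₁.left ≫ (q.left ⁻¹ᵁ U).ι) t := by rw [h3]
          _ = (q.left ⁻¹ᵁ U).ι (ζ₁.left t) := Scheme.Hom.comp_apply _ _ _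
      change a.act.left (z.left t) ∈ q.left ⁻¹ᵁ U
      rw [e]
      exact (ζ₁.left t).2
    · have e : (snd G X).left (z.left t) = (q.left ⁻¹ᵁ U).ι (ζ₂.left t) := by
        have h3 : z.left ≫ (snd G X).left = ζ₂.left ≫ (q.left ⁻¹ᵁ U).ι :=
          congrArg CommaMorphism.left hz2
        calc (snd G X).left (z.left t) = (z.left ≫ (snd G X).left) t :=
              (Scheme.Hom.comp_apply _ _ _).symm
          _ = (ζ₂.left ≫ (q.left ⁻¹ᵁ U).ι) t := by rw [h3]
          _ = (q.left ⁻¹ᵁ U).ι (ζ₂.left t) := Scheme.Hom.comp_apply _ _ _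
      change (snd G X).left (z.left t) ∈ q.left ⁻¹ᵁ U
      rw [e]
      exact (ζ₂.left t).2
  have hrange : Set.range z.left ⊆ Set.range (WW q U a).ι := by
    rw [Scheme.Opens.range_ι]
    rintro _ ⟨t, rfl⟩
    exact hmemW t
  let ζl : T'.left ⟶ (WW q U a).toScheme := IsOpenImmersion.lift (WW q U a).ι z.left hrange
  have hζl : ζl ≫ (WW q U a).ι = z.left := IsOpenImmersion.lift_fac _ _ _
  let ζ : T' ⟶ oOver (G ⊗ X) (WW q U a) := Over.homMk ζl (by
    change ζl ≫ (WW q U a).ι ≫ (G ⊗ X).hom = T'.hom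
    rw [← Category.assoc, hζl]
    exact Over.w z)
  have hζ : ζ ≫ oι (G ⊗ X) (WW q U a) = z := Over.OverMorphism.ext hζl
  have h1 : ζ ≫ actW q U a = ζ₁ := by
    apply oι_cancel
    rw [Category.assoc, resO_ι, ← Category.assoc, hζ]
    exact hz1
  have h2 : ζ ≫ sndW q U a = ζ₂ := by
    apply oι_cancel
    rw [Category.assoc, resO_ι, ← Category.assoc, hζ]
    exact hz2
  rw [← h1, ← h2, Category.assoc, Category.assoc, e1]

/-- **Functions on an fppf quotient are the invariant functions.** -/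
theorem sections_of_isQuotient (hq : QuotSh.IsQuotient Scheme.fppfPrecoverage a.act (snd G X) q)
    (hinv : GIT.IsInvariant a q) :
    Function.Injective (q.left.app U) ∧ Set.range (q.left.app U) = {f | GIT.IsInvSection a q U f} := by
  have key1 : ∀ s : Γ(Y.left, U), secMor X (q.left ⁻¹ᵁ U) (q.left.app U s) =
      qU q U ≫ secMor Y U s := by
    intro s
    rw [Scheme.Hom.app_eq_appLE]
    exact (resO_secMor q U (q.left ⁻¹ᵁ U) le_rfl s).symm
  constructor
  · intro s s' h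
    apply secMor_injective Y U
    apply core_inj q U hq
    rw [← key1, ← key1, h]
  · ext h
    constructor
    · rintro ⟨s, rfl⟩
      change GIT.IsInvSection a q U (q.left.app U s)
      unfold GIT.IsInvSection
      apply secMor_injective (G ⊗ X) (WW q U a)
      rw [← resO_secMor, ← resO_secMor, key1, ← Category.assoc, ← Category.assoc]
      exact congrArg (· ≫ secMor Y U s) (actW_qU_eq q U hinv)
    · intro hh
      have hh' : GIT.IsInvSection a q U h := hh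
      unfold GIT.IsInvSection at hh'
      have e1 : actW q U a ≫ secMor X (q.left ⁻¹ᵁ U) h = sndW q U a ≫ secMor X (q.left ⁻¹ᵁ U) h := by
        rw [resO_secMor, resO_secMor]
        exact congrArg (secMor (G ⊗ X) (WW q U a)) hh'
      obtain ⟨m, hm⟩ := core_desc q U hq (secMor X (q.left ⁻¹ᵁ U) h)
        (fun ζ₁ ζ₂ γ hγ => const_on_orbits_of_eq q U _ e1 ζ₁ ζ₂ γ hγ)
      obtain ⟨s, rfl⟩ := secMor_surjective Y U m
      refine ⟨s, ?_⟩
      apply secMor_injective X (q.left ⁻¹ᵁ U)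
      rw [key1]
      exact hm

end Sections

end Groth.Agent.Lib.Helper65.GeomQuotSec
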