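import Groth.Prelude.Def_QuotSh
import Groth.Prelude.Def_AlgGrp
import Groth.Agent.Lib.Helper26.PseudoTorsor
import Groth.Agent.Lib.Helper26.QuotRep
import Mathlib.CategoryTheory.Sites.LocallyBijective

/-!
# Helper65: what an fppf quotient sheaf `G\X ≅ h_Y` says on points

For an action of `G` on `X` and `q : X ⟶ Y` exhibiting `Y` as the fppf quotient sheaf: sections of `Y` lift locally to
`X` (helper26) and two points of `X` with the same image in `Y` are locally in the same `G`-orbit (here).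
-/

set_option autoImplicit false
set_option backward.isDefEq.respectTransparency false
set_option backward.isDefEq.respectTransparency.types false

universe u

open CategoryTheory CategoryTheory.Limits AlgebraicGeometry Opposite MonoidalCategory MonObj
  CartesianMonoidalCategory

namespace Groth.Agent.Lib.Helper65.GeomQuotSheaf

open Groth.Agent.Lib.Helper26.PseudoTorsor

variable {S : Scheme.{u}} {G X Y : Over S} [GrpObj G] (a : AlgGrp.Action G X)

/-- the orbit relation on `T`-points -/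
def orbRel (T : Over S) (x y : ULift.{u + 1} (T ⟶ X)) : Prop :=
  ∃ g : T ⟶ G, smul a.act g y.down = x.down

theorem orbRel_equivalence (T : Over S) : _root_.Equivalence (orbRel a T) := by
  refine ⟨fun x => ⟨1, one_smul a.act a.one_act _⟩, ?_, ?_⟩
  · rintro x y ⟨g, hg⟩
    refine ⟨g⁻¹, ?_⟩
    rw [← hg, ← mul_smul a.act a.mul_act, inv_mul_cancel, one_smul a.act a.one_act]
  · rintro x y z ⟨g, hg⟩ ⟨h, hh⟩
    refine ⟨g * h, ?_⟩
    rw [mul_smul a.act a.mul_act, hh, hg]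

theorem orbRel_map {T T' : Over S} (f : T' ⟶ T) {x y : ULift.{u + 1} (T ⟶ X)} (h : orbRel a T x y) :
    orbRel a T' ⟨f ≫ x.down⟩ ⟨f ≫ y.down⟩ := by
  obtain ⟨g, hg⟩ := h
  refine ⟨f ≫ g, ?_⟩
  change smul a.act (f ≫ g) (f ≫ y.down) = f ≫ x.down
  rw [← comp_smul, hg]

/-- the presheaf of orbits -/
def Orb : (Over S)ᵒᵖ ⥤ Type (u + 1) where
  obj T := Quot (orbRel a T.unop)
  map {T T'} f := ↾Quot.map (fun x => (⟨f.unop ≫ x.down⟩ : ULift.{u + 1} (T'.unop ⟶ X)))
    (fun _ _ h => orbRel_map a f.unop h)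
  map_id T := by
    ext x
    obtain ⟨x⟩ := x
    change Quot.mk _ (⟨𝟙 _ ≫ x.down⟩ : ULift.{u + 1} (T.unop ⟶ X)) = Quot.mk _ x
    rw [Category.id_comp]
  map_comp {T T' T''} f g := by
    ext x
    obtain ⟨x⟩ := x
    change Quot.mk _ (⟨(g.unop ≫ f.unop) ≫ x.down⟩ : ULift.{u + 1} (T''.unop ⟶ X)) =
      Quot.mk _ (⟨g.unop ≫ f.unop ≫ x.down⟩ : ULift.{u + 1} (T''.unop ⟶ X))
    rw [Category.assoc]

/-- the representable presheaf, lifted -/
abbrev hP (V : Over S) : (Over S)ᵒᵖ ⥤ Type (u + 1) := yoneda.obj V ⋙ uliftFunctor.{u + 1, u}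

/-- the map induced on lifted representable presheaves -/
abbrev hMap {V W : Over S} (g : V ⟶ W) : hP V ⟶ hP W :=
  Functor.whiskerRight (yoneda.map g) uliftFunctor.{u + 1, u}

/-- the projection to the presheaf of orbits -/
def orbπ : hP X ⟶ Orb a where
  app T := ↾(fun x => Quot.mk _ x)
  naturality T T' f := by
    ext x
    rfl

theorem orbπ_w : hMap a.act ≫ orbπ a = hMap (snd G X) ≫ orbπ a := by
  ext T z
  change Quot.mk _ (⟨z.down ≫ a.act⟩ : ULift.{u + 1} (T.unop ⟶ X)) = Quot.mk _ ⟨z.down ≫ snd G X⟩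
  apply Quot.sound
  refine ⟨z.down ≫ fst G X, ?_⟩
  change lift (z.down ≫ fst G X) (z.down ≫ snd G X) ≫ a.act = z.down ≫ a.act
  rw [lift_comp_fst_snd]

section Main

variable {a} (q : X ⟶ Y)

local notation "K" => Scheme.fppfPrecoverage

variable (S) in
/-- the fppf topology on schemes over `S` -/
abbrev JJ' : GrothendieckTopology (Over S) := QuotSh.J Scheme.fppfPrecoverage S

variable (S) in
/-- sheafification -/
noncomputable abbrev LL' : ((Over S)ᵒᵖ ⥤ Type (u + 1)) ⥤ Sheaf (JJ' S) (Type (u + 1)) :=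
  presheafToSheaf (JJ' S) (Type (u + 1))


theorem epi_repMap_of_isQuotient (hq : QuotSh.IsQuotient K a.act (snd G X) q) :
    Epi (QuotSh.repMap K q) := by
  obtain ⟨w, hiso⟩ := hq
  have h : QuotSh.quotπ K a.act (snd G X) ≫ QuotSh.quotDesc K q w = QuotSh.repMap K q :=
    coequalizer.π_desc _ _
  rw [← h]
  haveI : Epi (QuotSh.quotπ K a.act (snd G X)) := by
    unfold QuotSh.quotπ
    infer_instance
  infer_instance

/-- the comparison map from `h_Y` to the sheaf of orbits -/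
theorem exists_toOrb (hq : QuotSh.IsQuotient K a.act (snd G X) q) :
    ∃ ψ : QuotSh.rep K Y ⟶ (LL' S).obj (Orb a), QuotSh.repMap K q ≫ ψ = (LL' S).map (orbπ a) := by
  obtain ⟨w, hiso⟩ := hq
  have hc : QuotSh.repMap K a.act ≫ (LL' S).map (orbπ a) = QuotSh.repMap K (snd G X) ≫ (LL' S).map (orbπ a) := by
    change (LL' S).map (hMap a.act) ≫ (LL' S).map (orbπ a) = (LL' S).map (hMap (snd G X)) ≫ (LL' S).map (orbπ a)
    rw [← (LL' S).map_comp, ← (LL' S).map_comp, orbπ_w]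
  let ψ₀ : QuotSh.quot K a.act (snd G X) ⟶ (LL' S).obj (Orb a) := coequalizer.desc ((LL' S).map (orbπ a)) hc
  have h1 : QuotSh.quotπ K a.act (snd G X) ≫ ψ₀ = (LL' S).map (orbπ a) := coequalizer.π_desc _ _
  have h2 : QuotSh.quotπ K a.act (snd G X) ≫ QuotSh.quotDesc K q w = QuotSh.repMap K q :=
    coequalizer.π_desc _ _
  refine ⟨inv (QuotSh.quotDesc K q w) ≫ ψ₀, ?_⟩
  rw [← h2, Category.assoc, IsIso.hom_inv_id_assoc, h1]

/-- **Two points of `X` with the same image in the fppf quotient `Y` are locally in the same orbit.** -/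
theorem exists_cover_orbit (hq : QuotSh.IsQuotient K a.act (snd G X) q) {T : Over S} (x₁ x₂ : T ⟶ X)
    (h : x₁ ≫ q = x₂ ≫ q) :
    ∃ E : Sieve T, E ∈ (JJ' S) T ∧ ∀ ⦃T' : Over S⦄ (f : T' ⟶ T), E f →
      ∃ g : T' ⟶ G, smul a.act g (f ≫ x₂) = f ≫ x₁ := by
  obtain ⟨ψ, hψ⟩ := exists_toOrb q hq
  -- the key identity on sections
  have key : ∀ x : T ⟶ X, (toSheafify (JJ' S) (Orb a)).app (op T) (Quot.mk _ ⟨x⟩) =
      ψ.hom.app (op T) ((toSheafify (JJ' S) (hP Y)).app (op T) ⟨x ≫ q⟩) := by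
    intro x
    have n1 := congrArg (fun (θ : hP X ⟶ sheafify (JJ' S) (Orb a)) => θ.app (op T) ⟨x⟩)
      (toSheafify_naturality (JJ' S) (orbπ a))
    have n2 := congrArg (fun (θ : hP X ⟶ sheafify (JJ' S) (hP Y)) => θ.app (op T) ⟨x⟩)
      (toSheafify_naturality (JJ' S) (hMap q))
    have n3 := congrArg (fun (θ : QuotSh.rep K X ⟶ (LL' S).obj (Orb a)) =>
      θ.hom.app (op T) ((toSheafify (JJ' S) (hP X)).app (op T) ⟨x⟩)) hψ
    exact n1.trans (n3.symm.trans (congrArg (ψ.hom.app (op T)) n2.symm))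
  have e : (toSheafify (JJ' S) (Orb a)).app (op T) (Quot.mk _ ⟨x₁⟩) =
      (toSheafify (JJ' S) (Orb a)).app (op T) (Quot.mk _ ⟨x₂⟩) := by
    rw [key x₁, key x₂, h]
  have hmem := Presheaf.equalizerSieve_mem (JJ' S) (toSheafify (JJ' S) (Orb a))
    (X := op T) (Quot.mk _ ⟨x₁⟩) (Quot.mk _ ⟨x₂⟩) e
  refine ⟨_, hmem, ?_⟩
  intro T' f hf
  have hf' : Quot.mk (orbRel a T') (⟨f ≫ x₁⟩ : ULift.{u + 1} (T' ⟶ X)) = Quot.mk _ ⟨f ≫ x₂⟩ := hf
  have := Quot.eqvGen_exact hf'
  rw [(orbRel_equivalence a T').eqvGen_iff] at this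
  exact this

end Main

end Groth.Agent.Lib.Helper65.GeomQuotSheaf
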