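import Groth.Prelude.Def_AlgSt
import Groth.Agent.Lib.Helper31.Yoneda2
import Groth.Agent.Lib.Helper65.LocalEq
import Groth.Agent.Lib.Helper65.GerbeBasic

/-!
# Helper65: morphisms of a category fibred in groupoids glue along a sieve for which restriction is full,
and are determined locally when restriction is faithful
-/

set_option autoImplicit false
set_option backward.isDefEq.respectTransparency false
set_option backward.isDefEq.respectTransparency.types false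

universe v₂ u₂ v u

open CategoryTheory CategoryTheory.Functor

namespace Groth.Agent.Lib.Helper65.GlueHom

open FibCat Groth.Agent.Lib.Helper31 Groth.Agent.Lib.Helper65

variable {C : Type u} [Category.{v} C] {𝒳 : BasedCategory.{v₂, u₂} C}

/-- an object as the value at the identity of a functor from the slice. -/
theorem exists_section (h𝒳 : IsFibGrpd 𝒳.p) (x : 𝒳.obj) :
    ∃ (T : overCat (𝒳.p.obj x) ⥤ᵇ 𝒳) (ι : T.obj (Over.mk (𝟙 (𝒳.p.obj x))) ≅ x),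
      𝒳.p.IsHomLift (𝟙 (𝒳.p.obj x)) ι.hom ∧ 𝒳.p.IsHomLift (𝟙 (𝒳.p.obj x)) ι.inv := by
  have hE : (evalAtId 𝒳 (𝒳.p.obj x)).IsEquivalence := evalAtId_isEquivalence_of_isFibGrpd h𝒳 _
  obtain ⟨T, ⟨ι₀⟩⟩ := Functor.EssSurj.mem_essImage (evalAtId 𝒳 (𝒳.p.obj x))
    (⟨x, rfl⟩ : 𝒳.p.Fiber (𝒳.p.obj x))
  exact ⟨T, (Functor.Fiber.fiberInclusion (p := 𝒳.p) (S := 𝒳.p.obj x)).mapIso ι₀, ι₀.hom.2, ι₀.inv.2⟩

/-- Two morphisms over the same morphism of the base which agree locally on the source agree. -/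
theorem hom_ext_of_locally (h𝒳 : IsFibGrpd 𝒳.p) {x y : 𝒳.obj} (S' : Sieve (𝒳.p.obj x))
    (hfaith : (Stk.resSieve S' 𝒳).Faithful) {V₂ : C} (h : 𝒳.p.obj x ⟶ V₂) (φ φ' : x ⟶ y)
    [hφ : 𝒳.p.IsHomLift h φ] [hφ' : 𝒳.p.IsHomLift h φ']
    (hloc : ∀ ⦃W : C⦄ (g : W ⟶ 𝒳.p.obj x), S' g → ∀ (s : 𝒳.obj) (ψ : s ⟶ x),
      𝒳.p.IsHomLift g ψ → ψ ≫ φ = ψ ≫ φ') : φ = φ' := by
  have c : 𝒳.p.IsStronglyCartesian h φ := isStronglyCartesian_of_isFibGrpd 𝒳.p h𝒳 h φ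
  have hφ'' : 𝒳.p.IsHomLift (𝟙 (𝒳.p.obj x) ≫ h) φ' := by rw [Category.id_comp]; exact hφ'
  let χ : x ⟶ x := IsStronglyCartesian.map 𝒳.p h φ (g := 𝟙 _) rfl φ'
  have hχ1 : 𝒳.p.IsHomLift (𝟙 (𝒳.p.obj x)) χ := inferInstance
  have hχ2 : χ ≫ φ = φ' := IsStronglyCartesian.fac _ _ _ _ _
  have hχ3 : χ = 𝟙 x := by
    apply eq_id_of_locally h𝒳 x S' hfaith χ
    intro W g hg s ψ hψ
    have i1 : 𝒳.p.IsHomLift (g ≫ 𝟙 _) (ψ ≫ χ) := inferInstance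
    have i2 : 𝒳.p.IsHomLift g (ψ ≫ χ) := by rw [Category.comp_id] at i1; exact i1
    apply IsStronglyCartesian.ext 𝒳.p h φ g
    rw [Category.assoc, hχ2]
    exact (hloc g hg s ψ hψ).symm
  rw [← hχ2, hχ3, Category.id_comp]

/-- **Gluing of morphisms.** -/
theorem exists_glue (h𝒳 : IsFibGrpd 𝒳.p) {x y : 𝒳.obj} (S' : Sieve (𝒳.p.obj x))
    (hfull : (Stk.resSieve S' 𝒳).Full) (hy : 𝒳.p.obj y = 𝒳.p.obj x)
    (k : ∀ ⦃W : C⦄ (g : W ⟶ 𝒳.p.obj x), S' g → ∀ (s : 𝒳.obj) (ψ : s ⟶ x), 𝒳.p.IsHomLift g ψ → (s ⟶ y))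
    (hk : ∀ ⦃W : C⦄ (g : W ⟶ 𝒳.p.obj x) (hg : S' g) (s : 𝒳.obj) (ψ : s ⟶ x) (hψ : 𝒳.p.IsHomLift g ψ),
      𝒳.p.IsHomLift g (k g hg s ψ hψ))
    (hcompat : ∀ ⦃W W' : C⦄ (g : W ⟶ 𝒳.p.obj x) (hg : S' g) (l : W' ⟶ W) (s : 𝒳.obj) (ψ : s ⟶ x)
      (hψ : 𝒳.p.IsHomLift g ψ) (s' : 𝒳.obj) (m : s' ⟶ s) (_ : 𝒳.p.IsHomLift l m)
      (hmψ : 𝒳.p.IsHomLift (l ≫ g) (m ≫ ψ)),
      k (l ≫ g) (S'.downward_closed hg l) s' (m ≫ ψ) hmψ = m ≫ k g hg s ψ hψ) :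
    ∃ κ : x ⟶ y, 𝒳.p.IsHomLift (𝟙 (𝒳.p.obj x)) κ ∧
      ∀ ⦃W : C⦄ (g : W ⟶ 𝒳.p.obj x) (hg : S' g) (s : 𝒳.obj) (ψ : s ⟶ x) (hψ : 𝒳.p.IsHomLift g ψ),
        ψ ≫ κ = k g hg s ψ hψ := by
  obtain ⟨Tx, ιx, hιx, hιxi⟩ := exists_section h𝒳 x
  obtain ⟨Ty₀, ιy₀, hιy₀, hιyi₀⟩ := exists_section h𝒳 y
  -- transport `Ty` to the slice over `𝒳.p.obj x`
  obtain ⟨Ty, ιy, hιy, hιyi⟩ : ∃ (Ty : overCat (𝒳.p.obj x) ⥤ᵇ 𝒳)
      (ιy : Ty.obj (Over.mk (𝟙 (𝒳.p.obj x))) ≅ y),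
      𝒳.p.IsHomLift (𝟙 (𝒳.p.obj x)) ιy.hom ∧ 𝒳.p.IsHomLift (𝟙 (𝒳.p.obj x)) ιy.inv := by
    revert Ty₀
    rw [hy]
    intro Ty₀ ιy₀ hιy₀ hιyi₀
    exact ⟨Ty₀, ιy₀, hιy₀, hιyi₀⟩
  have hTy := cartAtId_of_isFibGrpd h𝒳 Ty
  -- the canonical morphisms to `x` and `y`
  have hψx : ∀ a : Over (𝒳.p.obj x), 𝒳.p.IsHomLift a.hom (Tx.map (toId a) ≫ ιx.hom) := fun a =>
    isHomLift_comp_id_right 𝒳.p a.hom _ _ (map_toId_isHomLift Tx a) hιx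
  have hψy : ∀ a : Over (𝒳.p.obj x), 𝒳.p.IsHomLift a.hom (Ty.map (toId a) ≫ ιy.hom) := fun a =>
    isHomLift_comp_id_right 𝒳.p a.hom _ _ (map_toId_isHomLift Ty a) hιy
  have hcy : ∀ a : Over (𝒳.p.obj x), 𝒳.p.IsStronglyCartesian a.hom (Ty.map (toId a) ≫ ιy.hom) := fun a =>
    have := hψy a
    isStronglyCartesian_of_isFibGrpd 𝒳.p h𝒳 a.hom _
  -- the components over the sieve
  have hB : ∀ a : (Stk.sieveCat S').obj, ∃ β : Tx.obj a.obj ⟶ Ty.obj a.obj,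
      𝒳.p.IsHomLift (𝟙 a.obj.left) β ∧
        β ≫ (Ty.map (toId a.obj) ≫ ιy.hom) =
          k a.obj.hom a.property (Tx.obj a.obj) (Tx.map (toId a.obj) ≫ ιx.hom) (hψx a.obj) := by
    intro a
    have := hcy a.obj
    have := hk a.obj.hom a.property (Tx.obj a.obj) (Tx.map (toId a.obj) ≫ ιx.hom) (hψx a.obj)
    have hk' : 𝒳.p.IsHomLift (𝟙 a.obj.left ≫ a.obj.hom)
        (k a.obj.hom a.property (Tx.obj a.obj) (Tx.map (toId a.obj) ≫ ιx.hom) (hψx a.obj)) := by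
      rw [Category.id_comp]; exact this
    exact ⟨IsStronglyCartesian.map 𝒳.p a.obj.hom (Ty.map (toId a.obj) ≫ ιy.hom) (g := 𝟙 a.obj.left) rfl
      (k a.obj.hom a.property (Tx.obj a.obj) (Tx.map (toId a.obj) ≫ ιx.hom) (hψx a.obj)),
      inferInstance, IsStronglyCartesian.fac _ _ _ _ _⟩
  choose β hβ1 hβ2 using hB
  let B : (Stk.resSieve S' 𝒳).obj Tx ⟶ (Stk.resSieve S' 𝒳).obj Ty :=
    { toNatTrans :=
        { app := β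
          naturality := fun {a a'} n => by
            change Tx.map n.hom ≫ β a' = β a ≫ Ty.map n.hom
            have hn : 𝒳.p.IsHomLift n.hom.left (Tx.map n.hom) := map_isHomLift_left Tx n.hom
            have hn' : 𝒳.p.IsHomLift n.hom.left (Ty.map n.hom) := map_isHomLift_left Ty n.hom
            have := hβ1 a
            have := hβ1 a'
            have := hcy a'.obj
            have i1 : 𝒳.p.IsHomLift n.hom.left (Tx.map n.hom ≫ β a') :=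
              isHomLift_comp_id_right 𝒳.p n.hom.left _ _ hn (hβ1 a')
            have i2 : 𝒳.p.IsHomLift n.hom.left (β a ≫ Ty.map n.hom) :=
              isHomLift_comp_id_left 𝒳.p n.hom.left _ _ (hβ1 a) hn'
            apply IsStronglyCartesian.ext 𝒳.p a'.obj.hom (Ty.map (toId a'.obj) ≫ ιy.hom) n.hom.left
            rw [Category.assoc, hβ2 a', Category.assoc, ← Category.assoc (Ty.map n.hom),
              map_comp_toId Ty n.hom, hβ2 a]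
            have hw : n.hom.left ≫ a'.obj.hom = a.obj.hom := Over.w n.hom
            have hmψ : 𝒳.p.IsHomLift (n.hom.left ≫ a'.obj.hom)
                (Tx.map n.hom ≫ (Tx.map (toId a'.obj) ≫ ιx.hom)) :=
              isHomLift_comp' 𝒳.p _ _ _ _ hn (hψx a'.obj)
            have e1 := hcompat a'.obj.hom a'.property n.hom.left (Tx.obj a'.obj)
              (Tx.map (toId a'.obj) ≫ ιx.hom) (hψx a'.obj) (Tx.obj a.obj) (Tx.map n.hom) hn hmψ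
            rw [← e1]
            have e2 : Tx.map n.hom ≫ (Tx.map (toId a'.obj) ≫ ιx.hom) = Tx.map (toId a.obj) ≫ ιx.hom := by
              rw [← Category.assoc, map_comp_toId Tx n.hom]
            -- transport along `hw` and `e2`
            have key : ∀ (g₁ : a.obj.left ⟶ 𝒳.p.obj x) (hg₁ : S' g₁) (ψ₁ : Tx.obj a.obj ⟶ x)
                (hψ₁ : 𝒳.p.IsHomLift g₁ ψ₁) (g₂ : a.obj.left ⟶ 𝒳.p.obj x) (hg₂ : S' g₂)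
                (ψ₂ : Tx.obj a.obj ⟶ x) (hψ₂ : 𝒳.p.IsHomLift g₂ ψ₂), g₁ = g₂ → ψ₁ = ψ₂ →
                k g₁ hg₁ (Tx.obj a.obj) ψ₁ hψ₁ = k g₂ hg₂ (Tx.obj a.obj) ψ₂ hψ₂ := by
              intro g₁ hg₁ ψ₁ hψ₁ g₂ hg₂ ψ₂ hψ₂ e e'
              subst e e'
              rfl
            exact key _ _ _ _ _ _ _ _ hw e2 }
      isHomLift' := fun a => hβ1 a }
  obtain ⟨Χ, hΧ⟩ := hfull.map_surjective B
  have hΧa : ∀ a : (Stk.sieveCat S').obj, Χ.toNatTrans.app a.obj = β a := fun a =>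
    congrArg (fun t => t.toNatTrans.app a) hΧ
  have hΧ1 : 𝒳.p.IsHomLift (𝟙 (𝒳.p.obj x)) (Χ.toNatTrans.app (Over.mk (𝟙 (𝒳.p.obj x)))) :=
    Χ.isHomLift' (Over.mk (𝟙 (𝒳.p.obj x)))
  refine ⟨ιx.inv ≫ Χ.toNatTrans.app (Over.mk (𝟙 (𝒳.p.obj x))) ≫ ιy.hom, ?_, ?_⟩
  · have : 𝒳.p.IsHomLift (𝟙 (𝒳.p.obj x) ≫ 𝟙 (𝒳.p.obj x) ≫ 𝟙 (𝒳.p.obj x))
      (ιx.inv ≫ Χ.toNatTrans.app (Over.mk (𝟙 (𝒳.p.obj x))) ≫ ιy.hom) := inferInstance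
    rw [Category.comp_id, Category.comp_id] at this
    exact this
  · intro W g hg s ψ hψ
    let a : (Stk.sieveCat S').obj := ⟨Over.mk g, hg⟩
    -- compare `s` with `Tx a`
    obtain ⟨θ, hθ1, hθ2⟩ := exists_comparison h𝒳 g (Tx.map (toId a.obj) ≫ ιx.hom) (hψx a.obj) ψ hψ
    have hnat := Χ.toNatTrans.naturality (toId a.obj)
    have hnat' : Tx.map (toId a.obj) ≫ Χ.toNatTrans.app (Over.mk (𝟙 (𝒳.p.obj x))) =
        β a ≫ Ty.map (toId a.obj) := by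
      rw [← hΧa a]; exact hnat
    have hβ2a : β a ≫ (Ty.map (toId a.obj) ≫ ιy.hom) =
        k g hg (Tx.obj a.obj) (Tx.map (toId a.obj) ≫ ιx.hom) (hψx a.obj) := hβ2 a
    have e1 : ψ ≫ ιx.inv ≫ Χ.toNatTrans.app (Over.mk (𝟙 (𝒳.p.obj x))) ≫ ιy.hom =
        θ.hom ≫ k g hg (Tx.obj a.obj) (Tx.map (toId a.obj) ≫ ιx.hom) (hψx a.obj) := by
      rw [← hθ2, ← hβ2a]
      simp only [Category.assoc, Iso.hom_inv_id_assoc]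
      rw [← Category.assoc (Tx.map (toId a.obj)), hnat']
      simp only [Category.assoc]
    rw [e1]
    have hmψ : 𝒳.p.IsHomLift (𝟙 W ≫ g) (θ.hom ≫ (Tx.map (toId a.obj) ≫ ιx.hom)) :=
      isHomLift_comp' 𝒳.p _ _ _ _ hθ1 (hψx a.obj)
    have e2 := hcompat g hg (𝟙 W) (Tx.obj a.obj) (Tx.map (toId a.obj) ≫ ιx.hom) (hψx a.obj) s θ.hom hθ1 hmψ
    rw [← e2]
    have key : ∀ (g₁ : W ⟶ 𝒳.p.obj x) (hg₁ : S' g₁) (ψ₁ : s ⟶ x)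
        (hψ₁ : 𝒳.p.IsHomLift g₁ ψ₁) (g₂ : W ⟶ 𝒳.p.obj x) (hg₂ : S' g₂)
        (ψ₂ : s ⟶ x) (hψ₂ : 𝒳.p.IsHomLift g₂ ψ₂), g₁ = g₂ → ψ₁ = ψ₂ →
        k g₁ hg₁ s ψ₁ hψ₁ = k g₂ hg₂ s ψ₂ hψ₂ := by
      intro g₁ hg₁ ψ₁ hψ₁ g₂ hg₂ ψ₂ hψ₂ e e'
      subst e e'
      rfl
    exact key _ _ _ _ _ _ _ _ (Category.id_comp g) hθ2

/-- variant of `hom_ext_of_locally` with the base object up to equality -/
theorem hom_ext_of_locally' (h𝒳 : IsFibGrpd 𝒳.p) {x y : 𝒳.obj} {V : C} (hx : 𝒳.p.obj x = V) (S' : Sieve V)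
    (hfaith : (Stk.resSieve S' 𝒳).Faithful) {V₂ : C} (h : V ⟶ V₂) (φ φ' : x ⟶ y)
    (hφ : 𝒳.p.IsHomLift h φ) (hφ' : 𝒳.p.IsHomLift h φ')
    (hloc : ∀ ⦃W : C⦄ (g : W ⟶ V), S' g → ∀ (s : 𝒳.obj) (ψ : s ⟶ x),
      𝒳.p.IsHomLift g ψ → ψ ≫ φ = ψ ≫ φ') : φ = φ' := by
  subst hx
  exact hom_ext_of_locally h𝒳 S' hfaith h φ φ' hloc

/-- variant of `exists_glue` with the base object up to equality -/
theorem exists_glue' (h𝒳 : IsFibGrpd 𝒳.p) {x y : 𝒳.obj} {V : C} (hx : 𝒳.p.obj x = V) (hy : 𝒳.p.obj y = V)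
    (S' : Sieve V) (hfull : (Stk.resSieve S' 𝒳).Full)
    (k : ∀ ⦃W : C⦄ (g : W ⟶ V), S' g → ∀ (s : 𝒳.obj) (ψ : s ⟶ x), 𝒳.p.IsHomLift g ψ → (s ⟶ y))
    (hk : ∀ ⦃W : C⦄ (g : W ⟶ V) (hg : S' g) (s : 𝒳.obj) (ψ : s ⟶ x) (hψ : 𝒳.p.IsHomLift g ψ),
      𝒳.p.IsHomLift g (k g hg s ψ hψ))
    (hcompat : ∀ ⦃W W' : C⦄ (g : W ⟶ V) (hg : S' g) (l : W' ⟶ W) (s : 𝒳.obj) (ψ : s ⟶ x)
      (hψ : 𝒳.p.IsHomLift g ψ) (s' : 𝒳.obj) (m : s' ⟶ s) (_ : 𝒳.p.IsHomLift l m)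
      (hmψ : 𝒳.p.IsHomLift (l ≫ g) (m ≫ ψ)),
      k (l ≫ g) (S'.downward_closed hg l) s' (m ≫ ψ) hmψ = m ≫ k g hg s ψ hψ) :
    ∃ κ : x ⟶ y, 𝒳.p.IsHomLift (𝟙 V) κ ∧
      ∀ ⦃W : C⦄ (g : W ⟶ V) (hg : S' g) (s : 𝒳.obj) (ψ : s ⟶ x) (hψ : 𝒳.p.IsHomLift g ψ),
        ψ ≫ κ = k g hg s ψ hψ := by
  subst hx
  exact exists_glue h𝒳 S' hfull hy k hk hcompat

end Groth.Agent.Lib.Helper65.GlueHom
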