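import Groth.Prelude.Def_AlgSt
import Groth.Prelude.Def_StGerb
import Groth.Agent.Lib.Helper65.GlueHom
import Groth.Agent.Lib.Helper65.LocalEss
import Groth.Agent.Lib.Helper65.FpFib

/-!
# Helper65: local structure of gerbes; functors of gerbes inducing bijections on automorphism groups
-/

set_option autoImplicit false
set_option backward.isDefEq.respectTransparency false
set_option backward.isDefEq.respectTransparency.types false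

universe v₃ u₃ v₂ u₂ v u

open CategoryTheory CategoryTheory.Functor

namespace Groth.Agent.Lib.Helper65.GerbeLocal

open FibCat Gerb Groth.Agent.Lib.Helper31 Groth.Agent.Lib.Helper65 Groth.Agent.Lib.Helper65.GlueHom

variable {C : Type u} [Category.{v} C] (J : GrothendieckTopology C)
  {𝒳 : BasedCategory.{v₂, u₂} C} {𝒴 : BasedCategory.{v₃, u₃} C}

/-- two objects of a gerbe over the same object of the base are locally isomorphic -/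
theorem locIso (h : LocSurjHom J (toSelf 𝒳)) (x₁ x₂ : 𝒳.obj) {T : C} (h₁ : 𝒳.p.obj x₁ = T)
    (h₂ : 𝒳.p.obj x₂ = T) :
    ∃ R ∈ J T, ∀ ⦃V : C⦄ (f : V ⟶ T), R f →
      ∃ (x₀ : 𝒳.obj) (a : x₀ ⟶ x₁) (b : x₀ ⟶ x₂), 𝒳.p.IsHomLift f a ∧ 𝒳.p.IsHomLift f b := by
  subst h₁
  have hb : (selfOver C).p.IsHomLift (𝟙 (𝒳.p.obj x₁))
      (eqToHom h₂.symm : (toSelf 𝒳).obj x₁ ⟶ (toSelf 𝒳).obj x₂) := by
    apply IsHomLift.of_fac' (𝟭 C) (𝟙 (𝒳.p.obj x₁)) (eqToHom h₂.symm) rfl h₂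
    simp
  obtain ⟨R, hR, hR'⟩ := h x₁ x₂ (eqToHom h₂.symm) hb
  refine ⟨R, hR, fun V f hf => ?_⟩
  obtain ⟨x₀, a, b, ha, hb', -⟩ := hR' f hf
  exact ⟨x₀, a, b, ha, hb'⟩

variable (h𝒳 : IsFibGrpd 𝒳.p)

/-- the sieve of arrows along which `y` becomes a pullback of `s` -/
def belowSieve (s y : 𝒳.obj) {T : C} (_hy : 𝒳.p.obj y = T) : Sieve T where
  arrows V f := ∃ (x₀ : 𝒳.obj) (a : x₀ ⟶ y), 𝒳.p.IsHomLift f a ∧ Nonempty (x₀ ⟶ s)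
  downward_closed := by
    rintro V W f ⟨x₀, a, ha, ⟨c⟩⟩ l
    have hV : 𝒳.p.obj x₀ = V := IsHomLift.domain_eq 𝒳.p f a
    obtain ⟨x₁, m, hm⟩ := exists_lift_of_eq h𝒳 hV l
    exact ⟨x₁, m ≫ a, isHomLift_comp' 𝒳.p l f m a hm ha, ⟨m ≫ c⟩⟩

theorem belowSieve_mem (hg : LocSurjHom J (toSelf 𝒳)) (s y : 𝒳.obj) {T : C} (hy : 𝒳.p.obj y = T)
    (u : T ⟶ 𝒳.p.obj s) : belowSieve h𝒳 s y hy ∈ J T := by
  obtain ⟨su, cu, hcu⟩ := h𝒳.exists_lift (x := s) u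
  have hsu : 𝒳.p.obj su = T := IsHomLift.domain_eq 𝒳.p u cu
  obtain ⟨R, hR, hR'⟩ := locIso J hg y su hy hsu
  refine J.superset_covering ?_ hR
  intro V f hf
  obtain ⟨x₀, a, b, ha, -⟩ := hR' f hf
  exact ⟨x₀, a, ha, ⟨b ≫ cu⟩⟩

theorem below_of_mem {s y : 𝒳.obj} {T : C} {hy : 𝒳.p.obj y = T} {V : C} {f : V ⟶ T}
    (hf : belowSieve h𝒳 s y hy f) (s' : 𝒳.obj) (ψ : s' ⟶ y) (hψ : 𝒳.p.IsHomLift f ψ) :
    Nonempty (s' ⟶ s) := by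
  obtain ⟨x₀, a, ha, ⟨c⟩⟩ := hf
  obtain ⟨ι, -, -⟩ := exists_comparison h𝒳 f a ha ψ hψ
  exact ⟨ι.hom ≫ c⟩

variable (φ : 𝒳 ⥤ᵇ 𝒴) (s : 𝒳.obj)

/-- `φ` is injective on automorphisms of the pullbacks of `s` -/
def InjBelow : Prop :=
  ∀ x : 𝒳.obj, Nonempty (x ⟶ s) → ∀ χ : x ⟶ x, 𝒳.p.IsHomLift (𝟙 (𝒳.p.obj x)) χ →
    φ.map χ = 𝟙 (φ.obj x) → χ = 𝟙 x

/-- `φ` is surjective on automorphisms of the pullbacks of `s` -/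
def SurjBelow : Prop :=
  ∀ x : 𝒳.obj, Nonempty (x ⟶ s) → ∀ ξ : φ.obj x ⟶ φ.obj x, 𝒴.p.IsHomLift (𝟙 (𝒳.p.obj x)) ξ →
    ∃ χ : x ⟶ x, 𝒳.p.IsHomLift (𝟙 (𝒳.p.obj x)) χ ∧ φ.map χ = ξ

theorem faithful_of_injBelow (hst : Stk.IsStack J 𝒳) (hg : LocSurjHom J (toSelf 𝒳))
    (h𝒴 : IsFibGrpd 𝒴.p) (hs : ∀ T : C, Nonempty (T ⟶ 𝒳.p.obj s)) (hinj : InjBelow φ s) :
    φ.toFunctor.Faithful := by
  apply faithful_of_aut_trivial hst.1 h𝒴 φ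
  intro t χ hχ hφχ
  obtain ⟨u⟩ := hs (𝒳.p.obj t)
  have hR := belowSieve_mem J hst.1 hg s t rfl u
  have hE : (Stk.resSieve (belowSieve hst.1 s t rfl) 𝒳).IsEquivalence := hst.2 _ hR
  have hfaith : (Stk.resSieve (belowSieve hst.1 s t rfl) 𝒳).Faithful := inferInstance
  apply eq_id_of_locally hst.1 t _ hfaith χ
  intro V f hf s' ψ hψ
  have hs' := below_of_mem hst.1 hf s' ψ hψ
  have cψ : 𝒳.p.IsStronglyCartesian f ψ := isStronglyCartesian_of_isFibGrpd 𝒳.p hst.1 f ψ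
  have h1 : 𝒳.p.IsHomLift (𝟙 V ≫ f) (ψ ≫ χ) := by
    rw [Category.id_comp]
    exact isHomLift_comp_id_right 𝒳.p f _ _ hψ hχ
  have hχ'1 : 𝒳.p.IsHomLift (𝟙 V) (IsStronglyCartesian.map 𝒳.p f ψ (g := 𝟙 V) rfl (ψ ≫ χ)) := inferInstance
  have hχ'2 : IsStronglyCartesian.map 𝒳.p f ψ (g := 𝟙 V) rfl (ψ ≫ χ) ≫ ψ = ψ ≫ χ :=
    IsStronglyCartesian.fac _ _ _ _ _
  have hV : 𝒳.p.obj s' = V := IsHomLift.domain_eq 𝒳.p f ψ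
  have hφψ : 𝒴.p.IsHomLift f (φ.map ψ) := inferInstance
  have cφψ : 𝒴.p.IsStronglyCartesian f (φ.map ψ) := isStronglyCartesian_of_isFibGrpd 𝒴.p h𝒴 f _
  have e1 : φ.map (IsStronglyCartesian.map 𝒳.p f ψ (g := 𝟙 V) rfl (ψ ≫ χ)) = 𝟙 (φ.obj s') := by
    have i1 : 𝒴.p.IsHomLift (𝟙 V) (φ.map (IsStronglyCartesian.map 𝒳.p f ψ (g := 𝟙 V) rfl (ψ ≫ χ))) :=
      inferInstance
    have i2 : 𝒴.p.IsHomLift (𝟙 V) (𝟙 (φ.obj s')) :=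
      IsHomLift.id ((φ.w_obj s').trans hV)
    apply IsStronglyCartesian.ext 𝒴.p f (φ.map ψ) (𝟙 V)
    rw [← φ.map_comp, hχ'2, φ.map_comp, hφχ, Category.comp_id, Category.id_comp]
  have e2 := hinj s' hs' _ (by subst hV; exact hχ'1) e1
  rw [← hχ'2, e2, Category.id_comp]

include h𝒳 in
/-- fullness may be tested on morphisms over identities -/
theorem full_of_full_over_id (h𝒴 : IsFibGrpd 𝒴.p)
    (h : ∀ (x y : 𝒳.obj) (_ : 𝒳.p.obj y = 𝒳.p.obj x) (ξ : φ.obj x ⟶ φ.obj y),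
      𝒴.p.IsHomLift (𝟙 (𝒳.p.obj x)) ξ → ∃ k : x ⟶ y, φ.map k = ξ) : φ.toFunctor.Full where
  map_surjective := by
    intro x y ξ
    obtain ⟨f, hξ⟩ : ∃ f : 𝒳.p.obj x ⟶ 𝒳.p.obj y, 𝒴.p.IsHomLift f ξ :=
      ⟨_, IsHomLift.of_fac 𝒴.p _ ξ (φ.w_obj x) (φ.w_obj y) rfl⟩
    obtain ⟨y', c, hc⟩ := h𝒳.exists_lift (x := y) f
    have hy' : 𝒳.p.obj y' = 𝒳.p.obj x := IsHomLift.domain_eq 𝒳.p f c
    have hφc : 𝒴.p.IsHomLift f (φ.map c) := inferInstance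
    have cφc := isStronglyCartesian_of_isFibGrpd 𝒴.p h𝒴 f (φ.map c)
    have hξ' : 𝒴.p.IsHomLift (𝟙 (𝒳.p.obj x) ≫ f) ξ := by
      rw [Category.id_comp]; exact hξ
    obtain ⟨k', hk'⟩ := h x y' hy'
      (IsStronglyCartesian.map 𝒴.p f (φ.map c) (g := 𝟙 (𝒳.p.obj x)) rfl ξ) inferInstance
    refine ⟨k' ≫ c, ?_⟩
    change φ.map (k' ≫ c) = ξ
    rw [φ.map_comp, hk']
    exact IsStronglyCartesian.fac _ _ _ _ _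

theorem exists_preimage_over_id (hst : Stk.IsStack J 𝒳) (hg : LocSurjHom J (toSelf 𝒳))
    (hst' : Stk.IsStack J 𝒴) (hs : ∀ T : C, Nonempty (T ⟶ 𝒳.p.obj s)) (hinj : InjBelow φ s)
    (hsurj : SurjBelow φ s) (x y : 𝒳.obj) (hy : 𝒳.p.obj y = 𝒳.p.obj x) (ξ : φ.obj x ⟶ φ.obj y)
    (hξ : 𝒴.p.IsHomLift (𝟙 (𝒳.p.obj x)) ξ) : ∃ k : x ⟶ y, φ.map k = ξ := by
  haveI := faithful_of_injBelow J φ s hst hg hst'.1 hs hinj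
  obtain ⟨u⟩ := hs (𝒳.p.obj x)
  have hR₂ := belowSieve_mem J hst.1 hg s x rfl u
  obtain ⟨R₁, hR₁, hR₁'⟩ := locIso J hg x y rfl hy
  have hR : R₁ ⊓ belowSieve hst.1 s x rfl ∈ J (𝒳.p.obj x) := J.intersection_covering hR₁ hR₂
  -- local preimages
  have hex : ∀ ⦃W : C⦄ (g : W ⟶ 𝒳.p.obj x), (R₁ ⊓ belowSieve hst.1 s x rfl) g → ∀ (s' : 𝒳.obj) (ψ : s' ⟶ x),
      𝒳.p.IsHomLift g ψ → ∃ m : s' ⟶ y, 𝒳.p.IsHomLift g m ∧ φ.map m = φ.map ψ ≫ ξ := by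
    intro W g hg' s' ψ hψ
    have hW : 𝒳.p.obj s' = W := IsHomLift.domain_eq 𝒳.p g ψ
    subst hW
    obtain ⟨x₀, a, b, ha, hb⟩ := hR₁' g hg'.1
    have hs' := below_of_mem hst.1 hg'.2 s' ψ hψ
    obtain ⟨ι, hι1, hι2⟩ := exists_comparison hst.1 g a ha ψ hψ
    have hb' : 𝒳.p.IsHomLift g (ι.hom ≫ b) := isHomLift_comp_id_left 𝒳.p g _ _ hι1 hb
    have hφb : 𝒴.p.IsHomLift g (φ.map (ι.hom ≫ b)) := inferInstance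
    have cφb := isStronglyCartesian_of_isFibGrpd 𝒴.p hst'.1 g (φ.map (ι.hom ≫ b))
    have h1 : 𝒴.p.IsHomLift (𝟙 (𝒳.p.obj s') ≫ g) (φ.map ψ ≫ ξ) := by
      rw [Category.id_comp]
      have : 𝒴.p.IsHomLift g (φ.map ψ) := inferInstance
      exact isHomLift_comp_id_right 𝒴.p g _ _ this hξ
    have hζ1 : 𝒴.p.IsHomLift (𝟙 (𝒳.p.obj s'))
        (IsStronglyCartesian.map 𝒴.p g (φ.map (ι.hom ≫ b)) (g := 𝟙 (𝒳.p.obj s')) rfl (φ.map ψ ≫ ξ)) :=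
      inferInstance
    have hζ2 := IsStronglyCartesian.fac 𝒴.p g (φ.map (ι.hom ≫ b)) (g := 𝟙 (𝒳.p.obj s')) rfl (φ.map ψ ≫ ξ)
    obtain ⟨χ, hχ1, hχ2⟩ := hsurj s' hs' _ hζ1
    refine ⟨χ ≫ ι.hom ≫ b, ?_, ?_⟩
    · exact isHomLift_comp_id_left 𝒳.p g _ _ hχ1 hb'
    · rw [φ.map_comp, hχ2]; exact hζ2
  choose k hk1 hk2 using hex
  have hE : (Stk.resSieve (R₁ ⊓ belowSieve hst.1 s x rfl) 𝒳).IsEquivalence := hst.2 _ hR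
  obtain ⟨κ, hκ1, hκ2⟩ := exists_glue hst.1 (R₁ ⊓ belowSieve hst.1 s x rfl) inferInstance hy k hk1 (by
    intro W W' g hg' l s' ψ hψ s'' m hm hmψ
    apply φ.toFunctor.map_injective
    change φ.map _ = φ.map _
    rw [hk2, φ.map_comp, φ.map_comp, hk2, Category.assoc])
  refine ⟨κ, ?_⟩
  have hE' : (Stk.resSieve (R₁ ⊓ belowSieve hst.1 s x rfl) 𝒴).IsEquivalence := hst'.2 _ hR
  apply hom_ext_of_locally' hst'.1 (φ.w_obj x) (R₁ ⊓ belowSieve hst.1 s x rfl) inferInstance (𝟙 _)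
    (φ.map κ) ξ inferInstance hξ
  intro W g hg' t' ψ' hψ'
  obtain ⟨s', ψ, hψ⟩ := hst.1.exists_lift (x := x) g
  have hφψ : 𝒴.p.IsHomLift g (φ.map ψ) := inferInstance
  obtain ⟨θ, hθ1, hθ2⟩ := exists_comparison hst'.1 g (φ.map ψ) hφψ ψ' hψ'
  rw [← hθ2, Category.assoc, Category.assoc, ← φ.map_comp, hκ2 g hg' s' ψ hψ, hk2]

theorem locallyEssSurj (h𝒳' : IsFibGrpd 𝒳.p) (h𝒴 : IsFibGrpd 𝒴.p) (hg' : LocSurjHom J (toSelf 𝒴))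
    (hs : ∀ T : C, Nonempty (T ⟶ 𝒳.p.obj s)) : LocallyEssSurj J φ := by
  intro y
  obtain ⟨u⟩ := hs (𝒴.p.obj y)
  obtain ⟨su, cu, hcu⟩ := h𝒳'.exists_lift (x := s) u
  have hsu : 𝒳.p.obj su = 𝒴.p.obj y := IsHomLift.domain_eq 𝒳.p u cu
  obtain ⟨R, hR, hR'⟩ := locIso J hg' (φ.obj su) y ((φ.w_obj su).trans hsu) rfl
  refine ⟨R, hR, fun V f hf => ?_⟩
  obtain ⟨y₀, a, b, ha, hb⟩ := hR' f hf
  obtain ⟨x, cf, hcf⟩ := exists_lift_of_eq h𝒳' hsu f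
  have hφc : 𝒴.p.IsHomLift f (φ.map cf) := inferInstance
  obtain ⟨θ, hθ1, hθ2⟩ := exists_comparison h𝒴 f a ha (φ.map cf) hφc
  exact ⟨x, θ.hom ≫ b, isHomLift_comp_id_left 𝒴.p f _ _ hθ1 hb⟩

/-- **A functor of gerbes which is bijective on the automorphisms of the pullbacks of a global object is an
equivalence.** -/
theorem isEquivOver_of_bijBelow (h𝒳' : IsGerbe J 𝒳) (h𝒴 : IsGerbe J 𝒴)
    (hs : ∀ T : C, Nonempty (T ⟶ 𝒳.p.obj s)) (hinj : InjBelow φ s) (hsurj : SurjBelow φ s) :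
    IsEquivOver φ := by
  have := faithful_of_injBelow J φ s h𝒳'.1 h𝒳'.2.2 h𝒴.1.1 hs hinj
  have : φ.toFunctor.Full := full_of_full_over_id h𝒳'.1.1 φ h𝒴.1.1
    (exists_preimage_over_id J φ s h𝒳'.1 h𝒳'.2.2 h𝒴.1 hs hinj hsurj)
  exact (isEquivOver_iff_locallyEssSurj J h𝒳'.1 h𝒴.1 φ).2
    (locallyEssSurj J φ s h𝒳'.1.1 h𝒴.1.1 h𝒴.2.2 hs)

end Groth.Agent.Lib.Helper65.GerbeLocal
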