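import Groth.Prelude.Def_StGerb2
import Groth.Agent.Lib.Helper65.GerbeLocal

/-!
# Helper65: automorphism groups over the identity, and the gerbe equivalence criterion in terms of `autMap`
-/

set_option autoImplicit false
set_option backward.isDefEq.respectTransparency false
set_option backward.isDefEq.respectTransparency.types false

universe v₃ u₃ v₂ u₂ v u

open CategoryTheory CategoryTheory.Functor

namespace Groth.Agent.Lib.Helper65.GerbeAut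

open FibCat Gerb Groth.Agent.Lib.Helper31 Groth.Agent.Lib.Helper65 Groth.Agent.Lib.Helper65.GerbeLocal

variable {C : Type u} [Category.{v} C] (J : GrothendieckTopology C)
  {𝒳 : BasedCategory.{v₂, u₂} C} {𝒴 : BasedCategory.{v₃, u₃} C}

/-- an endomorphism over the identity as an element of the automorphism group -/
noncomputable def autOfHom (h𝒳 : IsFibGrpd 𝒳.p) (x : 𝒳.obj) (χ : x ⟶ x)
    (hχ : 𝒳.p.IsHomLift (𝟙 (𝒳.p.obj x)) χ) : AutO x :=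
  haveI := isIso_of_isHomLift_id h𝒳 χ hχ
  { hom := ⟨χ, hχ⟩
    inv := ⟨inv χ, inferInstance⟩
    hom_inv_id := by
      apply Functor.Fiber.hom_ext
      change χ ≫ inv χ = 𝟙 x
      exact IsIso.hom_inv_id χ
    inv_hom_id := by
      apply Functor.Fiber.hom_ext
      change inv χ ≫ χ = 𝟙 x
      exact IsIso.inv_hom_id χ }

theorem autOfHom_hom (h𝒳 : IsFibGrpd 𝒳.p) (x : 𝒳.obj) (χ : x ⟶ x)
    (hχ : 𝒳.p.IsHomLift (𝟙 (𝒳.p.obj x)) χ) : (autOfHom h𝒳 x χ hχ).hom.1 = χ := rfl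

theorem one_hom (x : 𝒳.obj) : (1 : AutO x).hom.1 = 𝟙 x := rfl

variable (φ : 𝒳 ⥤ᵇ 𝒴) (s : 𝒳.obj)

theorem injBelow_of_autMap (h𝒳 : IsFibGrpd 𝒳.p)
    (hφ : ∀ (x : 𝒳.obj) (_ : x ⟶ s), Function.Injective (autMap φ x)) : InjBelow φ s := by
  intro x ⟨c⟩ χ hχ hφχ
  have h1 : autMap φ x (autOfHom h𝒳 x χ hχ) = autMap φ x 1 := by
    rw [map_one]
    apply Aut.ext
    apply Functor.Fiber.hom_ext
    change φ.map χ = 𝟙 (φ.obj x)
    exact hφχ
  have h2 := hφ x c h1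
  have h3 := congrArg (fun α : AutO x => α.hom.1) h2
  exact h3

theorem surjBelow_of_autMap (h𝒴 : IsFibGrpd 𝒴.p)
    (hφ : ∀ (x : 𝒳.obj) (_ : x ⟶ s), Function.Surjective (autMap φ x)) : SurjBelow φ s := by
  intro x ⟨c⟩ ξ hξ
  have hξ' : 𝒴.p.IsHomLift (𝟙 (𝒴.p.obj (φ.obj x))) ξ := isHomLift_id_of_eq 𝒴.p (φ.w_obj x).symm ξ
  obtain ⟨α, hα⟩ := hφ x c (autOfHom h𝒴 (φ.obj x) ξ hξ')
  refine ⟨α.hom.1, α.hom.2, ?_⟩
  have := congrArg (fun β : AutO (φ.obj x) => β.hom.1) hα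
  exact this

theorem isEquivOver_of_bijective_autMap (h𝒳 : IsGerbe J 𝒳) (h𝒴 : IsGerbe J 𝒴)
    (hs : ∀ T : C, Nonempty (T ⟶ 𝒳.p.obj s))
    (hφ : ∀ (x : 𝒳.obj) (_ : x ⟶ s), Function.Bijective (autMap φ x)) : IsEquivOver φ :=
  isEquivOver_of_bijBelow J φ s h𝒳 h𝒴 hs
    (injBelow_of_autMap φ s h𝒳.1.1 (fun x c => (hφ x c).1))
    (surjBelow_of_autMap φ s h𝒴.1.1 (fun x c => (hφ x c).2))

end Groth.Agent.Lib.Helper65.GerbeAut
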