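import Groth.Prelude.Def_StGerb2
import Groth.Prelude.Def_AlgSt3
import Groth.Agent.Lib.Helper65.GerbeDiag
import Groth.Agent.Lib.Helper65.GerbeAut
import Groth.Agent.Lib.Helper65.FpMap
import Groth.Agent.Lib.Helper66.AlgStLocQSq6
import Groth.Agent.Lib.Helper65.StUniv
import Groth.Agent.Lib.Helper65.FlatLocal
import Groth.Agent.Lib.Helper66.AlgSpSmLocalLft

/-!
# Helper65: the automorphism group scheme of a section of a gerbe is flat and locally of finite presentation
-/

set_option autoImplicit false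
set_option backward.isDefEq.respectTransparency false
set_option backward.isDefEq.respectTransparency.types false

universe u

open CategoryTheory CategoryTheory.Functor CategoryTheory.Limits Opposite AlgebraicGeometry

namespace Groth.Agent.Lib.Helper65.GerbeAutSch

open FibCat Groth.Agent.Lib.Helper31 Groth.Agent.Lib.Helper65 Gerb

variable {S : Scheme.{u}} {𝒳 : AlgSt.Cat S}
variable (U : Over S) (G : Over U.left)

/-- The group scheme as a scheme over `S`. -/
def tot : Over S := Over.mk (G.hom ≫ U.hom)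

/-- Its projection to `U`. -/
def proj : tot U G ⟶ U := Over.homMk G.hom rfl

@[simp] theorem proj_left : (proj U G).left = G.hom := rfl

variable [GrpObj G]

/-- The tautological point of `G` over an object of `Over (tot U G)`. -/
def taut (T : Over (tot U G)) : (Gerb.ptsGrp U G).obj (op ((Over.map (proj U G)).obj T)) :=
  (Over.homMk (U := (Over.iteratedSliceForward U).obj ((Over.map (proj U G)).obj T)) (V := G)
    T.hom.left rfl)

theorem taut_natural {T T' : Over (tot U G)} (φ : T ⟶ T') :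
    (Gerb.ptsGrp U G).map ((Over.map (proj U G)).map φ).op (taut U G T') = taut U G T := by
  change (Over.iteratedSliceForward U).map ((Over.map (proj U G)).map φ) ≫ taut U G T' = taut U G T
  ext
  change φ.left.left ≫ T'.hom.left = T.hom.left
  rw [← Over.comp_left, Over.w φ]

variable {U G}
variable (x : FibCat.overCat U ⥤ᵇ 𝒳) (r : Gerb.AutRep x (Gerb.ptsGrp U G))

theorem aut_hom_inv {y : 𝒳.obj} (a : AutO y) : a.hom.1 ≫ a.inv.1 = 𝟙 y :=
  congrArg Subtype.val a.hom_inv_id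

theorem aut_inv_hom {y : 𝒳.obj} (a : AutO y) : a.inv.1 ≫ a.hom.1 = 𝟙 y :=
  congrArg Subtype.val a.inv_hom_id

/-- The universal automorphism at `T`. -/
noncomputable def univAut (T : Over (tot U G)) : AutO (x.obj ((Over.map (proj U G)).obj T)) :=
  r.iso _ (taut U G T)

theorem univAut_natural {T T' : Over (tot U G)} (φ : T ⟶ T') :
    (univAut x r T).hom.1 ≫ x.map ((Over.map (proj U G)).map φ) =
      x.map ((Over.map (proj U G)).map φ) ≫ (univAut x r T').hom.1 := by
  have := r.natural ((Over.map (proj U G)).map φ) (taut U G T')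
  rw [taut_natural] at this
  exact this

/-- The universal automorphism as a 2-automorphism of `tot U G ⟶ U ⟶ 𝒳`. -/
noncomputable def univIso : BasedFunctor.comp (AlgSt.overMap (proj U G)) x ≅
    BasedFunctor.comp (AlgSt.overMap (proj U G)) x :=
  BasedNatIso.mkNatIso
    (NatIso.ofComponents
      (fun T => ⟨(univAut x r T).hom.1, (univAut x r T).inv.1, aut_hom_inv _, aut_inv_hom _⟩)
      (fun {T T'} φ => (univAut_natural x r φ).symm))
    (fun T => by
      have h : 𝒳.p.IsHomLift (𝟙 (𝒳.p.obj (x.obj ((Over.map (proj U G)).obj T))))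
        (univAut x r T).hom.1 := (univAut x r T).hom.2
      exact isHomLift_id_of_eq 𝒳.p (x.w_obj ((Over.map (proj U G)).obj T)) (univAut x r T).hom.1)

/-- The comparison functor from the group scheme to the 2-fibre product `U ×_𝒳 U`. -/
noncomputable def cmp : FibCat.overCat (tot U G) ⥤ᵇ FibCat.fp x x :=
  FibCat.fpLift (AlgSt.overMap (proj U G)) (AlgSt.overMap (proj U G)) (univIso x r)

theorem cmp_comp_fpFst : BasedFunctor.comp (cmp x r) (FibCat.fpFst x x) = AlgSt.overMap (proj U G) := rfl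

theorem cmp_obj_iso_hom (T : Over (tot U G)) :
    ((cmp x r).obj T).obj.iso.hom = (univAut x r T).hom.1 := rfl

theorem univAut_isHomLift (T : Over (tot U G)) :
    𝒳.p.IsHomLift (𝟙 T.left) (univAut x r T).hom.1 := by
  have h : 𝒳.p.IsHomLift (𝟙 (𝒳.p.obj (x.obj ((Over.map (proj U G)).obj T))))
    (univAut x r T).hom.1 := (univAut x r T).hom.2
  exact isHomLift_id_of_eq 𝒳.p (x.w_obj ((Over.map (proj U G)).obj T)) (univAut x r T).hom.1

/-- Two base morphisms lifted by the same morphism are equal. -/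
theorem base_hom_eq {C : Type*} [Category C] {𝒲 : Type*} [Category 𝒲] (p : 𝒲 ⥤ C) {R R' : C} (f g : R ⟶ R')
    {a b : 𝒲} (φ : a ⟶ b) (hf : p.IsHomLift f φ) (hg : p.IsHomLift g φ) : f = g := by
  have h1 := IsHomLift.fac p f φ
  have h2 := IsHomLift.fac p g φ
  rw [h1, h2]

instance cmp_faithful : (cmp x r).toFunctor.Faithful where
  map_injective := by
    intro T T' φ ψ h
    have h1 : ((cmp x r).map φ).hom.fst = ((cmp x r).map ψ).hom.fst := by rw [h]
    have h2 : (Over.map (proj U G)).map φ = (Over.map (proj U G)).map ψ := h1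
    have h3 : φ.left = ψ.left := congrArg (fun t => t.left) h2
    exact Over.OverMorphism.ext h3

theorem cmp_full (h𝒳 : IsFibGrpd 𝒳.p) : (cmp x r).toFunctor.Full where
  map_surjective := by
    intro T T' ψ
    let T₁ : Over U := (Over.map (proj U G)).obj T
    let T₁' : Over U := (Over.map (proj U G)).obj T'
    let ψ₁ : T₁ ⟶ T₁' := ψ.hom.fst
    let ψ₂ : T₁ ⟶ T₁' := ψ.hom.snd
    have hw : x.map ψ₁ ≫ (univAut x r T').hom.1 = (univAut x r T).hom.1 ≫ x.map ψ₂ := fp_hom_w ψ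
    have hl1 : (FibCat.overCat U).p.IsHomLift ψ₁.left ψ₁ := by
      have : (FibCat.overCat U).p.IsHomLift ((FibCat.overCat U).p.map ψ₁) ψ₁ := inferInstance
      exact this
    have hl2 : (FibCat.overCat U).p.IsHomLift ψ₂.left ψ₂ := by
      have : (FibCat.overCat U).p.IsHomLift ((FibCat.overCat U).p.map ψ₂) ψ₂ := inferInstance
      exact this
    have hx1 : 𝒳.p.IsHomLift ψ₁.left (x.map ψ₁) := BasedFunctor.preserves_isHomLift x ψ₁.left ψ₁
    have hx2 : 𝒳.p.IsHomLift ψ₂.left (x.map ψ₂) := BasedFunctor.preserves_isHomLift x ψ₂.left ψ₂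
    have ha : 𝒳.p.IsHomLift (𝟙 T.left) (univAut x r T).hom.1 := univAut_isHomLift x r T
    have ha' : 𝒳.p.IsHomLift (𝟙 T'.left) (univAut x r T').hom.1 := univAut_isHomLift x r T'
    have hL : 𝒳.p.IsHomLift ψ₁.left (x.map ψ₁ ≫ (univAut x r T').hom.1) :=
      isHomLift_comp_id_right 𝒳.p ψ₁.left _ _ hx1 ha'
    have hR : 𝒳.p.IsHomLift ψ₂.left ((univAut x r T).hom.1 ≫ x.map ψ₂) :=
      isHomLift_comp_id_left 𝒳.p ψ₂.left _ _ ha hx2
    rw [hw] at hL
    have h12l : ψ₁.left = ψ₂.left := base_hom_eq 𝒳.p _ _ _ hL hR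
    have h12 : ψ₁ = ψ₂ := Over.OverMorphism.ext h12l
    rw [← h12] at hw
    -- naturality
    have hn := r.natural ψ₁ (taut U G T')
    have hn' : (r.iso T₁ ((Gerb.ptsGrp U G).map ψ₁.op (taut U G T'))).hom.1 ≫ x.map ψ₁ =
        (r.iso T₁ (taut U G T)).hom.1 ≫ x.map ψ₁ := hn.trans hw
    have : 𝒳.p.IsStronglyCartesian ψ₁.left (x.map ψ₁) :=
      isStronglyCartesian_of_isFibGrpd 𝒳.p h𝒳 ψ₁.left (x.map ψ₁)
    have hb : 𝒳.p.IsHomLift (𝟙 T.left) (r.iso T₁ ((Gerb.ptsGrp U G).map ψ₁.op (taut U G T'))).hom.1 := by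
      have h : 𝒳.p.IsHomLift (𝟙 (𝒳.p.obj (x.obj T₁)))
        (r.iso T₁ ((Gerb.ptsGrp U G).map ψ₁.op (taut U G T'))).hom.1 :=
        (r.iso T₁ ((Gerb.ptsGrp U G).map ψ₁.op (taut U G T'))).hom.2
      exact isHomLift_id_of_eq 𝒳.p (x.w_obj T₁) _
    have ha2 : 𝒳.p.IsHomLift (𝟙 T.left) (r.iso T₁ (taut U G T)).hom.1 := ha
    have h4 : (r.iso T₁ ((Gerb.ptsGrp U G).map ψ₁.op (taut U G T'))).hom.1 = (r.iso T₁ (taut U G T)).hom.1 :=
      IsStronglyCartesian.ext 𝒳.p ψ₁.left (x.map ψ₁) (𝟙 T.left) hn'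
    have h5 : r.iso T₁ ((Gerb.ptsGrp U G).map ψ₁.op (taut U G T')) = r.iso T₁ (taut U G T) := by
      apply Aut.ext
      apply Functor.Fiber.hom_ext
      exact h4
    have h6 : (Gerb.ptsGrp U G).map ψ₁.op (taut U G T') = taut U G T := (r.iso T₁).injective h5
    have h7 : (Over.iteratedSliceForward U).map ψ₁ ≫ taut U G T' = taut U G T := h6
    have h8 : ψ₁.left.left ≫ T'.hom.left = T.hom.left := congrArg (fun t => t.left) h7
    refine ⟨Over.homMk ψ₁.left (by ext; exact h8), ?_⟩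
    apply fp_hom_ext
    · apply Over.OverMorphism.ext
      rfl
    · apply Over.OverMorphism.ext
      exact h12l

theorem isHomLift_id_comp_id {C : Type*} [Category C] {𝒲 : Type*} [Category 𝒲] (p : 𝒲 ⥤ C) {R R' : C}
    {a b c : 𝒲} (φ : a ⟶ b) (ψ : b ⟶ c) (hφ : p.IsHomLift (𝟙 R) φ) (hψ : p.IsHomLift (𝟙 R') ψ) :
    p.IsHomLift (𝟙 R) (φ ≫ ψ) := by
  have h1 : p.obj b = R := IsHomLift.codomain_eq p (𝟙 R) φ
  have h2 : p.obj b = R' := IsHomLift.domain_eq p (𝟙 R') ψ
  have h : R = R' := h1.symm.trans h2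
  subst h
  exact isHomLift_comp_id_left p (𝟙 R) φ ψ hφ hψ

theorem cmp_essSurjOver (h𝒳 : IsFibGrpd 𝒳.p) (π : 𝒳 ⥤ᵇ FibCat.overCat U)
    (e : BasedFunctor.comp x π ≅ BasedFunctor.id (FibCat.overCat U)) : EssSurjOver (cmp x r) := by
  apply essSurjOver_fp_of
  intro Y
  let a : Over U := Y.obj.fst
  let b : Over U := Y.obj.snd
  let ι : x.obj a ≅ x.obj b := Y.obj.iso
  have hι : 𝒳.p.IsHomLift (𝟙 a.left) ι.hom := Y.property
  let ea : π.obj (x.obj a) ≅ a := ((BasedNatTrans.forgetful _ _).mapIso e).app a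
  let eb : π.obj (x.obj b) ≅ b := ((BasedNatTrans.forgetful _ _).mapIso e).app b
  let c : a ≅ b := ea.symm ≪≫ π.toFunctor.mapIso ι ≪≫ eb
  have hea : (FibCat.overCat U).p.IsHomLift (𝟙 a.left) ea.inv := e.inv.isHomLift' a
  have hπι : (FibCat.overCat U).p.IsHomLift (𝟙 a.left) (π.map ι.hom) :=
    BasedFunctor.preserves_isHomLift π _ _
  have heb : (FibCat.overCat U).p.IsHomLift (𝟙 b.left) eb.hom := e.hom.isHomLift' b
  have hc : (FibCat.overCat U).p.IsHomLift (𝟙 a.left) c.hom :=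
    isHomLift_id_comp_id _ ea.inv (π.map ι.hom ≫ eb.hom) hea (isHomLift_id_comp_id _ _ _ hπι heb)
  have hcinv : (FibCat.overCat U).p.IsHomLift (𝟙 a.left) c.inv := inferInstance
  let β : x.obj a ⟶ x.obj a := ι.hom ≫ x.map c.inv
  have hxc : 𝒳.p.IsHomLift (𝟙 a.left) (x.map c.inv) := BasedFunctor.preserves_isHomLift x _ _
  have hβ : 𝒳.p.IsHomLift (𝟙 a.left) β := isHomLift_comp_id_left _ _ _ _ hι hxc
  have hβ' : 𝒳.p.IsHomLift (𝟙 (𝒳.p.obj (x.obj a))) β :=
    @isHomLift_id_of_eq _ _ _ _ 𝒳.p _ _ (x.w_obj a).symm _ _ β hβ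
  let βa : AutO (x.obj a) := GerbeAut.autOfHom h𝒳 (x.obj a) β hβ'
  let g : (Gerb.ptsGrp U G).obj (op a) := (r.iso a).symm βa
  have hg : r.iso a g = βa := (r.iso a).apply_symm_apply βa
  let g' : (Over.iteratedSliceForward U).obj a ⟶ G := g
  have hg' : g'.left ≫ G.hom = a.hom.left := Over.w g'
  let W : Over (tot U G) := Over.mk (Over.homMk (U := a.left) (V := tot U G) g'.left (by
    change g'.left ≫ G.hom ≫ U.hom = a.left.hom
    rw [← Category.assoc, hg', Over.w a.hom]))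
  let u : (Over.map (proj U G)).obj W ≅ a := Over.isoMk (Iso.refl a.left) (by
    apply Over.OverMorphism.ext
    change 𝟙 _ ≫ a.hom.left = g'.left ≫ G.hom
    rw [Category.id_comp, hg'])
  have hu : (FibCat.overCat U).p.IsHomLift (𝟙 a.left) u.hom := by
    have : (FibCat.overCat U).p.IsHomLift ((FibCat.overCat U).p.map u.hom) u.hom := inferInstance
    exact this
  refine ⟨W, u, u ≪≫ c, hu, ?_⟩
  have ht : (Gerb.ptsGrp U G).map u.hom.op g = taut U G W := by
    change (Over.iteratedSliceForward U).map u.hom ≫ g' = taut U G W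
    apply Over.OverMorphism.ext
    change 𝟙 _ ≫ g'.left = g'.left
    exact Category.id_comp _
  have hn := r.natural u.hom g
  rw [ht, hg] at hn
  have hn' : (univAut x r W).hom.1 ≫ x.map u.hom = x.map u.hom ≫ ι.hom ≫ x.map c.inv := hn
  change x.map u.hom ≫ ι.hom = (univAut x r W).hom.1 ≫ x.map (u.hom ≫ c.hom)
  rw [x.toFunctor.map_comp, ← Category.assoc, hn']
  simp only [Category.assoc]
  rw [← x.toFunctor.map_comp, c.inv_hom_id, x.toFunctor.map_id, Category.comp_id]

theorem cmp_isEquivOver (h𝒳 : IsFibGrpd 𝒳.p) (π : 𝒳 ⥤ᵇ FibCat.overCat U)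
    (e : BasedFunctor.comp x π ≅ BasedFunctor.id (FibCat.overCat U)) : IsEquivOver (cmp x r) :=
  haveI := cmp_full x r h𝒳
  isEquivOver_of_ff_ess _ (cmp_essSurjOver x r h𝒳 π e)

include r in
/-- The automorphism group scheme of a section of a gerbe over a scheme is flat and locally of finite
presentation. -/
theorem flat_lfp_of_autRep (h𝒳 : AlgSt.IsAlgStack Scheme.fppfPrecoverage 𝒳)
    (π : 𝒳 ⥤ᵇ FibCat.overCat U) (hπ : Gerb.IsGerbeOver (QuotSh.J Scheme.fppfPrecoverage S) π)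
    (e : BasedFunctor.comp x π ≅ BasedFunctor.id (FibCat.overCat U)) :
    Flat G.hom ∧ LocallyOfFinitePresentation G.hom := by
  obtain ⟨h1, h2, -⟩ := GerbeDiag.section_props_overCat h𝒳 U π hπ x e
  have hE := cmp_isEquivOver x r h𝒳.isStack.1 π e
  have key : ∀ (P : MorphismProperty (AlgSp.Sp S)), AlgSp.IsSmoothLocalST P →
      AlgSt.RepByAlgSpWith P x → P ((AlgSp.yon S).map (proj U G)) := by
    intro P hP hx
    have h3 : AlgSt.RepByAlgSpWith P (FibCat.fpFst x x) := repByAlgSpWith_fpFst P x x hx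
    have h4 : AlgSt.RepByAlgSpWith P (BasedFunctor.comp (cmp x r) (FibCat.fpFst x x)) :=
      repByAlgSpWith_equiv_comp _ (cmp x r) hE _ h3
    rw [cmp_comp_fpFst] at h4
    have h5 : AlgSt.LocQ P (AlgSt.overMap (proj U G)) :=
      Groth.Agent.Lib.Helper66.AlgStLocQSq.locQ_of_repByAlgSpWith P hP (isFibGrpd_overForget _)
        (isFibGrpd_overForget _) (isAlgStack_overCat U).atlas _ h4
    exact Groth.Agent.Lib.Helper66.AlgStLocQSq.prop_of_locQ_overMap P hP _ h5
  exact ⟨AlgSp.locP_yon_map (key _ isSmoothLocalST_locP_flat h1),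
    AlgSp.locP_yon_map (key _ Groth.Agent.Lib.Helper66.AlgSpSmLocalLft.isSmoothLocalST_locP_lfp h2)⟩

end Groth.Agent.Lib.Helper65.GerbeAutSch
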