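import Groth.Prelude.Def_StGerb
import Mathlib.Algebra.Group.MinimalAxioms
import Groth.Agent.Lib.Helper65.GerbeLocal
import Groth.Agent.Lib.Helper65.GerbeAut

/-!
# Helper65: the band of an abelian gerbe

For a category `𝒮` fibred in groupoids over `C` we define the presheaf of groups `U ↦ Cen 𝒮 U` of "central
automorphisms of the restriction of `𝒮` to `C/U`": families of automorphisms over identities of all objects `x`
equipped with a morphism from their base object to `U`, natural along all morphisms of `𝒮`.  For a stack it is a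
sheaf; for a gerbe with commutative automorphism groups evaluation at an object is a group isomorphism with the
automorphism group of that object, which gives a banding.
-/

set_option autoImplicit false
set_option backward.isDefEq.respectTransparency false
set_option backward.isDefEq.respectTransparency.types false

universe v₂ u₂ v u

open CategoryTheory CategoryTheory.Functor Opposite

namespace Groth.Agent.Lib.Helper65.GerbeBand

open FibCat Gerb Groth.Agent.Lib.Helper31 Groth.Agent.Lib.Helper65 Groth.Agent.Lib.Helper65.GerbeLocal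
open Groth.Agent.Lib.Helper65.GlueHom

variable {C : Type u} [Category.{v} C] (𝒮 : BasedCategory.{v₂, u₂} C)

/-- central automorphisms of the restriction of `𝒮` to `C/U` -/
@[ext]
structure Cen (U : C) where
  /-- the automorphism of `x` attached to a structure map of its base object -/
  app : ∀ (x : 𝒮.obj) (_ : 𝒮.p.obj x ⟶ U), x ⟶ x
  lift : ∀ (x : 𝒮.obj) (f : 𝒮.p.obj x ⟶ U), 𝒮.p.IsHomLift (𝟙 (𝒮.p.obj x)) (app x f)
  nat : ∀ {x' x : 𝒮.obj} (φ : x' ⟶ x) (f : 𝒮.p.obj x ⟶ U), app x' (𝒮.p.map φ ≫ f) ≫ φ = φ ≫ app x f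

variable {𝒮}

namespace Cen

variable {U : C}

instance : One (Cen 𝒮 U) where
  one :=
    { app := fun x _ => 𝟙 x
      lift := fun x _ => IsHomLift.id rfl
      nat := fun φ _ => (Category.id_comp φ).trans (Category.comp_id φ).symm }

instance : Mul (Cen 𝒮 U) where
  mul a b :=
    { app := fun x f => b.app x f ≫ a.app x f
      lift := fun x f => isHomLift_comp_id_right 𝒮.p _ _ _ (b.lift x f) (a.lift x f)
      nat := fun {x' x} φ f => by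
        rw [Category.assoc, a.nat φ f, ← Category.assoc, b.nat φ f, Category.assoc] }

theorem one_app (x : 𝒮.obj) (f : 𝒮.p.obj x ⟶ U) : (1 : Cen 𝒮 U).app x f = 𝟙 x := rfl

theorem mul_app (a b : Cen 𝒮 U) (x : 𝒮.obj) (f : 𝒮.p.obj x ⟶ U) :
    (a * b).app x f = b.app x f ≫ a.app x f := rfl

variable [h𝒮 : IsFibGrpd 𝒮.p]

theorem isIso_app (a : Cen 𝒮 U) (x : 𝒮.obj) (f : 𝒮.p.obj x ⟶ U) : IsIso (a.app x f) :=
  isIso_of_isHomLift_id h𝒮 (a.app x f) (a.lift x f)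

noncomputable instance : Inv (Cen 𝒮 U) where
  inv a :=
    { app := fun x f => @inv _ _ _ _ (a.app x f) (a.isIso_app x f)
      lift := fun x f => by
        haveI := a.isIso_app x f
        haveI := a.lift x f
        infer_instance
      nat := fun {x' x} φ f => by
        haveI := a.isIso_app x f
        haveI := a.isIso_app x' (𝒮.p.map φ ≫ f)
        rw [IsIso.inv_comp_eq, ← Category.assoc, IsIso.eq_comp_inv]
        exact (a.nat φ f).symm }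

theorem inv_app (a : Cen 𝒮 U) (x : 𝒮.obj) (f : 𝒮.p.obj x ⟶ U) :
    (a⁻¹).app x f = @inv _ _ _ _ (a.app x f) (a.isIso_app x f) := rfl

noncomputable instance : Group (Cen 𝒮 U) :=
  Group.ofLeftAxioms
    (fun a b c => by
      apply Cen.ext
      funext x f
      simp only [mul_app, Category.assoc])
    (fun a => by
      apply Cen.ext
      funext x f
      simp only [mul_app, one_app, Category.comp_id])
    (fun a => by
      apply Cen.ext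
      funext x f
      haveI := a.isIso_app x f
      simp only [mul_app, one_app, inv_app, IsIso.hom_inv_id])

/-- restriction along a morphism of the base -/
def res {V : C} (g : V ⟶ U) (a : Cen 𝒮 U) : Cen 𝒮 V where
  app x f := a.app x (f ≫ g)
  lift x f := a.lift x (f ≫ g)
  nat φ f := by
    rw [Category.assoc]
    exact a.nat φ (f ≫ g)

omit h𝒮 in
theorem res_app {V : C} (g : V ⟶ U) (a : Cen 𝒮 U) (x : 𝒮.obj) (f : 𝒮.p.obj x ⟶ V) :
    (a.res g).app x f = a.app x (f ≫ g) := rfl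

/-- restriction as a group homomorphism -/
noncomputable def resHom {V : C} (g : V ⟶ U) : Cen 𝒮 U →* Cen 𝒮 V where
  toFun := res g
  map_one' := by
    apply Cen.ext
    rfl
  map_mul' a b := by
    apply Cen.ext
    rfl

end Cen

variable (𝒮) in
/-- the presheaf of groups of central automorphisms -/
noncomputable def cenPsh [IsFibGrpd 𝒮.p] : Cᵒᵖ ⥤ GrpCat.{max u₂ v₂ v} where
  obj U := GrpCat.of (Cen 𝒮 U.unop)
  map g := GrpCat.ofHom (Cen.resHom g.unop)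
  map_id U := by
    ext a x f
    change a.app x (f ≫ 𝟙 _) = a.app x f
    rw [Category.comp_id]
  map_comp g g' := by
    ext a x f
    change a.app x (f ≫ g'.unop ≫ g.unop) = a.app x ((f ≫ g'.unop) ≫ g.unop)
    rw [Category.assoc]

section Sheaf

variable (J : GrothendieckTopology C) (hst : Stk.IsStack J 𝒮)

/-- membership transported along a lift -/
theorem mem_of_isHomLift {U : C} (R : Sieve U) {x s : 𝒮.obj} (f : 𝒮.p.obj x ⟶ U) {W : C}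
    (g : W ⟶ 𝒮.p.obj x) (hg : R (g ≫ f)) (ψ : s ⟶ x) (hψ : 𝒮.p.IsHomLift g ψ) :
    R (𝒮.p.map ψ ≫ f) := by
  have hW := IsHomLift.domain_eq 𝒮.p g ψ
  subst hW
  have := IsHomLift.eq_of_isHomLift 𝒮.p g ψ
  rw [← this]
  exact hg

include hst in
theorem Cen.ext_of_locally {U : C} (R : Sieve U) (hR : R ∈ J U) (a b : Cen 𝒮 U)
    (h : ∀ ⦃V : C⦄ (g : V ⟶ U), R g → a.res g = b.res g) : a = b := by
  apply Cen.ext
  funext x f
  have hS : R.pullback f ∈ J (𝒮.p.obj x) := J.pullback_stable f hR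
  have hE : (Stk.resSieve (R.pullback f) 𝒮).IsEquivalence := hst.2 _ hS
  apply hom_ext_of_locally' hst.1 rfl (R.pullback f) inferInstance (𝟙 _) _ _ (a.lift x f) (b.lift x f)
  intro W g hg s ψ hψ
  have hm : R (𝒮.p.map ψ ≫ f) := mem_of_isHomLift R f g hg ψ hψ
  have e := congrArg (fun c : Cen 𝒮 _ => c.app s (𝟙 _)) (h _ hm)
  simp only [Cen.res_app, Category.id_comp] at e
  rw [← a.nat ψ f, ← b.nat ψ f, e]

theorem fam_congr {U : C} (R : Sieve U) (fam : ∀ ⦃V : C⦄ (g : V ⟶ U), R g → Cen 𝒮 V) {V : C}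
    {g₁ g₂ : V ⟶ U} (e : g₁ = g₂) (h₁ : R g₁) (h₂ : R g₂) : fam g₁ h₁ = fam g₂ h₂ := by
  subst e
  rfl

include hst in
theorem exists_glueApp {U : C} (R : Sieve U) (hR : R ∈ J U)
    (fam : ∀ ⦃V : C⦄ (g : V ⟶ U), R g → Cen 𝒮 V)
    (hfam : ∀ ⦃V W : C⦄ (g : V ⟶ U) (l : W ⟶ V) (hg : R g),
      fam (l ≫ g) (R.downward_closed hg l) = (fam g hg).res l)
    (x : 𝒮.obj) (f : 𝒮.p.obj x ⟶ U) :
    ∃ κ : x ⟶ x, 𝒮.p.IsHomLift (𝟙 (𝒮.p.obj x)) κ ∧
      ∀ (s : 𝒮.obj) (ψ : s ⟶ x) (hψ : R (𝒮.p.map ψ ≫ f)),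
        ψ ≫ κ = (fam (𝒮.p.map ψ ≫ f) hψ).app s (𝟙 _) ≫ ψ := by
  have hS : R.pullback f ∈ J (𝒮.p.obj x) := J.pullback_stable f hR
  have hE : (Stk.resSieve (R.pullback f) 𝒮).IsEquivalence := hst.2 _ hS
  obtain ⟨κ, hκ1, hκ2⟩ := exists_glue' hst.1 (x := x) (y := x) rfl rfl (R.pullback f) inferInstance
    (fun W g hg s ψ hψ => (fam (𝒮.p.map ψ ≫ f) (mem_of_isHomLift R f g hg ψ hψ)).app s (𝟙 _) ≫ ψ)
    (by
      intro W g hg s ψ hψ
      have hW := IsHomLift.domain_eq 𝒮.p g ψ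
      have h1 := (fam (𝒮.p.map ψ ≫ f) (mem_of_isHomLift R f g hg ψ hψ)).lift s (𝟙 _)
      have h2 : 𝒮.p.IsHomLift (𝟙 W)
          ((fam (𝒮.p.map ψ ≫ f) (mem_of_isHomLift R f g hg ψ hψ)).app s (𝟙 _)) :=
        isHomLift_id_of_eq 𝒮.p hW _
      exact isHomLift_comp_id_left 𝒮.p g _ _ h2 hψ)
    (by
      intro W W' g hg l s ψ hψ s' m hm hmψ
      have e1 : 𝒮.p.map (m ≫ ψ) ≫ f = 𝒮.p.map m ≫ 𝒮.p.map ψ ≫ f := by
        rw [Functor.map_comp, Category.assoc]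
      have hmem := mem_of_isHomLift R f g hg ψ hψ
      have e2 := (fam_congr R fam e1 (mem_of_isHomLift R f (l ≫ g) ((R.pullback f).downward_closed hg l) (m ≫ ψ) hmψ)
        (R.downward_closed hmem _)).trans (hfam _ (𝒮.p.map m) hmem)
      change (fam _ _).app s' (𝟙 _) ≫ m ≫ ψ = m ≫ (fam _ _).app s (𝟙 _) ≫ ψ
      rw [e2, Cen.res_app, Category.id_comp]
      have e3 := (fam _ hmem).nat m (𝟙 _)
      rw [Category.comp_id] at e3
      rw [← Category.assoc, e3, Category.assoc])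
  refine ⟨κ, hκ1, fun s ψ hψ => ?_⟩
  exact hκ2 (𝒮.p.map ψ) hψ s ψ inferInstance

/-- the glued central automorphism -/
noncomputable def glue {U : C} (R : Sieve U) (hR : R ∈ J U)
    (fam : ∀ ⦃V : C⦄ (g : V ⟶ U), R g → Cen 𝒮 V)
    (hfam : ∀ ⦃V W : C⦄ (g : V ⟶ U) (l : W ⟶ V) (hg : R g),
      fam (l ≫ g) (R.downward_closed hg l) = (fam g hg).res l) : Cen 𝒮 U where
  app x f := (exists_glueApp J hst R hR fam hfam x f).choose
  lift x f := (exists_glueApp J hst R hR fam hfam x f).choose_spec.1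
  nat {x' x} φ f := by
    have hS : R.pullback (𝒮.p.map φ ≫ f) ∈ J (𝒮.p.obj x') := J.pullback_stable _ hR
    have hE : (Stk.resSieve (R.pullback (𝒮.p.map φ ≫ f)) 𝒮).IsEquivalence := hst.2 _ hS
    have l1 := (exists_glueApp J hst R hR fam hfam x' (𝒮.p.map φ ≫ f)).choose_spec.1
    have l2 := (exists_glueApp J hst R hR fam hfam x f).choose_spec.1
    have s1 := (exists_glueApp J hst R hR fam hfam x' (𝒮.p.map φ ≫ f)).choose_spec.2
    have s2 := (exists_glueApp J hst R hR fam hfam x f).choose_spec.2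
    have hφ : 𝒮.p.IsHomLift (𝒮.p.map φ) φ := inferInstance
    apply hom_ext_of_locally' hst.1 rfl (R.pullback (𝒮.p.map φ ≫ f)) inferInstance (𝒮.p.map φ) _ _
      (isHomLift_comp_id_left 𝒮.p _ _ _ l1 hφ) (isHomLift_comp_id_right 𝒮.p _ _ _ hφ l2)
    intro W g hg s ψ hψ
    have hm : R (𝒮.p.map ψ ≫ 𝒮.p.map φ ≫ f) := mem_of_isHomLift R _ g hg ψ hψ
    have e1 : 𝒮.p.map (ψ ≫ φ) ≫ f = 𝒮.p.map ψ ≫ 𝒮.p.map φ ≫ f := by
      rw [Functor.map_comp, Category.assoc]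
    have hm' : R (𝒮.p.map (ψ ≫ φ) ≫ f) := by rw [e1]; exact hm
    rw [← Category.assoc, s1 s ψ hm, ← Category.assoc ψ, s2 s (ψ ≫ φ) hm', fam_congr R fam e1 hm' hm,
      Category.assoc]

theorem glue_spec {U : C} (R : Sieve U) (hR : R ∈ J U)
    (fam : ∀ ⦃V : C⦄ (g : V ⟶ U), R g → Cen 𝒮 V)
    (hfam : ∀ ⦃V W : C⦄ (g : V ⟶ U) (l : W ⟶ V) (hg : R g),
      fam (l ≫ g) (R.downward_closed hg l) = (fam g hg).res l)
    {V : C} (g : V ⟶ U) (hg : R g) : (glue J hst R hR fam hfam).res g = fam g hg := by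
  apply Cen.ext
  funext x f'
  change (exists_glueApp J hst R hR fam hfam x (f' ≫ g)).choose = (fam g hg).app x f'
  have hS : R.pullback (f' ≫ g) ∈ J (𝒮.p.obj x) := J.pullback_stable _ hR
  have hE : (Stk.resSieve (R.pullback (f' ≫ g)) 𝒮).IsEquivalence := hst.2 _ hS
  have l1 := (exists_glueApp J hst R hR fam hfam x (f' ≫ g)).choose_spec.1
  have s1 := (exists_glueApp J hst R hR fam hfam x (f' ≫ g)).choose_spec.2
  apply hom_ext_of_locally' hst.1 rfl (R.pullback (f' ≫ g)) inferInstance (𝟙 _) _ _ l1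
    ((fam g hg).lift x f')
  intro W g' hg' s ψ hψ
  have hm : R (𝒮.p.map ψ ≫ f' ≫ g) := mem_of_isHomLift R _ g' hg' ψ hψ
  have e1 : 𝒮.p.map ψ ≫ f' ≫ g = (𝒮.p.map ψ ≫ f') ≫ g := (Category.assoc _ _ _).symm
  have e2 := (fam_congr R fam e1 hm (R.downward_closed hg _)).trans (hfam g (𝒮.p.map ψ ≫ f') hg)
  rw [s1 s ψ hm, e2, Cen.res_app, Category.id_comp]
  exact (fam g hg).nat ψ f'

end Sheaf

section SheafU

variable {𝒯 : BasedCategory.{v, max u v} C} (J : GrothendieckTopology C) (hst : Stk.IsStack J 𝒯)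

include hst in
/-- **The presheaf of central automorphisms of a stack is a sheaf.** -/
theorem isSheaf_cenPsh [IsFibGrpd 𝒯.p] : Presheaf.IsSheaf J (cenPsh 𝒯) := by
  rw [Presheaf.isSheaf_iff_isSheaf_forget J (cenPsh 𝒯) (forget GrpCat), isSheaf_iff_isSheaf_of_type]
  intro U R hR fam hfam
  have hsc := hfam.to_sieveCompatible
  let fam' : ∀ ⦃V : C⦄ (g : V ⟶ U), R g → Cen 𝒯 V := fun V g hg => fam g hg
  have hfam' : ∀ ⦃V W : C⦄ (g : V ⟶ U) (l : W ⟶ V) (hg : R g),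
      fam' (l ≫ g) (R.downward_closed hg l) = (fam' g hg).res l := fun V W g l hg => hsc g l hg
  refine ⟨glue J hst R hR fam' hfam', ?_, ?_⟩
  · intro V g hg
    exact glue_spec J hst R hR fam' hfam' g hg
  · intro t ht
    apply Cen.ext_of_locally J hst R hR
    intro V g hg
    exact (ht g hg).trans (glue_spec J hst R hR fam' hfam' g hg).symm

end SheafU

section Band

variable (h𝒮 : IsFibGrpd 𝒮.p)

/-- the sieve of arrows `h` into the base of `y` over which some object maps to `y` over `h` and to `x` over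
`h ≫ f` -/
def pbSieve (x y : 𝒮.obj) (f : 𝒮.p.obj y ⟶ 𝒮.p.obj x) : Sieve (𝒮.p.obj y) where
  arrows W h := ∃ (x₀ : 𝒮.obj) (c : x₀ ⟶ y) (d : x₀ ⟶ x), 𝒮.p.IsHomLift h c ∧ 𝒮.p.IsHomLift (h ≫ f) d
  downward_closed := by
    rintro V W h ⟨x₀, c, d, hc, hd⟩ l
    have hV : 𝒮.p.obj x₀ = V := IsHomLift.domain_eq 𝒮.p h c
    obtain ⟨x₁, m, hm⟩ := exists_lift_of_eq h𝒮 hV l
    refine ⟨x₁, m ≫ c, m ≫ d, isHomLift_comp' 𝒮.p l h m c hm hc, ?_⟩
    have := isHomLift_comp' 𝒮.p l (h ≫ f) m d hm hd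
    rw [← Category.assoc] at this
    exact this

variable (J : GrothendieckTopology C)

theorem pbSieve_mem (hgb : LocSurjHom J (toSelf 𝒮)) (x y : 𝒮.obj) (f : 𝒮.p.obj y ⟶ 𝒮.p.obj x) :
    pbSieve h𝒮 x y f ∈ J (𝒮.p.obj y) := by
  obtain ⟨xf, cu, hcu⟩ := h𝒮.exists_lift (x := x) f
  have hxf : 𝒮.p.obj xf = 𝒮.p.obj y := IsHomLift.domain_eq 𝒮.p f cu
  obtain ⟨R, hR, hR'⟩ := locIso J hgb y xf rfl hxf
  refine J.superset_covering ?_ hR
  intro V h hh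
  obtain ⟨x₀, a, b, ha, hb⟩ := hR' h hh
  exact ⟨x₀, a, b ≫ cu, ha, isHomLift_comp' 𝒮.p h f b cu hb hcu⟩

include h𝒮 in
theorem exists_hom_of_mem {x y : 𝒮.obj} {f : 𝒮.p.obj y ⟶ 𝒮.p.obj x} {W : C} {h : W ⟶ 𝒮.p.obj y}
    (hh : pbSieve h𝒮 x y f h) (s : 𝒮.obj) (ψ : s ⟶ y) (hψ : 𝒮.p.IsHomLift h ψ) :
    ∃ d : s ⟶ x, 𝒮.p.map d = 𝒮.p.map ψ ≫ f := by
  obtain ⟨x₀, c, d, hc, hd⟩ := hh
  obtain ⟨ι, hι1, hι2⟩ := exists_comparison h𝒮 h c hc ψ hψ
  have hd' : 𝒮.p.IsHomLift (h ≫ f) (ι.hom ≫ d) := isHomLift_comp_id_left 𝒮.p _ _ _ hι1 hd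
  refine ⟨ι.hom ≫ d, ?_⟩
  have hW := IsHomLift.domain_eq 𝒮.p h ψ
  subst hW
  rw [← IsHomLift.eq_of_isHomLift 𝒮.p h ψ]
  exact (IsHomLift.eq_of_isHomLift 𝒮.p (h ≫ f) (ι.hom ≫ d)).symm

include h𝒮 in
theorem cancel_cart {s' s x : 𝒮.obj} (d : s ⟶ x) (χ χ' : s' ⟶ s) (e0 : 𝒮.p.map χ = 𝒮.p.map χ')
    (e : χ ≫ d = χ' ≫ d) : χ = χ' := by
  haveI := h𝒮.isStronglyCartesian d
  have h1 : 𝒮.p.IsHomLift (𝒮.p.map χ) χ := inferInstance
  have h2 : 𝒮.p.IsHomLift (𝒮.p.map χ) χ' := by rw [e0]; infer_instance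
  exact IsStronglyCartesian.ext 𝒮.p (𝒮.p.map d) d (𝒮.p.map χ) e

theorem map_eq_id_of_lift {s : 𝒮.obj} (χ : s ⟶ s) (hχ : 𝒮.p.IsHomLift (𝟙 (𝒮.p.obj s)) χ) :
    𝒮.p.map χ = 𝟙 _ := (IsHomLift.eq_of_isHomLift 𝒮.p (𝟙 _) χ).symm

variable {x : 𝒮.obj} (β : x ⟶ x) (hβ : 𝒮.p.IsHomLift (𝟙 (𝒮.p.obj x)) β)

/-- `χ` is the pullback of `β` along some morphism `s ⟶ x` over `u` -/
def IsPbOver (s : 𝒮.obj) (u : 𝒮.p.obj s ⟶ 𝒮.p.obj x) (χ : s ⟶ s) : Prop :=
  𝒮.p.IsHomLift (𝟙 (𝒮.p.obj s)) χ ∧ ∃ d : s ⟶ x, 𝒮.p.map d = u ∧ χ ≫ d = d ≫ β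

include h𝒮 hβ in
theorem exists_pb {s : 𝒮.obj} (d : s ⟶ x) :
    ∃ χ : s ⟶ s, 𝒮.p.IsHomLift (𝟙 (𝒮.p.obj s)) χ ∧ χ ≫ d = d ≫ β := by
  haveI cd := h𝒮.isStronglyCartesian d
  have hd : 𝒮.p.IsHomLift (𝒮.p.map d) d := inferInstance
  have h1 : 𝒮.p.IsHomLift (𝟙 (𝒮.p.obj s) ≫ 𝒮.p.map d) (d ≫ β) := by
    rw [Category.id_comp]
    exact isHomLift_comp_id_right 𝒮.p _ _ _ hd hβ
  exact ⟨IsStronglyCartesian.map 𝒮.p (𝒮.p.map d) d (g := 𝟙 _) rfl (d ≫ β), inferInstance,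
    IsStronglyCartesian.fac _ _ _ _ _⟩

variable (hcomm : ∀ (s : 𝒮.obj) (χ γ : s ⟶ s), 𝒮.p.IsHomLift (𝟙 (𝒮.p.obj s)) χ →
  𝒮.p.IsHomLift (𝟙 (𝒮.p.obj s)) γ → χ ≫ γ = γ ≫ χ)

include h𝒮 hcomm in
theorem isPbOver_unique {s : 𝒮.obj} {u : 𝒮.p.obj s ⟶ 𝒮.p.obj x} {χ χ' : s ⟶ s}
    (h : IsPbOver β s u χ) (h' : IsPbOver β s u χ') : χ = χ' := by
  obtain ⟨hχ, d, hd, e⟩ := h
  obtain ⟨hχ', d', hd', e'⟩ := h'
  have hdl : 𝒮.p.IsHomLift u d := by rw [← hd]; infer_instance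
  have hdl' : 𝒮.p.IsHomLift u d' := by rw [← hd']; infer_instance
  obtain ⟨γ, hγ1, hγ2⟩ := exists_comparison h𝒮 u d hdl d' hdl'
  have e1 : (χ' ≫ γ.hom) ≫ d = (γ.hom ≫ χ) ≫ d := by
    calc (χ' ≫ γ.hom) ≫ d = χ' ≫ d' := by rw [Category.assoc, hγ2]
      _ = d' ≫ β := e'
      _ = γ.hom ≫ d ≫ β := by rw [← hγ2, Category.assoc]
      _ = γ.hom ≫ χ ≫ d := by rw [e]
      _ = (γ.hom ≫ χ) ≫ d := (Category.assoc _ _ _).symm
  have e2 : χ' ≫ γ.hom = γ.hom ≫ χ := by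
    apply cancel_cart h𝒮 d _ _ _ e1
    rw [Functor.map_comp, Functor.map_comp, map_eq_id_of_lift χ hχ, map_eq_id_of_lift χ' hχ',
      map_eq_id_of_lift γ.hom hγ1]
  have e3 := hcomm s χ γ.hom hχ hγ1
  have e4 : χ' ≫ γ.hom = χ ≫ γ.hom := e2.trans e3.symm
  exact ((cancel_mono γ.hom).1 e4).symm

include h𝒮 hβ hcomm in
theorem isPbOver_natural {s' s : 𝒮.obj} (m : s' ⟶ s) {u : 𝒮.p.obj s ⟶ 𝒮.p.obj x} {χ : s ⟶ s}
    {χ' : s' ⟶ s'} (h : IsPbOver β s u χ) (h' : IsPbOver β s' (𝒮.p.map m ≫ u) χ') :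
    χ' ≫ m = m ≫ χ := by
  obtain ⟨hχ, d, hd, e⟩ := h
  obtain ⟨χ'', hχ'', e''⟩ := exists_pb h𝒮 β hβ (m ≫ d)
  have h'' : IsPbOver β s' (𝒮.p.map m ≫ u) χ'' :=
    ⟨hχ'', m ≫ d, by rw [Functor.map_comp, hd], e''⟩
  have e0 : χ' = χ'' := isPbOver_unique h𝒮 β hcomm h' h''
  subst e0
  apply cancel_cart h𝒮 d
  · rw [Functor.map_comp, Functor.map_comp, map_eq_id_of_lift χ hχ, map_eq_id_of_lift χ' hχ'',
      Category.id_comp, Category.comp_id]
  · rw [Category.assoc, e'', Category.assoc, Category.assoc, e]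

/-- the specification of the value at `(y, f)` of the central automorphism extending `β` -/
def Spec (y : 𝒮.obj) (f : 𝒮.p.obj y ⟶ 𝒮.p.obj x) (κ : y ⟶ y) : Prop :=
  𝒮.p.IsHomLift (𝟙 (𝒮.p.obj y)) κ ∧ ∀ (s : 𝒮.obj) (ψ : s ⟶ y) (χ : s ⟶ s),
    IsPbOver β s (𝒮.p.map ψ ≫ f) χ → ψ ≫ κ = χ ≫ ψ

variable (hst : Stk.IsStack J 𝒮) (hgb : LocSurjHom J (toSelf 𝒮))

include hst hgb hβ hcomm in
theorem exists_spec (y : 𝒮.obj) (f : 𝒮.p.obj y ⟶ 𝒮.p.obj x) : ∃ κ : y ⟶ y, Spec β y f κ := by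
  have hS := pbSieve_mem hst.1 J hgb x y f
  have hE : (Stk.resSieve (pbSieve hst.1 x y f) 𝒮).IsEquivalence := hst.2 _ hS
  have hex : ∀ ⦃W : C⦄ (h : W ⟶ 𝒮.p.obj y), pbSieve hst.1 x y f h → ∀ (s : 𝒮.obj) (ψ : s ⟶ y),
      𝒮.p.IsHomLift h ψ → ∃ χ : s ⟶ s, IsPbOver β s (𝒮.p.map ψ ≫ f) χ := by
    intro W h hh s ψ hψ
    obtain ⟨d, hd⟩ := exists_hom_of_mem hst.1 hh s ψ hψ
    obtain ⟨χ, hχ, e⟩ := exists_pb hst.1 β hβ d
    exact ⟨χ, hχ, d, hd, e⟩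
  choose χ hχ using hex
  obtain ⟨κ, hκ1, hκ2⟩ := exists_glue' hst.1 (x := y) (y := y) rfl rfl (pbSieve hst.1 x y f) inferInstance
    (fun W h hh s ψ hψ => χ h hh s ψ hψ ≫ ψ)
    (by
      intro W h hh s ψ hψ
      have hW := IsHomLift.domain_eq 𝒮.p h ψ
      have h1 := (hχ h hh s ψ hψ).1
      have h2 : 𝒮.p.IsHomLift (𝟙 W) (χ h hh s ψ hψ) := isHomLift_id_of_eq 𝒮.p hW _
      exact isHomLift_comp_id_left 𝒮.p h _ _ h2 hψ)
    (by
      intro W W' h hh l s ψ hψ s' m hm hmψ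
      have h1 := hχ h hh s ψ hψ
      have h2 := hχ (l ≫ h) ((pbSieve hst.1 x y f).downward_closed hh l) s' (m ≫ ψ) hmψ
      rw [Functor.map_comp, Category.assoc] at h2
      have e := isPbOver_natural hst.1 β hβ hcomm m h1 h2
      change χ _ _ s' (m ≫ ψ) hmψ ≫ m ≫ ψ = m ≫ χ h hh s ψ hψ ≫ ψ
      rw [← Category.assoc, e, Category.assoc])
  refine ⟨κ, hκ1, fun s ψ χ₀ hχ₀ => ?_⟩
  obtain ⟨hχ₀1, d, hd, e⟩ := hχ₀
  have hψ : 𝒮.p.IsHomLift (𝒮.p.map ψ) ψ := inferInstance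
  have hmem : pbSieve hst.1 x y f (𝒮.p.map ψ) :=
    ⟨s, ψ, d, hψ, by rw [← hd]; infer_instance⟩
  rw [hκ2 (𝒮.p.map ψ) hmem s ψ hψ]
  congr 1
  exact isPbOver_unique hst.1 β hcomm (hχ _ hmem s ψ hψ) ⟨hχ₀1, d, hd, e⟩

/-- the central automorphism extending an automorphism `β` of `x` -/
noncomputable def ofEnd : Cen 𝒮 (𝒮.p.obj x) where
  app y f := (exists_spec J β hβ hcomm hst hgb y f).choose
  lift y f := (exists_spec J β hβ hcomm hst hgb y f).choose_spec.1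
  nat {y' y} φ f := by
    have hS := pbSieve_mem hst.1 J hgb x y' (𝒮.p.map φ ≫ f)
    have hE : (Stk.resSieve (pbSieve hst.1 x y' (𝒮.p.map φ ≫ f)) 𝒮).IsEquivalence := hst.2 _ hS
    have l1 := (exists_spec J β hβ hcomm hst hgb y' (𝒮.p.map φ ≫ f)).choose_spec.1
    have l2 := (exists_spec J β hβ hcomm hst hgb y f).choose_spec.1
    have s1 := (exists_spec J β hβ hcomm hst hgb y' (𝒮.p.map φ ≫ f)).choose_spec.2
    have s2 := (exists_spec J β hβ hcomm hst hgb y f).choose_spec.2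
    have hφ : 𝒮.p.IsHomLift (𝒮.p.map φ) φ := inferInstance
    apply hom_ext_of_locally' hst.1 rfl (pbSieve hst.1 x y' (𝒮.p.map φ ≫ f)) inferInstance (𝒮.p.map φ) _ _
      (isHomLift_comp_id_left 𝒮.p _ _ _ l1 hφ) (isHomLift_comp_id_right 𝒮.p _ _ _ hφ l2)
    intro W h hh s ψ hψ
    obtain ⟨d, hd⟩ := exists_hom_of_mem hst.1 hh s ψ hψ
    obtain ⟨χ, hχ, e⟩ := exists_pb hst.1 β hβ d
    have h1 : IsPbOver β s (𝒮.p.map ψ ≫ 𝒮.p.map φ ≫ f) χ := ⟨hχ, d, hd, e⟩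
    have h2 : IsPbOver β s (𝒮.p.map (ψ ≫ φ) ≫ f) χ := by
      rw [Functor.map_comp, Category.assoc]
      exact h1
    rw [← Category.assoc, s1 s ψ χ h1, ← Category.assoc ψ, s2 s (ψ ≫ φ) χ h2, Category.assoc]

theorem ofEnd_app_self : (ofEnd J β hβ hcomm hst hgb).app x (𝟙 _) = β := by
  have s1 := (exists_spec J β hβ hcomm hst hgb x (𝟙 _)).choose_spec.2
  have h1 : IsPbOver β x (𝒮.p.map (𝟙 x) ≫ 𝟙 _) β :=
    ⟨hβ, 𝟙 x, by rw [Category.comp_id], (Category.comp_id β).trans (Category.id_comp β).symm⟩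
  have := s1 x (𝟙 x) β h1
  rw [Category.id_comp, Category.comp_id] at this
  exact this

end Band

section Eval

variable [h𝒮 : IsFibGrpd 𝒮.p] (J : GrothendieckTopology C)

/-- evaluation of a central automorphism at an object -/
noncomputable def evalHom (x : 𝒮.obj) : Cen 𝒮 (𝒮.p.obj x) →* AutO x where
  toFun a := GerbeAut.autOfHom h𝒮 x (a.app x (𝟙 _)) (a.lift x (𝟙 _))
  map_one' := by
    apply Aut.ext
    apply Functor.Fiber.hom_ext
    rfl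
  map_mul' a b := by
    apply Aut.ext
    apply Functor.Fiber.hom_ext
    rfl

theorem evalHom_hom (x : 𝒮.obj) (a : Cen 𝒮 (𝒮.p.obj x)) : (evalHom x a).hom.1 = a.app x (𝟙 _) := rfl

variable (hst : Stk.IsStack J 𝒮) (hgb : LocSurjHom J (toSelf 𝒮))

include hst hgb in
theorem evalHom_injective (x : 𝒮.obj) : Function.Injective (evalHom (𝒮 := 𝒮) x) := by
  intro a b hab
  have e0 : a.app x (𝟙 _) = b.app x (𝟙 _) := congrArg (fun α : AutO x => α.hom.1) hab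
  apply Cen.ext
  funext y f
  have hS := pbSieve_mem hst.1 J hgb x y f
  have hE : (Stk.resSieve (pbSieve hst.1 x y f) 𝒮).IsEquivalence := hst.2 _ hS
  apply hom_ext_of_locally' hst.1 rfl (pbSieve hst.1 x y f) inferInstance (𝟙 _) _ _ (a.lift y f)
    (b.lift y f)
  intro W h hh s ψ hψ
  obtain ⟨d, hd⟩ := exists_hom_of_mem hst.1 hh s ψ hψ
  have e1 := a.nat d (𝟙 _)
  have e2 := b.nat d (𝟙 _)
  rw [Category.comp_id, hd] at e1 e2
  have e3 : a.app s (𝒮.p.map ψ ≫ f) = b.app s (𝒮.p.map ψ ≫ f) := by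
    apply cancel_cart hst.1 d
    · rw [map_eq_id_of_lift _ (a.lift s _), map_eq_id_of_lift _ (b.lift s _)]
    · rw [e1, e2, e0]
  rw [← a.nat ψ f, ← b.nat ψ f, e3]

variable (hcomm : ∀ (s : 𝒮.obj) (χ γ : s ⟶ s), 𝒮.p.IsHomLift (𝟙 (𝒮.p.obj s)) χ →
  𝒮.p.IsHomLift (𝟙 (𝒮.p.obj s)) γ → χ ≫ γ = γ ≫ χ)

include hst hgb hcomm in
theorem evalHom_surjective (x : 𝒮.obj) : Function.Surjective (evalHom (𝒮 := 𝒮) x) := by
  intro α
  refine ⟨ofEnd J α.hom.1 α.hom.2 hcomm hst hgb, ?_⟩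
  apply Aut.ext
  apply Functor.Fiber.hom_ext
  exact ofEnd_app_self J α.hom.1 α.hom.2 hcomm hst hgb

/-- **The banding of an abelian gerbe by its sheaf of central automorphisms.** -/
noncomputable def banding : Banding 𝒮 (cenPsh 𝒮) where
  iso x := MulEquiv.ofBijective (evalHom (𝒮 := 𝒮) x)
    ⟨evalHom_injective J hst hgb x, evalHom_surjective J hst hgb hcomm x⟩
  natural {x' x} φ a := by
    change ((a : Cen 𝒮 (𝒮.p.obj x)).res (𝒮.p.map φ)).app x' (𝟙 _) ≫ φ = φ ≫ (a : Cen 𝒮 (𝒮.p.obj x)).app x (𝟙 _)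
    rw [Cen.res_app, Category.id_comp]
    have := (a : Cen 𝒮 (𝒮.p.obj x)).nat φ (𝟙 _)
    rw [Category.comp_id] at this
    exact this

include hcomm in
theorem cen_comm {U : C} (a b : Cen 𝒮 U) : a * b = b * a := by
  apply Cen.ext
  funext y f
  exact hcomm y (b.app y f) (a.app y f) (b.lift y f) (a.lift y f)

end Eval

end Groth.Agent.Lib.Helper65.GerbeBand
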