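import Groth.Prelude.Def_StGerb2
import Groth.Agent.Lib.Helper65.GerbeLocal
import Groth.Agent.Lib.Helper65.GerbeAut

/-!
# Helper65: an endofunctor of a gerbe with a global object, acting trivially by conjugation on its
automorphism sheaf, is fibrewise isomorphic to the identity
-/

set_option autoImplicit false
set_option backward.isDefEq.respectTransparency false
set_option backward.isDefEq.respectTransparency.types false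

universe v₂ u₂ v u

open CategoryTheory CategoryTheory.Functor

namespace Groth.Agent.Lib.Helper65.GerbeConj

open FibCat Gerb Groth.Agent.Lib.Helper31 Groth.Agent.Lib.Helper65 Groth.Agent.Lib.Helper65.GerbeLocal
open Groth.Agent.Lib.Helper65.GlueHom

variable {C : Type u} [Category.{v} C] (J : GrothendieckTopology C)
  {𝒳 : BasedCategory.{v₂, u₂} C} (φ : 𝒳 ⥤ᵇ 𝒳) (s : 𝒳.obj) (g : φ.obj s ⟶ s)

/-- the conjugation hypothesis, for endomorphisms over identities -/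
def Conj : Prop :=
  ∀ (x' : 𝒳.obj) (c : x' ⟶ s) (g' : φ.obj x' ⟶ x'), 𝒳.p.IsHomLift (𝟙 (𝒳.p.obj x')) g' →
    φ.map c ≫ g = g' ≫ c → ∀ χ : x' ⟶ x', 𝒳.p.IsHomLift (𝟙 (𝒳.p.obj x')) χ → φ.map χ ≫ g' = g' ≫ χ

/-- `γ` is the pullback of `g` to `x'` -/
def IsGam (x' : 𝒳.obj) (γ : φ.obj x' ⟶ x') : Prop :=
  𝒳.p.IsHomLift (𝟙 (𝒳.p.obj x')) γ ∧ ∃ c : x' ⟶ s, φ.map c ≫ g = γ ≫ c

variable (h𝒳 : IsFibGrpd 𝒳.p) (hg : 𝒳.p.IsHomLift (𝟙 (𝒳.p.obj s)) g)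

include h𝒳 hg in
theorem exists_isGam (x' : 𝒳.obj) (c : x' ⟶ s) : ∃ γ, IsGam φ s g x' γ ∧ φ.map c ≫ g = γ ≫ c := by
  have cc : 𝒳.p.IsStronglyCartesian (𝒳.p.map c) c := h𝒳.isStronglyCartesian c
  have h1 : 𝒳.p.IsHomLift (𝒳.p.map c) (φ.map c) := inferInstance
  have h2 : 𝒳.p.IsHomLift (𝟙 (𝒳.p.obj x') ≫ 𝒳.p.map c) (φ.map c ≫ g) := by
    rw [Category.id_comp]
    exact isHomLift_comp_id_right 𝒳.p _ _ _ h1 hg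
  refine ⟨IsStronglyCartesian.map 𝒳.p (𝒳.p.map c) c (g := 𝟙 (𝒳.p.obj x')) rfl (φ.map c ≫ g),
    ⟨inferInstance, c, ?_⟩, ?_⟩
  · exact (IsStronglyCartesian.fac _ _ _ _ _).symm
  · exact (IsStronglyCartesian.fac _ _ _ _ _).symm

variable (hs' : ∀ (T : C) (u u' : T ⟶ 𝒳.p.obj s), u = u') (hconj : Conj φ s g)

include h𝒳 hs' hconj in
theorem isGam_unique (x' : 𝒳.obj) (γ γ' : φ.obj x' ⟶ x') (h : IsGam φ s g x' γ) (h' : IsGam φ s g x' γ') :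
    γ = γ' := by
  obtain ⟨hγ, c, hc⟩ := h
  obtain ⟨hγ', c', hc'⟩ := h'
  have cc : 𝒳.p.IsStronglyCartesian (𝒳.p.map c) c := h𝒳.isStronglyCartesian c
  have cc' : 𝒳.p.IsStronglyCartesian (𝒳.p.map c') c' := h𝒳.isStronglyCartesian c'
  have e : 𝒳.p.map c' = 𝒳.p.map c := hs' _ _ _
  have h1 : 𝒳.p.IsHomLift (𝟙 (𝒳.p.obj x') ≫ 𝒳.p.map c) c' := by
    rw [Category.id_comp, ← e]; infer_instance
  -- `c' = α ≫ c`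
  have hα1 : 𝒳.p.IsHomLift (𝟙 (𝒳.p.obj x'))
      (IsStronglyCartesian.map 𝒳.p (𝒳.p.map c) c (g := 𝟙 (𝒳.p.obj x')) rfl c') := inferInstance
  have hα2 : IsStronglyCartesian.map 𝒳.p (𝒳.p.map c) c (g := 𝟙 (𝒳.p.obj x')) rfl c' ≫ c = c' :=
    IsStronglyCartesian.fac _ _ _ _ _
  have hcj := hconj x' c γ hγ hc _ hα1
  have key : γ' ≫ c' = γ ≫ c' := by
    rw [← hc']
    conv_lhs => rw [← hα2, φ.map_comp, Category.assoc, hc, ← Category.assoc, hcj, Category.assoc, hα2]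
  have i1 : 𝒳.p.IsHomLift (𝟙 (𝒳.p.obj (φ.obj x'))) γ := isHomLift_id_of_eq 𝒳.p (φ.w_obj x').symm γ
  have i2 : 𝒳.p.IsHomLift (𝟙 (𝒳.p.obj (φ.obj x'))) γ' := isHomLift_id_of_eq 𝒳.p (φ.w_obj x').symm γ'
  have cc'' : 𝒳.p.IsStronglyCartesian (eqToHom (φ.w_obj x') ≫ 𝒳.p.map c') c' := by
    have : 𝒳.p.IsHomLift (eqToHom (φ.w_obj x') ≫ 𝒳.p.map c') c' := inferInstance
    exact isStronglyCartesian_of_isFibGrpd 𝒳.p h𝒳 _ c'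
  exact (IsStronglyCartesian.ext 𝒳.p (eqToHom (φ.w_obj x') ≫ 𝒳.p.map c') c' (𝟙 _) key).symm

include h𝒳 hg hs' hconj in
theorem isGam_natural {x₀ x₁ : 𝒳.obj} (m : x₀ ⟶ x₁) (γ₀ : φ.obj x₀ ⟶ x₀) (γ₁ : φ.obj x₁ ⟶ x₁)
    (h₀ : IsGam φ s g x₀ γ₀) (h₁ : IsGam φ s g x₁ γ₁) : φ.map m ≫ γ₁ = γ₀ ≫ m := by
  obtain ⟨hγ₁, c₁, hc₁⟩ := h₁
  obtain ⟨γ₀', hγ₀', hc₀⟩ := exists_isGam φ s g h𝒳 hg x₀ (m ≫ c₁)
  have e0 : γ₀' = γ₀ := isGam_unique φ s g h𝒳 hs' hconj x₀ γ₀' γ₀ hγ₀' h₀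
  subst e0
  have key : (φ.map m ≫ γ₁) ≫ c₁ = (γ₀' ≫ m) ≫ c₁ := by
    rw [Category.assoc, ← hc₁, ← Category.assoc, ← φ.map_comp, hc₀, Category.assoc]
  have cc : 𝒳.p.IsStronglyCartesian (𝒳.p.map c₁) c₁ := h𝒳.isStronglyCartesian c₁
  have hm : 𝒳.p.IsHomLift (𝒳.p.map m) (φ.map m) := inferInstance
  have i1 : 𝒳.p.IsHomLift (𝒳.p.map m) (φ.map m ≫ γ₁) := isHomLift_comp_id_right 𝒳.p _ _ _ hm hγ₁
  have i2 : 𝒳.p.IsHomLift (𝒳.p.map m) (γ₀' ≫ m) :=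
    isHomLift_comp_id_left 𝒳.p _ _ _ h₀.1 inferInstance
  exact IsStronglyCartesian.ext 𝒳.p (𝒳.p.map c₁) c₁ (𝒳.p.map m) key

section Glue

variable (hst : Stk.IsStack J 𝒳) (hgb : LocSurjHom J (toSelf 𝒳))
  (hs : ∀ T : C, Nonempty (T ⟶ 𝒳.p.obj s))

/-- a local datum for `ψ'` -/
structure Datum (y : 𝒳.obj) {W : C} (g₀ : W ⟶ 𝒳.p.obj y) (t' : 𝒳.obj) (ψ' : t' ⟶ φ.obj y) where
  /-- an object below `s` -/
  x₀ : 𝒳.obj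
  /-- its map to `y` -/
  a : x₀ ⟶ y
  ha : 𝒳.p.IsHomLift g₀ a
  /-- the pullback of `g` -/
  γ₀ : φ.obj x₀ ⟶ x₀
  hγ₀ : IsGam φ s g x₀ γ₀
  /-- the comparison -/
  θ : t' ⟶ φ.obj x₀
  hθ : 𝒳.p.IsHomLift (𝟙 W) θ
  fac : θ ≫ φ.map a = ψ'

/-- the value of a datum -/
def Datum.val {y : 𝒳.obj} {W : C} {g₀ : W ⟶ 𝒳.p.obj y} {t' : 𝒳.obj} {ψ' : t' ⟶ φ.obj y}
    (d : Datum φ s g y g₀ t' ψ') : t' ⟶ y := d.θ ≫ d.γ₀ ≫ d.a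

include hg in
theorem exists_datum (y : 𝒳.obj) {W : C} (g₀ : W ⟶ 𝒳.p.obj y) (hg₀ : belowSieve hst.1 s y rfl g₀)
    (t' : 𝒳.obj) (ψ' : t' ⟶ φ.obj y) (hψ' : 𝒳.p.IsHomLift g₀ ψ') :
    Nonempty (Datum φ s g y g₀ t' ψ') := by
  obtain ⟨x₀, a, ha, ⟨c⟩⟩ := hg₀
  obtain ⟨γ₀, hγ₀, -⟩ := exists_isGam φ s g hst.1 hg x₀ c
  have hφa : 𝒳.p.IsHomLift g₀ (φ.map a) := inferInstance
  obtain ⟨θ, hθ1, hθ2⟩ := exists_comparison hst.1 g₀ (φ.map a) hφa ψ' hψ'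
  exact ⟨⟨x₀, a, ha, γ₀, hγ₀, θ.hom, hθ1, hθ2⟩⟩

theorem Datum.val_isHomLift {y : 𝒳.obj} {W : C} {g₀ : W ⟶ 𝒳.p.obj y} {t' : 𝒳.obj} {ψ' : t' ⟶ φ.obj y}
    (d : Datum φ s g y g₀ t' ψ') : 𝒳.p.IsHomLift g₀ d.val := by
  have := d.ha
  have hW : 𝒳.p.obj d.x₀ = W := IsHomLift.domain_eq 𝒳.p g₀ d.a
  have := d.hγ₀.1
  have h1 : 𝒳.p.IsHomLift (𝟙 W) d.γ₀ := isHomLift_id_of_eq 𝒳.p hW d.γ₀
  exact isHomLift_comp_id_left 𝒳.p g₀ _ _ d.hθ (isHomLift_comp_id_left 𝒳.p g₀ _ _ h1 d.ha)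

include hst hg hs' hconj in
/-- transition between data along a morphism -/
theorem Datum.val_comp {y : 𝒳.obj} {W W' : C} {g₀ : W ⟶ 𝒳.p.obj y} (l : W' ⟶ W) {t' t'' : 𝒳.obj}
    {ψ' : t' ⟶ φ.obj y} (m' : t'' ⟶ t') (hm' : 𝒳.p.IsHomLift l m')
    (d : Datum φ s g y g₀ t' ψ') (d₂ : Datum φ s g y (l ≫ g₀) t'' (m' ≫ ψ')) :
    d₂.val = m' ≫ d.val := by
  -- the morphism `d₂.x₀ ⟶ d.x₀`
  have ca : 𝒳.p.IsStronglyCartesian g₀ d.a := have := d.ha; isStronglyCartesian_of_isFibGrpd 𝒳.p hst.1 g₀ d.a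
  have := d₂.ha
  have hμ1 : 𝒳.p.IsHomLift l (IsStronglyCartesian.map 𝒳.p g₀ d.a (g := l) rfl d₂.a) := inferInstance
  have hμ2 : IsStronglyCartesian.map 𝒳.p g₀ d.a (g := l) rfl d₂.a ≫ d.a = d₂.a :=
    IsStronglyCartesian.fac _ _ _ _ _
  have nat := isGam_natural φ s g hst.1 hg hs' hconj
    (IsStronglyCartesian.map 𝒳.p g₀ d.a (g := l) rfl d₂.a) d₂.γ₀ d.γ₀ d₂.hγ₀ d.hγ₀
  -- comparison of the `θ`
  have hφa : 𝒳.p.IsHomLift g₀ (φ.map d.a) := inferInstance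
  have cφa : 𝒳.p.IsStronglyCartesian g₀ (φ.map d.a) := isStronglyCartesian_of_isFibGrpd 𝒳.p hst.1 g₀ _
  have eθ : d₂.θ ≫ φ.map (IsStronglyCartesian.map 𝒳.p g₀ d.a (g := l) rfl d₂.a) = m' ≫ d.θ := by
    have hφμ : 𝒳.p.IsHomLift l (φ.map (IsStronglyCartesian.map 𝒳.p g₀ d.a (g := l) rfl d₂.a)) :=
      inferInstance
    have i1 : 𝒳.p.IsHomLift l (d₂.θ ≫ φ.map (IsStronglyCartesian.map 𝒳.p g₀ d.a (g := l) rfl d₂.a)) :=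
      isHomLift_comp_id_left 𝒳.p l _ _ d₂.hθ hφμ
    have i2 : 𝒳.p.IsHomLift l (m' ≫ d.θ) := isHomLift_comp_id_right 𝒳.p l _ _ hm' d.hθ
    apply IsStronglyCartesian.ext 𝒳.p g₀ (φ.map d.a) l
    rw [Category.assoc, ← φ.map_comp, hμ2, d₂.fac, Category.assoc, d.fac]
  unfold Datum.val
  rw [← hμ2, ← Category.assoc d₂.γ₀, ← nat, ← Category.assoc, ← Category.assoc, eθ]
  simp only [Category.assoc]

include hst hg hs' hconj in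
theorem Datum.val_unique {y : 𝒳.obj} {W : C} {g₀ : W ⟶ 𝒳.p.obj y} {t' : 𝒳.obj} {ψ' : t' ⟶ φ.obj y}
    (d d' : Datum φ s g y g₀ t' ψ') : d'.val = d.val := by
  have := d.hθ
  have hW : 𝒳.p.obj t' = W := IsHomLift.domain_eq 𝒳.p (𝟙 W) d.θ
  have h1 : 𝒳.p.IsHomLift (𝟙 W) (𝟙 t') := IsHomLift.id hW
  let d'' : Datum φ s g y (𝟙 W ≫ g₀) t' (𝟙 t' ≫ ψ') :=
    ⟨d'.x₀, d'.a, by rw [Category.id_comp]; exact d'.ha, d'.γ₀, d'.hγ₀, d'.θ, d'.hθ,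
      by rw [Category.id_comp]; exact d'.fac⟩
  have h2 := Datum.val_comp J φ s g hg hs' hconj hst (𝟙 W) (𝟙 t') h1 d d''
  have h3 : d''.val = d'.val := rfl
  exact h3.symm.trans (h2.trans (Category.id_comp _))

include hst hgb hs hg hs' hconj in
theorem exists_rho (y : 𝒳.obj) : ∃ ρ : φ.obj y ⟶ y, 𝒳.p.IsHomLift (𝟙 (𝒳.p.obj y)) ρ ∧
    ∀ (x₀ : 𝒳.obj) (a : x₀ ⟶ y) (γ₀ : φ.obj x₀ ⟶ x₀), IsGam φ s g x₀ γ₀ → φ.map a ≫ ρ = γ₀ ≫ a := by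
  obtain ⟨u⟩ := hs (𝒳.p.obj y)
  have hR := belowSieve_mem J hst.1 hgb s y rfl u
  have hE : (Stk.resSieve (belowSieve hst.1 s y rfl) 𝒳).IsEquivalence := hst.2 _ hR
  obtain ⟨ρ, hρ1, hρ2⟩ := exists_glue' hst.1 (φ.w_obj y) rfl (belowSieve hst.1 s y rfl) inferInstance
    (fun W g₀ hg₀ t' ψ' hψ' => (exists_datum J φ s g hg hst y g₀ hg₀ t' ψ' hψ').some.val)
    (fun W g₀ hg₀ t' ψ' hψ' => Datum.val_isHomLift φ s g _)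
    (fun W W' g₀ hg₀ l t' ψ' hψ' t'' m' hm' hmψ =>
      Datum.val_comp J φ s g hg hs' hconj hst l m' hm' _ _)
  refine ⟨ρ, hρ1, ?_⟩
  intro x₀ a γ₀ hγ₀
  obtain ⟨c⟩ : Nonempty (x₀ ⟶ s) := ⟨hγ₀.2.choose⟩
  have hg₀ : belowSieve hst.1 s y rfl (𝒳.p.map a) := ⟨x₀, a, inferInstance, ⟨c⟩⟩
  have hφa : 𝒳.p.IsHomLift (𝒳.p.map a) (φ.map a) := inferInstance
  rw [hρ2 (𝒳.p.map a) hg₀ (φ.obj x₀) (φ.map a) hφa]
  let d : Datum φ s g y (𝒳.p.map a) (φ.obj x₀) (φ.map a) :=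
    ⟨x₀, a, inferInstance, γ₀, hγ₀, 𝟙 _, IsHomLift.id (φ.w_obj x₀), Category.id_comp _⟩
  have h1 := Datum.val_unique J φ s g hg hs' hconj hst d
    (exists_datum J φ s g hg hst y (𝒳.p.map a) hg₀ (φ.obj x₀) (φ.map a) hφa).some
  exact h1.trans (Category.id_comp _)

include hst hgb hs hg hs' hconj in
/-- **An endofunctor of a gerbe acting trivially by conjugation on the automorphisms of a global object is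
fibrewise isomorphic to the identity.** -/
theorem exists_fiberwise_iso : ∃ ρ : ∀ y : 𝒳.obj, φ.obj y ⟶ y,
    (∀ y, IsIso (ρ y) ∧ 𝒳.p.IsHomLift (𝟙 (𝒳.p.obj y)) (ρ y)) ∧
    (∀ (y y' : 𝒳.obj) (f : y ⟶ y'), 𝒳.p.IsHomLift (𝟙 (𝒳.p.obj y)) f → φ.map f ≫ ρ y' = ρ y ≫ f) := by
  choose ρ hρ1 hρ2 using exists_rho J φ s g hg hs' hconj hst hgb hs
  refine ⟨ρ, fun y => ⟨?_, hρ1 y⟩, ?_⟩
  · have := hρ1 y
    exact isIso_of_isHomLift_id hst.1 (ρ y) (isHomLift_id_of_eq 𝒳.p (φ.w_obj y).symm (ρ y))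
  intro y y' f hf
  obtain ⟨u⟩ := hs (𝒳.p.obj y)
  have hR := belowSieve_mem J hst.1 hgb s y rfl u
  have hE : (Stk.resSieve (belowSieve hst.1 s y rfl) 𝒳).IsEquivalence := hst.2 _ hR
  have hy' : 𝒳.p.obj y' = 𝒳.p.obj y := IsHomLift.codomain_eq 𝒳.p (𝟙 _) f
  have hφf : 𝒳.p.IsHomLift (𝟙 (𝒳.p.obj y)) (φ.map f) := inferInstance
  have hρy' : 𝒳.p.IsHomLift (𝟙 (𝒳.p.obj y)) (ρ y') := by
    have := hρ1 y'
    exact isHomLift_id_of_eq 𝒳.p hy' (ρ y')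
  have h1 : 𝒳.p.IsHomLift (𝟙 (𝒳.p.obj y)) (φ.map f ≫ ρ y') :=
    isHomLift_comp_id_right 𝒳.p _ _ _ hφf hρy'
  have h2 : 𝒳.p.IsHomLift (𝟙 (𝒳.p.obj y)) (ρ y ≫ f) :=
    isHomLift_comp_id_right 𝒳.p _ _ _ (hρ1 y) hf
  apply hom_ext_of_locally' hst.1 (φ.w_obj y) (belowSieve hst.1 s y rfl) inferInstance (𝟙 (𝒳.p.obj y))
    _ _ h1 h2
  intro W g₀ hg₀ t' ψ' hψ'
  obtain ⟨d⟩ := exists_datum J φ s g hg hst y g₀ hg₀ t' ψ' hψ'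
  have e1 := hρ2 y' d.x₀ (d.a ≫ f) d.γ₀ d.hγ₀
  have e2 := hρ2 y d.x₀ d.a d.γ₀ d.hγ₀
  rw [← d.fac]
  simp only [Category.assoc]
  rw [φ.map_comp, Category.assoc] at e1
  rw [e1, ← Category.assoc (φ.map d.a), e2, Category.assoc]

end Glue

end Groth.Agent.Lib.Helper65.GerbeConj
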