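import Groth.Agent.Lib.Helper65.GerbeDiag
import Groth.Agent.Lib.Helper66.AlgStLocQSq8

/-!
# Helper65: a morphism of algebraic stacks which is fppf together with its diagonal is a gerbe
-/

set_option autoImplicit false
set_option backward.isDefEq.respectTransparency false
set_option backward.isDefEq.respectTransparency.types false

universe u

open CategoryTheory CategoryTheory.Functor CategoryTheory.Limits Opposite AlgebraicGeometry

namespace Groth.Agent.Lib.Helper65.GerbeDiag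

open FibCat Groth.Agent.Lib.Helper31 Groth.Agent.Lib.Helper65 Groth.Agent.Lib.Helper51 Gerb
  Groth.Agent.Lib.Helper66 Groth.Agent.Lib.Helper66.AlgStLocQSq Groth.Agent.Lib.Helper65.GerbeSection

variable {S : Scheme.{u}} {𝒳 𝒴 : AlgSt.Cat S}

theorem locQ_mono {P Q : MorphismProperty (AlgSp.Sp S)} (hPQ : P ≤ Q) (f : 𝒳 ⥤ᵇ 𝒴)
    (h : AlgSt.LocQ P f) : AlgSt.LocQ Q f := by
  obtain ⟨U, V, x, y, k, α, hx, hxs, hy, hk⟩ := h
  exact ⟨U, V, x, y, k, α, hx, hxs, hy, hPQ _ hk⟩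

/-- A surjective, flat, locally finitely presented morphism of algebraic stacks is locally surjective on
objects. -/
theorem locSurjObj_of_locQ_fppf (h𝒳 : AlgSt.IsAlgStack Scheme.fppfPrecoverage 𝒳)
    (h𝒴 : AlgSt.IsAlgStack Scheme.fppfPrecoverage 𝒴) (f : 𝒳 ⥤ᵇ 𝒴)
    (hf₁ : AlgSt.LocQ (AlgSp.LocP @Flat) f)
    (hf₂ : AlgSt.LocQ (AlgSp.LocP @LocallyOfFinitePresentation) f) (hf₃ : AlgSt.IsSurjective f) :
    LocSurjObj (AlgSp.J S) f := by
  have hfX : IsFibGrpd 𝒳.p := h𝒳.isStack.1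
  have hfY : IsFibGrpd 𝒴.p := h𝒴.isStack.1
  obtain ⟨V, y, hy1, hy2⟩ := h𝒴.atlas
  obtain ⟨U, x, k, α, hx1, hx2, hc⟩ := exists_good_square h𝒳 h𝒴 f V y hy1 hy2
  have hfU : IsFibGrpd (FibCat.overCat U).p := isFibGrpd_overForget U
  have hk1 : AlgSp.LocP @Flat ((AlgSp.yon S).map k) :=
    prop_of_locQ_of_smooth_square _ isSmoothLocalST_locP_flat h𝒳 h𝒴 f hf₁ U V x y k α hy1 hc
  have hk2 : AlgSp.LocP @LocallyOfFinitePresentation ((AlgSp.yon S).map k) :=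
    prop_of_locQ_of_smooth_square _ AlgSpSmLocalLft.isSmoothLocalST_locP_lfp h𝒳 h𝒴 f hf₂ U V x y k α
      hy1 hc
  let z : FibCat.overCat U ⥤ᵇ 𝒴 := BasedFunctor.comp (AlgSt.overMap k) y
  have hz1 : AlgSt.RepByAlgSpWith (AlgSp.LocP @Flat) z :=
    AlgStQC5.repByAlgSpWith_overMap_comp @Flat (Or.inr (Or.inr (Or.inl rfl)))
      isLocalOnBase_fppf_locP_flat k hk1 y (repByAlgSpWith_mono (locP_mono smooth_le_flat) _ hy1)
  have hz2 : AlgSt.RepByAlgSpWith (AlgSp.LocP @LocallyOfFinitePresentation) z :=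
    AlgStQC5.repByAlgSpWith_overMap_comp @LocallyOfFinitePresentation (Or.inr (Or.inl rfl))
      isLocalOnBase_fppf_locP_lfp k hk2 y (repByAlgSpWith_mono (locP_mono smooth_le_lfp) _ hy1)
  have hxs : AlgSt.IsSurjective x := isSurjective_of_repByAlgSpWith hfU hfX x hx2
  have hz3 : AlgSt.IsSurjective z := by
    intro p
    obtain ⟨w, hw⟩ := LocQFlat.isSurjective_comp x f hxs hf₃ p
    exact ⟨w, by rw [← points_map_congr α w]; exact hw⟩
  have hzL : LocSurjObj (AlgSp.J S) z := locSurjObj_of_fppf hfY hfU z hz1 hz2 hz3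
  intro p
  obtain ⟨R, hR, hR'⟩ := hzL p
  refine ⟨R, hR, fun T h hh => ?_⟩
  obtain ⟨u, γ, hγ⟩ := hR' h hh
  have hu : (FibCat.overCat U).p.obj u = T := by
    rw [← z.w_obj]; exact IsHomLift.domain_eq 𝒴.p h γ
  have hα : 𝒴.p.IsHomLift (𝟙 T) (α.hom.toNatTrans.app u) := BasedNatTrans.isHomLift α.hom hu
  exact ⟨x.obj u, α.hom.toNatTrans.app u ≫ γ, isHomLift_comp_id_left 𝒴.p h _ _ hα hγ⟩

/-- A morphism of algebraic stacks which is surjective, flat and locally of finite presentation, and whose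
diagonal is so too, is a gerbe. -/
theorem isGerbeOver_of_fppf_diag (h𝒳 : AlgSt.IsAlgStack Scheme.fppfPrecoverage 𝒳)
    (h𝒴 : AlgSt.IsAlgStack Scheme.fppfPrecoverage 𝒴) (f : 𝒳 ⥤ᵇ 𝒴)
    (hf₁ : AlgSt.LocQ (AlgSp.LocP @Flat) f)
    (hf₂ : AlgSt.LocQ (AlgSp.LocP @LocallyOfFinitePresentation) f) (hf₃ : AlgSt.IsSurjective f)
    (hΔ₁ : AlgSt.LocQ (AlgSp.LocP @Flat) (FibCat.diag f))
    (hΔ₂ : AlgSt.LocQ (AlgSp.LocP @LocallyOfFinitePresentation) (FibCat.diag f))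
    (hΔ₃ : AlgSt.IsSurjective (FibCat.diag f)) : IsGerbeOver (AlgSp.J S) f := by
  have hfX : IsFibGrpd 𝒳.p := h𝒳.isStack.1
  have hfY : IsFibGrpd 𝒴.p := h𝒴.isStack.1
  have hFF : AlgSt.IsAlgStack Scheme.fppfPrecoverage (fp f f) :=
    Groth.Agent.S12763.result h𝒴.isStack h𝒴.diag h𝒳 h𝒳 f f
  refine ⟨locSurjObj_of_locQ_fppf h𝒳 h𝒴 f hf₁ hf₂ hf₃, ?_⟩
  have hΔL : LocSurjObj (AlgSp.J S) (FibCat.diag f) :=
    locSurjObj_of_locQ_fppf h𝒳 hFF (FibCat.diag f) hΔ₁ hΔ₂ hΔ₃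
  intro x x' b hb
  have := isIso_of_isHomLift_id hfY b hb
  let ξ : (fp f f).obj := fpObjMk f f x x' (asIso b) hb
  obtain ⟨R, hR, hR'⟩ := hΔL ξ
  refine ⟨R, hR, fun V h hh => ?_⟩
  obtain ⟨x₀, g, hg⟩ := hR' h hh
  have h1 : 𝒳.p.IsHomLift h ((fpFst f f).map g) := BasedFunctor.preserves_isHomLift (fpFst f f) h g
  have h2 : 𝒳.p.IsHomLift h ((fpSnd f f).map g) := BasedFunctor.preserves_isHomLift (fpSnd f f) h g
  refine ⟨x₀, g.hom.fst, g.hom.snd, h1, h2, ?_⟩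
  have hw := fp_hom_w g
  have e1 : ((FibCat.diag f).obj x₀).obj.iso.hom = 𝟙 (f.obj x₀) := rfl
  rw [e1] at hw
  exact hw.trans (Category.id_comp _)

end Groth.Agent.Lib.Helper65.GerbeDiag
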