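import Groth.Agent.Lib.Helper65.GerbeHomeo
import Groth.Agent.Lib.Helper65.DiagQC
import Groth.Agent.Lib.Helper65.StQC

/-!
# Helper65: quasi-compactness of the diagonal descends along a gerbe
-/

set_option autoImplicit false
set_option backward.isDefEq.respectTransparency false
set_option backward.isDefEq.respectTransparency.types false

universe v₆ u₆ v₅ u₅ v₄ u₄ v₃ u₃ v₂ u₂ v u

open CategoryTheory CategoryTheory.Functor CategoryTheory.Limits Opposite AlgebraicGeometry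

namespace Groth.Agent.Lib.Helper65.GerbeDiagQC

open FibCat Groth.Agent.Lib.Helper31 Groth.Agent.Lib.Helper65 Gerb

section General

variable {C : Type u} [Category.{v} C] (J : GrothendieckTopology C)
variable {𝒳 : BasedCategory.{v₂, u₂} C} {𝒴 : BasedCategory.{v₃, u₃} C} {𝒵 : BasedCategory.{v₄, u₄} C}

/-- Base change of a gerbe, second-projection form. -/
theorem isGerbeOver_fpSnd (h𝒳 : IsFibGrpd 𝒳.p) (h𝒴 : IsFibGrpd 𝒴.p) (h𝒵 : IsFibGrpd 𝒵.p)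
    (F : 𝒳 ⥤ᵇ 𝒴) (G : 𝒵 ⥤ᵇ 𝒴) (hF : IsGerbeOver J F) : IsGerbeOver J (fpSnd F G) :=
  isGerbeOver_comp J (isFibGrpd_fp F G h𝒳 h𝒵 h𝒴) (isFibGrpd_fp G F h𝒵 h𝒳 h𝒴) (fpSwap F G) (fpFst G F)
    (isGerbeOver_of_isEquivOver J (isFibGrpd_fp F G h𝒳 h𝒵 h𝒴) _ (fpSwap_isEquivOver F G))
    (isGerbeOver_fpFst J h𝒳 h𝒴 h𝒵 F G hF)

/-- Cancelling an equivalence on the source side. -/
theorem isGerbeOver_of_equiv_comp (h𝒳 : IsFibGrpd 𝒳.p) (h𝒵 : IsFibGrpd 𝒵.p) (E : 𝒵 ⥤ᵇ 𝒳)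
    (hE : IsEquivOver E) (F : 𝒳 ⥤ᵇ 𝒴) (h : IsGerbeOver J (BasedFunctor.comp E F)) :
    IsGerbeOver J F := by
  obtain ⟨Φ, hΦ, -, ⟨e₂⟩⟩ := exists_inverse_equivOver E hE
  have h1 : IsGerbeOver J (BasedFunctor.comp Φ (BasedFunctor.comp E F)) :=
    isGerbeOver_comp J h𝒳 h𝒵 Φ _ (isGerbeOver_of_isEquivOver J h𝒳 Φ hΦ) h
  exact isGerbeOver_of_iso J (bWhiskerRightIso e₂ F) h1

variable {𝒳₁ : BasedCategory.{v₂, u₂} C} {𝒳₂ : BasedCategory.{v₃, u₃} C}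
  {𝒴₁ : BasedCategory.{v₄, u₄} C} {𝒴₂ : BasedCategory.{v₅, u₅} C}

theorem isGerbeOver_prodMapLeft (h𝒳₁ : IsFibGrpd 𝒳₁.p) (h𝒴₁ : IsFibGrpd 𝒴₁.p) (h𝒳₂ : IsFibGrpd 𝒳₂.p)
    (f₁ : 𝒳₁ ⥤ᵇ 𝒴₁) (hf : IsGerbeOver J f₁) : IsGerbeOver J (prodMapLeft f₁ 𝒳₂) := by
  have hP : IsFibGrpd (fp (toSelf 𝒴₁) (toSelf 𝒳₂)).p :=
    isFibGrpd_fp _ _ h𝒴₁ h𝒳₂ isFibGrpd_selfOver
  have hP' : IsFibGrpd (fp (toSelf 𝒳₁) (toSelf 𝒳₂)).p :=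
    isFibGrpd_fp _ _ h𝒳₁ h𝒳₂ isFibGrpd_selfOver
  have hQ : IsFibGrpd (fp f₁ (fpFst (toSelf 𝒴₁) (toSelf 𝒳₂))).p := isFibGrpd_fp _ _ h𝒳₁ hP h𝒴₁
  have h1 : IsGerbeOver J (fpSnd f₁ (fpFst (toSelf 𝒴₁) (toSelf 𝒳₂))) :=
    isGerbeOver_fpSnd J h𝒳₁ h𝒴₁ hP f₁ _ hf
  have h2 : IsGerbeOver J (BasedFunctor.comp (prodLeftEquiv f₁ 𝒳₂) (prodMapLeft f₁ 𝒳₂)) :=
    isGerbeOver_of_iso J (prodLeftSquare f₁ 𝒳₂) h1
  exact isGerbeOver_of_equiv_comp J hP' hQ _ (prodLeftEquiv_isEquivOver f₁ 𝒳₂) _ h2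

theorem isGerbeOver_prodMapRight (h𝒴₁ : IsFibGrpd 𝒴₁.p) (h𝒳₂ : IsFibGrpd 𝒳₂.p) (h𝒴₂ : IsFibGrpd 𝒴₂.p)
    (f₂ : 𝒳₂ ⥤ᵇ 𝒴₂) (hf : IsGerbeOver J f₂) : IsGerbeOver J (prodMapRight 𝒴₁ f₂) := by
  have hP : IsFibGrpd (fp (toSelf 𝒴₁) (toSelf 𝒴₂)).p :=
    isFibGrpd_fp _ _ h𝒴₁ h𝒴₂ isFibGrpd_selfOver
  have hP' : IsFibGrpd (fp (toSelf 𝒴₁) (toSelf 𝒳₂)).p :=
    isFibGrpd_fp _ _ h𝒴₁ h𝒳₂ isFibGrpd_selfOver
  have hQ : IsFibGrpd (fp (fpSnd (toSelf 𝒴₁) (toSelf 𝒴₂)) f₂).p := isFibGrpd_fp _ _ hP h𝒳₂ h𝒴₂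
  have h1 : IsGerbeOver J (fpFst (fpSnd (toSelf 𝒴₁) (toSelf 𝒴₂)) f₂) :=
    isGerbeOver_fpFst J h𝒳₂ h𝒴₂ hP f₂ _ hf
  have h2 : IsGerbeOver J (BasedFunctor.comp (prodRightEquiv 𝒴₁ f₂) (prodMapRight 𝒴₁ f₂)) :=
    isGerbeOver_of_iso J (prodRightSquare 𝒴₁ f₂) h1
  exact isGerbeOver_of_equiv_comp J hP' hQ _ (prodRightEquiv_isEquivOver 𝒴₁ f₂) _ h2

/-- A product of gerbes is a gerbe. -/
theorem isGerbeOver_prodMap (h𝒳₁ : IsFibGrpd 𝒳₁.p) (h𝒴₁ : IsFibGrpd 𝒴₁.p) (h𝒳₂ : IsFibGrpd 𝒳₂.p)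
    (h𝒴₂ : IsFibGrpd 𝒴₂.p) (f₁ : 𝒳₁ ⥤ᵇ 𝒴₁) (f₂ : 𝒳₂ ⥤ᵇ 𝒴₂) (hf₁ : IsGerbeOver J f₁)
    (hf₂ : IsGerbeOver J f₂)
    (e : BasedFunctor.comp (BasedFunctor.comp (fpFst (toSelf 𝒳₁) (toSelf 𝒳₂)) f₁) (toSelf 𝒴₁) ≅
      BasedFunctor.comp (BasedFunctor.comp (fpSnd (toSelf 𝒳₁) (toSelf 𝒳₂)) f₂) (toSelf 𝒴₂)) :
    IsGerbeOver J (fpLift (BasedFunctor.comp (fpFst (toSelf 𝒳₁) (toSelf 𝒳₂)) f₁)
        (BasedFunctor.comp (fpSnd (toSelf 𝒳₁) (toSelf 𝒳₂)) f₂) e) :=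
  isGerbeOver_of_iso J (prodMapIso f₁ f₂ e)
    (isGerbeOver_comp J (isFibGrpd_fp _ _ h𝒳₁ h𝒳₂ isFibGrpd_selfOver)
      (isFibGrpd_fp _ _ h𝒴₁ h𝒳₂ isFibGrpd_selfOver) _ _
      (isGerbeOver_prodMapLeft J h𝒳₁ h𝒴₁ h𝒳₂ f₁ hf₁)
      (isGerbeOver_prodMapRight J h𝒴₁ h𝒳₂ h𝒴₂ f₂ hf₂))

end General

section Main

variable {S : Scheme.{u}} {𝒳 𝒴 : AlgSt.Cat S}

/-- A quasi-compact algebraic stack admitting a surjection on points from a quasi-compact one. -/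
theorem isQuasiCompact_of_surjective {𝒜 ℬ : AlgSt.Cat S}
    (h𝒜 : AlgSt.IsAlgStack Scheme.fppfPrecoverage 𝒜) (hℬ : AlgSt.IsAlgStack Scheme.fppfPrecoverage ℬ)
    (F : 𝒜 ⥤ᵇ ℬ) (hF : Function.Surjective (AlgSt.Points.map F)) (h : AlgSt.IsQuasiCompact 𝒜) :
    AlgSt.IsQuasiCompact ℬ := by
  haveI := compactSpace_points_of_isQuasiCompact h𝒜.isStack.1 h𝒜.atlas h
  haveI : CompactSpace (AlgSt.Points ℬ) := by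
    refine ⟨?_⟩
    rw [← Set.range_eq_univ.2 hF]
    exact isCompact_range (continuous_points_map hℬ.isStack.1 hℬ.atlas F)
  exact isQuasiCompact_of_compactSpace hℬ.isStack.1 hℬ.atlas

/-- A quasi-compact algebraic stack whose points embed homeomorphically. -/
theorem isQuasiCompact_of_isHomeomorph {𝒜 ℬ : AlgSt.Cat S}
    (h𝒜 : AlgSt.IsAlgStack Scheme.fppfPrecoverage 𝒜) (hℬ : AlgSt.IsAlgStack Scheme.fppfPrecoverage ℬ)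
    (F : 𝒜 ⥤ᵇ ℬ) (hF : IsHomeomorph (AlgSt.Points.map F)) (h : AlgSt.IsQuasiCompact ℬ) :
    AlgSt.IsQuasiCompact 𝒜 := by
  haveI := compactSpace_points_of_isQuasiCompact hℬ.isStack.1 hℬ.atlas h
  haveI : CompactSpace (AlgSt.Points 𝒜) := hF.homeomorph.symm.compactSpace
  exact isQuasiCompact_of_compactSpace h𝒜.isStack.1 h𝒜.atlas

/-- If `f : 𝒳 ⟶ 𝒴` is a gerbe and the diagonal of `𝒳` is quasi-compact, so is the diagonal of `𝒴`. -/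
theorem isQuasiCompactMor_diag_of_isGerbeOver
    (h𝒳 : AlgSt.IsAlgStack Scheme.fppfPrecoverage 𝒳) (h𝒴 : AlgSt.IsAlgStack Scheme.fppfPrecoverage 𝒴)
    (f : 𝒳 ⥤ᵇ 𝒴) (hf : IsGerbeOver (QuotSh.J Scheme.fppfPrecoverage S) f)
    (hΔ : AlgSt.IsQuasiCompactMor Scheme.fppfPrecoverage (FibCat.diag (FibCat.toSelf 𝒳))) :
    AlgSt.IsQuasiCompactMor Scheme.fppfPrecoverage (FibCat.diag (FibCat.toSelf 𝒴)) := by
  intro 𝒵 h𝒵 hqc g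
  have hP𝒳 := DiagQC.isAlgStack_prod_self h𝒳
  have hP𝒴 := DiagQC.isAlgStack_prod_self h𝒴
  have hff : IsGerbeOver (QuotSh.J Scheme.fppfPrecoverage S)
      (fpMap (F := toSelf 𝒳) (G := toSelf 𝒳) (F' := toSelf 𝒴) (G' := toSelf 𝒴) f f
        (BasedFunctor.id (selfOver _)) (toSelfIso f) (toSelfIso f)) :=
    isGerbeOver_prodMap _ h𝒳.isStack.1 h𝒴.isStack.1 h𝒳.isStack.1 h𝒴.isStack.1 f f hf hf _
  generalize hffdef : (fpMap (F := toSelf 𝒳) (G := toSelf 𝒳) (F' := toSelf 𝒴) (G' := toSelf 𝒴) f f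
        (BasedFunctor.id (selfOver _)) (toSelfIso f) (toSelfIso f)) = ff at hff
  -- the base change `𝒵' = 𝒵 ×_{𝒴×𝒴} (𝒳×𝒳)` is quasi-compact
  have h𝒵' : AlgSt.IsAlgStack Scheme.fppfPrecoverage (fp g ff) :=
    Groth.Agent.S12763.result hP𝒴.isStack hP𝒴.diag h𝒵 hP𝒳 g ff
  have hg1 : IsGerbeOver (QuotSh.J Scheme.fppfPrecoverage S) (fpFst g ff) :=
    isGerbeOver_fpFst _ hP𝒳.isStack.1 hP𝒴.isStack.1 h𝒵.isStack.1 ff g hff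
  have hqc' : AlgSt.IsQuasiCompact (fp g ff) :=
    isQuasiCompact_of_isHomeomorph h𝒵' h𝒵 _
      (GerbeHomeo.isHomeomorph_of_isGerbeOver h𝒵' h𝒵 _ hg1) hqc
  have h1 : AlgSt.IsQuasiCompact (fp (fpSnd g ff) (diag (toSelf 𝒳))) :=
    hΔ (fp g ff) h𝒵' hqc' (fpSnd g ff)
  have h2 : AlgSt.IsQuasiCompact (fp g (BasedFunctor.comp (diag (toSelf 𝒳)) ff)) :=
    Groth.Agent.Lib.Helper66.AlgStEquiv.isQuasiCompact_of_equivOver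
      (fpPasteSnd g ff (diag (toSelf 𝒳))) (fpPasteSnd_isEquivOver _ _ _) h1
  subst hffdef
  have h3 : AlgSt.IsQuasiCompact (fp g (BasedFunctor.comp f (diag (toSelf 𝒴)))) :=
    Groth.Agent.Lib.Helper66.AlgStEquiv.isQuasiCompact_of_equivOver
      (fpMap (F := g) (G := BasedFunctor.comp (diag (toSelf 𝒳))
          (fpMap (F := toSelf 𝒳) (G := toSelf 𝒳) (F' := toSelf 𝒴) (G' := toSelf 𝒴) f f
            (BasedFunctor.id (selfOver _)) (toSelfIso f) (toSelfIso f)))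
        (F' := g) (G' := BasedFunctor.comp f (diag (toSelf 𝒴)))
        (BasedFunctor.id 𝒵) (BasedFunctor.id 𝒳) (BasedFunctor.id _) (Iso.refl _)
        (diagSquare f (BasedFunctor.id _) (toSelfIso f)))
      (fpMap_isEquivOver _ _ _ _ _ (isEquivOver_id _) (isEquivOver_id _) (isEquivOver_id _)) h2
  obtain ⟨Ψ, hΨ, -, -⟩ := exists_inverse_equivOver (fpPasteSnd g (diag (toSelf 𝒴)) f)
    (fpPasteSnd_isEquivOver _ _ _)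
  have h4 : AlgSt.IsQuasiCompact (fp (fpSnd g (diag (toSelf 𝒴))) f) :=
    Groth.Agent.Lib.Helper66.AlgStEquiv.isQuasiCompact_of_equivOver Ψ hΨ h3
  have h𝒲 : AlgSt.IsAlgStack Scheme.fppfPrecoverage (fp g (diag (toSelf 𝒴))) :=
    Groth.Agent.S12763.result hP𝒴.isStack hP𝒴.diag h𝒵 h𝒴 g _
  have h𝒲' : AlgSt.IsAlgStack Scheme.fppfPrecoverage (fp (fpSnd g (diag (toSelf 𝒴))) f) :=
    Groth.Agent.S12763.result h𝒴.isStack h𝒴.diag h𝒲 h𝒳 _ f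
  have hg2 : IsGerbeOver (QuotSh.J Scheme.fppfPrecoverage S) (fpFst (fpSnd g (diag (toSelf 𝒴))) f) :=
    isGerbeOver_fpFst _ h𝒳.isStack.1 h𝒴.isStack.1 h𝒲.isStack.1 f _ hf
  exact isQuasiCompact_of_surjective h𝒲' h𝒲 _
    (GerbeHomeo.surjective_of_locSurjObj h𝒲'.isStack.1 _ hg2.1) h4

end Main

end Groth.Agent.Lib.Helper65.GerbeDiagQC
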