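import Groth.Prelude.Def_AlgSt
import Groth.Agent.Lib.Helper65.TotFib
import Groth.Agent.Lib.Helper65.BasedEquiv

/-!
# Helper65: for `𝒳` fibred in groupoids over `C` and `x` over `V`, the slice `𝒳/x` is equivalent over `C`
to `C/V`, compatibly with sieves.
-/

set_option autoImplicit false
set_option backward.isDefEq.respectTransparency false
set_option backward.isDefEq.respectTransparency.types false

universe v₇ u₇ v₆ u₆ v₅ u₅ v₄ u₄ v₃ u₃ v₂ u₂ v u

open CategoryTheory CategoryTheory.Functor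

namespace Groth.Agent.Lib.Helper65.OverPostEq

open FibCat Groth.Agent.Lib.Helper31 Groth.Agent.Lib.Helper65 Groth.Agent.Lib.Helper65.TotFib
open Groth.Agent.Lib.Helper90.LiftSqComp

variable {C : Type u} [Category.{v} C] {𝒳 : BasedCategory.{v₂, u₂} C}
variable (x : 𝒳.obj) {V : C} (hx : 𝒳.p.obj x = V)

/-- `𝒳/x ⥤ C/V`, induced by the structure functor. -/
def overPost : Over x ⥤ Over V where
  obj a := Over.mk (𝒳.p.map a.hom ≫ eqToHom hx)
  map {a b} f := Over.homMk (𝒳.p.map f.left) (by
    change 𝒳.p.map f.left ≫ 𝒳.p.map b.hom ≫ eqToHom hx = 𝒳.p.map a.hom ≫ eqToHom hx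
    rw [← Category.assoc, ← 𝒳.p.map_comp, Over.w f])
  map_id a := by
    apply Over.OverMorphism.ext
    exact 𝒳.p.map_id _
  map_comp f g := by
    apply Over.OverMorphism.ext
    exact 𝒳.p.map_comp _ _

@[simp] theorem overPost_obj_left (a : Over x) : ((overPost x hx).obj a).left = 𝒳.p.obj a.left := rfl

@[simp] theorem overPost_obj_hom (a : Over x) :
    ((overPost x hx).obj a).hom = 𝒳.p.map a.hom ≫ eqToHom hx := rfl

@[simp] theorem overPost_map_left {a b : Over x} (f : a ⟶ b) :
    ((overPost x hx).map f).left = 𝒳.p.map f.left := rfl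

/-- `overPost` as a functor over `C`. -/
def P : tot 𝒳 (overCat x) ⥤ᵇ overCat V where
  toFunctor := overPost x hx
  w := rfl

instance overPost_faithful [h𝒳 : IsFibGrpd 𝒳.p] : (overPost x hx).Faithful where
  map_injective := by
    intro a b f g h
    have h1 : 𝒳.p.map f.left = 𝒳.p.map g.left := congrArg (fun k => k.left) h
    apply Over.OverMorphism.ext
    apply FibTop.factor_ext' 𝒳.p h𝒳 b.hom f.left g.left h1
    rw [Over.w f, Over.w g]

instance overPost_full [h𝒳 : IsFibGrpd 𝒳.p] : (overPost x hx).Full where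
  map_surjective := by
    intro a b h
    have hw := Over.w h
    have h1 : 𝒳.p.map a.hom = h.left ≫ 𝒳.p.map b.hom := by
      have : h.left ≫ 𝒳.p.map b.hom ≫ eqToHom hx = 𝒳.p.map a.hom ≫ eqToHom hx := hw
      rw [← Category.assoc] at this
      exact ((cancel_mono (eqToHom hx)).1 this).symm
    obtain ⟨χ, hχ1, hχ2⟩ := FibTop.exists_factor' 𝒳.p h𝒳 b.hom a.hom h.left h1
    refine ⟨Over.homMk χ hχ2, ?_⟩
    apply Over.OverMorphism.ext
    exact hχ1

theorem overPost_essSurjOver [h𝒳 : IsFibGrpd 𝒳.p] : EssSurjOver (P x hx) := by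
  intro b
  obtain ⟨y, φ, hφ⟩ := h𝒳.exists_lift (x := x) (b.hom ≫ eqToHom hx.symm)
  have hy : 𝒳.p.obj y = b.left := IsHomLift.domain_eq 𝒳.p (b.hom ≫ eqToHom hx.symm) φ
  have hfac := IsHomLift.fac' 𝒳.p (b.hom ≫ eqToHom hx.symm) φ
  refine ⟨Over.mk φ, Over.isoMk (eqToIso hy) ?_, ?_⟩
  · change eqToHom hy ≫ b.hom = 𝒳.p.map φ ≫ eqToHom hx
    rw [hfac]
    simp
  · refine IsHomLift.of_commsq (Over.forget V) (𝟙 b.left) _ (by exact hy) rfl ?_
    change eqToHom hy ≫ eqToHom rfl = eqToHom hy ≫ 𝟙 _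
    simp

theorem P_isEquivOver [IsFibGrpd 𝒳.p] : IsEquivOver (P x hx) := by
  have : (P x hx).toFunctor.Full := overPost_full x hx
  have : (P x hx).toFunctor.Faithful := overPost_faithful x hx
  exact isEquivOver_of_ff_ess (P x hx) (overPost_essSurjOver x hx)

/-- The sieve on `x` of morphisms whose image belongs to `R`. -/
def sievePull (R : Sieve V) : Sieve x where
  arrows y φ := R (𝒳.p.map φ ≫ eqToHom hx)
  downward_closed := by
    intro y z φ hφ ψ
    rw [𝒳.p.map_comp, Category.assoc]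
    exact R.downward_closed hφ _

@[simp] theorem sievePull_apply (R : Sieve V) {y : 𝒳.obj} (φ : y ⟶ x) :
    sievePull x hx R φ ↔ R (𝒳.p.map φ ≫ eqToHom hx) := Iff.rfl

variable (R : Sieve V)

/-- `overPost` restricted to sieves. -/
def overPostR : (sievePull x hx R).arrows.category ⥤ R.arrows.category :=
  ObjectProperty.lift _ (ObjectProperty.ι _ ⋙ overPost x hx) (fun a => a.property)

/-- `overPostR` as a functor over `C`. -/
def PR : tot 𝒳 (Stk.sieveCat (sievePull x hx R)) ⥤ᵇ Stk.sieveCat R where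
  toFunctor := overPostR x hx R
  w := rfl

theorem PR_comp_sieveIncl :
    BasedFunctor.comp (PR x hx R) (Stk.sieveIncl R) =
      BasedFunctor.comp (totMap (Stk.sieveIncl (sievePull x hx R))) (P x hx) := rfl

instance overPostR_faithful [h𝒳 : IsFibGrpd 𝒳.p] : (overPostR x hx R).Faithful where
  map_injective := by
    intro a b f g h
    have h1 : (overPost x hx).map f.hom = (overPost x hx).map g.hom :=
      congrArg (fun k => k.hom) h
    apply ObjectProperty.hom_ext
    exact (overPost x hx).map_injective h1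

instance overPostR_full [h𝒳 : IsFibGrpd 𝒳.p] : (overPostR x hx R).Full where
  map_surjective := by
    intro a b h
    obtain ⟨k, hk⟩ := (overPost x hx).map_surjective h.hom
    refine ⟨ObjectProperty.homMk k, ?_⟩
    apply ObjectProperty.hom_ext
    exact hk

theorem overPostR_essSurjOver [h𝒳 : IsFibGrpd 𝒳.p] : EssSurjOver (PR x hx R) := by
  intro b
  obtain ⟨a, ε, hε⟩ := overPost_essSurjOver x hx b.obj
  have ha : sievePull x hx R a.hom := by
    change R ((overPost x hx).obj a).hom
    have : ((overPost x hx).obj a).hom = ε.hom.left ≫ b.obj.hom := (Over.w ε.hom).symm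
    rw [this]
    exact R.downward_closed b.property _
  obtain ⟨ε', hε'⟩ : ∃ ε' : (PR x hx R).obj ⟨a, ha⟩ ≅ b, ε' = ObjectProperty.isoMk _ ε := ⟨_, rfl⟩
  refine ⟨⟨a, ha⟩, ε', ?_⟩
  have : (Over.forget V).IsHomLift (𝟙 b.obj.left)
      ((ObjectProperty.ι _).map ε'.hom) := by
    rw [hε']; exact hε
  exact isHomLift_of_map (ObjectProperty.ι _) (Over.forget V) (𝟙 b.obj.left) _

theorem PR_isEquivOver [IsFibGrpd 𝒳.p] : IsEquivOver (PR x hx R) := by
  have : (PR x hx R).toFunctor.Full := overPostR_full x hx R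
  have : (PR x hx R).toFunctor.Faithful := overPostR_faithful x hx R
  exact isEquivOver_of_ff_ess (PR x hx R) (overPostR_essSurjOver x hx R)

end Groth.Agent.Lib.Helper65.OverPostEq
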