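import Groth.Prelude.Def_AlgSt
import Groth.Agent.Lib.Helper65.BasedPost
import Groth.Agent.Lib.Helper65.FpPaste

/-!
# Helper65: restriction along an equivalence over the base is an equivalence of functor categories
-/

set_option autoImplicit false
set_option backward.isDefEq.respectTransparency false
set_option backward.isDefEq.respectTransparency.types false

universe v₆ u₆ v₅ u₅ v₄ u₄ v₃ u₃ v₂ u₂ v u

open CategoryTheory CategoryTheory.Functor

namespace Groth.Agent.Lib.Helper65.RestrSrc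

open FibCat Groth.Agent.Lib.Helper31 Groth.Agent.Lib.Helper65

variable {C : Type u} [Category.{v} C]
variable {𝒜 : BasedCategory.{v₂, u₂} C} {ℬ : BasedCategory.{v₃, u₃} C} {𝒟 : BasedCategory.{v₄, u₄} C}
variable (𝒵 : BasedCategory.{v₅, u₅} C)

/-- A 2-isomorphism over the base induces an isomorphism of restriction functors. -/
def restrIso {E E' : 𝒜 ⥤ᵇ ℬ} (e : E ≅ E') : Stk.restr E 𝒵 ≅ Stk.restr E' 𝒵 :=
  NatIso.ofComponents (fun H => bWhiskerRightIso e H)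
    (fun {H H'} α => by
      apply BasedNatTrans.homCategory.ext
      ext a
      change α.toNatTrans.app (E.obj a) ≫ H'.map (e.hom.toNatTrans.app a) =
        H.map (e.hom.toNatTrans.app a) ≫ α.toNatTrans.app (E'.obj a)
      exact (α.toNatTrans.naturality (e.hom.toNatTrans.app a)).symm)

theorem restr_id : Stk.restr (BasedFunctor.id ℬ) 𝒵 = 𝟭 (ℬ ⥤ᵇ 𝒵) := by
  refine CategoryTheory.Functor.ext (fun G => rfl) (fun G G' α => ?_)
  apply BasedNatTrans.homCategory.ext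
  ext a
  simp [Stk.restr]
  rfl

theorem restr_comp (E : 𝒜 ⥤ᵇ ℬ) (E' : ℬ ⥤ᵇ 𝒟) :
    Stk.restr (BasedFunctor.comp E E') 𝒵 = Stk.restr E' 𝒵 ⋙ Stk.restr E 𝒵 := by
  refine CategoryTheory.Functor.ext (fun H => rfl) (fun H H' α => ?_)
  apply BasedNatTrans.homCategory.ext
  ext a
  simp [Stk.restr]
  exact (Category.id_comp _).symm

/-- Restriction along an equivalence over the base is an equivalence of categories. -/
theorem restr_isEquivalence_of_isEquivOver (E : 𝒜 ⥤ᵇ ℬ) (hE : IsEquivOver E) :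
    (Stk.restr E 𝒵).IsEquivalence := by
  obtain ⟨G, ⟨e₁⟩, ⟨e₂⟩⟩ := hE
  -- e₁ : E ≫ G ≅ id 𝒜, e₂ : G ≫ E ≅ id ℬ
  let η : 𝟭 (ℬ ⥤ᵇ 𝒵) ≅ Stk.restr E 𝒵 ⋙ Stk.restr G 𝒵 :=
    eqToIso (restr_id 𝒵).symm ≪≫ (restrIso 𝒵 e₂).symm ≪≫ eqToIso (restr_comp 𝒵 G E)
  let ε : Stk.restr G 𝒵 ⋙ Stk.restr E 𝒵 ≅ 𝟭 (𝒜 ⥤ᵇ 𝒵) :=
    eqToIso (restr_comp 𝒵 E G).symm ≪≫ restrIso 𝒵 e₁ ≪≫ eqToIso (restr_id 𝒵)
  exact (CategoryTheory.Equivalence.mk (Stk.restr E 𝒵) (Stk.restr G 𝒵) η ε).isEquivalence_functor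

end Groth.Agent.Lib.Helper65.RestrSrc
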