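import Groth.Prelude.Def_AlgSt
import Groth.Agent.Lib.Helper65.TotFib
import Groth.Agent.Lib.Helper65.OverPostEq
import Groth.Agent.Lib.Helper65.RestrSrc
import Groth.Agent.Lib.Helper65.CostrEquiv
import Groth.Agent.Lib.Helper31.Yoneda2

/-!
# Helper65: stacks over stacks

For `𝒳` fibred in groupoids over `C` and `𝒴` fibred in groupoids over `𝒳`: the stack condition for `𝒴`
over `𝒳` along the sieve on `x` pulled back from a sieve `R` on `V = p x` is equivalent to the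
restriction functor for the total category along `R` being an equivalence on the fibres over the
functors `C/V ⟶ 𝒳` corresponding to `x`.
-/

set_option autoImplicit false
set_option backward.isDefEq.respectTransparency false
set_option backward.isDefEq.respectTransparency.types false

universe v₇ u₇ v₆ u₆ v₅ u₅ v₄ u₄ v₃ u₃ v₂ u₂ v u

open CategoryTheory CategoryTheory.Functor

namespace Groth.Agent.Lib.Helper65.StackOverStack

open FibCat Groth.Agent.Lib.Helper31 Groth.Agent.Lib.Helper65 Groth.Agent.Lib.Helper65.TotFib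
open Groth.Agent.Lib.Helper65.OverPostEq Groth.Agent.Lib.Helper65.RestrSrc
open Groth.Agent.Lib.Helper90.LiftSqComp

variable {C : Type u} [Category.{v} C]

section Generic

variable {𝒜 : BasedCategory.{v₂, u₂} C} {ℬ : BasedCategory.{v₃, u₃} C}
  {𝒵 : BasedCategory.{v₄, u₄} C} {𝒳 : BasedCategory.{v₅, u₅} C}

/-- restriction commutes with postcomposition (as an isomorphism with identity components). -/
def sqIso (ι : 𝒜 ⥤ᵇ ℬ) (j : 𝒵 ⥤ᵇ 𝒳) :
    Stk.restr ι 𝒵 ⋙ post 𝒜 j ≅ post ℬ j ⋙ Stk.restr ι 𝒳 :=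
  NatIso.ofComponents (fun H => Iso.refl _) (by
    intro H H' α
    apply hom_ext'
    intro a
    change j.map (app α (ι.obj a)) ≫ 𝟙 _ = 𝟙 _ ≫ j.map (app α (ι.obj a))
    rw [Category.comp_id, Category.id_comp])

@[simp] theorem app_sqIso_hom (ι : 𝒜 ⥤ᵇ ℬ) (j : 𝒵 ⥤ᵇ 𝒳) (H : ℬ ⥤ᵇ 𝒵) (a : 𝒜.obj) :
    app ((sqIso ι j).hom.app H) a = 𝟙 _ := rfl

/-- the functor induced by restriction along `ι` between the fibres of postcomposition with `j`. -/
def M (ι : 𝒜 ⥤ᵇ ℬ) (j : 𝒵 ⥤ᵇ 𝒳) (b : ℬ ⥤ᵇ 𝒳) (b' : 𝒜 ⥤ᵇ 𝒳) (β : BasedFunctor.comp ι b ⟶ b') :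
    CostructuredArrow (post ℬ j) b ⥤ CostructuredArrow (post 𝒜 j) b' :=
  CostructuredArrow.map₂ (S := post ℬ j) (T := b) (U := post 𝒜 j) (V := b')
    (F := Stk.restr ι 𝒵) (G := Stk.restr ι 𝒳) (sqIso ι j).hom β

@[simp] theorem M_obj_left (ι : 𝒜 ⥤ᵇ ℬ) (j : 𝒵 ⥤ᵇ 𝒳) (b : ℬ ⥤ᵇ 𝒳) (b' : 𝒜 ⥤ᵇ 𝒳)
    (β : BasedFunctor.comp ι b ⟶ b') (Z : CostructuredArrow (post ℬ j) b) :
    ((M ι j b b' β).obj Z).left = BasedFunctor.comp ι Z.left := rfl

theorem app_M_obj_hom (ι : 𝒜 ⥤ᵇ ℬ) (j : 𝒵 ⥤ᵇ 𝒳) (b : ℬ ⥤ᵇ 𝒳) (b' : 𝒜 ⥤ᵇ 𝒳)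
    (β : BasedFunctor.comp ι b ⟶ b') (Z : CostructuredArrow (post ℬ j) b) (a : 𝒜.obj) :
    app ((M ι j b b' β).obj Z).hom a = app Z.hom (ι.obj a) ≫ app β a := by
  change 𝟙 _ ≫ app Z.hom (ι.obj a) ≫ app β a = _
  rw [Category.id_comp]

theorem app_M_map_left (ι : 𝒜 ⥤ᵇ ℬ) (j : 𝒵 ⥤ᵇ 𝒳) (b : ℬ ⥤ᵇ 𝒳) (b' : 𝒜 ⥤ᵇ 𝒳)
    (β : BasedFunctor.comp ι b ⟶ b') {Z Z' : CostructuredArrow (post ℬ j) b} (k : Z ⟶ Z')
    (a : 𝒜.obj) : app ((M ι j b b' β).map k).left a = app k.left (ι.obj a) := rfl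

theorem M_isEquivalence (ι : 𝒜 ⥤ᵇ ℬ) (j : 𝒵 ⥤ᵇ 𝒳) (b : ℬ ⥤ᵇ 𝒳) (b' : 𝒜 ⥤ᵇ 𝒳)
    (β : BasedFunctor.comp ι b ⟶ b') [IsIso β] (h1 : (Stk.restr ι 𝒵).IsEquivalence)
    (h2 : (Stk.restr ι 𝒳).IsEquivalence) : (M ι j b b' β).IsEquivalence := by
  unfold M
  infer_instance

end Generic

section Main

variable {𝒳 : BasedCategory.{v₂, u₂} C} {𝒴 : BasedCategory.{v₃, u₃} 𝒳.obj}
variable (x : 𝒳.obj) {V : C} (hx : 𝒳.p.obj x = V) (R : Sieve V)
variable (ξ : overCat V ⥤ᵇ 𝒳) (c : BasedFunctor.comp (P x hx) ξ ≅ str (overCat x))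

variable (𝒴) in
/-- restriction along `R` on the fibres over `ξ`. -/
def Mtop : CostructuredArrow (post (overCat V) (str 𝒴)) ξ ⥤
    CostructuredArrow (post (Stk.sieveCat R) (str 𝒴)) (BasedFunctor.comp (Stk.sieveIncl R) ξ) :=
  M (Stk.sieveIncl R) (str 𝒴) ξ (BasedFunctor.comp (Stk.sieveIncl R) ξ) (𝟙 _)

variable (𝒴) in
/-- transport along `𝒳/x ≃ C/V`. -/
def Mleft : CostructuredArrow (post (overCat V) (str 𝒴)) ξ ⥤
    CostructuredArrow (post (tot 𝒳 (overCat x)) (str 𝒴)) (str (overCat x)) :=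
  M (P x hx) (str 𝒴) ξ (str (overCat x)) c.hom

/-- the restriction of `c` to the sieve. -/
def cR : BasedFunctor.comp (PR x hx R) (BasedFunctor.comp (Stk.sieveIncl R) ξ) ≅
    str (Stk.sieveCat (sievePull x hx R)) :=
  bWhiskerLeftIso (totMap (Stk.sieveIncl (sievePull x hx R))) c

variable (𝒴) in
/-- transport along the equivalence of sieves. -/
def Mright : CostructuredArrow (post (Stk.sieveCat R) (str 𝒴)) (BasedFunctor.comp (Stk.sieveIncl R) ξ) ⥤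
    CostructuredArrow (post (tot 𝒳 (Stk.sieveCat (sievePull x hx R))) (str 𝒴))
      (str (Stk.sieveCat (sievePull x hx R))) :=
  M (PR x hx R) (str 𝒴) (BasedFunctor.comp (Stk.sieveIncl R) ξ)
    (str (Stk.sieveCat (sievePull x hx R))) (cR x hx R ξ c).hom

variable (𝒴) in
/-- restriction along the pulled back sieve on the fibres over the structure functor. -/
def Mmid : CostructuredArrow (post (tot 𝒳 (overCat x)) (str 𝒴)) (str (overCat x)) ⥤
    CostructuredArrow (post (tot 𝒳 (Stk.sieveCat (sievePull x hx R))) (str 𝒴))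
      (str (Stk.sieveCat (sievePull x hx R))) :=
  M (totMap (Stk.sieveIncl (sievePull x hx R))) (str 𝒴) (str (overCat x))
    (str (Stk.sieveCat (sievePull x hx R))) (𝟙 _)

omit [Category.{v} C] in
theorem comp_id_eq {D : Type u₆} [Category.{v₆} D] {X Y Z : D} (f : X ⟶ Y) (g : Y ⟶ Z) :
    (f ≫ g) ≫ 𝟙 Z = (f ≫ 𝟙 Y) ≫ g := by simp

omit [Category.{v} C] in
theorem comp_id_eq' {D : Type u₆} [Category.{v₆} D] {X Y : D} (f : X ⟶ Y) :
    f ≫ 𝟙 Y = f := by simp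

variable (𝒴) in
/-- the upper square commutes. -/
def upperIso : Mtop 𝒴 R ξ ⋙ Mright 𝒴 x hx R ξ c ≅ Mleft 𝒴 x hx ξ c ⋙ Mmid 𝒴 x hx R :=
  NatIso.ofComponents
    (fun Z => CostructuredArrow.isoMk (Iso.refl _) (by
      apply hom_ext'
      intro a
      change (str 𝒴).map (𝟙 _) ≫ app ((Mmid 𝒴 x hx R).obj ((Mleft 𝒴 x hx ξ c).obj Z)).hom a =
        app ((Mright 𝒴 x hx R ξ c).obj ((Mtop 𝒴 R ξ).obj Z)).hom a
      unfold Mmid Mleft Mright Mtop
      rw [app_M_obj_hom, app_M_obj_hom, app_M_obj_hom, app_M_obj_hom]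
      rw [CategoryTheory.Functor.map_id, Category.id_comp]
      exact comp_id_eq _ _))
    (by
      intro Z Z' k
      apply CostructuredArrow.hom_ext
      apply hom_ext'
      intro a
      change app k.left _ ≫ 𝟙 _ = 𝟙 _ ≫ app k.left _
      simp)

variable (𝒴) in
/-- the lower square commutes. -/
def lowerIso : Stk.restr (Stk.sieveIncl (sievePull x hx R)) 𝒴 ⋙ fib (Stk.sieveCat (sievePull x hx R)) 𝒴 ≅
    fib (overCat x) 𝒴 ⋙ Mmid 𝒴 x hx R :=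
  NatIso.ofComponents
    (fun G => CostructuredArrow.isoMk (Iso.refl _) (by
      apply hom_ext'
      intro a
      change (str 𝒴).map (𝟙 _) ≫ app ((Mmid 𝒴 x hx R).obj ((fib (overCat x) 𝒴).obj G)).hom a =
        app ((fib (Stk.sieveCat (sievePull x hx R)) 𝒴).obj
          ((Stk.restr (Stk.sieveIncl (sievePull x hx R)) 𝒴).obj G)).hom a
      unfold Mmid
      rw [app_M_obj_hom, CategoryTheory.Functor.map_id, Category.id_comp]
      have h1 := app_eqToHom (totMap_comp_str G) ((totMap (Stk.sieveIncl (sievePull x hx R))).obj a)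
      have h2 := app_eqToHom (totMap_comp_str
        ((Stk.restr (Stk.sieveIncl (sievePull x hx R)) 𝒴).obj G)) a
      exact (comp_id_eq' _).trans (h1.trans h2.symm)))
    (by
      intro G G' γ
      apply CostructuredArrow.hom_ext
      apply hom_ext'
      intro a
      change app γ _ ≫ 𝟙 _ = 𝟙 _ ≫ app γ _
      simp)

include c in
/-- **Main comparison.** The stack condition for `𝒴` over `𝒳` along the pulled back sieve on `x` is the
statement that restriction along `R` is an equivalence on fibres over `ξ`. -/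
theorem isStackFor_iff [h𝒳 : IsFibGrpd 𝒳.p] (h𝒴 : IsFibGrpd 𝒴.p) :
    Stk.IsStackFor (sievePull x hx R) 𝒴 ↔ (Mtop 𝒴 R ξ).IsEquivalence := by
  have hP := P_isEquivOver x hx
  have hPR := PR_isEquivOver x hx R
  have eL : (Mleft 𝒴 x hx ξ c).IsEquivalence :=
    M_isEquivalence _ _ _ _ c.hom (restr_isEquivalence_of_isEquivOver _ _ hP)
      (restr_isEquivalence_of_isEquivOver _ _ hP)
  have eR : (Mright 𝒴 x hx R ξ c).IsEquivalence :=
    M_isEquivalence _ _ _ _ (cR x hx R ξ c).hom (restr_isEquivalence_of_isEquivOver _ _ hPR)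
      (restr_isEquivalence_of_isEquivOver _ _ hPR)
  have f1 : (fib (overCat x) 𝒴).IsEquivalence := fib_isEquivalence h𝒳 h𝒴
  have f2 : (fib (Stk.sieveCat (sievePull x hx R)) 𝒴).IsEquivalence := fib_isEquivalence h𝒳 h𝒴
  constructor
  · intro h
    have h0 : (Stk.restr (Stk.sieveIncl (sievePull x hx R)) 𝒴).IsEquivalence := h
    have h1 : (fib (overCat x) 𝒴 ⋙ Mmid 𝒴 x hx R).IsEquivalence :=
      Functor.isEquivalence_of_iso (lowerIso 𝒴 x hx R)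
    have h2 : (Mmid 𝒴 x hx R).IsEquivalence :=
      Functor.isEquivalence_of_comp_left (fib (overCat x) 𝒴) _
    have h3 : (Mtop 𝒴 R ξ ⋙ Mright 𝒴 x hx R ξ c).IsEquivalence :=
      Functor.isEquivalence_of_iso (upperIso 𝒴 x hx R ξ c).symm
    exact Functor.isEquivalence_of_comp_right (Mtop 𝒴 R ξ) (Mright 𝒴 x hx R ξ c)
  · intro h
    have h3 : (Mleft 𝒴 x hx ξ c ⋙ Mmid 𝒴 x hx R).IsEquivalence :=
      Functor.isEquivalence_of_iso (upperIso 𝒴 x hx R ξ c)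
    have h2 : (Mmid 𝒴 x hx R).IsEquivalence :=
      Functor.isEquivalence_of_comp_left (Mleft 𝒴 x hx ξ c) _
    have h1 : (Stk.restr (Stk.sieveIncl (sievePull x hx R)) 𝒴 ⋙
        fib (Stk.sieveCat (sievePull x hx R)) 𝒴).IsEquivalence :=
      Functor.isEquivalence_of_iso (lowerIso 𝒴 x hx R).symm
    exact Functor.isEquivalence_of_comp_right (Stk.restr (Stk.sieveIncl (sievePull x hx R)) 𝒴)
      (fib (Stk.sieveCat (sievePull x hx R)) 𝒴)

end Main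

section Applications

variable {𝒳 : BasedCategory.{v₂, u₂} C} {𝒴 : BasedCategory.{v₃, u₃} 𝒳.obj}

/-- the canonical identification `ξ ∘ P ≅ str` when `ξ(𝟙_V) ≅ x`. -/
theorem exists_c [h𝒳 : IsFibGrpd 𝒳.p] (x : 𝒳.obj) {V : C} (hx : 𝒳.p.obj x = V) (ξ : overCat V ⥤ᵇ 𝒳)
    (u : ξ.obj (Over.mk (𝟙 V)) ⟶ x) [hu : 𝒳.p.IsHomLift (𝟙 V) u] :
    Nonempty (BasedFunctor.comp (P x hx) ξ ≅ str (overCat x)) := by
  subst hx
  have key : ∀ a : Over x, ∃ χ : ξ.obj ((overPost x rfl).obj a) ⟶ a.left,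
      𝒳.p.IsHomLift (𝟙 (𝒳.p.obj a.left)) χ ∧
        χ ≫ a.hom = ξ.map (toId ((overPost x rfl).obj a)) ≫ u := by
    intro a
    have i0 := toId_isHomLift ((overPost x rfl).obj a)
    have i1 : 𝒳.p.IsHomLift ((overPost x rfl).obj a).hom (ξ.map (toId ((overPost x rfl).obj a))) :=
      inferInstance
    have i2 : 𝒳.p.IsHomLift (((overPost x rfl).obj a).hom ≫ 𝟙 _)
        (ξ.map (toId ((overPost x rfl).obj a)) ≫ u) := inferInstance
    exact FibTop.exists_factor 𝒳.p h𝒳 (f := 𝒳.p.map a.hom) (g := 𝟙 _)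
      (f' := ((overPost x rfl).obj a).hom ≫ 𝟙 _) (by simp) a.hom
      (ξ.map (toId ((overPost x rfl).obj a)) ≫ u)
  choose χ hχ1 hχ2 using key
  have hiso : ∀ a : Over x, IsIso (χ a) := by
    intro a
    have := hχ1 a
    have h := IsHomLift.fac' 𝒳.p (𝟙 (𝒳.p.obj a.left)) (χ a)
    have : IsIso (𝒳.p.map (χ a)) := by rw [h]; infer_instance
    exact isIso_of_isFibGrpd 𝒳.p h𝒳 _
  have hnat : ∀ {a b : Over x} (m : a ⟶ b),
      ξ.map ((overPost x rfl).map m) ≫ χ b = χ a ≫ m.left := by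
    intro a b m
    have i0 : (overCat (𝒳.p.obj x)).p.IsHomLift (𝒳.p.map m.left) ((overPost x rfl).map m) :=
      over_hom_isHomLift ((overPost x rfl).map m)
    have i1 : 𝒳.p.IsHomLift (𝒳.p.map m.left) (ξ.map ((overPost x rfl).map m)) := inferInstance
    have i2 := hχ1 b
    have i3 := hχ1 a
    have i4 : 𝒳.p.IsHomLift (𝒳.p.map m.left) (ξ.map ((overPost x rfl).map m) ≫ χ b) := inferInstance
    have i5 : 𝒳.p.IsHomLift (𝒳.p.map m.left) (χ a ≫ m.left) := inferInstance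
    apply FibTop.factor_ext 𝒳.p h𝒳 (𝒳.p.map b.hom) (𝒳.p.map m.left) b.hom
    rw [Category.assoc, hχ2 b, ← Category.assoc, map_comp_toId ξ ((overPost x rfl).map m),
      Category.assoc, Over.w m, hχ2 a]
  exact ⟨BasedNatIso.mkNatIso
    (NatIso.ofComponents (fun a => @asIso _ _ _ _ (χ a) (hiso a)) (fun {a b} m => hnat m))
    (fun a => hχ1 a)⟩

/-- the pulled back sieve of a covering sieve covers in the inherited topology. -/
theorem sievePull_mem [h𝒳 : IsFibGrpd 𝒳.p] (J : GrothendieckTopology C) (x : 𝒳.obj) {V : C}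
    (hx : 𝒳.p.obj x = V) (R : Sieve V) (hR : R ∈ J V) :
    sievePull x hx R ∈ 𝒳.p.restrictedTopology J x := by
  subst hx
  rw [FibTop.mem_iff 𝒳.p h𝒳 J]
  refine J.superset_covering ?_ hR
  intro W g hg
  obtain ⟨y, φ, hφ⟩ := h𝒳.exists_lift (x := x) g
  have hy : 𝒳.p.obj y = W := IsHomLift.domain_eq 𝒳.p g φ
  subst hy
  have hg' : g = 𝒳.p.map φ := IsHomLift.eq_of_isHomLift 𝒳.p g φ
  refine ⟨y, φ, 𝟙 _, ?_, by rw [Category.id_comp]; exact hg'⟩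
  change R (𝒳.p.map φ ≫ eqToHom rfl)
  rw [eqToHom_refl, Category.comp_id, ← hg']
  exact hg

/-- every sieve on `x` is pulled back from its image. -/
theorem eq_sievePull [h𝒳 : IsFibGrpd 𝒳.p] (x : 𝒳.obj) (S : Sieve x) :
    S = sievePull x rfl (S.functorPushforward 𝒳.p) := by
  ext y φ
  constructor
  · intro h
    change (S.functorPushforward 𝒳.p) (𝒳.p.map φ ≫ eqToHom rfl)
    exact ⟨y, φ, 𝟙 _, h, by simp⟩
  · rintro ⟨z, ψ, g, hψ, hg⟩
    have hg2 : 𝒳.p.map φ = g ≫ 𝒳.p.map ψ := by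
      rw [← hg]; simp
    obtain ⟨χ, hχ1, hχ2⟩ := FibTop.exists_factor' 𝒳.p h𝒳 ψ φ g hg2
    rw [← hχ2]
    exact S.downward_closed hψ χ

/-- A stack over a stack (for the inherited topology) is a stack over the base. -/
theorem isStack_tot (J : GrothendieckTopology C) (h𝒳 : Stk.IsStack J 𝒳)
    (h𝒴 : Stk.IsStack (𝒳.p.restrictedTopology J) 𝒴) : Stk.IsStack J (tot 𝒳 𝒴) := by
  have hX : IsFibGrpd 𝒳.p := h𝒳.1
  refine ⟨isFibGrpd_comp 𝒴.p 𝒳.p h𝒴.1 hX, ?_⟩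
  intro V R hR
  have hG : (Stk.restr (Stk.sieveIncl R) 𝒳).IsEquivalence := h𝒳.2 R hR
  change (Stk.restr (Stk.sieveIncl R) (tot 𝒳 𝒴)).IsEquivalence
  apply CostrEquiv.isEquivalence_of_map₂ (post (overCat V) (str 𝒴)) (post (Stk.sieveCat R) (str 𝒴))
    (Stk.restr (Stk.sieveIncl R) (tot 𝒳 𝒴)) (Stk.restr (Stk.sieveIncl R) 𝒳)
    (sqIso (Stk.sieveIncl R) (str 𝒴))
  intro ξ
  change (Mtop 𝒴 R ξ).IsEquivalence
  have hx : 𝒳.p.obj (ξ.obj (Over.mk (𝟙 V))) = V := ξ.w_obj _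
  have hu : 𝒳.p.IsHomLift (𝟙 V) (𝟙 (ξ.obj (Over.mk (𝟙 V)))) := IsHomLift.id hx
  obtain ⟨c⟩ := exists_c (ξ.obj (Over.mk (𝟙 V))) hx ξ (𝟙 _)
  exact (isStackFor_iff _ hx R ξ c h𝒴.1).1 (h𝒴.2 _ (sievePull_mem J _ hx R hR))

/-- If the total category of `𝒴 ⟶ 𝒳` is a stack and `𝒳` is a stack, then `𝒴` is a stack over `𝒳`
for the inherited topology. -/
theorem isStack_over (J : GrothendieckTopology C) (h𝒳 : Stk.IsStack J 𝒳) (hq : IsFibGrpd 𝒴.p)
    (hT : Stk.IsStack J (tot 𝒳 𝒴)) : Stk.IsStack (𝒳.p.restrictedTopology J) 𝒴 := by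
  have hX : IsFibGrpd 𝒳.p := h𝒳.1
  refine ⟨hq, ?_⟩
  intro x S hS
  have hR : S.functorPushforward 𝒳.p ∈ J (𝒳.p.obj x) := (FibTop.mem_iff 𝒳.p hX J S).1 hS
  rw [eq_sievePull x S]
  have hY := evalAtId_isEquivalence_of_isFibGrpd hX (𝒳.p.obj x)
  let x' : 𝒳.p.Fiber (𝒳.p.obj x) := ⟨x, rfl⟩
  let ξ := (FibCat.evalAtId 𝒳 (𝒳.p.obj x)).objPreimage x'
  let e : (FibCat.evalAtId 𝒳 (𝒳.p.obj x)).obj ξ ≅ x' :=
    (FibCat.evalAtId 𝒳 (𝒳.p.obj x)).objObjPreimageIso x'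
  have hu : 𝒳.p.IsHomLift (𝟙 (𝒳.p.obj x)) e.hom.1 := e.hom.2
  obtain ⟨c⟩ := exists_c x rfl ξ e.hom.1
  refine (isStackFor_iff x rfl _ ξ c hq).2 ?_
  unfold Mtop
  exact M_isEquivalence _ _ _ _ (𝟙 _) (hT.2 _ hR) (h𝒳.2 _ hR)

end Applications

end Groth.Agent.Lib.Helper65.StackOverStack
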