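import Groth.Prelude.Def_StGerb
import Groth.Agent.Lib.Helper65.StackOverStack

/-!
# Helper65: a gerbe `𝒳' ⟶ 𝒴` over `C`, fibred in groupoids over `𝒴`, is locally non-empty and locally
connected over the site `𝒴`.
-/

set_option autoImplicit false
set_option backward.isDefEq.respectTransparency false
set_option backward.isDefEq.respectTransparency.types false

universe v₄ u₄ v₃ u₃ v₂ u₂ v u

open CategoryTheory CategoryTheory.Functor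

namespace Groth.Agent.Lib.Helper65.GerbeOverStack

open FibCat Groth.Agent.Lib.Helper31 Groth.Agent.Lib.Helper65

variable {C : Type u} [Category.{v} C] (J : GrothendieckTopology C)
variable {𝒳 : BasedCategory.{v₂, u₂} C} {𝒳' : BasedCategory.{v₃, u₃} C} {𝒴 : BasedCategory.{v₄, u₄} C}

theorem locSurjObj_aux (hY : IsFibGrpd 𝒴.p) (a : 𝒳 ⥤ᵇ 𝒳') (F' : 𝒳' ⥤ᵇ 𝒴)
    (hF' : IsFibGrpd F'.toFunctor) (hF : Gerb.LocSurjObj J (BasedFunctor.comp a F')) (y : 𝒴.obj) :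
    ∃ R ∈ (𝒴.p.restrictedTopology J) y, ∀ ⦃y' : 𝒴.obj⦄ (f : y' ⟶ y), R f →
      ∃ (x : 𝒳'.obj) (g : F'.obj x ⟶ y), (𝟭 𝒴.obj).IsHomLift f g := by
  obtain ⟨R₀, hR₀, H⟩ := hF y
  refine ⟨OverPostEq.sievePull (𝒳 := 𝒴) y rfl R₀, StackOverStack.sievePull_mem J y rfl R₀ hR₀, ?_⟩
  intro y' f hf
  have hf' : R₀ (𝒴.p.map f) := by
    have h : R₀ (𝒴.p.map f ≫ eqToHom rfl) := hf
    rw [eqToHom_refl, Category.comp_id] at h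
    exact h
  obtain ⟨x, g, hg⟩ := H (𝒴.p.map f) hf'
  obtain ⟨θ, hθ1, hθ2⟩ := FibTop.exists_factor 𝒴.p hY (f := 𝒴.p.map f)
    (g := 𝟙 _) (f' := 𝒴.p.map f) (by simp) f g
  have hθiso : IsIso θ := by
    have h := IsHomLift.fac' 𝒴.p (𝟙 (𝒴.p.obj y')) θ
    have : IsIso (𝒴.p.map θ) := by rw [h]; infer_instance
    exact isIso_of_isFibGrpd 𝒴.p hY θ
  obtain ⟨x'', φ, hφ⟩ := hF'.exists_lift (x := a.obj x) (inv θ)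
  have hx'' : F'.obj x'' = y' := IsHomLift.domain_eq F'.toFunctor (inv θ) φ
  refine ⟨x'', eqToHom hx'' ≫ f, ?_⟩
  apply IsHomLift.of_commsq (𝟭 𝒴.obj) f (eqToHom hx'' ≫ f) hx'' rfl
  simp

theorem locSurjHom_aux (hY : IsFibGrpd 𝒴.p) (a : 𝒳 ⥤ᵇ 𝒳') (ha : IsEquivOver a) (F' : 𝒳' ⥤ᵇ 𝒴)
    (hF' : IsFibGrpd F'.toFunctor) (hF : Gerb.LocSurjHom J (BasedFunctor.comp a F'))
    (x x' : 𝒳'.obj) (b : F'.obj x ⟶ F'.obj x') (hb : (𝟭 𝒴.obj).IsHomLift (𝟙 (F'.obj x)) b) :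
    ∃ R ∈ (𝒴.p.restrictedTopology J) (F'.obj x), ∀ ⦃y' : 𝒴.obj⦄ (f : y' ⟶ F'.obj x), R f →
      ∃ (x₀ : 𝒳'.obj) (φ : x₀ ⟶ x) (ψ : x₀ ⟶ x'),
        F'.toFunctor.IsHomLift f φ ∧ F'.toFunctor.IsHomLift f ψ ∧ F'.map φ ≫ b = F'.map ψ := by
  obtain ⟨-, -, hess⟩ := isEquivOver_full_faithful_ess a ha
  obtain ⟨x₁, ε, hε⟩ := hess x
  obtain ⟨x₁', ε', hε'⟩ := hess x'
  have hcod : F'.obj x' = F'.obj x := IsHomLift.codomain_eq (𝟭 𝒴.obj) (𝟙 (F'.obj x)) b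
  have hbeq : b = eqToHom hcod.symm := by
    have h := IsHomLift.fac' (𝟭 𝒴.obj) (𝟙 (F'.obj x)) b
    simpa using h
  have hpx : 𝒳'.p.obj x' = 𝒳'.p.obj x := by
    rw [← F'.w_obj x', ← F'.w_obj x, hcod]
  have hb2 : 𝒴.p.IsHomLift (𝟙 (𝒳'.p.obj x)) b := by
    rw [hbeq]
    exact IsHomLift.eqToHom_domain_lift_id hcod.symm (F'.w_obj x)
  have hx₁ : 𝒳.p.obj x₁ = 𝒳'.p.obj x := by
    rw [← a.w_obj x₁]
    exact IsHomLift.domain_eq 𝒳'.p (𝟙 (𝒳'.p.obj x)) ε.hom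
  have i1 : 𝒴.p.IsHomLift (𝟙 (𝒳'.p.obj x)) (F'.map ε.hom) := inferInstance
  have hε'2 : 𝒳'.p.IsHomLift (𝟙 (𝒳'.p.obj x)) ε'.hom := by rw [← hpx]; exact hε'
  have i2 : 𝒳'.p.IsHomLift (𝟙 (𝒳'.p.obj x)) ε'.inv := inferInstance
  have i3 : 𝒴.p.IsHomLift (𝟙 (𝒳'.p.obj x)) (F'.map ε'.inv) := inferInstance
  obtain ⟨b₁, hb₁def⟩ : ∃ b₁ : (BasedFunctor.comp a F').obj x₁ ⟶ (BasedFunctor.comp a F').obj x₁',
      b₁ = F'.map ε.hom ≫ b ≫ F'.map ε'.inv := ⟨_, rfl⟩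
  have hb₁ : 𝒴.p.IsHomLift (𝟙 (𝒳.p.obj x₁)) b₁ := by
    rw [hb₁def, hx₁]
    infer_instance
  obtain ⟨R₀, hR₀, H⟩ := hF x₁ x₁' b₁ hb₁
  have hV : 𝒴.p.obj (F'.obj x) = 𝒳.p.obj x₁ := (F'.w_obj x).trans hx₁.symm
  refine ⟨OverPostEq.sievePull (𝒳 := 𝒴) (F'.obj x) hV R₀,
    StackOverStack.sievePull_mem J _ hV R₀ hR₀, ?_⟩
  intro y' f hf
  have hf' : R₀ (𝒴.p.map f ≫ eqToHom hV) := hf
  obtain ⟨x₀, φ, ψ, hφ, hψ, hcomm⟩ := H _ hf'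
  obtain ⟨φ', hφ'def⟩ : ∃ φ' : a.obj x₀ ⟶ x, φ' = a.map φ ≫ ε.hom := ⟨_, rfl⟩
  obtain ⟨ψ', hψ'def⟩ : ∃ ψ' : a.obj x₀ ⟶ x', ψ' = a.map ψ ≫ ε'.hom := ⟨_, rfl⟩
  have hcomm' : F'.map φ' ≫ b = F'.map ψ' := by
    have h1 : F'.map (a.map φ) ≫ b₁ = F'.map (a.map ψ) := hcomm
    rw [hφ'def, hψ'def, F'.map_comp, F'.map_comp, ← h1, hb₁def]
    simp only [Category.assoc]
    rw [← F'.map_comp, Iso.inv_hom_id, CategoryTheory.Functor.map_id, Category.comp_id]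
  have j1 : 𝒳'.p.IsHomLift (𝒴.p.map f ≫ eqToHom hV) (a.map φ) := inferInstance
  have j2 : 𝒳'.p.IsHomLift ((𝒴.p.map f ≫ eqToHom hV) ≫ 𝟙 _) (a.map φ ≫ ε.hom) := by
    have : 𝒳'.p.IsHomLift (𝟙 (𝒳.p.obj x₁)) ε.hom := by rw [hx₁]; exact hε
    infer_instance
  have j3 : 𝒴.p.IsHomLift ((𝒴.p.map f ≫ eqToHom hV) ≫ 𝟙 _) (F'.map φ') := by
    rw [hφ'def]
    infer_instance
  have j4 : 𝒴.p.IsHomLift (𝒴.p.map f) (F'.map φ') := by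
    have h := IsHomLift.fac' 𝒴.p ((𝒴.p.map f ≫ eqToHom hV) ≫ 𝟙 _) (F'.map φ')
    apply IsHomLift.of_fac' 𝒴.p (𝒴.p.map f) (F'.map φ')
      (IsHomLift.domain_eq 𝒴.p ((𝒴.p.map f ≫ eqToHom hV) ≫ 𝟙 _) (F'.map φ')) rfl
    rw [h]
    simp
  obtain ⟨θ, hθ1, hθ2⟩ := FibTop.exists_factor 𝒴.p hY (f := 𝒴.p.map f)
    (g := 𝟙 _) (f' := 𝒴.p.map f) (by simp) (F'.map φ') f
  obtain ⟨x₀', χ, hχ⟩ := hF'.exists_lift (x := a.obj x₀) θ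
  have hFχ := IsHomLift.fac' F'.toFunctor θ χ
  have hx₀' : F'.obj x₀' = y' := IsHomLift.domain_eq F'.toFunctor θ χ
  have hFφ : F'.map (χ ≫ φ') = eqToHom hx₀' ≫ f := by
    rw [F'.map_comp, hFχ]
    simp only [Category.assoc, eqToHom_refl, Category.id_comp]
    rw [hθ2]
  refine ⟨x₀', χ ≫ φ', χ ≫ ψ', ?_, ?_, ?_⟩
  · apply IsHomLift.of_fac' F'.toFunctor f (χ ≫ φ') hx₀' rfl
    rw [hFφ]
    simp
  · apply IsHomLift.of_fac' F'.toFunctor f (χ ≫ ψ') hx₀' hcod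
    have : F'.toFunctor.map (χ ≫ ψ') = F'.map (χ ≫ φ') ≫ b := by
      rw [F'.map_comp, F'.map_comp, Category.assoc, hcomm']
    rw [this, hFφ, hbeq]
    simp
  · rw [F'.map_comp, F'.map_comp, Category.assoc, hcomm']

end Groth.Agent.Lib.Helper65.GerbeOverStack
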