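import Groth.Agent.Lib.Helper65.GerbeSection
import Groth.Agent.Lib.Helper66.LocQFppfDesc
import Groth.Agent.Lib.Helper66.AlgSpSmLocalSmooth
import Groth.Agent.H53.FppfSource3
import Groth.Agent.S13039

/-!
# Helper65: a gerbe morphism of algebraic stacks is smooth
-/

set_option autoImplicit false
set_option backward.isDefEq.respectTransparency false
set_option backward.isDefEq.respectTransparency.types false

universe u

open CategoryTheory CategoryTheory.Functor CategoryTheory.Limits Opposite AlgebraicGeometry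

namespace Groth.Agent.Lib.Helper65.GerbeSmooth

open FibCat Groth.Agent.Lib.Helper31 Groth.Agent.Lib.Helper65 Groth.Agent.Lib.Helper51 Gerb
  Groth.Agent.Lib.Helper66 Groth.Agent.Lib.Helper66.AlgStLocQSq Groth.Agent.Lib.Helper65.GerbeSection

variable {S : Scheme.{u}} {𝒳 𝒴 𝒵 : AlgSt.Cat S}

section FE

/-- Family version of `repByAlgSpWith_of_locally_essSurj`. -/
theorem repByAlgSpWith_of_locally_essSurj_fam {κ : Type*} (𝒵 : κ → AlgSt.Cat S)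
    (h𝒳 : IsFibGrpd 𝒳.p) (h𝒴 : IsFibGrpd 𝒴.p) (h𝒵 : ∀ j, IsFibGrpd (𝒵 j).p)
    (P : MorphismProperty (AlgSp.Sp S)) (hPb : StableBC P)
    (hP : AlgSp.IsLocalOnBase AlgSp.IsFppfCover P)
    (f : 𝒳 ⥤ᵇ 𝒴) (hf : AlgSt.RepByAlgSp1 f) (g : ∀ j, 𝒵 j ⥤ᵇ 𝒴)
    (hg : ∀ (U : Over S) (y : FibCat.overCat U ⥤ᵇ 𝒴), ∃ R ∈ (QuotSh.J Scheme.fppfPrecoverage S) U,
      ∀ ⦃V : Over S⦄ (h : V ⟶ U), R.arrows h →
        ∃ (j : κ) (z : FibCat.overCat V ⥤ᵇ 𝒵 j),
          Nonempty (BasedFunctor.comp z (g j) ≅ BasedFunctor.comp (AlgSt.overMap h) y))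
    (h' : ∀ j, AlgSt.RepByAlgSpWith P (FibCat.fpFst (g j) f)) :
    AlgSt.RepByAlgSpWith P f := by
  intro U y
  let Z : AlgSp.Space S := ⟨(AlgSp.yon S).obj U, AlgSp.IsAlgSpace.yon_obj U⟩
  let y₁ : AlgSt.ofSp Z.obj ⥤ᵇ 𝒴 := BasedFunctor.comp (AlgSt.toOverCat U) y
  obtain ⟨F, c, E₁, hE₁, ⟨i₁⟩⟩ := exists_space_fp h𝒳 h𝒴 f hf Z y₁
  let Φ : fp y₁ f ⥤ᵇ fp y f :=
    fpMap (F := y₁) (G := f) (F' := y) (G' := f) (AlgSt.toOverCat U)
      (BasedFunctor.id _) (BasedFunctor.id _) (Iso.refl _) (Iso.refl _)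
  have hΦ : IsEquivOver Φ :=
    fpMap_isEquivOver _ _ _ _ _ (toOverCat_isEquivOver U) (isEquivOver_id _) (isEquivOver_id _)
  refine ⟨F, BasedFunctor.comp E₁ Φ, isEquivOver_comp E₁ Φ hE₁ hΦ, ?_⟩
  have j : BasedFunctor.comp (BasedFunctor.comp E₁ Φ) (fpFst y f) ≅
      BasedFunctor.comp (AlgSt.ofSpMap c.hom) (AlgSt.toOverCat U) :=
    bWhiskerRightIso i₁ (AlgSt.toOverCat U)
  rw [spMapOfOver_congr j, spMapOfOver_ofSpMap_toOverCat]
  obtain ⟨R, hR, hR'⟩ := hg U y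
  obtain ⟨ι, V, h, hRh, h1, h2, h3⟩ := exists_fppf_family_of_mem_J hR
  refine prop_of_cover P hP f y₁ E₁ hE₁ c i₁
    (fun i => ⟨(AlgSp.yon S).obj (V i), AlgSp.IsAlgSpace.yon_obj (V i)⟩)
    (fun i => ObjectProperty.homMk ((AlgSp.yon S).map (h i))) (isFppfCover_yon V h h1 h2 h3) (fun i => ?_)
  obtain ⟨j₀, z, ⟨iz⟩⟩ := hR' (h i) (hRh i)
  have hfib : IsFibGrpd (fp (g j₀) f).p := isFibGrpd_fp (g j₀) f (h𝒵 j₀) h𝒳 h𝒴
  let G : AlgSp.Space S := ⟨(AlgSp.yon S).obj (V i), AlgSp.IsAlgSpace.yon_obj (V i)⟩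
  let z' : AlgSt.ofSp G.obj ⥤ᵇ 𝒵 j₀ := BasedFunctor.comp (AlgSt.toOverCat (V i)) z
  obtain ⟨V', a', e', he', ⟨i'⟩, hPa'⟩ :=
    exists_rep_ofSp_of_repByAlgSpWith P hPb hP hfib (h𝒵 j₀) (fpFst (g j₀) f) (h' j₀) G z'
  refine ⟨BasedFunctor.comp z' (g j₀), ?_, V', a', BasedFunctor.comp e' (fpPasteFst z' (g j₀) f),
    isEquivOver_comp _ _ he' (fpPasteFst_isEquivOver z' (g j₀) f), ⟨i'⟩, hPa'⟩
  exact bWhiskerLeftIso (AlgSt.toOverCat (V i)) iz

end FE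

section G1

/-- fppf descent of smoothness on the source for morphisms of schemes seen as maps of sheaves. -/
theorem locP_smooth_yon_of_comp {U V W : Over S} (h : U ⟶ V) (k : V ⟶ W)
    (hh₁ : AlgSp.LocP @Flat ((AlgSp.yon S).map h))
    (hh₂ : AlgSp.LocP @LocallyOfFinitePresentation ((AlgSp.yon S).map h))
    (hs : AlgSp.IsSurjectiveMor ((AlgSp.yon S).map h))
    (hhk : AlgSp.LocP @Smooth ((AlgSp.yon S).map (h ≫ k))) :
    AlgSp.LocP @Smooth ((AlgSp.yon S).map k) :=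
  Groth.Agent.H53.FppfSource.smooth_of_fppf_comp (AlgSp.IsAlgSpace.yon_obj U)
    (AlgSp.IsAlgSpace.yon_obj V) (AlgSp.IsAlgSpace.yon_obj W) ((AlgSp.yon S).map h)
    ((AlgSp.yon S).map k) hs hh₁ hh₂ (by rw [← Functor.map_comp]; exact hhk)

/-- A gerbe over a scheme with a section is smooth. -/
theorem locQ_smooth_of_section (h𝒳 : AlgSt.IsAlgStack Scheme.fppfPrecoverage 𝒳) (V : Over S)
    (f : 𝒳 ⥤ᵇ FibCat.overCat V) (hf : IsGerbeOver (AlgSp.J S) f)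
    (σ : FibCat.overCat V ⥤ᵇ 𝒳) (ε : BasedFunctor.comp σ f ≅ BasedFunctor.id _) :
    AlgSt.LocQ (AlgSp.LocP @Smooth) f := by
  have hfX : IsFibGrpd 𝒳.p := h𝒳.isStack.1
  have hV := isAlgStack_overCat V
  have hfV : IsFibGrpd (FibCat.overCat V).p := isFibGrpd_overForget V
  let U : AlgSp.Space S := ⟨(AlgSp.yon S).obj V, AlgSp.IsAlgSpace.yon_obj V⟩
  have hfU : IsFibGrpd (AlgSt.ofSp U.obj).p := Stk.isFibGrpd_ofPsh _
  let π : 𝒳 ⥤ᵇ AlgSt.ofSp U.obj := BasedFunctor.comp f (AlgSt.ofOverCat V)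
  have hπ : IsGerbeOver (AlgSp.J S) π :=
    isGerbeOver_comp _ hfX hfV f (AlgSt.ofOverCat V) hf
      (isGerbeOver_of_isEquivOver _ hfV _ (ofOverCat_isEquivOver V))
  let x : AlgSt.ofSp U.obj ⥤ᵇ 𝒳 := BasedFunctor.comp (AlgSt.toOverCat V) σ
  let e : BasedFunctor.comp x π ≅ BasedFunctor.id (AlgSt.ofSp U.obj) :=
    bWhiskerLeftIso (AlgSt.toOverCat V) (bWhiskerRightIso ε (AlgSt.ofOverCat V))
  obtain ⟨h1, h2, h3⟩ := section_flat_lfp_surjective h𝒳 U π hπ x e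
  have hσ₁ : AlgSt.RepByAlgSpWith (AlgSp.LocP @Flat) σ :=
    repByAlgSpWith_equiv_comp _ (AlgSt.ofOverCat V) (ofOverCat_isEquivOver V) x h1
  have hσ₂ : AlgSt.RepByAlgSpWith (AlgSp.LocP @LocallyOfFinitePresentation) σ :=
    repByAlgSpWith_equiv_comp _ (AlgSt.ofOverCat V) (ofOverCat_isEquivOver V) x h2
  have hσ₃ : AlgSt.RepByAlgSpWith AlgSp.IsSurjectiveMor σ :=
    repByAlgSpWith_equiv_comp _ (AlgSt.ofOverCat V) (ofOverCat_isEquivOver V) x h3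
  have hPF : AlgSp.IsSmoothLocalST (AlgSp.LocP (S := S) @Flat) := isSmoothLocalST_locP_flat
  have hPL : AlgSp.IsSmoothLocalST (AlgSp.LocP (S := S) @LocallyOfFinitePresentation) :=
    Groth.Agent.Lib.Helper66.AlgSpSmLocalLft.isSmoothLocalST_locP_lfp
  have hPS : AlgSp.IsSmoothLocalST (AlgSp.LocP (S := S) @Smooth) :=
    Groth.Agent.Lib.Helper66.AlgSpSmLocalLft.isSmoothLocalST_locP_smooth
  have hid : AlgSt.LocQ (AlgSp.LocP @Smooth) (BasedFunctor.id (FibCat.overCat V)) :=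
    locQ_of_repByAlgSpWith _ hPS hfV hfV hV.atlas _ (LocQFlat.repByAlgSpWith_smooth_id _)
  exact LocQFppfDesc.locQ_of_comp_fppf (AlgSp.LocP @Smooth) hPS
    (fun h k hh₁ hh₂ hs hhk => locP_smooth_yon_of_comp h k hh₁ hh₂ hs hhk) hV h𝒳 hV σ f
    (locQ_of_repByAlgSpWith _ hPF hfV hfX h𝒳.atlas σ hσ₁)
    (locQ_of_repByAlgSpWith _ hPL hfV hfX h𝒳.atlas σ hσ₂)
    (isSurjective_of_repByAlgSpWith hfV hfX σ hσ₃)
    (LocQFlat.locQ_of_iso _ ε.symm hid)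

end G1

section BL

/-- Smoothness of a morphism from an algebraic stack to a scheme may be checked after base change along
an fppf covering family of the scheme. -/
theorem locQ_smooth_of_cover (h𝒳 : AlgSt.IsAlgStack Scheme.fppfPrecoverage 𝒳) (V : Over S)
    (f : 𝒳 ⥤ᵇ FibCat.overCat V) {ι : Type u} (Vi : ι → Over S) (v : ∀ i, Vi i ⟶ V)
    (hgen : Sieve.generate (Presieve.ofArrows Vi v) ∈ AlgSp.J S V)
    (h : ∀ i, AlgSt.LocQ (AlgSp.LocP @Smooth) (fpFst (AlgSt.overMap (v i)) f)) :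
    AlgSt.LocQ (AlgSp.LocP @Smooth) f := by
  have hfX : IsFibGrpd 𝒳.p := h𝒳.isStack.1
  have hV := isAlgStack_overCat V
  have hfV : IsFibGrpd (FibCat.overCat V).p := isFibGrpd_overForget V
  have hPS : AlgSp.IsSmoothLocalST (AlgSp.LocP (S := S) @Smooth) :=
    Groth.Agent.Lib.Helper66.AlgSpSmLocalLft.isSmoothLocalST_locP_smooth
  obtain ⟨W, a, ha1, ha2⟩ := h𝒳.atlas
  have hfW : IsFibGrpd (FibCat.overCat W).p := isFibGrpd_overForget W
  obtain ⟨k, -, ⟨α⟩⟩ := exists_iso_overMap (BasedFunctor.comp a f)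
  suffices hk' : AlgSp.LocP @Smooth ((AlgSp.yon S).map k) from
    ⟨W, V, a, BasedFunctor.id _, k, α, ha1, ha2, LocQFlat.repByAlgSpWith_smooth_id _, hk'⟩
  have hrep1 : AlgSt.RepByAlgSp1 (AlgSt.overMap k) :=
    repByAlgSp1_of_repByAlgSp _ (repByAlgSp_overCat W) (repByAlgSp_overCat V)
  have hrep : AlgSt.RepByAlgSpWith (AlgSp.LocP @Smooth) (AlgSt.overMap k) := by
    refine repByAlgSpWith_of_locally_essSurj_fam (fun i => FibCat.overCat (Vi i)) hfW hfV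
      (fun i => isFibGrpd_overForget (Vi i)) (AlgSp.LocP @Smooth) stableBC_locP_smooth
      isLocalOnBase_fppf_locP_smooth (AlgSt.overMap k) hrep1 (fun i => AlgSt.overMap (v i)) ?_ ?_
    · intro T y
      obtain ⟨c, -, ⟨γ⟩⟩ := exists_iso_overMap y
      refine ⟨(Sieve.generate (Presieve.ofArrows Vi v)).pullback c,
        (AlgSp.J S).pullback_stable c hgen, ?_⟩
      rintro T' t ⟨Y, k', g, ⟨i⟩, hk'⟩
      refine ⟨i, AlgSt.overMap k', ⟨?_⟩⟩
      exact overMapComp k' (v i) ≪≫ eqToIso (by rw [hk']) ≪≫ (overMapComp t c).symm ≪≫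
        bWhiskerLeftIso (AlgSt.overMap t) γ.symm
    · intro i
      have hfVi : IsFibGrpd (FibCat.overCat (Vi i)).p := isFibGrpd_overForget (Vi i)
      let G := AlgSt.overMap (v i)
      have hfib : IsFibGrpd (fp G (AlgSt.overMap k)).p := isFibGrpd_fp _ _ hfVi hfW hfV
      have hrep1' : AlgSt.RepByAlgSp1 (fpFst G (AlgSt.overMap k)) :=
        (repByAlgSp1_iff_top _).2 (repByAlgSpWith_fpFst ⊤ (AlgSt.overMap k) G
          ((repByAlgSp1_iff_top _).1 hrep1))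
      refine repByAlgSpWith_of_locQ _ hPS stableBC_locP_smooth isLocalOnBase_fppf_locP_smooth hfib hfVi
        _ hrep1' ?_
      -- the chain of equivalences
      have hfib1 : IsFibGrpd (fp G f).p := isFibGrpd_fp _ _ hfVi hfX hfV
      have hfib2 : IsFibGrpd (fp (fpSnd G f) a).p := isFibGrpd_fp _ _ hfib1 hfW hfX
      let Ψ : fp (fpSnd G f) a ⥤ᵇ fp G (BasedFunctor.comp a f) := fpPasteSnd G f a
      let Θ : fp G (BasedFunctor.comp a f) ⥤ᵇ fp G (AlgSt.overMap k) :=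
        fpMap (F := G) (G := BasedFunctor.comp a f) (F' := G) (G' := AlgSt.overMap k)
          (BasedFunctor.id _) (BasedFunctor.id _) (BasedFunctor.id _) (Iso.refl _) α
      have hΨ : IsEquivOver Ψ := fpPasteSnd_isEquivOver G f a
      have hΘ : IsEquivOver Θ :=
        fpMap_isEquivOver _ _ _ _ _ (isEquivOver_id _) (isEquivOver_id _) (isEquivOver_id _)
      let E := BasedFunctor.comp Ψ Θ
      have hE : IsEquivOver E := isEquivOver_comp _ _ hΨ hΘ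
      have h0 : AlgSt.LocQ (AlgSp.LocP @Smooth)
          (BasedFunctor.comp (fpFst (fpSnd G f) a) (fpFst G f)) :=
        locQ_precomp_smooth _ hPS hfib2 hfib1 hfVi (fpFst (fpSnd G f) a) (fpFst G f)
          (repByAlgSpWith_fpFst _ a (fpSnd G f) ha1) (h i)
      have e0 : BasedFunctor.comp E (fpFst G (AlgSt.overMap k)) =
          BasedFunctor.comp (fpFst (fpSnd G f) a) (fpFst G f) := rfl
      obtain ⟨E', hE', ⟨i₁⟩, ⟨i₂⟩⟩ := exists_inverse_equivOver E hE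
      have hE's : AlgSt.RepByAlgSpWith (AlgSp.LocP @Smooth) E' :=
        repByAlgSpWith_of_isEquivOver _ (fun U => Groth.Agent.Lib.Helper54.locP_smooth_id _) _ hE'
      have h1 : AlgSt.LocQ (AlgSp.LocP @Smooth)
          (BasedFunctor.comp E' (BasedFunctor.comp E (fpFst G (AlgSt.overMap k)))) := by
        rw [e0]
        exact locQ_precomp_smooth _ hPS hfib hfib2 hfVi E' _ hE's h0
      exact LocQFlat.locQ_of_iso _ (bWhiskerRightIso i₂ (fpFst G (AlgSt.overMap k))) h1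
  exact prop_of_locQ_overMap _ hPS k (locQ_of_repByAlgSpWith _ hPS hfW hfV hV.atlas _ hrep)

end BL

section Main

/-- **A gerbe morphism of algebraic stacks is smooth.** -/
theorem locQ_smooth_of_isGerbeOver (h𝒳 : AlgSt.IsAlgStack Scheme.fppfPrecoverage 𝒳)
    (h𝒴 : AlgSt.IsAlgStack Scheme.fppfPrecoverage 𝒴) (f : 𝒳 ⥤ᵇ 𝒴)
    (hf : IsGerbeOver (AlgSp.J S) f) : AlgSt.LocQ (AlgSp.LocP @Smooth) f := by
  have hfX : IsFibGrpd 𝒳.p := h𝒳.isStack.1
  have hfY : IsFibGrpd 𝒴.p := h𝒴.isStack.1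
  obtain ⟨V, w, hw1, hw2⟩ := h𝒴.atlas
  have hV := isAlgStack_overCat V
  have hfV : IsFibGrpd (FibCat.overCat V).p := isFibGrpd_overForget V
  refine LocQFlat.locQ_of_locQ_fpFst _ hfX hfY hfV f w hw1 hw2 ?_
  have h𝒳₁ : AlgSt.IsAlgStack Scheme.fppfPrecoverage (fp w f) :=
    Groth.Agent.S12763.result h𝒴.isStack h𝒴.diag hV h𝒳 w f
  have hf₁ : IsGerbeOver (AlgSp.J S) (fpFst w f) := isGerbeOver_fpFst _ hfX hfY hfV f w hf
  have hfib₁ : IsFibGrpd (fp w f).p := h𝒳₁.isStack.1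
  have hsv := objSieve_mem (AlgSp.J S) hfib₁ (fpFst w f) hf₁.1
    (Over.mk (𝟙 V) : (FibCat.overCat V).obj) (rfl : (FibCat.overCat V).p.obj (Over.mk (𝟙 V)) = V)
  obtain ⟨ι, Vi, v, hmem, -, -, hgen⟩ := exists_fppf_family_generate hsv
  refine locQ_smooth_of_cover h𝒳₁ V (fpFst w f) Vi v hgen (fun i => ?_)
  have hfVi : IsFibGrpd (FibCat.overCat (Vi i)).p := isFibGrpd_overForget (Vi i)
  obtain ⟨p, g, hg⟩ := hmem i
  have hp : (fp w f).p.obj p = Vi i := by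
    rw [← (fpFst w f).w_obj]; exact IsHomLift.domain_eq (FibCat.overCat V).p (v i) g
  obtain ⟨s, ε₀, hε₀⟩ := EssDim.exists_functor_of_obj_over hfib₁ p (Vi i) hp
  have := isIso_of_isHomLift_id hfib₁ ε₀ hε₀
  have hinv : (fp w f).p.IsHomLift (𝟙 (Vi i)) (inv ε₀) := inferInstance
  have hfinv : (FibCat.overCat V).p.IsHomLift (𝟙 (Vi i)) ((fpFst w f).map (inv ε₀)) :=
    BasedFunctor.preserves_isHomLift (fpFst w f) _ _
  have hg' : (FibCat.overCat V).p.IsHomLift (v i) ((fpFst w f).map (inv ε₀) ≫ g) :=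
    isHomLift_comp_id_left _ (v i) _ _ hfinv hg
  let m : (AlgSt.overMap (v i)).obj (Over.mk (𝟙 (Vi i))) ⟶ Over.mk (𝟙 V) :=
    Over.homMk (v i) (by simp [AlgSt.overMap])
  have hm : (FibCat.overCat V).p.IsHomLift (v i) m :=
    (inferInstance : (FibCat.overCat V).p.IsHomLift ((FibCat.overCat V).p.map m) m)
  obtain ⟨κ, hκ, -⟩ := exists_comparison hfV (v i) ((fpFst w f).map (inv ε₀) ≫ g) hg' m hm
  obtain ⟨β⟩ := nonempty_iso_of_hom_at_id hfV (AlgSt.overMap (v i))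
    (BasedFunctor.comp s (fpFst w f)) κ.hom hκ
  let β' : BasedFunctor.comp (BasedFunctor.id (FibCat.overCat (Vi i))) (AlgSt.overMap (v i)) ≅
      BasedFunctor.comp s (fpFst w f) := β
  let σ : FibCat.overCat (Vi i) ⥤ᵇ fp (AlgSt.overMap (v i)) (fpFst w f) :=
    FibCat.fpLift (BasedFunctor.id _) s β'
  have h𝒳ᵢ : AlgSt.IsAlgStack Scheme.fppfPrecoverage (fp (AlgSt.overMap (v i)) (fpFst w f)) :=
    Groth.Agent.S12763.result hV.isStack hV.diag (isAlgStack_overCat (Vi i)) h𝒳₁ _ _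
  exact locQ_smooth_of_section h𝒳ᵢ (Vi i) (fpFst (AlgSt.overMap (v i)) (fpFst w f))
    (isGerbeOver_fpFst _ hfib₁ hfV hfVi (fpFst w f) (AlgSt.overMap (v i)) hf₁) σ (Iso.refl _)

end Main

end Groth.Agent.Lib.Helper65.GerbeSmooth
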