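import Mathlib.RingTheory.Noetherian.Basic
import Mathlib.RingTheory.LocalRing.MaximalIdeal.Basic
import Mathlib.RingTheory.Ideal.Operations
import Mathlib.Tactic.LinearCombination
import Mathlib.Tactic.Ring

/-!
# Helper65: hyperplane ideals in the cotangent space of a Noetherian local ring
-/

set_option autoImplicit false
universe u

namespace Groth.Agent.Lib.Helper65

/-- For a Noetherian local ring `S`, an ideal `J ⊇ m²` and `x ∈ m \ J` there is an ideal `J₁ ⊇ J` with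
`x ∉ J₁` and `m = J₁ + S x`. -/
theorem exists_hyperplane_ideal {S : Type u} [CommRing S] [IsLocalRing S] [IsNoetherianRing S]
    (J : Ideal S) (hJ : IsLocalRing.maximalIdeal S ^ 2 ≤ J) (x : S)
    (hxm : x ∈ IsLocalRing.maximalIdeal S) (hxJ : x ∉ J) :
    ∃ J₁ : Ideal S, J ≤ J₁ ∧ x ∉ J₁ ∧ J₁ ≤ IsLocalRing.maximalIdeal S ∧
      ∀ y ∈ IsLocalRing.maximalIdeal S, ∃ j ∈ J₁, ∃ t : S, y = j + t * x := by
  classical
  obtain ⟨J₁, ⟨hJJ₁, hxJ₁⟩, hmax⟩ :=
    (set_has_maximal_iff_noetherian (R := S) (M := S)).2 inferInstance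
      {I : Ideal S | J ≤ I ∧ x ∉ I} ⟨_, le_rfl, hxJ⟩
  have hJ₁m : J₁ ≤ IsLocalRing.maximalIdeal S := by
    apply IsLocalRing.le_maximalIdeal
    intro htop
    apply hxJ₁
    rw [htop]; trivial
  have hmm : ∀ a b : S, a ∈ IsLocalRing.maximalIdeal S → b ∈ IsLocalRing.maximalIdeal S → a * b ∈ J₁ := by
    intro a b ha hb
    apply hJJ₁
    apply hJ
    rw [pow_two]
    exact Ideal.mul_mem_mul ha hb
  have hunit : ∀ s : S, s ∉ IsLocalRing.maximalIdeal S → IsUnit s := by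
    intro s hs
    by_contra hnu
    exact hs ((IsLocalRing.mem_maximalIdeal s).2 hnu)
  refine ⟨J₁, hJJ₁, hxJ₁, hJ₁m, ?_⟩
  intro y hy
  by_cases hyJ : y ∈ J₁
  · exact ⟨y, hyJ, 0, by simp⟩
  · have hlt : J₁ < J₁ ⊔ Ideal.span {y} := by
      refine lt_of_le_of_ne le_sup_left ?_
      intro heq
      apply hyJ
      rw [heq]
      exact (le_sup_right : Ideal.span {y} ≤ _) (Ideal.mem_span_singleton_self y)
    have hxI : x ∈ J₁ ⊔ Ideal.span {y} := by
      by_contra hxI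
      exact hmax _ ⟨hJJ₁.trans le_sup_left, hxI⟩ hlt
    obtain ⟨j, hj, c, hc, hjc⟩ := Submodule.mem_sup.1 hxI
    obtain ⟨s, rfl⟩ := Ideal.mem_span_singleton'.1 hc
    have hs : s ∉ IsLocalRing.maximalIdeal S := by
      intro hs
      apply hxJ₁
      rw [← hjc]
      exact Ideal.add_mem _ hj (hmm s y hs hy)
    obtain ⟨u, rfl⟩ := hunit s hs
    refine ⟨-(↑u⁻¹ : S) * j, Ideal.mul_mem_left _ _ hj, (↑u⁻¹ : S), ?_⟩
    rw [← hjc]
    have : (↑u⁻¹ : S) * (↑u * y) = y := by rw [← mul_assoc, Units.inv_mul, one_mul]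
    linear_combination (-1 : S) * this

end Groth.Agent.Lib.Helper65
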