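import Groth.Prelude.Def_StGerb2
import Groth.Agent.Lib.Helper65.CoarseGerbe
import Groth.Agent.Lib.Helper65.OfPshMap

/-!
# Helper65: the presheaf of isomorphism classes of a gerbe over a sheaf
-/

set_option autoImplicit false
set_option backward.isDefEq.respectTransparency false
set_option backward.isDefEq.respectTransparency.types false

universe u

open CategoryTheory CategoryTheory.Functor AlgebraicGeometry Opposite

namespace Groth.Agent.Lib.Helper65.IsoClSheaf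

open FibCat Gerb Groth.Agent.Lib.Helper31 Groth.Agent.Lib.Helper65 Groth.Agent.Lib.Helper65.CoarseGerbe

variable {S : Scheme.{u}} (𝒳 : BasedCategory.{u, u + 1} (Over S)) [FibCat.IsFibGrpd 𝒳.p]
  {M : AlgSp.Sp S}

/-- the class of any lift is the restriction of the class -/
theorem map_mk_eq {U V : Over S} (f : V ⟶ U) (a : 𝒳.p.Fiber U) (y : 𝒳.p.Fiber V) (ψ : y.1 ⟶ a.1)
    (hψ : 𝒳.p.IsHomLift f ψ) :
    (isoClPsh 𝒳).map f.op (Quot.mk _ a) = Quot.mk _ y := by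
  change Quot.mk _ (pullFib 𝒳 f a) = Quot.mk _ y
  obtain ⟨xa, ha⟩ := a
  subst ha
  obtain ⟨y, hy⟩ := y
  have hψ' : 𝒳.p.IsHomLift (f ≫ eqToHom (rfl : 𝒳.p.obj xa = 𝒳.p.obj xa).symm) ψ := by
    have : f ≫ eqToHom (rfl : 𝒳.p.obj xa = 𝒳.p.obj xa).symm = f := by simp
    rw [this]; exact hψ
  obtain ⟨χ, hχ, -⟩ := exists_hom_pull 𝒳 xa _ ψ hψ'
  exact (Quot.sound ⟨⟨χ, hχ⟩⟩ : Quot.mk (IsoRel 𝒳 V) ⟨y, hy⟩ = Quot.mk (IsoRel 𝒳 V) (pullFib 𝒳 f ⟨xa, rfl⟩)).symm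

variable {𝒳}

theorem fibSec_pullFib (π : 𝒳 ⥤ᵇ AlgSt.ofSp M) {U V : Over S} (f : V ⟶ U) (a : 𝒳.p.Fiber U) :
    AlgSt.fibSec π (pullFib 𝒳 f a) = M.obj.map f.op (AlgSt.fibSec π a) := by
  obtain ⟨xa, ha⟩ := a
  subst ha
  have e1 := secOf_compat π (pullHom 𝒳 xa (f ≫ eqToHom (rfl : 𝒳.p.obj xa = 𝒳.p.obj xa).symm))
  have e2 : AlgSt.fibSec π (pullFib 𝒳 f ⟨xa, rfl⟩) =
      M.obj.map (eqToHom (pull_over 𝒳 xa (f ≫ eqToHom (rfl : 𝒳.p.obj xa = 𝒳.p.obj xa).symm)).symm).op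
        (secOf π (pull 𝒳 xa (f ≫ eqToHom (rfl : 𝒳.p.obj xa = 𝒳.p.obj xa).symm))) := fibSec_eq π _
  have e3 : AlgSt.fibSec π (⟨xa, rfl⟩ : 𝒳.p.Fiber (𝒳.p.obj xa)) =
      M.obj.map (eqToHom (rfl : 𝒳.p.obj xa = 𝒳.p.obj xa).symm).op (secOf π xa) := fibSec_eq π _
  rw [e2, e3, ← e1, psh_map_map, psh_map_map, pullHom_map]
  congr 2
  simp

/-- the map from the presheaf of isomorphism classes to the sheaf -/
noncomputable def toSp (π : 𝒳 ⥤ᵇ AlgSt.ofSp M) : isoClPsh 𝒳 ⟶ M.obj where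
  app U := ↾Quot.lift (fun a => AlgSt.fibSec π a) (fun a b ⟨φ⟩ => fibSec_eq_of_hom π a b φ.1 φ.2)
  naturality U V f := by
    ext a
    obtain ⟨a⟩ := a
    exact fibSec_pullFib π f.unop a

theorem toSp_mk (π : 𝒳 ⥤ᵇ AlgSt.ofSp M) {U : Over S} (a : 𝒳.p.Fiber U) :
    (toSp π).app (op U) (Quot.mk _ a) = AlgSt.fibSec π a := rfl

theorem toSp_locSurj (π : 𝒳 ⥤ᵇ AlgSt.ofSp M) (h : LocSurjObj (QuotSh.J Scheme.fppfPrecoverage S) π) :
    Presheaf.IsLocallySurjective (QuotSh.J Scheme.fppfPrecoverage S) (toSp π) where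
  imageSieve_mem {U} s := by
    obtain ⟨R, hR, hR'⟩ := h (⟨U, s⟩ : (AlgSt.ofSp M).obj)
    refine (QuotSh.J Scheme.fppfPrecoverage S).superset_covering ?_ hR
    intro V f hf
    obtain ⟨x, g, hg⟩ := hR' f hf
    have hx : 𝒳.p.obj x = V := (π.w_obj x).symm.trans (IsHomLift.domain_eq (AlgSt.ofSp M).p f g)
    refine ⟨Quot.mk _ ⟨x, hx⟩, ?_⟩
    change AlgSt.fibSec π ⟨x, hx⟩ = M.obj.map f.op s
    have e1 : g.hom = eqToHom ((π.w_obj x).trans hx) ≫ f := by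
      have := IsHomLift.fac' (AlgSt.ofSp M).p f g
      simpa using this
    have e2 : M.obj.map g.hom.op s = (π.obj x).sec := g.map_sec
    unfold AlgSt.fibSec
    rw [← e2]
    refine (psh_map_map _ _ _ _).trans ?_
    rw [e1]
    congr 2
    simp

theorem toSp_locInj (π : 𝒳 ⥤ᵇ AlgSt.ofSp M) (h : LocSurjHom (QuotSh.J Scheme.fppfPrecoverage S) π) :
    Presheaf.IsLocallyInjective (QuotSh.J Scheme.fppfPrecoverage S) (toSp π) where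
  equalizerSieve_mem {U} x y hxy := by
    obtain ⟨U⟩ := U
    obtain ⟨a⟩ := x
    obtain ⟨b⟩ := y
    obtain ⟨xa, ha⟩ := a
    change 𝒳.p.obj xa = U at ha
    subst ha
    obtain ⟨xb, hb⟩ := b
    have hxy' : AlgSt.fibSec π (⟨xa, rfl⟩ : 𝒳.p.Fiber (𝒳.p.obj xa)) = AlgSt.fibSec π ⟨xb, hb⟩ := hxy
    have ea : (π.obj xa).base = 𝒳.p.obj xa := π.w_obj xa
    have eb : (π.obj xb).base = 𝒳.p.obj xa := (π.w_obj xb).trans hb
    have hsec : M.obj.map (eqToHom (ea.trans eb.symm)).op (π.obj xb).sec = (π.obj xa).sec := by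
      have h1 : M.obj.map (eqToHom ea.symm).op (π.obj xa).sec =
          M.obj.map (eqToHom eb.symm).op (π.obj xb).sec := hxy'
      have h2 := congrArg (M.obj.map (eqToHom ea).op) h1
      rw [psh_map_map, psh_map_map] at h2
      simp only [eqToHom_trans, eqToHom_refl] at h2
      rw [psh_map_id] at h2
      exact h2.symm
    let b₀ : π.obj xa ⟶ π.obj xb := ⟨eqToHom (ea.trans eb.symm), hsec⟩
    have hb₀ : (AlgSt.ofSp M).p.IsHomLift (𝟙 (𝒳.p.obj xa)) b₀ := by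
      apply IsHomLift.of_fac (AlgSt.ofSp M).p (𝟙 (𝒳.p.obj xa)) b₀ ea eb
      change 𝟙 (𝒳.p.obj xa) = eqToHom ea.symm ≫
        (eqToHom (ea.trans eb.symm) : (π.obj xa).base ⟶ (π.obj xb).base) ≫ eqToHom eb
      simp
    obtain ⟨R, hR, hR'⟩ := h xa xb b₀ hb₀
    refine (QuotSh.J Scheme.fppfPrecoverage S).superset_covering ?_ hR
    intro V f hf
    obtain ⟨x₀, φ, ψ, hφ, hψ, -⟩ := hR' f hf
    have hx₀ : 𝒳.p.obj x₀ = V := IsHomLift.domain_eq 𝒳.p f φ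
    change (isoClPsh 𝒳).map f.op (Quot.mk _ ⟨xa, rfl⟩) = (isoClPsh 𝒳).map f.op (Quot.mk _ ⟨xb, hb⟩)
    rw [map_mk_eq 𝒳 f ⟨xa, rfl⟩ ⟨x₀, hx₀⟩ φ hφ, map_mk_eq 𝒳 f ⟨xb, hb⟩ ⟨x₀, hx₀⟩ ψ hψ]

end Groth.Agent.Lib.Helper65.IsoClSheaf
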