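import Groth.Agent.Lib.Helper65.RepFaithful
import Groth.Agent.Lib.Helper65.RepPsh
import Groth.Agent.S12776
import Groth.Prelude.Def_AlgSt3

/-!
# Helper65: a monomorphism representable by algebraic spaces is fully faithful
-/

set_option autoImplicit false
set_option backward.isDefEq.respectTransparency false
set_option backward.isDefEq.respectTransparency.types false

universe v₅ u₅ v₄ u₄ v₃ u₃ v₂ u₂ v u

open CategoryTheory CategoryTheory.Functor CategoryTheory.Limits Opposite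

namespace Groth.Agent.Lib.Helper65

open FibCat Groth.Agent.Lib.Helper31

section General

variable {C : Type u} [Category.{v} C]
variable {𝒳 : BasedCategory.{v₂, u₂} C} {𝒴 : BasedCategory.{v₃, u₃} C}

/-- If every base change `(C/U) ×_𝒴 𝒳 ⟶ C/U` is full, then `f` is full. -/
theorem full_of_fpFst_full (h𝒳 : IsFibGrpd 𝒳.p) (h𝒴 : IsFibGrpd 𝒴.p) (f : 𝒳 ⥤ᵇ 𝒴)
    (H : ∀ (U : C) (y : overCat U ⥤ᵇ 𝒴), (fpFst y f).toFunctor.Full) :
    f.toFunctor.Full := by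
  apply full_of_fiberFunctor_full f h𝒳 h𝒴
  intro U
  constructor
  intro X X' ψ
  have hψ : 𝒴.p.IsHomLift (𝟙 U) ψ.1 := ψ.2
  have hE : (evalAtId 𝒴 U).IsEquivalence := evalAtId_isEquivalence_of_isFibGrpd h𝒴 U
  obtain ⟨y, ⟨ι₀⟩⟩ := Functor.EssSurj.mem_essImage (evalAtId 𝒴 U) ((fiberFunctor f U).obj X')
  let ι : y.obj (Over.mk (𝟙 U)) ≅ f.obj X'.1 :=
    (Functor.Fiber.fiberInclusion (p := 𝒴.p) (S := U)).mapIso ι₀
  have hι : 𝒴.p.IsHomLift (𝟙 U) ι.hom := ι₀.hom.2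
  have hisoψ : IsIso (𝒴.p.map ψ.1) := by
    rw [IsHomLift.fac' 𝒴.p (𝟙 U) ψ.1]; infer_instance
  have hψiso : IsIso ψ.1 := isIso_of_isFibGrpd 𝒴.p h𝒴 ψ.1
  let κ : f.obj X.1 ≅ f.obj X'.1 := asIso ψ.1
  have hκ : κ.hom = ψ.1 := rfl
  have hκlift : 𝒴.p.IsHomLift (𝟙 U) κ.hom := by rw [hκ]; exact hψ
  have hκinv : 𝒴.p.IsHomLift (𝟙 U) κ.inv := inferInstance
  let ι' : y.obj (Over.mk (𝟙 U)) ≅ f.obj X.1 := ι ≪≫ κ.symm
  have hι' : 𝒴.p.IsHomLift (𝟙 U) ι'.hom := by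
    have : 𝒴.p.IsHomLift (𝟙 U ≫ 𝟙 U) (ι.hom ≫ κ.inv) := inferInstance
    rw [Category.comp_id] at this
    exact this
  let T' : (fp y f).obj := fpObjMk y f (Over.mk (𝟙 U)) X'.1 ι hι
  let T : (fp y f).obj := fpObjMk y f (Over.mk (𝟙 U)) X.1 ι' hι'
  have := H U y
  obtain ⟨Θ, hΘ⟩ := (fpFst y f).toFunctor.map_surjective
    (X := T) (Y := T') (𝟙 (Over.mk (𝟙 U)))
  have hΘ1 : Θ.hom.fst = 𝟙 (Over.mk (𝟙 U)) := hΘ
  have w : y.map Θ.hom.fst ≫ ι.hom = ι'.hom ≫ f.map Θ.hom.snd := fp_hom_w Θ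
  have e1 : y.map Θ.hom.fst = 𝟙 _ := by
    rw [hΘ1]
    exact y.toFunctor.map_id _
  have hf : f.map Θ.hom.snd = ψ.1 := by
    rw [e1, Category.id_comp] at w
    have w2 : ι.hom = (ι.hom ≫ κ.inv) ≫ f.map Θ.hom.snd := w
    calc f.map Θ.hom.snd = κ.hom ≫ ι.inv ≫ ((ι.hom ≫ κ.inv) ≫ f.map Θ.hom.snd) := by simp
      _ = κ.hom ≫ ι.inv ≫ ι.hom := by rw [← w2]
      _ = κ.hom := by simp
  have hlift : 𝒳.p.IsHomLift ((fp y f).p.map Θ) Θ.hom.snd := inferInstance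
  have hbase : (fp y f).p.map Θ = 𝟙 U := by
    change (Θ.hom.fst).left = 𝟙 U
    rw [hΘ1]
    rfl
  rw [hbase] at hlift
  refine ⟨⟨Θ.hom.snd, hlift⟩, ?_⟩
  apply Functor.Fiber.hom_ext
  exact hf

end General

section Mono

variable {S : AlgebraicGeometry.Scheme.{u}}

/-- A functor `ofSp F ⟶ (Sch/U)` whose associated map of sheaves is a monomorphism is full. -/
theorem full_of_mono_spMapOfOver {F : AlgSp.Sp S} {U : Over S} (Φ : AlgSt.ofSp F ⥤ᵇ FibCat.overCat U)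
    (hm : Mono (AlgSt.spMapOfOver Φ)) : Φ.toFunctor.Full := by
  constructor
  intro a b k
  have h1 : Mono (AlgSt.spMapOfOver Φ).hom :=
    (Sheaf.Hom.mono_iff_presheaf_mono (AlgSp.J S) (Type (u + 1)) _).1 hm
  have hinj : ∀ T : (Over S)ᵒᵖ, Function.Injective ((AlgSt.spMapOfOver Φ).hom.app T) := fun T =>
    (mono_iff_injective _).1 ((NatTrans.mono_iff_mono_app (AlgSt.spMapOfOver Φ).hom).1 h1 T)
  let g : a.base ⟶ b.base := eqToHom (Φ.w_obj a).symm ≫ k.left ≫ eqToHom (Φ.w_obj b)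
  have hg : g ≫ AlgSt.secHom Φ b = AlgSt.secHom Φ a := by
    have hk : k.left ≫ (Φ.obj b).hom = (Φ.obj a).hom := Over.w k
    simp only [g, AlgSt.secHom, Category.assoc, eqToHom_trans_assoc, eqToHom_refl, Category.id_comp]
    rw [hk]
  have hsec : F.obj.map g.op b.sec = a.sec := by
    apply hinj (op a.base)
    have hnat := psh_naturality (AlgSt.spMapOfOver Φ).hom g b.sec
    rw [hnat]
    change ((AlgSp.yon S).obj U).obj.map g.op ⟨AlgSt.secHom Φ ⟨b.base, b.sec⟩⟩ =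
      ⟨AlgSt.secHom Φ ⟨a.base, a.sec⟩⟩
    apply ULift.ext
    exact hg
  let l : a ⟶ b := ⟨g, hsec⟩
  refine ⟨l, ?_⟩
  apply Over.OverMorphism.ext
  have h2 : (Φ.map l).left = eqToHom (Φ.w_obj a) ≫ g ≫ eqToHom (Φ.w_obj b).symm :=
    IsHomLift.fac' (FibCat.overCat U).p ((AlgSt.ofSp F).p.map l) (Φ.map l)
  rw [h2]
  simp [g]

variable {𝒳 𝒴 : AlgSt.Cat S}

theorem full_faithful_of_isMono (h𝒳 : IsFibGrpd 𝒳.p) (h𝒴 : IsFibGrpd 𝒴.p) (j : 𝒳 ⥤ᵇ 𝒴)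
    (hj : AlgSt.IsMono j) : j.toFunctor.Full ∧ j.toFunctor.Faithful := by
  have h1 : AlgSt.RepByAlgSp1 j := by
    intro U y
    obtain ⟨F, e, he, -⟩ := hj U y
    exact ⟨F, e, he⟩
  refine ⟨?_, Groth.Agent.S12776.result h𝒳 h𝒴 j h1⟩
  apply full_of_fpFst_full h𝒳 h𝒴 j
  intro U y
  obtain ⟨F, e, he, hm⟩ := hj U y
  have hm' : Mono (AlgSt.spMapOfOver (BasedFunctor.comp e (fpFst y j))) := hm
  have hfull : (BasedFunctor.comp e (fpFst y j)).toFunctor.Full := full_of_mono_spMapOfOver _ hm'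
  have hE : e.toFunctor.IsEquivalence := isEquivalence_of_isEquivOver e he
  have iso : e.toFunctor.inv ⋙ (e.toFunctor ⋙ (fpFst y j).toFunctor) ≅ (fpFst y j).toFunctor :=
    (Functor.associator _ _ _).symm ≪≫
      Functor.isoWhiskerRight e.toFunctor.asEquivalence.counitIso (fpFst y j).toFunctor ≪≫
      Functor.leftUnitor _
  have hfull' : (e.toFunctor ⋙ (fpFst y j).toFunctor).Full := hfull
  exact Functor.Full.of_iso iso

end Mono

end Groth.Agent.Lib.Helper65
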