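import Groth.Prelude.Def_W4c2isonaturalstkIso
import Groth.Agent.Lib.Helper65.MonoFull
import Groth.Agent.Lib.Helper65.LocalProps
import Groth.Agent.Lib.Helper65.FpFib
import Groth.Agent.H52.Basic

/-!
# Helper65: the presheaf of isomorphism classes of a category over `(Sch/S)` — basic lemmas
-/

set_option autoImplicit false
set_option backward.isDefEq.respectTransparency false
set_option backward.isDefEq.respectTransparency.types false

universe u

open CategoryTheory CategoryTheory.Functor CategoryTheory.Limits Opposite AlgebraicGeometry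

namespace Groth.Agent.Lib.Helper65.IsoNatLib

open FibCat Groth.Agent.Lib.Helper31 Groth.Agent.Lib.Helper65 IsoNat

variable {S : Scheme.{u}} {𝒳 𝒴 𝒴' : AlgSt.Cat S}

theorem cls_eq_iff {T : Over S} (x y : 𝒳.p.Fiber T) : cls x = cls y ↔ Nonempty (x ≅ y) :=
  ⟨fun h => Quotient.exact h, fun h => Quotient.sound h⟩

theorem mapCls_cls (f : 𝒳 ⥤ᵇ 𝒴) {T : Over S} (x : 𝒳.p.Fiber T) :
    mapCls f T (cls x) = cls ((fibFun f T).obj x) := rfl

/-- An open immersion of stacks is a monomorphism. -/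
theorem isMono_of_isOpenImm (i : 𝒴' ⥤ᵇ 𝒴) (hi : AlgSt.IsOpenImm i) : AlgSt.IsMono i :=
  repByAlgSpWith_mono (fun _ _ g hg => Groth.Agent.H52.mono_of_repWith g @IsOpenImmersion
    (fun _ _ k hk => by have := hk; infer_instance) hg) i hi

/-- Objects of a 2-fibre product along a fully faithful functor are isomorphic over `T` as soon as their
first components are. -/
theorem cls_fp_eq_of_full (h𝒳 : IsFibGrpd 𝒳.p) (h𝒴 : IsFibGrpd 𝒴.p) (h𝒴' : IsFibGrpd 𝒴'.p)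
    (f : 𝒳 ⥤ᵇ 𝒴) (i : 𝒴' ⥤ᵇ 𝒴) [i.toFunctor.Full] [i.toFunctor.Faithful]
    (T : Over S) (z₁ z₂ : (FibCat.fp f i).p.Fiber T)
    (h₁ : mapCls (FibCat.fpFst f i) T (cls z₁) = mapCls (FibCat.fpFst f i) T (cls z₂)) :
    cls z₁ = cls z₂ := by
  rw [mapCls_cls, mapCls_cls, cls_eq_iff] at h₁
  obtain ⟨e₁⟩ := h₁
  let a : z₁.1.obj.fst ⟶ z₂.1.obj.fst := e₁.hom.1
  have ha : 𝒳.p.IsHomLift (𝟙 T) a := e₁.hom.2
  let β : i.obj z₁.1.obj.snd ⟶ i.obj z₂.1.obj.snd :=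
    z₁.1.obj.iso.inv ≫ f.map a ≫ z₂.1.obj.iso.hom
  let b' : z₁.1.obj.snd ⟶ z₂.1.obj.snd := i.toFunctor.preimage β
  have hb' : i.map b' = β := i.toFunctor.map_preimage β
  let m : z₁.1 ⟶ z₂.1 := ObjectProperty.homMk
    { fst := a
      snd := b'
      w := by
        change f.map a ≫ z₂.1.obj.iso.hom = z₁.1.obj.iso.hom ≫ i.map b'
        rw [hb']
        simp [β] }
  have hm : (FibCat.fp f i).p.IsHomLift (𝟙 T) m := (fp_isHomLift_iff f i (𝟙 T) m).2 ha
  let mf : z₁ ⟶ z₂ := ⟨m, hm⟩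
  have := isGroupoid_fiber_of_isFibGrpd (FibCat.fp f i).p (isFibGrpd_fp f i h𝒳 h𝒴' h𝒴) T
  exact (cls_eq_iff z₁ z₂).2 ⟨asIso mf⟩

end Groth.Agent.Lib.Helper65.IsoNatLib
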