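import Groth.Agent.Lib.Helper65.IsoNat1
import Groth.Agent.Lib.Helper65.GerbeBasic
import Groth.Agent.Lib.Helper65.StQC

/-!
# Helper65: isomorphisms of presheaves of isomorphism classes act on spaces of points
-/

set_option autoImplicit false
set_option backward.isDefEq.respectTransparency false
set_option backward.isDefEq.respectTransparency.types false

universe u

open CategoryTheory CategoryTheory.Functor CategoryTheory.Limits Opposite AlgebraicGeometry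

namespace Groth.Agent.Lib.Helper65.IsoNatLib

open FibCat Groth.Agent.Lib.Helper31 Groth.Agent.Lib.Helper65 IsoNat

variable {S : Scheme.{u}} {𝒳 𝒴 𝒳' 𝒴' : AlgSt.Cat S}

/-- Naturality with prescribed representatives of the classes. -/
theorem exists_hom_of_fIso (φ : FIso 𝒳 𝒴) {T' T : Over S} (g : T' ⟶ T)
    (x' : 𝒳.p.Fiber T') (x : 𝒳.p.Fiber T) (a : x'.1 ⟶ x.1) (ha : 𝒳.p.IsHomLift g a)
    (y' : 𝒴.p.Fiber T') (y : 𝒴.p.Fiber T)
    (hy' : φ.toEquiv T' (cls x') = cls y') (hy : φ.toEquiv T (cls x) = cls y) :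
    ∃ b : y'.1 ⟶ y.1, 𝒴.p.IsHomLift g b := by
  obtain ⟨z', z, b, hb, h1, h2⟩ := φ.natural g x' x a ha
  rw [hy'] at h1
  rw [hy] at h2
  obtain ⟨e'⟩ := (cls_eq_iff _ _).1 h1
  obtain ⟨e⟩ := (cls_eq_iff _ _).1 h2
  have k1 : 𝒴.p.IsHomLift (𝟙 T') e'.hom.1 := e'.hom.2
  have k2 : 𝒴.p.IsHomLift (𝟙 T) e.inv.1 := e.inv.2
  exact ⟨e'.hom.1 ≫ b ≫ e.inv.1, inferInstance⟩

/-- Two pullbacks of the same object along the same morphism are isomorphic in the fibre. -/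
theorem cls_eq_of_homs (h𝒴 : IsFibGrpd 𝒴.p) {T' T : Over S} (g : T' ⟶ T) {y : 𝒴.obj}
    (z₁ z₂ : 𝒴.p.Fiber T') (b₁ : z₁.1 ⟶ y) (b₂ : z₂.1 ⟶ y)
    (h₁ : 𝒴.p.IsHomLift g b₁) (h₂ : 𝒴.p.IsHomLift g b₂) : cls z₁ = cls z₂ := by
  obtain ⟨ι, hι, -⟩ := exists_comparison h𝒴 g b₂ h₂ b₁ h₁
  have := isGroupoid_fiber_of_isFibGrpd 𝒴.p h𝒴 T'
  let m : z₁ ⟶ z₂ := ⟨ι.hom, hι⟩
  exact (cls_eq_iff _ _).2 ⟨asIso m⟩

/-- The inverse of an isomorphism of presheaves of isomorphism classes. -/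
noncomputable def fIsoSymm (h𝒳 : IsFibGrpd 𝒳.p) (h𝒴 : IsFibGrpd 𝒴.p) (φ : FIso 𝒳 𝒴) : FIso 𝒴 𝒳 where
  toEquiv T := (φ.toEquiv T).symm
  natural := by
    intro T' T g y' y b hb
    obtain ⟨x, hx⟩ := Quotient.exists_rep ((φ.toEquiv T).symm (cls y))
    obtain ⟨x₀, a, ha⟩ := exists_lift_of_eq h𝒳 x.2 g
    let x' : 𝒳.p.Fiber T' := ⟨x₀, IsHomLift.domain_eq 𝒳.p g a⟩
    have hxy : φ.toEquiv T (cls x) = cls y := by
      change φ.toEquiv T (Quotient.mk _ x) = cls y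
      rw [hx]; simp
    obtain ⟨z', hz'⟩ := Quotient.exists_rep (φ.toEquiv T' (cls x'))
    obtain ⟨c, hc⟩ := exists_hom_of_fIso φ g x' x a ha z' y hz'.symm hxy
    have hz : cls z' = cls y' := cls_eq_of_homs h𝒴 g z' y' c b hc hb
    refine ⟨x', x, a, ha, ?_, ?_⟩
    · rw [Equiv.symm_apply_eq]
      exact hz.symm.trans hz'
    · rw [Equiv.symm_apply_eq]
      exact hxy.symm

/-- The fibre object of a field-valued point. -/
def fptFib (p : AlgSt.FPt 𝒳) : 𝒳.p.Fiber (Over.mk p.str) := ⟨p.obj, p.lies⟩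

/-- The field-valued point of a fibre object over the spectrum of a field. -/
def fptOf {K : Type u} [Field K] (str : Spec (CommRingCat.of K) ⟶ S)
    (x : 𝒳.p.Fiber (Over.mk str)) : AlgSt.FPt 𝒳 :=
  { K := K, str := str, obj := x.1, lies := x.2 }

theorem rel_transfer (φ : FIso 𝒳 𝒴) {p q : AlgSt.FPt 𝒳} (h : AlgSt.FPt.Rel p q)
    (yp : 𝒴.p.Fiber (Over.mk p.str)) (yq : 𝒴.p.Fiber (Over.mk q.str))
    (hp : φ.toEquiv _ (cls (fptFib p)) = cls yp) (hq : φ.toEquiv _ (cls (fptFib q)) = cls yq) :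
    AlgSt.FPt.Rel (fptOf p.str yp) (fptOf q.str yq) := by
  obtain ⟨r, α, β, -⟩ := h
  obtain ⟨yr, hr⟩ := Quotient.exists_rep (φ.toEquiv _ (cls (fptFib r)))
  obtain ⟨b₁, -⟩ := exists_hom_of_fIso φ (fptBaseHom α) (fptFib r) (fptFib p) α inferInstance
    yr yp hr.symm hp
  obtain ⟨b₂, -⟩ := exists_hom_of_fIso φ (fptBaseHom β) (fptFib r) (fptFib q) β inferInstance
    yr yq hr.symm hq
  exact ⟨fptOf r.str yr, b₁, b₂, trivial⟩

/-- A chosen image of a field-valued point. -/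
noncomputable def ptsFun (φ : FIso 𝒳 𝒴) (p : AlgSt.FPt 𝒳) : AlgSt.FPt 𝒴 :=
  fptOf p.str (Quotient.out (φ.toEquiv _ (cls (fptFib p))))

/-- The map on spaces of points induced by an isomorphism of presheaves of isomorphism classes. -/
noncomputable def pts (φ : FIso 𝒳 𝒴) : AlgSt.Points 𝒳 → AlgSt.Points 𝒴 :=
  Quot.lift (fun p => AlgSt.Points.mk (ptsFun φ p)) (fun p q h =>
    AlgSt.Points.sound (rel_transfer φ h _ _ (Quotient.out_eq _).symm (Quotient.out_eq _).symm))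

theorem pts_mk (φ : FIso 𝒳 𝒴) (p : AlgSt.FPt 𝒳) (y : 𝒴.p.Fiber (Over.mk p.str))
    (hy : φ.toEquiv _ (cls (fptFib p)) = cls y) :
    pts φ (AlgSt.Points.mk p) = AlgSt.Points.mk (fptOf p.str y) :=
  AlgSt.Points.sound (rel_transfer φ (fptRel_refl p) _ _ (Quotient.out_eq _).symm hy)

theorem pts_surjective (φ : FIso 𝒳 𝒴) : Function.Surjective (pts φ) := by
  intro z
  obtain ⟨q, rfl⟩ := AlgSt.Points.mk_surjective z
  obtain ⟨x, hx⟩ := Quotient.exists_rep ((φ.toEquiv _).symm (cls (fptFib q)))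
  refine ⟨AlgSt.Points.mk (fptOf q.str x), ?_⟩
  refine (pts_mk φ (fptOf q.str x) (fptFib q) ?_).trans rfl
  change φ.toEquiv _ (Quotient.mk _ x) = _
  rw [hx]; simp

theorem pts_map_comm {f : 𝒳 ⥤ᵇ 𝒴} {f' : 𝒳' ⥤ᵇ 𝒴'} (sq : FIsoSq f f') (w : AlgSt.Points 𝒳) :
    AlgSt.Points.map f' (pts sq.src w) = pts sq.tgt (AlgSt.Points.map f w) := by
  obtain ⟨p, rfl⟩ := AlgSt.Points.mk_surjective w
  obtain ⟨x', hx'⟩ := Quotient.exists_rep (sq.src.toEquiv _ (cls (fptFib p)))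
  rw [pts_mk sq.src p x' hx'.symm]
  change AlgSt.Points.mk ((fptOf p.str x').map f') = pts sq.tgt (AlgSt.Points.mk (p.map f))
  have h1 : sq.tgt.toEquiv _ (cls (fptFib (p.map f))) =
      cls ((fibFun f' _).obj x') := by
    have := sq.comm _ (cls (fptFib p))
    rw [mapCls_cls] at this
    refine Eq.trans ?_ (this.trans ?_)
    · rfl
    · change mapCls f' _ (sq.src.toEquiv _ (cls (fptFib p))) = _
      rw [← hx']
      rfl
  rw [pts_mk sq.tgt (p.map f) _ h1]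
  rfl

/-- Surjectivity on points is detected by the induced map of presheaves of isomorphism classes. -/
theorem isSurjective_of_fIsoSq {f : 𝒳 ⥤ᵇ 𝒴} {f' : 𝒳' ⥤ᵇ 𝒴'} (sq : FIsoSq f f')
    (hf : AlgSt.IsSurjective f) : AlgSt.IsSurjective f' := by
  intro z'
  obtain ⟨z, rfl⟩ := pts_surjective sq.tgt z'
  obtain ⟨w, rfl⟩ := hf z
  exact ⟨pts sq.src w, pts_map_comm sq w⟩

/-- The action on points of an isomorphism of presheaves of isomorphism classes carries the chart of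
an object to the chart of a corresponding object. -/
theorem pts_ofChart (h𝒴 : IsFibGrpd 𝒴.p) (φ : FIso 𝒳 𝒴) {U : Over S} (x : FibCat.overCat U ⥤ᵇ 𝒳)
    (y : FibCat.overCat U ⥤ᵇ 𝒴) (h : φ.toEquiv U (objCls x) = objCls y) (t : ↥U.left) :
    pts φ (AlgSt.Points.ofChart x t) = AlgSt.Points.ofChart y t := by
  let gt : Over.mk (U.left.fromSpecResidueField t ≫ U.hom) ⟶ U :=
    Over.homMk (U.left.fromSpecResidueField t) rfl
  let ot : (FibCat.overCat U).obj := Over.mk gt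
  let m : ot ⟶ Over.mk (𝟙 U) := Over.homMk gt (by simp [ot])
  have hm : (FibCat.overCat U).p.IsHomLift gt m :=
    (inferInstance : (FibCat.overCat U).p.IsHomLift ((FibCat.overCat U).p.map m) m)
  have hxm : 𝒳.p.IsHomLift gt (x.map m) := inferInstance
  have hym : 𝒴.p.IsHomLift gt (y.map m) := inferInstance
  let xt : 𝒳.p.Fiber (Over.mk (U.left.fromSpecResidueField t ≫ U.hom)) := ⟨x.obj ot, x.w_obj ot⟩
  let yt : 𝒴.p.Fiber (Over.mk (U.left.fromSpecResidueField t ≫ U.hom)) := ⟨y.obj ot, y.w_obj ot⟩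
  obtain ⟨z, hz⟩ := Quotient.exists_rep (φ.toEquiv _ (cls xt))
  obtain ⟨b, hb⟩ := exists_hom_of_fIso φ gt xt ⟨x.obj (Over.mk (𝟙 U)), x.w_obj _⟩ (x.map m) hxm z
    ⟨y.obj (Over.mk (𝟙 U)), y.w_obj _⟩ hz.symm h
  have hzy : cls z = cls yt := cls_eq_of_homs h𝒴 gt z yt b (y.map m) hb hym
  exact pts_mk φ
    { K := ↥(U.left.residueField t)
      str := U.left.fromSpecResidueField t ≫ U.hom
      obj := x.obj ot
      lies := x.w_obj _ } yt (hz.symm.trans hzy)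

/-- Quasi-compactness is detected by the presheaf of isomorphism classes. -/
theorem isQuasiCompact_of_fIso (h𝒳 : AlgSt.IsAlgStack Scheme.fppfPrecoverage 𝒳)
    (h𝒴 : AlgSt.IsAlgStack Scheme.fppfPrecoverage 𝒴) (φ : FIso 𝒳 𝒴)
    (hqc : AlgSt.IsQuasiCompact 𝒳) : AlgSt.IsQuasiCompact 𝒴 := by
  obtain ⟨U, x, hU, hx1, hx2⟩ := hqc
  have hfib𝒳 := h𝒳.isStack.1
  have hfib𝒴 := h𝒴.isStack.1
  obtain ⟨y₀, hy₀⟩ := Quotient.exists_rep (φ.toEquiv U (objCls x))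
  have hE : (FibCat.evalAtId 𝒴 U).IsEquivalence := evalAtId_isEquivalence_of_isFibGrpd hfib𝒴 _
  let y : FibCat.overCat U ⥤ᵇ 𝒴 := (FibCat.evalAtId 𝒴 U).objPreimage y₀
  have e : (FibCat.evalAtId 𝒴 U).obj y ≅ y₀ := (FibCat.evalAtId 𝒴 U).objObjPreimageIso y₀
  have hy : φ.toEquiv U (objCls x) = objCls y := by
    rw [← hy₀]
    exact ((cls_eq_iff ((FibCat.evalAtId 𝒴 U).obj y) y₀).2 ⟨e⟩).symm
  have hsurj : Function.Surjective (AlgSt.Points.ofChart y) := by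
    intro z
    obtain ⟨w, rfl⟩ := pts_surjective φ z
    obtain ⟨t, rfl⟩ := ofChart_surjective hfib𝒳 x hx2 w
    exact ⟨t, (pts_ofChart hfib𝒴 φ x y hy t).symm⟩
  have hcont := continuous_ofChart hfib𝒴 h𝒴.atlas y
  have : IsAffine U.left := hU
  have : CompactSpace ↥U.left := inferInstance
  have : CompactSpace (AlgSt.Points 𝒴) := by
    refine ⟨?_⟩
    rw [← Set.range_eq_univ.2 hsurj]
    exact isCompact_range hcont
  exact isQuasiCompact_of_compactSpace hfib𝒴 h𝒴.atlas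

end Groth.Agent.Lib.Helper65.IsoNatLib
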