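import Groth.Agent.Lib.Helper65.IsoNat2
import Groth.Agent.Lib.Helper65.SubStPts

/-!
# Helper65: open subfunctors of the presheaf of isomorphism classes and open substacks
-/

set_option autoImplicit false
set_option backward.isDefEq.respectTransparency false
set_option backward.isDefEq.respectTransparency.types false

universe u

open CategoryTheory CategoryTheory.Functor CategoryTheory.Limits Opposite AlgebraicGeometry

namespace Groth.Agent.Lib.Helper65.IsoNatLib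

open FibCat Groth.Agent.Lib.Helper31 Groth.Agent.Lib.Helper65 IsoNat

variable {S : Scheme.{u}} {𝒴 : AlgSt.Cat S}

/-- Membership of the class of an object in a family of sets of classes, independent of the way the base is
presented. -/
theorem cls_self_mem_iff (W : ∀ T : Over S, Set (IsoCl 𝒴 T)) {T : Over S} (x : 𝒴.p.Fiber T) :
    cls (⟨x.1, rfl⟩ : 𝒴.p.Fiber (𝒴.p.obj x.1)) ∈ W (𝒴.p.obj x.1) ↔ cls x ∈ W T := by
  obtain ⟨η, h⟩ := x
  subst h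
  rfl

theorem exists_fac_iff_range_subset {T' T : Scheme.{u}} (V : T.Opens) (g : T' ⟶ T) :
    (∃ g' : T' ⟶ ↑V, g' ≫ V.ι = g) ↔ Set.range g ⊆ V := by
  constructor
  · rintro ⟨g', rfl⟩
    intro z hz
    obtain ⟨t, rfl⟩ := hz
    have : (g' ≫ V.ι) t ∈ Set.range V.ι := ⟨g' t, rfl⟩
    rwa [Scheme.Opens.range_ι] at this
  · intro h
    have h' : Set.range g ⊆ Set.range V.ι := by rwa [Scheme.Opens.range_ι]
    exact ⟨IsOpenImmersion.lift V.ι g h', IsOpenImmersion.lift_fac V.ι g h'⟩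

/-- Open subfunctors of the presheaf of isomorphism classes come from open substacks. -/
theorem isOpenSubstack_of_open_subfunctor (h𝒴 : AlgSt.IsAlgStack Scheme.fppfPrecoverage 𝒴)
    (W : ∀ T : Over S, Set (IsoCl 𝒴 T))
    (hWpull : ∀ (T' T : Over S) (g : T' ⟶ T) (x' : 𝒴.p.Fiber T') (x : 𝒴.p.Fiber T) (a : x'.1 ⟶ x.1),
      𝒴.p.IsHomLift g a → cls x ∈ W T → cls x' ∈ W T')
    (hWopen : ∀ (T : Over S) (x : 𝒴.p.Fiber T), ∃ V : T.left.Opens,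
      ∀ (T' : Over S) (g : T' ⟶ T) (x' : 𝒴.p.Fiber T') (a : x'.1 ⟶ x.1), 𝒴.p.IsHomLift g a →
        (cls x' ∈ W T' ↔ ∃ g' : T'.left ⟶ ↑V, g' ≫ V.ι = g.left)) :
    AlgSt.IsOpenSubstack 𝒴 (fun η => cls (⟨η, rfl⟩ : 𝒴.p.Fiber (𝒴.p.obj η)) ∈ W (𝒴.p.obj η))
      Scheme.fppfPrecoverage := by
  have hQ : ∀ ⦃y' y : 𝒴.obj⦄ (_ : y' ⟶ y),
      cls (⟨y, rfl⟩ : 𝒴.p.Fiber (𝒴.p.obj y)) ∈ W (𝒴.p.obj y) →
      cls (⟨y', rfl⟩ : 𝒴.p.Fiber (𝒴.p.obj y')) ∈ W (𝒴.p.obj y') := by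
    intro y' y c hy
    exact hWpull _ _ (𝒴.p.map c) ⟨y', rfl⟩ ⟨y, rfl⟩ c inferInstance hy
  refine isOpenSubstack_of_open _ h𝒴 ⟨fun e h => hQ e.inv h⟩ hQ ?_
  intro U Y
  obtain ⟨V, hV⟩ := hWopen U ⟨Y.obj (Over.mk (𝟙 U)), Y.w_obj _⟩
  refine ⟨V, ?_⟩
  intro a
  let m : a ⟶ Over.mk (𝟙 U) := Over.homMk a.hom (by simp)
  have hm : (FibCat.overCat U).p.IsHomLift a.hom m :=
    (inferInstance : (FibCat.overCat U).p.IsHomLift ((FibCat.overCat U).p.map m) m)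
  have hYm : 𝒴.p.IsHomLift a.hom (Y.map m) := inferInstance
  have h1 := hV a.left a.hom ⟨Y.obj a, Y.w_obj a⟩ (Y.map m) hYm
  rw [← exists_fac_iff_range_subset, ← h1]
  exact cls_self_mem_iff W (⟨Y.obj a, Y.w_obj a⟩ : 𝒴.p.Fiber a.left)

end Groth.Agent.Lib.Helper65.IsoNatLib
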