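import Groth.Agent.Lib.Helper65.SubStImage
import Groth.Agent.Lib.Helper65.StOpen
import Groth.Agent.Lib.Helper65.DiagSq
import Groth.Agent.Lib.Helper65.SpectralPts
import Groth.Agent.Lib.Helper65.AlgStRep
import Groth.Agent.Lib.Helper66.AlgStEquiv

/-!
# Helper65: quasi-compactness of a morphism of algebraic stacks is tested on quasi-compact open substacks
-/

set_option autoImplicit false
set_option backward.isDefEq.respectTransparency false
set_option backward.isDefEq.respectTransparency.types false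

universe u

open CategoryTheory CategoryTheory.Functor CategoryTheory.Limits Opposite AlgebraicGeometry

namespace Groth.Agent.Lib.Helper65.QCMorOpen

open FibCat Groth.Agent.Lib.Helper31 Groth.Agent.Lib.Helper65

variable {S : Scheme.{u}} {𝒳 𝒴 𝒵 : AlgSt.Cat S}

theorem ptsProp_mono {T T' : Set (AlgSt.Points 𝒴)} (h : T ⊆ T') {y : 𝒴.obj} (hy : ptsProp T y) :
    ptsProp T' y := fun p c => h (hy p c)

/-- The diagonal of a full substack is a base change of the diagonal of the stack. -/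
theorem repByAlgSpWith_diag_fullSub (P : MorphismProperty (AlgSp.Sp S)) (h𝒴 : IsFibGrpd 𝒴.p)
    (Q : 𝒴.obj → Prop) (hQ : ∀ ⦃y' y : 𝒴.obj⦄ (_ : y' ⟶ y), Q y → Q y')
    (hΔ : AlgSt.RepByAlgSpWith P (FibCat.diag (FibCat.toSelf 𝒴))) :
    AlgSt.RepByAlgSpWith P (FibCat.diag (FibCat.toSelf (AlgSt.fullSub 𝒴 Q))) := by
  have hfull : (AlgSt.subIncl 𝒴 Q).toFunctor.Full := inferInstanceAs (ObjectProperty.ι Q).Full
  have hfaith : (AlgSt.subIncl 𝒴 Q).toFunctor.Faithful :=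
    inferInstanceAs (ObjectProperty.ι Q).Faithful
  have hsq := DiagSq.isTwoCartOver_diag_sq (AlgSt.subIncl 𝒴 Q) (FibCat.toSelf 𝒴)
    (isFibGrpd_fullSub Q h𝒴 hQ) h𝒴 isFibGrpd_selfOver
  have H1 : AlgSt.RepByAlgSpWith P
      (fpFst (DiagSq.ii (AlgSt.subIncl 𝒴 Q) (FibCat.toSelf 𝒴)) (FibCat.diag (FibCat.toSelf 𝒴))) :=
    repByAlgSpWith_fpFst P _ _ hΔ
  exact repByAlgSpWith_equiv_comp P _ hsq _ H1

/-- The open substack of a compact open set of points is quasi-compact. -/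
theorem isQuasiCompact_fullSub_ptsProp (h𝒴 : AlgSt.IsAlgStack Scheme.fppfPrecoverage 𝒴)
    (T : Set (AlgSt.Points 𝒴)) (hT : IsOpen T) (hTc : IsCompact T) :
    AlgSt.IsQuasiCompact (AlgSt.fullSub 𝒴 (ptsProp T)) := by
  have hsub := isOpenSubstack_ptsProp T h𝒴 hT
  have hfull : (AlgSt.subIncl 𝒴 (ptsProp T)).toFunctor.Full :=
    inferInstanceAs (ObjectProperty.ι (ptsProp T)).Full
  have hinj := points_map_injective_of_full hsub.2.1.isStack.1 h𝒴.isStack.1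
    (AlgSt.subIncl 𝒴 (ptsProp T)) hfull
  have hcont := continuous_points_map h𝒴.isStack.1 h𝒴.atlas (AlgSt.subIncl 𝒴 (ptsProp T))
  have hopen := isOpenMap_of_isOpenImm hsub.2.1.isStack.1 hsub.2.1.atlas h𝒴.isStack.1 _ hsub.2.2
  have hemb : Topology.IsOpenEmbedding (AlgSt.Points.map (AlgSt.subIncl 𝒴 (ptsProp T))) :=
    Topology.IsOpenEmbedding.of_continuous_injective_isOpenMap hcont hinj hopen
  have : CompactSpace (AlgSt.Points (AlgSt.fullSub 𝒴 (ptsProp T))) := by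
    refine ⟨?_⟩
    rw [hemb.isInducing.isCompact_iff, Set.image_univ, range_subIncl_ptsProp]
    exact hTc
  exact isQuasiCompact_of_compactSpace hsub.2.1.isStack.1 hsub.2.1.atlas

/-- Every compact set of points of an algebraic stack lies in a compact open set. -/
theorem exists_compact_open_superset (h𝒴 : AlgSt.IsAlgStack Scheme.fppfPrecoverage 𝒴)
    (K : Set (AlgSt.Points 𝒴)) (hK : IsCompact K) :
    ∃ T : Set (AlgSt.Points 𝒴), IsOpen T ∧ IsCompact T ∧ K ⊆ T := by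
  obtain ⟨V₀, v₀, hv1, hv2⟩ := h𝒴.atlas
  have hcont := continuous_ofChart h𝒴.isStack.1 h𝒴.atlas v₀
  have hopen := isOpenMap_ofChart_smooth h𝒴.isStack.1 v₀ hv1
  have hsurj := ofChart_surjective h𝒴.isStack.1 v₀ hv2
  obtain ⟨t, ht⟩ := hK.elim_finite_subcover
    (fun A : V₀.left.affineOpens => AlgSt.Points.ofChart v₀ '' (A.1 : Set ↥V₀.left))
    (fun A => hopen _ A.1.2) (by
      intro z _
      obtain ⟨u, rfl⟩ := hsurj z
      obtain ⟨_, ⟨A, hA, rfl⟩, huA, -⟩ :=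
        (V₀.left.isBasis_affineOpens).exists_subset_of_mem_open (Set.mem_univ u) isOpen_univ
      exact Set.mem_iUnion.2 ⟨⟨A, hA⟩, ⟨u, huA, rfl⟩⟩)
  refine ⟨⋃ A ∈ t, AlgSt.Points.ofChart v₀ '' (A.1 : Set ↥V₀.left), ?_, ?_, ht⟩
  · exact isOpen_biUnion fun A _ => hopen _ A.1.2
  · exact t.isCompact_biUnion fun A _ => (A.2.isCompact).image hcont

/-- A morphism of algebraic stacks whose target has quasi-compact diagonal is quasi-compact as soon as its
base changes to quasi-compact open substacks are quasi-compact. -/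
theorem isQuasiCompactMor_of_open [QuasiSeparatedSpace S]
    (h𝒳 : AlgSt.IsAlgStack Scheme.fppfPrecoverage 𝒳) (h𝒴 : AlgSt.IsAlgStack Scheme.fppfPrecoverage 𝒴)
    (hΔ : AlgSt.RepByAlgSpWith AlgSp.IsQuasiCompactMor (FibCat.diag (FibCat.toSelf 𝒴)))
    (f : 𝒳 ⥤ᵇ 𝒴)
    (H : ∀ (𝒴' : AlgSt.Cat S), AlgSt.IsAlgStack Scheme.fppfPrecoverage 𝒴' → AlgSt.IsQuasiCompact 𝒴' →
        ∀ (j : 𝒴' ⥤ᵇ 𝒴), AlgSt.IsOpenImm j → AlgSt.IsQuasiCompact (FibCat.fp j f)) :
    AlgSt.IsQuasiCompactMor Scheme.fppfPrecoverage f := by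
  intro 𝒵 h𝒵 hqc g
  have := compactSpace_points_of_isQuasiCompact h𝒵.isStack.1 h𝒵.atlas hqc
  have hK : IsCompact (Set.range (AlgSt.Points.map g)) :=
    isCompact_range (continuous_points_map h𝒴.isStack.1 h𝒴.atlas g)
  obtain ⟨T, hT, hTc, hKT⟩ := exists_compact_open_superset h𝒴 _ hK
  have hsub := isOpenSubstack_ptsProp T h𝒴 hT
  have hqc' := isQuasiCompact_fullSub_ptsProp h𝒴 T hT hTc
  have hfpqc : AlgSt.IsQuasiCompact (FibCat.fp (AlgSt.subIncl 𝒴 (ptsProp T)) f) :=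
    H _ hsub.2.1 hqc' _ hsub.2.2
  let g' : 𝒵 ⥤ᵇ AlgSt.fullSub 𝒴 (ptsProp T) := liftFullSub (ptsProp T) g
    (fun z => ptsProp_mono hKT (ptsProp_range_map h𝒵.isStack.1 h𝒴.isStack.1 g z))
  have hΔ' : AlgSt.RepByAlgSpWith AlgSp.IsQuasiCompactMor
      (FibCat.diag (FibCat.toSelf (AlgSt.fullSub 𝒴 (ptsProp T)))) :=
    repByAlgSpWith_diag_fullSub _ h𝒴.isStack.1 _ (fun _ _ φ h => ptsProp_of_hom T φ h) hΔ
  have hfpfib : IsFibGrpd (FibCat.fp (AlgSt.subIncl 𝒴 (ptsProp T)) f).p :=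
    isFibGrpd_fp _ _ hsub.2.1.isStack.1 h𝒳.isStack.1 h𝒴.isStack.1
  have h1 : AlgSt.IsQuasiCompact (FibCat.fp g' (FibCat.fpFst (AlgSt.subIncl 𝒴 (ptsProp T)) f)) :=
    SpectralPts.isQuasiCompact_fp_of_qc_diag h𝒵.isStack.1 hsub.2.1.isStack.1 hfpfib g' _ hqc hΔ' hfpqc
  exact Groth.Agent.Lib.Helper66.AlgStEquiv.isQuasiCompact_of_equivOver
    (fpPasteFst g' (AlgSt.subIncl 𝒴 (ptsProp T)) f) (fpPasteFst_isEquivOver _ _ _) h1

end Groth.Agent.Lib.Helper65.QCMorOpen
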