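import Groth.Agent.Lib.Helper65.IsoNat2
import Groth.Agent.Lib.Helper65.QCMorOpen
import Groth.Agent.Lib.Helper65.LocalEss
import Groth.Agent.Lib.Helper65.AlgStProd
import Groth.Agent.Lib.Helper66.AlgStFp

/-!
# Helper65: an isomorphism of presheaves of isomorphism classes is a homeomorphism on points;
quasi-compactness of morphisms
-/

set_option autoImplicit false
set_option backward.isDefEq.respectTransparency false
set_option backward.isDefEq.respectTransparency.types false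

universe u

open CategoryTheory CategoryTheory.Functor CategoryTheory.Limits Opposite AlgebraicGeometry

namespace Groth.Agent.Lib.Helper65.IsoNatLib

open FibCat Groth.Agent.Lib.Helper31 Groth.Agent.Lib.Helper65 IsoNat

variable {S : Scheme.{u}} {𝒳 𝒴 𝒳' 𝒴' : AlgSt.Cat S}

theorem pts_pts_of_inverse (φ : FIso 𝒳 𝒴) (ψ : FIso 𝒴 𝒳)
    (h : ∀ T c, ψ.toEquiv T (φ.toEquiv T c) = c) (w : AlgSt.Points 𝒳) : pts ψ (pts φ w) = w := by
  obtain ⟨p, rfl⟩ := AlgSt.Points.mk_surjective w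
  obtain ⟨y, hy⟩ := Quotient.exists_rep (φ.toEquiv _ (cls (fptFib p)))
  rw [pts_mk φ p y hy.symm]
  refine (pts_mk ψ (fptOf p.str y) (fptFib p) ?_).trans rfl
  change ψ.toEquiv _ (cls y) = _
  rw [show cls y = φ.toEquiv _ (cls (fptFib p)) from hy, h]

theorem pts_symm_pts (h𝒳 : IsFibGrpd 𝒳.p) (h𝒴 : IsFibGrpd 𝒴.p) (φ : FIso 𝒳 𝒴)
    (w : AlgSt.Points 𝒳) : pts (fIsoSymm h𝒳 h𝒴 φ) (pts φ w) = w :=
  pts_pts_of_inverse φ _ (fun T c => (φ.toEquiv T).symm_apply_apply c) w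

theorem pts_pts_symm (h𝒳 : IsFibGrpd 𝒳.p) (h𝒴 : IsFibGrpd 𝒴.p) (φ : FIso 𝒳 𝒴)
    (w : AlgSt.Points 𝒴) : pts φ (pts (fIsoSymm h𝒳 h𝒴 φ) w) = w :=
  pts_pts_of_inverse (fIsoSymm h𝒳 h𝒴 φ) φ (fun T c => (φ.toEquiv T).apply_symm_apply c) w

/-- A chart of `𝒴` corresponding to a chart of `𝒳`. -/
theorem exists_chart_of_fIso (h𝒴 : IsFibGrpd 𝒴.p) (φ : FIso 𝒳 𝒴) {U : Over S}
    (x : FibCat.overCat U ⥤ᵇ 𝒳) :
    ∃ y : FibCat.overCat U ⥤ᵇ 𝒴, φ.toEquiv U (objCls x) = objCls y := by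
  obtain ⟨y₀, hy₀⟩ := Quotient.exists_rep (φ.toEquiv U (objCls x))
  have hE : (FibCat.evalAtId 𝒴 U).IsEquivalence := evalAtId_isEquivalence_of_isFibGrpd h𝒴 _
  have e : (FibCat.evalAtId 𝒴 U).obj ((FibCat.evalAtId 𝒴 U).objPreimage y₀) ≅ y₀ :=
    (FibCat.evalAtId 𝒴 U).objObjPreimageIso y₀
  refine ⟨(FibCat.evalAtId 𝒴 U).objPreimage y₀, ?_⟩
  rw [← hy₀]
  exact ((cls_eq_iff ((FibCat.evalAtId 𝒴 U).obj ((FibCat.evalAtId 𝒴 U).objPreimage y₀)) y₀).2 ⟨e⟩).symm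

/-- The action on points of an isomorphism of presheaves of isomorphism classes is continuous. -/
theorem continuous_pts (h𝒴 : AlgSt.IsAlgStack Scheme.fppfPrecoverage 𝒴) (φ : FIso 𝒳 𝒴) :
    Continuous (pts φ) := by
  rw [continuous_def]
  intro W hW U x _
  obtain ⟨y, hy⟩ := exists_chart_of_fIso h𝒴.isStack.1 φ x
  have h1 : AlgSt.Points.ofChart x ⁻¹' (pts φ ⁻¹' W) = AlgSt.Points.ofChart y ⁻¹' W := by
    ext t
    change pts φ (AlgSt.Points.ofChart x t) ∈ W ↔ _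
    rw [pts_ofChart h𝒴.isStack.1 φ x y hy t]
    rfl
  rw [h1]
  exact (continuous_ofChart h𝒴.isStack.1 h𝒴.atlas y).isOpen_preimage W hW

/-- The homeomorphism on spaces of points induced by an isomorphism of presheaves of isomorphism classes
of algebraic stacks. -/
noncomputable def ptsHomeo (h𝒳 : AlgSt.IsAlgStack Scheme.fppfPrecoverage 𝒳)
    (h𝒴 : AlgSt.IsAlgStack Scheme.fppfPrecoverage 𝒴) (φ : FIso 𝒳 𝒴) :
    AlgSt.Points 𝒳 ≃ₜ AlgSt.Points 𝒴 where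
  toFun := pts φ
  invFun := pts (fIsoSymm h𝒳.isStack.1 h𝒴.isStack.1 φ)
  left_inv := pts_symm_pts h𝒳.isStack.1 h𝒴.isStack.1 φ
  right_inv := pts_pts_symm h𝒳.isStack.1 h𝒴.isStack.1 φ
  continuous_toFun := continuous_pts h𝒴 φ
  continuous_invFun := continuous_pts h𝒳 _

section FpOpen

variable (h𝒳 : AlgSt.IsAlgStack Scheme.fppfPrecoverage 𝒳) (h𝒴 : AlgSt.IsAlgStack Scheme.fppfPrecoverage 𝒴)
  (f : 𝒳 ⥤ᵇ 𝒴) (T : Set (AlgSt.Points 𝒴)) (hT : IsOpen T)

include h𝒳 h𝒴 hT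

theorem isAlgStack_fp_subIncl :
    AlgSt.IsAlgStack Scheme.fppfPrecoverage (FibCat.fp (AlgSt.subIncl 𝒴 (ptsProp T)) f) := by
  have hsub := isOpenSubstack_ptsProp T h𝒴 hT
  exact
    { isStack := isStack_fp _ _ _ hsub.2.1.isStack h𝒳.isStack (isPrestack_of_isStack _ h𝒴.isStack)
      diag := Groth.Agent.Lib.Helper66.AlgStFp.repByAlgSp1_diag_fp h𝒴.isStack.1 h𝒴.diag
        hsub.2.1.isStack.1 hsub.2.1.diag h𝒳.isStack.1 h𝒳.diag _ f
      atlas := Groth.Agent.Lib.Helper66.AlgStFp.hasAtlas_fp h𝒴.isStack.1 h𝒴.diag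
        hsub.2.1.isStack.1 hsub.2.1.atlas h𝒳.isStack.1 h𝒳.atlas _ f }

theorem isOpenEmbedding_fpSnd_subIncl :
    Topology.IsOpenEmbedding (AlgSt.Points.map (FibCat.fpSnd (AlgSt.subIncl 𝒴 (ptsProp T)) f)) := by
  have hsub := isOpenSubstack_ptsProp T h𝒴 hT
  have hfp := isAlgStack_fp_subIncl h𝒳 h𝒴 f T hT
  have hfull : (AlgSt.subIncl 𝒴 (ptsProp T)).toFunctor.Full :=
    inferInstanceAs (ObjectProperty.ι (ptsProp T)).Full
  have hfull' : (FibCat.fpSnd (AlgSt.subIncl 𝒴 (ptsProp T)) f).toFunctor.Full := fpSnd_full _ _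
  have hoi : AlgSt.IsOpenImm (FibCat.fpSnd (AlgSt.subIncl 𝒴 (ptsProp T)) f) :=
    repByAlgSpWith_fpSnd' _ _ f hsub.2.2
  exact Topology.IsOpenEmbedding.of_continuous_injective_isOpenMap
    (continuous_points_map h𝒳.isStack.1 h𝒳.atlas _)
    (points_map_injective_of_full hfp.isStack.1 h𝒳.isStack.1 _ hfull')
    (isOpenMap_of_isOpenImm hfp.isStack.1 hfp.atlas h𝒳.isStack.1 _ hoi)

theorem range_fpSnd_subIncl :
    Set.range (AlgSt.Points.map (FibCat.fpSnd (AlgSt.subIncl 𝒴 (ptsProp T)) f)) =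
      AlgSt.Points.map f ⁻¹' T := by
  have hsub := isOpenSubstack_ptsProp T h𝒴 hT
  ext x
  constructor
  · rintro ⟨w, rfl⟩
    change AlgSt.Points.map f (AlgSt.Points.map (FibCat.fpSnd (AlgSt.subIncl 𝒴 (ptsProp T)) f) w) ∈ T
    rw [← points_map_comp, ← points_map_congr (fpIso (AlgSt.subIncl 𝒴 (ptsProp T)) f), points_map_comp]
    exact (range_subIncl_ptsProp T).subset ⟨_, rfl⟩
  · intro hx
    have hx' : AlgSt.Points.map f x ∈ Set.range (AlgSt.Points.map (AlgSt.subIncl 𝒴 (ptsProp T))) := by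
      rw [range_subIncl_ptsProp]; exact hx
    obtain ⟨z, hz⟩ := hx'
    obtain ⟨w, -, hw⟩ := exists_points_fp h𝒳.isStack.1 h𝒴.isStack.1 hsub.2.1.isStack.1 f
      (AlgSt.subIncl 𝒴 (ptsProp T)) z x hz
    exact ⟨w, hw⟩

/-- The base change of `f` to the open substack of an open set `T` of points is quasi-compact exactly when
the preimage of `T` is compact. -/
theorem isQuasiCompact_fp_subIncl_iff :
    AlgSt.IsQuasiCompact (FibCat.fp (AlgSt.subIncl 𝒴 (ptsProp T)) f) ↔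
      IsCompact (AlgSt.Points.map f ⁻¹' T) := by
  have hfp := isAlgStack_fp_subIncl h𝒳 h𝒴 f T hT
  have hemb := isOpenEmbedding_fpSnd_subIncl h𝒳 h𝒴 f T hT
  rw [← range_fpSnd_subIncl h𝒳 h𝒴 f T hT, ← Set.image_univ, ← hemb.isInducing.isCompact_iff]
  constructor
  · intro h
    exact (compactSpace_points_of_isQuasiCompact hfp.isStack.1 hfp.atlas h).isCompact_univ
  · intro h
    have : CompactSpace (AlgSt.Points (FibCat.fp (AlgSt.subIncl 𝒴 (ptsProp T)) f)) := ⟨h⟩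
    exact isQuasiCompact_of_compactSpace hfp.isStack.1 hfp.atlas

end FpOpen

/-- Quasi-compactness of a morphism is detected by the induced map of presheaves of isomorphism classes. -/
theorem isQuasiCompactMor_of_fIsoSq [QuasiSeparatedSpace S]
    (h𝒳 : AlgSt.IsAlgStack Scheme.fppfPrecoverage 𝒳) (h𝒴 : AlgSt.IsAlgStack Scheme.fppfPrecoverage 𝒴)
    (h𝒳' : AlgSt.IsAlgStack Scheme.fppfPrecoverage 𝒳')
    (h𝒴' : AlgSt.IsAlgStack Scheme.fppfPrecoverage 𝒴')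
    (hΔ' : AlgSt.RepByAlgSpWith AlgSp.IsQuasiCompactMor (FibCat.diag (FibCat.toSelf 𝒴')))
    {f : 𝒳 ⥤ᵇ 𝒴} {f' : 𝒳' ⥤ᵇ 𝒴'} (sq : FIsoSq f f')
    (hf : AlgSt.IsQuasiCompactMor Scheme.fppfPrecoverage f) :
    AlgSt.IsQuasiCompactMor Scheme.fppfPrecoverage f' := by
  have key : ∀ T' : Set (AlgSt.Points 𝒴'), IsOpen T' → IsCompact T' →
      AlgSt.IsQuasiCompact (FibCat.fp (AlgSt.subIncl 𝒴' (ptsProp T')) f') := by
    intro T' hT' hT'c
    rw [isQuasiCompact_fp_subIncl_iff h𝒳' h𝒴' f' T' hT']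
    let es := ptsHomeo h𝒳 h𝒳' sq.src
    let et := ptsHomeo h𝒴 h𝒴' sq.tgt
    let T : Set (AlgSt.Points 𝒴) := et ⁻¹' T'
    have hT : IsOpen T := et.continuous.isOpen_preimage T' hT'
    have hTc : IsCompact T := by
      have : T = et.symm '' T' := (congrFun (Homeomorph.image_symm et) T').symm
      rw [this]
      exact hT'c.image et.symm.continuous
    have hsub := isOpenSubstack_ptsProp T h𝒴 hT
    have hqc := QCMorOpen.isQuasiCompact_fullSub_ptsProp h𝒴 T hT hTc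
    have h1 : AlgSt.IsQuasiCompact (FibCat.fp (AlgSt.subIncl 𝒴 (ptsProp T)) f) :=
      hf _ hsub.2.1 hqc _
    rw [isQuasiCompact_fp_subIncl_iff h𝒳 h𝒴 f T hT] at h1
    have h2 : AlgSt.Points.map f' ⁻¹' T' = es '' (AlgSt.Points.map f ⁻¹' T) := by
      ext w'
      constructor
      · intro hw'
        refine ⟨es.symm w', ?_, es.apply_symm_apply w'⟩
        change et (AlgSt.Points.map f (es.symm w')) ∈ T'
        have := pts_map_comm sq (es.symm w')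
        change AlgSt.Points.map f' (es (es.symm w')) = et (AlgSt.Points.map f (es.symm w')) at this
        rw [← this, es.apply_symm_apply]
        exact hw'
      · rintro ⟨w, hw, rfl⟩
        change AlgSt.Points.map f' (es w) ∈ T'
        have := pts_map_comm sq w
        change AlgSt.Points.map f' (es w) = et (AlgSt.Points.map f w) at this
        rw [this]
        exact hw
    rw [h2]
    exact h1.image es.continuous
  intro 𝒵 h𝒵 hqc g
  -- repeat the argument of `QCMorOpen.isQuasiCompactMor_of_open` with `key`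
  have := compactSpace_points_of_isQuasiCompact h𝒵.isStack.1 h𝒵.atlas hqc
  have hK : IsCompact (Set.range (AlgSt.Points.map g)) :=
    isCompact_range (continuous_points_map h𝒴'.isStack.1 h𝒴'.atlas g)
  obtain ⟨T, hT, hTc, hKT⟩ := QCMorOpen.exists_compact_open_superset h𝒴' _ hK
  have hsub := isOpenSubstack_ptsProp T h𝒴' hT
  have hfpqc := key T hT hTc
  let g' : 𝒵 ⥤ᵇ AlgSt.fullSub 𝒴' (ptsProp T) := liftFullSub (ptsProp T) g
    (fun z => QCMorOpen.ptsProp_mono hKT (ptsProp_range_map h𝒵.isStack.1 h𝒴'.isStack.1 g z))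
  have hΔ'' : AlgSt.RepByAlgSpWith AlgSp.IsQuasiCompactMor
      (FibCat.diag (FibCat.toSelf (AlgSt.fullSub 𝒴' (ptsProp T)))) :=
    QCMorOpen.repByAlgSpWith_diag_fullSub _ h𝒴'.isStack.1 _ (fun _ _ φ h => ptsProp_of_hom T φ h) hΔ'
  have hfpfib : IsFibGrpd (FibCat.fp (AlgSt.subIncl 𝒴' (ptsProp T)) f').p :=
    isFibGrpd_fp _ _ hsub.2.1.isStack.1 h𝒳'.isStack.1 h𝒴'.isStack.1
  have h1 : AlgSt.IsQuasiCompact (FibCat.fp g' (FibCat.fpFst (AlgSt.subIncl 𝒴' (ptsProp T)) f')) :=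
    SpectralPts.isQuasiCompact_fp_of_qc_diag h𝒵.isStack.1 hsub.2.1.isStack.1 hfpfib g' _ hqc hΔ'' hfpqc
  exact Groth.Agent.Lib.Helper66.AlgStEquiv.isQuasiCompact_of_equivOver
    (fpPasteFst g' (AlgSt.subIncl 𝒴' (ptsProp T)) f') (fpPasteFst_isEquivOver _ _ _) h1

end Groth.Agent.Lib.Helper65.IsoNatLib
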