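import Groth.Agent.Lib.Helper65.FpMap
import Groth.Agent.Lib.Helper65.FpPaste
import Groth.Agent.Lib.Helper90.LiftSqFp

/-!
# Helper65: the base-change functor `𝒲 ×_𝒴 𝒳 ⟶ 𝒵 ×_𝒴 𝒳` and its compatibilities
-/

set_option autoImplicit false
set_option backward.isDefEq.respectTransparency false
set_option backward.isDefEq.respectTransparency.types false

universe v₆ u₆ v₅ u₅ v₄ u₄ v₃ u₃ v₂ u₂ v u

open CategoryTheory CategoryTheory.Functor CategoryTheory.Limits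

namespace Groth.Agent.Lib.Helper65.LargestOpen

open FibCat Groth.Agent.Lib.Helper31 Groth.Agent.Lib.Helper65
open Groth.Agent.Lib.Helper90.LiftSqComp (app)

variable {C : Type u} [Category.{v} C]
variable {𝒳 : BasedCategory.{v₂, u₂} C} {𝒴 : BasedCategory.{v₃, u₃} C} {𝒵 : BasedCategory.{v₄, u₄} C}
  {𝒲 : BasedCategory.{v₅, u₅} C}

/-- The canonical functor `𝒲 ×_𝒴 𝒳 ⟶ 𝒵 ×_𝒴 𝒳` induced by `h : 𝒲 ⟶ 𝒵` and `j : z' ≅ h ≫ g`. -/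
def fpBase (h : 𝒲 ⥤ᵇ 𝒵) (g : 𝒵 ⥤ᵇ 𝒴) (f : 𝒳 ⥤ᵇ 𝒴) (z' : 𝒲 ⥤ᵇ 𝒴)
    (j : z' ≅ BasedFunctor.comp h g) : fp z' f ⥤ᵇ fp g f :=
  fpMap (F := z') (G := f) (F' := g) (G' := f) h (BasedFunctor.id 𝒳) (BasedFunctor.id 𝒴) j (Iso.refl _)

theorem fpBase_comp_fpFst (h : 𝒲 ⥤ᵇ 𝒵) (g : 𝒵 ⥤ᵇ 𝒴) (f : 𝒳 ⥤ᵇ 𝒴) (z' : 𝒲 ⥤ᵇ 𝒴)
    (j : z' ≅ BasedFunctor.comp h g) :
    BasedFunctor.comp (fpBase h g f z' j) (fpFst g f) = BasedFunctor.comp (fpFst z' f) h := rfl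

theorem fpBase_comp_fpSnd (h : 𝒲 ⥤ᵇ 𝒵) (g : 𝒵 ⥤ᵇ 𝒴) (f : 𝒳 ⥤ᵇ 𝒴) (z' : 𝒲 ⥤ᵇ 𝒴)
    (j : z' ≅ BasedFunctor.comp h g) :
    BasedFunctor.comp (fpBase h g f z' j) (fpSnd g f) = fpSnd z' f := rfl

theorem fpBase_obj_iso_hom (h : 𝒲 ⥤ᵇ 𝒵) (g : 𝒵 ⥤ᵇ 𝒴) (f : 𝒳 ⥤ᵇ 𝒴) (z' : 𝒲 ⥤ᵇ 𝒴)
    (j : z' ≅ BasedFunctor.comp h g) (X : (fp z' f).obj) :
    ((fpBase h g f z' j).obj X).obj.iso.hom = app j.inv X.obj.fst ≫ X.obj.iso.hom := by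
  change j.inv.toNatTrans.app X.obj.fst ≫ X.obj.iso.hom ≫ 𝟙 _ = _
  rw [Category.comp_id]
  rfl

/-- Changing the chart by a 2-isomorphism. -/
def fpChg (z z' : 𝒲 ⥤ᵇ 𝒴) (f : 𝒳 ⥤ᵇ 𝒴) (j : z' ≅ z) : fp z f ⥤ᵇ fp z' f :=
  fpMap (F := z) (G := f) (F' := z') (G' := f) (BasedFunctor.id 𝒲) (BasedFunctor.id 𝒳)
    (BasedFunctor.id 𝒴) j.symm (Iso.refl _)

theorem fpChg_isEquivOver (z z' : 𝒲 ⥤ᵇ 𝒴) (f : 𝒳 ⥤ᵇ 𝒴) (j : z' ≅ z) : IsEquivOver (fpChg z z' f j) :=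
  fpMap_isEquivOver _ _ _ _ _ (isEquivOver_id _) (isEquivOver_id _) (isEquivOver_id _)

theorem fpChg_obj_iso_hom (z z' : 𝒲 ⥤ᵇ 𝒴) (f : 𝒳 ⥤ᵇ 𝒴) (j : z' ≅ z) (X : (fp z f).obj) :
    ((fpChg z z' f j).obj X).obj.iso.hom = app j.hom X.obj.fst ≫ X.obj.iso.hom := by
  change j.symm.inv.toNatTrans.app X.obj.fst ≫ X.obj.iso.hom ≫ 𝟙 _ = _
  rw [Category.comp_id]
  rfl

/-- Lemma I: changing the chart and then base changing is base changing. -/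
def fpChgBaseIso (h : 𝒲 ⥤ᵇ 𝒵) (g : 𝒵 ⥤ᵇ 𝒴) (f : 𝒳 ⥤ᵇ 𝒴) (z' : 𝒲 ⥤ᵇ 𝒴)
    (j : z' ≅ BasedFunctor.comp h g) :
    BasedFunctor.comp (fpChg (BasedFunctor.comp h g) z' f j) (fpBase h g f z' j) ≅
      fpBase h g f (BasedFunctor.comp h g) (Iso.refl _) :=
  Groth.Agent.Lib.Helper90.LiftSqFp.fpIsoMk (Iso.refl _) (Iso.refl _) (fun X => by
    have e1 : ((fpBase h g f (BasedFunctor.comp h g) (Iso.refl _)).obj X).obj.iso.hom =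
        app (Iso.refl (BasedFunctor.comp h g)).inv X.obj.fst ≫ X.obj.iso.hom :=
      fpBase_obj_iso_hom h g f _ (Iso.refl _) X
    have e2 : ((fpBase h g f z' j).obj ((fpChg (BasedFunctor.comp h g) z' f j).obj X)).obj.iso.hom =
        app j.inv X.obj.fst ≫ ((fpChg (BasedFunctor.comp h g) z' f j).obj X).obj.iso.hom :=
      fpBase_obj_iso_hom h g f z' j _
    have e3 := fpChg_obj_iso_hom (BasedFunctor.comp h g) z' f j X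
    have e4 : app j.inv X.obj.fst ≫ app j.hom X.obj.fst = 𝟙 _ :=
      Groth.Agent.Lib.Helper90.LiftSqComp.app_inv_hom j X.obj.fst
    change g.map (𝟙 _) ≫ ((fpBase h g f (BasedFunctor.comp h g) (Iso.refl _)).obj X).obj.iso.hom =
      ((fpBase h g f z' j).obj ((fpChg (BasedFunctor.comp h g) z' f j).obj X)).obj.iso.hom ≫ f.map (𝟙 _)
    rw [e1, e2, e3, g.map_id, f.map_id, Category.id_comp, Category.comp_id, ← Category.assoc, e4,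
      Category.id_comp]
    exact Category.id_comp _)

/-- Lemma II: pasting followed by base change is the second projection. -/
def fpPasteBaseIso (h : 𝒲 ⥤ᵇ 𝒵) (g : 𝒵 ⥤ᵇ 𝒴) (f : 𝒳 ⥤ᵇ 𝒴) :
    BasedFunctor.comp (fpPasteFst h g f) (fpBase h g f (BasedFunctor.comp h g) (Iso.refl _)) ≅
      fpSnd h (fpFst g f) :=
  Groth.Agent.Lib.Helper90.LiftSqFp.fpIsoMk (fpIso h (fpFst g f)) (Iso.refl _) (fun T => by
    have e1 : ((fpBase h g f (BasedFunctor.comp h g) (Iso.refl _)).obj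
        ((fpPasteFst h g f).obj T)).obj.iso.hom =
        app (Iso.refl (BasedFunctor.comp h g)).inv ((fpPasteFst h g f).obj T).obj.fst ≫
          ((fpPasteFst h g f).obj T).obj.iso.hom :=
      fpBase_obj_iso_hom h g f _ (Iso.refl _) _
    change g.map T.obj.iso.hom ≫ T.obj.snd.obj.iso.hom =
      ((fpBase h g f (BasedFunctor.comp h g) (Iso.refl _)).obj
        ((fpPasteFst h g f).obj T)).obj.iso.hom ≫ f.map (𝟙 _)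
    rw [e1, fpPasteFst_obj_iso_hom, f.map_id, Category.comp_id]
    exact (Category.id_comp _).symm)

/-- Lemma III: base change along a composite. -/
def fpBaseCompIso {𝒲' : BasedCategory.{v₆, u₆} C} (h : 𝒲 ⥤ᵇ 𝒵) (g : 𝒵 ⥤ᵇ 𝒴) (f : 𝒳 ⥤ᵇ 𝒴) (z' : 𝒲 ⥤ᵇ 𝒴)
    (j : z' ≅ BasedFunctor.comp h g) (e : 𝒲' ⥤ᵇ 𝒲) (h' : 𝒲' ⥤ᵇ 𝒵) (σ : BasedFunctor.comp e h ≅ h') :
    BasedFunctor.comp (fpBase e z' f (BasedFunctor.comp e z') (Iso.refl _)) (fpBase h g f z' j) ≅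
      fpBase h' g f (BasedFunctor.comp e z') (bWhiskerLeftIso e j ≪≫ bWhiskerRightIso σ g) :=
  Groth.Agent.Lib.Helper90.LiftSqFp.fpIsoMk
    (bWhiskerLeftIso (fpFst (BasedFunctor.comp e z') f) σ) (Iso.refl _) (fun X => by
    have e1 : ((fpBase h' g f (BasedFunctor.comp e z')
        (bWhiskerLeftIso e j ≪≫ bWhiskerRightIso σ g)).obj X).obj.iso.hom =
        app (bWhiskerLeftIso e j ≪≫ bWhiskerRightIso σ g).inv X.obj.fst ≫ X.obj.iso.hom :=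
      fpBase_obj_iso_hom _ _ _ _ _ _
    have e2 : ((fpBase h g f z' j).obj
        ((fpBase e z' f (BasedFunctor.comp e z') (Iso.refl _)).obj X)).obj.iso.hom =
        app j.inv (e.obj X.obj.fst) ≫
          ((fpBase e z' f (BasedFunctor.comp e z') (Iso.refl _)).obj X).obj.iso.hom :=
      fpBase_obj_iso_hom _ _ _ _ _ _
    have e3 : ((fpBase e z' f (BasedFunctor.comp e z') (Iso.refl _)).obj X).obj.iso.hom =
        app (Iso.refl (BasedFunctor.comp e z')).inv X.obj.fst ≫ X.obj.iso.hom :=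
      fpBase_obj_iso_hom _ _ _ _ _ _
    have e4 : app (bWhiskerLeftIso e j ≪≫ bWhiskerRightIso σ g).hom X.obj.fst =
        app j.hom (e.obj X.obj.fst) ≫ g.map (app σ.hom X.obj.fst) := rfl
    have e5 : app (bWhiskerLeftIso e j ≪≫ bWhiskerRightIso σ g).hom X.obj.fst ≫
        app (bWhiskerLeftIso e j ≪≫ bWhiskerRightIso σ g).inv X.obj.fst = 𝟙 _ :=
      Groth.Agent.Lib.Helper90.LiftSqComp.app_hom_inv _ _
    have e6 : app j.inv (e.obj X.obj.fst) ≫ app j.hom (e.obj X.obj.fst) = 𝟙 _ :=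
      Groth.Agent.Lib.Helper90.LiftSqComp.app_inv_hom _ _
    have e7 : g.map (app σ.hom X.obj.fst) ≫
        app (bWhiskerLeftIso e j ≪≫ bWhiskerRightIso σ g).inv X.obj.fst =
        app j.inv (e.obj X.obj.fst) := by
      calc g.map (app σ.hom X.obj.fst) ≫
            app (bWhiskerLeftIso e j ≪≫ bWhiskerRightIso σ g).inv X.obj.fst
          = (app j.inv (e.obj X.obj.fst) ≫ app j.hom (e.obj X.obj.fst)) ≫
              g.map (app σ.hom X.obj.fst) ≫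
              app (bWhiskerLeftIso e j ≪≫ bWhiskerRightIso σ g).inv X.obj.fst := by
            rw [e6, Category.id_comp]
        _ = app j.inv (e.obj X.obj.fst) ≫
              (app j.hom (e.obj X.obj.fst) ≫ g.map (app σ.hom X.obj.fst)) ≫
              app (bWhiskerLeftIso e j ≪≫ bWhiskerRightIso σ g).inv X.obj.fst := by
            simp only [Category.assoc]
        _ = app j.inv (e.obj X.obj.fst) := by
            rw [← e4, e5]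
            exact Category.comp_id _
    change g.map (app σ.hom X.obj.fst) ≫
        ((fpBase h' g f (BasedFunctor.comp e z')
          (bWhiskerLeftIso e j ≪≫ bWhiskerRightIso σ g)).obj X).obj.iso.hom =
      ((fpBase h g f z' j).obj
        ((fpBase e z' f (BasedFunctor.comp e z') (Iso.refl _)).obj X)).obj.iso.hom ≫ f.map (𝟙 _)
    rw [e1, e2, e3, f.map_id, Category.comp_id, ← Category.assoc, e7]
    congr 1
    exact (Category.id_comp _).symm)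

section PT

variable {𝒵₁ : BasedCategory.{v₄, u₄} C} {𝒵₂ : BasedCategory.{v₅, u₅} C}
variable (z₁ : 𝒵₁ ⥤ᵇ 𝒴) (z₂ : 𝒵₂ ⥤ᵇ 𝒴) (f : 𝒳 ⥤ᵇ 𝒴)

/-- The chart of the fibre product of two charts. -/
abbrev z12 : fp z₁ z₂ ⥤ᵇ 𝒴 := BasedFunctor.comp (fpFst z₁ z₂) z₁

/-- Base change to the first chart. -/
abbrev Φ1 : fp (z12 z₁ z₂) f ⥤ᵇ fp z₁ f :=
  fpBase (fpFst z₁ z₂) z₁ f (z12 z₁ z₂) (Iso.refl _)

/-- Base change to the second chart. -/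
abbrev Φ2 : fp (z12 z₁ z₂) f ⥤ᵇ fp z₂ f :=
  fpBase (fpSnd z₁ z₂) z₂ f (z12 z₁ z₂) (fpIso z₁ z₂)

/-- `(𝒵₁ ×_𝒴 𝒳) ×_𝒳 (𝒵₂ ×_𝒴 𝒳) ⟶ 𝒵₁ ×_𝒴 𝒵₂`. -/
abbrev ptA : fp (fpSnd z₁ f) (fpSnd z₂ f) ⥤ᵇ fp z₁ z₂ :=
  fpMap (F := fpSnd z₁ f) (G := fpSnd z₂ f) (F' := z₁) (G' := z₂) (fpFst z₁ f) (fpFst z₂ f) f
    (fpIso z₁ f).symm (fpIso z₂ f).symm

/-- `(𝒵₁ ×_𝒴 𝒳) ×_𝒳 (𝒵₂ ×_𝒴 𝒳) ⟶ (𝒵₁ ×_𝒴 𝒵₂) ×_𝒴 𝒳`. -/
def ptΘ : fp (fpSnd z₁ f) (fpSnd z₂ f) ⥤ᵇ fp (z12 z₁ z₂) f :=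
  fpLift (ptA z₁ z₂ f) (BasedFunctor.comp (fpFst (fpSnd z₁ f) (fpSnd z₂ f)) (fpSnd z₁ f))
    (bWhiskerLeftIso (fpFst (fpSnd z₁ f) (fpSnd z₂ f)) (fpIso z₁ f))

theorem ptΘ_obj_iso_hom (ρ : (fp (fpSnd z₁ f) (fpSnd z₂ f)).obj) :
    ((ptΘ z₁ z₂ f).obj ρ).obj.iso.hom = ρ.obj.fst.obj.iso.hom := rfl

theorem ptA_obj_iso_hom (ρ : (fp (fpSnd z₁ f) (fpSnd z₂ f)).obj) :
    ((ptA z₁ z₂ f).obj ρ).obj.iso.hom =
      ρ.obj.fst.obj.iso.hom ≫ f.map ρ.obj.iso.hom ≫ ρ.obj.snd.obj.iso.inv := rfl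

theorem ptA_obj_iso_inv (ρ : (fp (fpSnd z₁ f) (fpSnd z₂ f)).obj) :
    ((ptA z₁ z₂ f).obj ρ).obj.iso.inv =
      ρ.obj.snd.obj.iso.hom ≫ f.map ρ.obj.iso.inv ≫ ρ.obj.fst.obj.iso.inv := by
  rw [← cancel_epi ((ptA z₁ z₂ f).obj ρ).obj.iso.hom, Iso.hom_inv_id, ptA_obj_iso_hom]
  simp only [Category.assoc, Iso.inv_hom_id_assoc]
  rw [← f.map_comp_assoc, Iso.hom_inv_id, f.map_id, Category.id_comp, Iso.hom_inv_id]

/-- `Θ` followed by base change to the first chart is the first projection. -/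
def ptΘ_Φ1 : BasedFunctor.comp (ptΘ z₁ z₂ f) (Φ1 z₁ z₂ f) ≅ fpFst (fpSnd z₁ f) (fpSnd z₂ f) :=
  Groth.Agent.Lib.Helper90.LiftSqFp.fpIsoMk (Iso.refl _) (Iso.refl _) (fun ρ => by
    have e1 : ((Φ1 z₁ z₂ f).obj ((ptΘ z₁ z₂ f).obj ρ)).obj.iso.hom =
        app (Iso.refl (z12 z₁ z₂)).inv ((ptΘ z₁ z₂ f).obj ρ).obj.fst ≫
          ((ptΘ z₁ z₂ f).obj ρ).obj.iso.hom :=
      fpBase_obj_iso_hom _ _ _ _ _ _
    change z₁.map (𝟙 _) ≫ ρ.obj.fst.obj.iso.hom =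
      ((Φ1 z₁ z₂ f).obj ((ptΘ z₁ z₂ f).obj ρ)).obj.iso.hom ≫ f.map (𝟙 _)
    rw [e1, ptΘ_obj_iso_hom, z₁.map_id, f.map_id, Category.comp_id, Category.id_comp]
    exact (Category.id_comp _).symm)

/-- `Θ` followed by base change to the second chart is the second projection. -/
def ptΘ_Φ2 : BasedFunctor.comp (ptΘ z₁ z₂ f) (Φ2 z₁ z₂ f) ≅ fpSnd (fpSnd z₁ f) (fpSnd z₂ f) :=
  Groth.Agent.Lib.Helper90.LiftSqFp.fpIsoMk (Iso.refl _) (fpIso (fpSnd z₁ f) (fpSnd z₂ f)) (fun ρ => by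
    have e1 : ((Φ2 z₁ z₂ f).obj ((ptΘ z₁ z₂ f).obj ρ)).obj.iso.hom =
        app (fpIso z₁ z₂).inv ((ptΘ z₁ z₂ f).obj ρ).obj.fst ≫
          ((ptΘ z₁ z₂ f).obj ρ).obj.iso.hom :=
      fpBase_obj_iso_hom _ _ _ _ _ _
    have e2 : app (fpIso z₁ z₂).inv ((ptΘ z₁ z₂ f).obj ρ).obj.fst =
        ((ptA z₁ z₂ f).obj ρ).obj.iso.inv := rfl
    change z₂.map (𝟙 _) ≫ ρ.obj.snd.obj.iso.hom =
      ((Φ2 z₁ z₂ f).obj ((ptΘ z₁ z₂ f).obj ρ)).obj.iso.hom ≫ f.map ρ.obj.iso.hom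
    rw [e1, e2, ptA_obj_iso_inv, ptΘ_obj_iso_hom, z₂.map_id, Category.id_comp]
    simp only [Category.assoc, Iso.inv_hom_id_assoc]
    rw [← f.map_comp, Iso.inv_hom_id, f.map_id, Category.comp_id])

end PT

end Groth.Agent.Lib.Helper65.LargestOpen
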