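import Groth.Agent.Lib.Helper65.LargestOpenA
import Groth.Agent.Lib.Helper65.RepBC
import Groth.Agent.Lib.Helper65.StPoints2
import Groth.Agent.Lib.Helper65.FpFib

/-!
# Helper65: points of triple fibre products; pullback squares of sheaves with their 2-cells
-/

set_option autoImplicit false
set_option backward.isDefEq.respectTransparency false
set_option backward.isDefEq.respectTransparency.types false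

universe u

open CategoryTheory CategoryTheory.Functor CategoryTheory.Limits Opposite AlgebraicGeometry

namespace Groth.Agent.Lib.Helper65.LargestOpen

open FibCat Groth.Agent.Lib.Helper31 Groth.Agent.Lib.Helper65

variable {S : Scheme.{u}}

section PTPoints

variable {𝒳 𝒴 𝒵₁ 𝒵₂ : AlgSt.Cat S}

/-- Two points of `𝒵₁ ×_𝒴 𝒳` and `𝒵₂ ×_𝒴 𝒳` over the same point of `𝒳` come from a point of
`(𝒵₁ ×_𝒴 𝒵₂) ×_𝒴 𝒳`. -/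
theorem exists_points_z12 (h𝒳 : IsFibGrpd 𝒳.p) (h𝒴 : IsFibGrpd 𝒴.p) (h₁ : IsFibGrpd 𝒵₁.p)
    (h₂ : IsFibGrpd 𝒵₂.p) (z₁ : 𝒵₁ ⥤ᵇ 𝒴) (z₂ : 𝒵₂ ⥤ᵇ 𝒴) (f : 𝒳 ⥤ᵇ 𝒴)
    (η : AlgSt.Points (fp z₁ f)) (ξ : AlgSt.Points (fp z₂ f))
    (h : AlgSt.Points.map (fpSnd z₁ f) η = AlgSt.Points.map (fpSnd z₂ f) ξ) :
    ∃ ω : AlgSt.Points (fp (z12 z₁ z₂) f),
      AlgSt.Points.map (Φ1 z₁ z₂ f) ω = η ∧ AlgSt.Points.map (Φ2 z₁ z₂ f) ω = ξ := by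
  obtain ⟨ρ, h1, h2⟩ := exists_points_fp (isFibGrpd_fp z₂ f h₂ h𝒳 h𝒴) h𝒳
    (isFibGrpd_fp z₁ f h₁ h𝒳 h𝒴) (fpSnd z₂ f) (fpSnd z₁ f) η ξ h
  refine ⟨AlgSt.Points.map (ptΘ z₁ z₂ f) ρ, ?_, ?_⟩
  · rw [← points_map_comp, points_map_congr (ptΘ_Φ1 z₁ z₂ f), h1]
  · rw [← points_map_comp, points_map_congr (ptΘ_Φ2 z₁ z₂ f), h2]

end PTPoints

section BC

variable {𝒳 𝒴 : AlgSt.Cat S}

/-- Base change squares with their 2-cell: if `F₁ ≃ G₁ ×_𝒴 𝒳` with projection `a₁ : F₁ ⟶ G₁`,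
`b : G₂ ⟶ G₁` is a map of sheaves and `F₂ ≃ G₂ ×_𝒴 𝒳` with projection `a₂`, then
`F₂ = G₂ ×_{G₁} F₁` as sheaves, by a map `b'` inducing the canonical functor of 2-fibre products. -/
theorem exists_isPullback_of_fp' (f : 𝒳 ⥤ᵇ 𝒴) {G₁ G₂ F₁ F₂ : AlgSp.Sp S}
    (y₁ : AlgSt.ofSp G₁ ⥤ᵇ 𝒴) (E₁ : AlgSt.ofSp F₁ ⥤ᵇ fp y₁ f) (hE₁ : IsEquivOver E₁) (a₁ : F₁ ⟶ G₁)
    (i₁ : BasedFunctor.comp E₁ (fpFst y₁ f) ≅ AlgSt.ofSpMap a₁)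
    (b : G₂ ⟶ G₁) (y₂ : AlgSt.ofSp G₂ ⥤ᵇ 𝒴) (j : y₂ ≅ BasedFunctor.comp (AlgSt.ofSpMap b) y₁)
    (E₂ : AlgSt.ofSp F₂ ⥤ᵇ fp y₂ f) (hE₂ : IsEquivOver E₂) (a₂ : F₂ ⟶ G₂)
    (i₂ : BasedFunctor.comp E₂ (fpFst y₂ f) ≅ AlgSt.ofSpMap a₂) :
    ∃ b' : F₂ ⟶ F₁, IsPullback b' a₂ a₁ b ∧
      Nonempty (BasedFunctor.comp (AlgSt.ofSpMap b') E₁ ≅
        BasedFunctor.comp E₂ (fpBase (AlgSt.ofSpMap b) y₁ f y₂ j)) := by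
  have sq : IsPullback (pullback.fst b a₁) (pullback.snd b a₁) b a₁ := IsPullback.of_hasPullback b a₁
  have sq' : IsPullback (pullback.fst b a₁).hom (pullback.snd b a₁).hom b.hom a₁.hom :=
    sq.map (sheafToPresheaf (AlgSp.J S) (Type (u + 1)))
  let Ψ₁ : AlgSt.ofSp (pullback b a₁) ⥤ᵇ fp (AlgSt.ofSpMap b) (AlgSt.ofSpMap a₁) := pbLift sq'.w
  have hΨ₁ : IsEquivOver Ψ₁ := pbLift_isEquivOver sq'
  let Ψ₂ : fp (AlgSt.ofSpMap b) (AlgSt.ofSpMap a₁) ⥤ᵇ fp (AlgSt.ofSpMap b) (fpFst y₁ f) :=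
    fpMap (F := AlgSt.ofSpMap b) (G := AlgSt.ofSpMap a₁) (F' := AlgSt.ofSpMap b) (G' := fpFst y₁ f)
      (BasedFunctor.id _) E₁ (BasedFunctor.id _) (Iso.refl _) i₁.symm
  have hΨ₂ : IsEquivOver Ψ₂ := fpMap_isEquivOver _ _ _ _ _ (isEquivOver_id _) hE₁ (isEquivOver_id _)
  let Ψ₃ : fp (AlgSt.ofSpMap b) (fpFst y₁ f) ⥤ᵇ fp (BasedFunctor.comp (AlgSt.ofSpMap b) y₁) f :=
    fpPasteFst (AlgSt.ofSpMap b) y₁ f
  have hΨ₃ : IsEquivOver Ψ₃ := fpPasteFst_isEquivOver (AlgSt.ofSpMap b) y₁ f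
  let Ψ₄ : fp (BasedFunctor.comp (AlgSt.ofSpMap b) y₁) f ⥤ᵇ fp y₂ f :=
    fpChg (BasedFunctor.comp (AlgSt.ofSpMap b) y₁) y₂ f j
  have hΨ₄ : IsEquivOver Ψ₄ := fpChg_isEquivOver _ _ _ _
  let Ψ123 : AlgSt.ofSp (pullback b a₁) ⥤ᵇ fp (BasedFunctor.comp (AlgSt.ofSpMap b) y₁) f :=
    BasedFunctor.comp (BasedFunctor.comp Ψ₁ Ψ₂) Ψ₃
  let Ψ : AlgSt.ofSp (pullback b a₁) ⥤ᵇ fp y₂ f := BasedFunctor.comp Ψ123 Ψ₄
  have hΨ : IsEquivOver Ψ :=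
    isEquivOver_comp _ _ (isEquivOver_comp _ _ (isEquivOver_comp _ _ hΨ₁ hΨ₂) hΨ₃) hΨ₄
  have hΨfst : BasedFunctor.comp Ψ (fpFst y₂ f) = AlgSt.ofSpMap (pullback.fst b a₁) := rfl
  obtain ⟨E₂', hE₂', ⟨c₁⟩, ⟨c₂⟩⟩ := exists_inverse_equivOver E₂ hE₂
  let E : AlgSt.ofSp (pullback b a₁) ⥤ᵇ AlgSt.ofSp F₂ := BasedFunctor.comp Ψ E₂'
  have hE : IsEquivOver E := isEquivOver_comp Ψ E₂' hΨ hE₂'
  have k : BasedFunctor.comp E (AlgSt.ofSpMap a₂) ≅ AlgSt.ofSpMap (pullback.fst b a₁) := by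
    have k1 : BasedFunctor.comp E (AlgSt.ofSpMap a₂) ≅
        BasedFunctor.comp E (BasedFunctor.comp E₂ (fpFst y₂ f)) := bWhiskerLeftIso E i₂.symm
    have k2 : BasedFunctor.comp E (BasedFunctor.comp E₂ (fpFst y₂ f)) ≅
        BasedFunctor.comp Ψ (fpFst y₂ f) :=
      bWhiskerRightIso (bWhiskerLeftIso Ψ c₂) (fpFst y₂ f)
    exact k1 ≪≫ k2 ≪≫ eqToIso hΨfst
  obtain ⟨ι₀, hι₀⟩ := nonempty_iso_of_equivOver E hE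
  have hcomm : ι₀.hom ≫ a₂.hom = (pullback.fst b a₁).hom := by
    apply ofPshMap_injective
    rw [ofPshMap_comp, hι₀]
    exact (bWhiskerRightIso (isoOfPshMap E).symm (Stk.ofPshMap a₂.hom) ≪≫ k).hom
  let ι : pullback b a₁ ≅ F₂ :=
    (fullyFaithfulSheafToPresheaf (AlgSp.J S) _).preimageIso (X := pullback b a₁) (Y := F₂) ι₀
  have hι : ι.hom.hom = ι₀.hom :=
    (fullyFaithfulSheafToPresheaf (AlgSp.J S) _).map_preimage (X := pullback b a₁) (Y := F₂) ι₀.hom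
  have hcomm' : ι.hom ≫ a₂ = pullback.fst b a₁ := by
    apply ObjectProperty.hom_ext
    change ι.hom.hom ≫ a₂.hom = _
    rw [hι, hcomm]
  refine ⟨ι.inv ≫ pullback.snd b a₁, ?_, ⟨?_⟩⟩
  · refine IsPullback.of_iso sq.flip ι (Iso.refl _) (Iso.refl _) (Iso.refl _) ?_ ?_ ?_ ?_
    · simp
    · simp [hcomm']
    · simp
    · simp
  · -- the 2-cell
    have k₀ : BasedFunctor.comp Ψ123 (fpBase (AlgSt.ofSpMap b) y₁ f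
        (BasedFunctor.comp (AlgSt.ofSpMap b) y₁) (Iso.refl _)) ≅
        BasedFunctor.comp (AlgSt.ofSpMap (pullback.snd b a₁)) E₁ :=
      bWhiskerLeftIso (BasedFunctor.comp Ψ₁ Ψ₂) (fpPasteBaseIso (AlgSt.ofSpMap b) y₁ f)
    have k₁ : BasedFunctor.comp Ψ (fpBase (AlgSt.ofSpMap b) y₁ f y₂ j) ≅
        BasedFunctor.comp Ψ123 (fpBase (AlgSt.ofSpMap b) y₁ f
          (BasedFunctor.comp (AlgSt.ofSpMap b) y₁) (Iso.refl _)) :=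
      bWhiskerLeftIso Ψ123 (fpChgBaseIso (AlgSt.ofSpMap b) y₁ f y₂ j)
    have k₂ : BasedFunctor.comp Ψ (fpBase (AlgSt.ofSpMap b) y₁ f y₂ j) ≅
        BasedFunctor.comp (AlgSt.ofSpMap (pullback.snd b a₁)) E₁ := k₁ ≪≫ k₀
    -- `ofSpMap ι.hom ≅ E`
    have m₁ : AlgSt.ofSpMap ι.hom ≅ E := by
      have : AlgSt.ofSpMap ι.hom = Stk.ofPshMap (pshMapOf E) := by
        change Stk.ofPshMap ι.hom.hom = _
        rw [hι, hι₀]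
      exact eqToIso this ≪≫ (isoOfPshMap E).symm
    have m₂ : BasedFunctor.comp (AlgSt.ofSpMap ι.hom) E₂ ≅ Ψ :=
      bWhiskerRightIso m₁ E₂ ≪≫ bWhiskerLeftIso Ψ c₂
    have m₃ : BasedFunctor.comp (AlgSt.ofSpMap ι.inv) (BasedFunctor.comp (AlgSt.ofSpMap ι.hom) E₂) =
        E₂ := by
      change BasedFunctor.comp (AlgSt.ofSpMap (ι.inv ≫ ι.hom)) E₂ = E₂
      rw [ι.inv_hom_id]
      rfl
    have m₄ : BasedFunctor.comp (AlgSt.ofSpMap ι.inv) Ψ ≅ E₂ :=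
      bWhiskerLeftIso (AlgSt.ofSpMap ι.inv) m₂.symm ≪≫ eqToIso m₃
    have m₅ : BasedFunctor.comp (AlgSt.ofSpMap (ι.inv ≫ pullback.snd b a₁)) E₁ ≅
        BasedFunctor.comp (AlgSt.ofSpMap ι.inv) (BasedFunctor.comp Ψ (fpBase (AlgSt.ofSpMap b) y₁ f y₂ j)) :=
      bWhiskerLeftIso (AlgSt.ofSpMap ι.inv) k₂.symm
    exact m₅ ≪≫ bWhiskerRightIso m₄ (fpBase (AlgSt.ofSpMap b) y₁ f y₂ j)

end BC

end Groth.Agent.Lib.Helper65.LargestOpen
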