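import Groth.Agent.Lib.Helper65.LargestOpenB
import Groth.Agent.Lib.Helper54.LargestOpen
import Groth.Agent.Lib.Helper54.Points

/-!
# Helper65: largest open subspaces with a property and their behaviour under base change of charts
-/

set_option autoImplicit false
set_option backward.isDefEq.respectTransparency false
set_option backward.isDefEq.respectTransparency.types false

universe u

open CategoryTheory CategoryTheory.Functor CategoryTheory.Limits Opposite AlgebraicGeometry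

namespace Groth.Agent.Lib.Helper65.LargestOpen

open FibCat Groth.Agent.Lib.Helper31 Groth.Agent.Lib.Helper65

variable {S : Scheme.{u}}

/-- `(W, w)` is the largest open subspace of `X` on which `f : X ⟶ Y` has `P`. -/
def IsLargest (P : MorphismProperty (AlgSp.Sp S)) {X Y : AlgSp.Space S} (f : X ⟶ Y)
    (W : AlgSp.Space S) (w : W ⟶ X) : Prop :=
  AlgSp.RepWith @IsOpenImmersion w.hom ∧ P (w ≫ f).hom ∧
    ∀ (W₁ : AlgSp.Space S) (w₁ : W₁ ⟶ X), AlgSp.RepWith @IsOpenImmersion w₁.hom → P (w₁ ≫ f).hom →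
      ∃ k : W₁ ⟶ W, k ≫ w = w₁

/-- Hypothesis (3): largest open subspaces exist for morphisms with `Q`. -/
def H3 (P Q : MorphismProperty (AlgSp.Sp S)) : Prop :=
  ∀ (X Y : AlgSp.Space S) (f : X ⟶ Y), Q f.hom → ∃ (W : AlgSp.Space S) (w : W ⟶ X), IsLargest P f W w

/-- Hypothesis (4): largest open subspaces are compatible with base change along morphisms with `R`. -/
def H4 (P Q R : MorphismProperty (AlgSp.Sp S)) : Prop :=
  ∀ (X Y X' Y' : AlgSp.Space S) (f : X ⟶ Y) (g : Y' ⟶ Y) (f' : X' ⟶ Y') (g' : X' ⟶ X),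
    IsPullback g'.hom f'.hom f.hom g.hom → Q f.hom → R g.hom →
    ∀ (W : AlgSp.Space S) (w : W ⟶ X), IsLargest P f W w →
      ∀ (W' : AlgSp.Space S) (w' : W' ⟶ X') (k : W' ⟶ W), IsPullback k.hom w'.hom w.hom g'.hom →
        IsLargest P f' W' w'

section Sheaves

variable {P : MorphismProperty (AlgSp.Sp S)}

theorem range_subset_of_factor {A B C : AlgSp.Sp S} (k : A ⟶ B) (w : B ⟶ C) (w₁ : A ⟶ C) (h : k ≫ w = w₁) :
    Set.range (AlgSp.Points.map w₁) ⊆ Set.range (AlgSp.Points.map w) := by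
  rintro _ ⟨x, rfl⟩
  exact ⟨AlgSp.Points.map k x, by rw [← AlgSp.Points.map_comp, h]⟩

/-- Two largest open subspaces have the same points. -/
theorem IsLargest.range_eq {X Y : AlgSp.Space S} {f : X ⟶ Y} {W W' : AlgSp.Space S} {w : W ⟶ X}
    {w' : W' ⟶ X} (h : IsLargest P f W w) (h' : IsLargest P f W' w') :
    Set.range (AlgSp.Points.map w.hom) = Set.range (AlgSp.Points.map w'.hom) := by
  apply Set.Subset.antisymm
  · obtain ⟨k, hk⟩ := h'.2.2 W w h.1 h.2.1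
    exact range_subset_of_factor k.hom w'.hom w.hom (congrArg (fun t => t.hom) hk)
  · obtain ⟨k, hk⟩ := h.2.2 W' w' h'.1 h'.2.1
    exact range_subset_of_factor k.hom w.hom w'.hom (congrArg (fun t => t.hom) hk)

/-- Points of a pulled back subspace. -/
theorem mem_range_iff_of_isPullback {A B C D : AlgSp.Sp S} {k : A ⟶ B} {w' : A ⟶ C} {w : B ⟶ D} {g : C ⟶ D}
    (sq : IsPullback k w' w g) (x : AlgSp.Points C) :
    x ∈ Set.range (AlgSp.Points.map w') ↔ AlgSp.Points.map g x ∈ Set.range (AlgSp.Points.map w) := by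
  constructor
  · rintro ⟨y, rfl⟩
    exact ⟨AlgSp.Points.map k y, by rw [← AlgSp.Points.map_comp, ← AlgSp.Points.map_comp, sq.w]⟩
  · rintro ⟨y, hy⟩
    obtain ⟨z, -, hz⟩ := Groth.Agent.Lib.Helper54.exists_point_of_isPullback sq y x hy
    exact ⟨z, hz⟩

theorem mem_range_ofSpMap_iff {F W : AlgSp.Sp S} (w : W ⟶ F) (ζ : AlgSt.Points (AlgSt.ofSp F)) :
    ζ ∈ Set.range (AlgSt.Points.map (AlgSt.ofSpMap w)) ↔
      ptsEquiv F ζ ∈ Set.range (AlgSp.Points.map w) := by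
  constructor
  · rintro ⟨x, rfl⟩
    exact ⟨ptsEquiv W x, (ptsEquiv_map w x).symm⟩
  · rintro ⟨y, hy⟩
    refine ⟨(ptsEquiv W).symm y, (ptsEquiv F).injective ?_⟩
    rw [ptsEquiv_map, Equiv.apply_symm_apply, hy]

end Sheaves

section KC

variable {𝒳 𝒴 : AlgSt.Cat S} {P Q R : MorphismProperty (AlgSp.Sp S)}

/-- **Base change of the largest open subspace** along a morphism of charts with `R`, in terms of points of
the 2-fibre products. -/
theorem mem_range_iff_of_isLargest (h₄ : H4 P Q R) (f : 𝒳 ⥤ᵇ 𝒴) {G₁ G₂ F₁ F₂ : AlgSp.Space S}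
    (y₁ : AlgSt.ofSp G₁.obj ⥤ᵇ 𝒴) (E₁ : AlgSt.ofSp F₁.obj ⥤ᵇ fp y₁ f) (hE₁ : IsEquivOver E₁)
    (a₁ : F₁ ⟶ G₁) (i₁ : BasedFunctor.comp E₁ (fpFst y₁ f) ≅ AlgSt.ofSpMap a₁.hom)
    (b : G₂ ⟶ G₁) (hb : R b.hom) (y₂ : AlgSt.ofSp G₂.obj ⥤ᵇ 𝒴)
    (j : y₂ ≅ BasedFunctor.comp (AlgSt.ofSpMap b.hom) y₁)
    (E₂ : AlgSt.ofSp F₂.obj ⥤ᵇ fp y₂ f) (hE₂ : IsEquivOver E₂) (a₂ : F₂ ⟶ G₂)
    (i₂ : BasedFunctor.comp E₂ (fpFst y₂ f) ≅ AlgSt.ofSpMap a₂.hom)
    (hQ₁ : Q a₁.hom) {W₁ W₂ : AlgSp.Space S} (w₁ : W₁ ⟶ F₁) (hW₁ : IsLargest P a₁ W₁ w₁)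
    (w₂ : W₂ ⟶ F₂) (hW₂ : IsLargest P a₂ W₂ w₂) (ω : AlgSt.Points (fp y₂ f)) :
    ω ∈ Set.range (AlgSt.Points.map (BasedFunctor.comp (AlgSt.ofSpMap w₂.hom) E₂)) ↔
      AlgSt.Points.map (fpBase (AlgSt.ofSpMap b.hom) y₁ f y₂ j) ω ∈
        Set.range (AlgSt.Points.map (BasedFunctor.comp (AlgSt.ofSpMap w₁.hom) E₁)) := by
  obtain ⟨b', hpb, ⟨κ⟩⟩ := exists_isPullback_of_fp' f y₁ E₁ hE₁ a₁.hom i₁ b.hom y₂ j E₂ hE₂ a₂.hom i₂
  obtain ⟨ζ, rfl⟩ := (points_map_bijective_of_isEquivOver E₂ hE₂).2 ω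
  have hinj₁ := (points_map_bijective_of_isEquivOver E₁ hE₁).1
  have hinj₂ := (points_map_bijective_of_isEquivOver E₂ hE₂).1
  -- the pulled back open subspace
  let b'' : F₂ ⟶ F₁ := ObjectProperty.homMk b'
  have sqW : IsPullback (pullback.fst w₁.hom b') (pullback.snd w₁.hom b') w₁.hom b' :=
    IsPullback.of_hasPullback _ _
  let W' : AlgSp.Space S :=
    ⟨pullback w₁.hom b', Groth.Agent.H52.isAlgSpace_of_isPullback sqW W₁.property F₁.property F₂.property⟩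
  let k : W' ⟶ W₁ := ObjectProperty.homMk (pullback.fst w₁.hom b')
  let w' : W' ⟶ F₂ := ObjectProperty.homMk (pullback.snd w₁.hom b')
  have hW' : IsLargest P a₂ W' w' :=
    h₄ F₁ G₁ F₂ G₂ a₁ b a₂ b'' hpb hQ₁ hb W₁ w₁ hW₁ W' w' k sqW
  have hr := hW₂.range_eq hW'
  have e1 : ∀ x : AlgSt.Points (AlgSt.ofSp F₂.obj),
      AlgSt.Points.map E₂ x ∈ Set.range (AlgSt.Points.map (BasedFunctor.comp (AlgSt.ofSpMap w₂.hom) E₂)) ↔
        x ∈ Set.range (AlgSt.Points.map (AlgSt.ofSpMap w₂.hom)) := by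
    intro x
    constructor
    · rintro ⟨t, ht⟩
      rw [points_map_comp] at ht
      exact ⟨t, hinj₂ ht⟩
    · rintro ⟨t, rfl⟩
      exact ⟨t, points_map_comp _ _ t⟩
  have e2 : ∀ x : AlgSt.Points (AlgSt.ofSp F₁.obj),
      AlgSt.Points.map E₁ x ∈ Set.range (AlgSt.Points.map (BasedFunctor.comp (AlgSt.ofSpMap w₁.hom) E₁)) ↔
        x ∈ Set.range (AlgSt.Points.map (AlgSt.ofSpMap w₁.hom)) := by
    intro x
    constructor
    · rintro ⟨t, ht⟩
      rw [points_map_comp] at ht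
      exact ⟨t, hinj₁ ht⟩
    · rintro ⟨t, rfl⟩
      exact ⟨t, points_map_comp _ _ t⟩
  have e3 : AlgSt.Points.map (fpBase (AlgSt.ofSpMap b.hom) y₁ f y₂ j) (AlgSt.Points.map E₂ ζ) =
      AlgSt.Points.map E₁ (AlgSt.Points.map (AlgSt.ofSpMap b') ζ) := by
    rw [← points_map_comp, ← points_map_comp]
    exact (points_map_congr κ ζ).symm
  rw [e1, e3, e2, mem_range_ofSpMap_iff, mem_range_ofSpMap_iff, ptsEquiv_map, hr]
  exact mem_range_iff_of_isPullback sqW _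

end KC

end Groth.Agent.Lib.Helper65.LargestOpen
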