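import Groth.Agent.Lib.Helper65.LargestOpenC
import Groth.Agent.Lib.Helper65.RepWithP

/-!
# Helper65: comparison of the largest open subspaces of two charts
-/

set_option autoImplicit false
set_option backward.isDefEq.respectTransparency false
set_option backward.isDefEq.respectTransparency.types false

universe u

open CategoryTheory CategoryTheory.Functor CategoryTheory.Limits Opposite AlgebraicGeometry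

namespace Groth.Agent.Lib.Helper65.LargestOpen

open FibCat Groth.Agent.Lib.Helper31 Groth.Agent.Lib.Helper65

variable {S : Scheme.{u}}

/-- The sheaf map of a functor between categories of sheaves. -/
def spMapOf {F G : AlgSp.Sp S} (Φ : AlgSt.ofSp F ⥤ᵇ AlgSt.ofSp G) : F ⟶ G :=
  ObjectProperty.homMk (pshMapOf Φ)

/-- Every functor between categories of sheaves is induced by its sheaf map. -/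
def isoSpMapOf {F G : AlgSp.Sp S} (Φ : AlgSt.ofSp F ⥤ᵇ AlgSt.ofSp G) : Φ ≅ AlgSt.ofSpMap (spMapOf Φ) :=
  isoOfPshMap Φ

section CMP

variable {𝒳 𝒴 : AlgSt.Cat S} {P Q R : MorphismProperty (AlgSp.Sp S)}

/-- **Comparison of two charts**: points of `G₁ ×_𝒴 𝒳` and `G₂ ×_𝒴 𝒳` over the same point of `𝒳` lie
simultaneously in the largest open subspaces, provided the projections of `G₁ ×_𝒴 G₂` have `R`. -/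
theorem mem_iff_mem_of_charts (hQb : StableBC Q) (hQ : AlgSp.IsLocalOnBase AlgSp.IsFppfCover Q)
    (h₃ : H3 P Q) (h₄ : H4 P Q R)
    (h𝒳 : IsFibGrpd 𝒳.p) (h𝒴 : IsFibGrpd 𝒴.p) (f : 𝒳 ⥤ᵇ 𝒴) (hf : AlgSt.RepByAlgSpWith Q f)
    {G₁ G₂ F₁ F₂ G₁₂ : AlgSp.Space S}
    (y₁ : AlgSt.ofSp G₁.obj ⥤ᵇ 𝒴) (E₁ : AlgSt.ofSp F₁.obj ⥤ᵇ fp y₁ f) (hE₁ : IsEquivOver E₁)
    (a₁ : F₁ ⟶ G₁) (i₁ : BasedFunctor.comp E₁ (fpFst y₁ f) ≅ AlgSt.ofSpMap a₁.hom) (hQ₁ : Q a₁.hom)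
    {W₁ : AlgSp.Space S} (w₁ : W₁ ⟶ F₁) (hW₁ : IsLargest P a₁ W₁ w₁)
    (y₂ : AlgSt.ofSp G₂.obj ⥤ᵇ 𝒴) (E₂ : AlgSt.ofSp F₂.obj ⥤ᵇ fp y₂ f) (hE₂ : IsEquivOver E₂)
    (a₂ : F₂ ⟶ G₂) (i₂ : BasedFunctor.comp E₂ (fpFst y₂ f) ≅ AlgSt.ofSpMap a₂.hom) (hQ₂ : Q a₂.hom)
    {W₂ : AlgSp.Space S} (w₂ : W₂ ⟶ F₂) (hW₂ : IsLargest P a₂ W₂ w₂)
    (e : AlgSt.ofSp G₁₂.obj ⥤ᵇ fp y₁ y₂) (he : IsEquivOver e)
    (hR₁ : R (spMapOf (BasedFunctor.comp e (fpFst y₁ y₂))))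
    (hR₂ : R (spMapOf (BasedFunctor.comp e (fpSnd y₁ y₂))))
    (η : AlgSt.Points (fp y₁ f)) (ξ : AlgSt.Points (fp y₂ f))
    (h : AlgSt.Points.map (fpSnd y₁ f) η = AlgSt.Points.map (fpSnd y₂ f) ξ) :
    η ∈ Set.range (AlgSt.Points.map (BasedFunctor.comp (AlgSt.ofSpMap w₁.hom) E₁)) ↔
      ξ ∈ Set.range (AlgSt.Points.map (BasedFunctor.comp (AlgSt.ofSpMap w₂.hom) E₂)) := by
  let y₁₂ : AlgSt.ofSp G₁₂.obj ⥤ᵇ 𝒴 := BasedFunctor.comp e (z12 y₁ y₂)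
  let p₁ : G₁₂ ⟶ G₁ := ObjectProperty.homMk (spMapOf (BasedFunctor.comp e (fpFst y₁ y₂)))
  let p₂ : G₁₂ ⟶ G₂ := ObjectProperty.homMk (spMapOf (BasedFunctor.comp e (fpSnd y₁ y₂)))
  let σ₁ : BasedFunctor.comp e (fpFst y₁ y₂) ≅ AlgSt.ofSpMap p₁.hom :=
    isoSpMapOf (BasedFunctor.comp e (fpFst y₁ y₂))
  let σ₂ : BasedFunctor.comp e (fpSnd y₁ y₂) ≅ AlgSt.ofSpMap p₂.hom :=
    isoSpMapOf (BasedFunctor.comp e (fpSnd y₁ y₂))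
  let j₁ : y₁₂ ≅ BasedFunctor.comp (AlgSt.ofSpMap p₁.hom) y₁ :=
    bWhiskerLeftIso e (Iso.refl (z12 y₁ y₂)) ≪≫ bWhiskerRightIso σ₁ y₁
  let j₂ : y₁₂ ≅ BasedFunctor.comp (AlgSt.ofSpMap p₂.hom) y₂ :=
    bWhiskerLeftIso e (fpIso y₁ y₂) ≪≫ bWhiskerRightIso σ₂ y₂
  obtain ⟨F₁₂, a₁₂, E₁₂, hE₁₂, ⟨i₁₂⟩, hQ₁₂⟩ :=
    exists_rep_ofSp_of_repByAlgSpWith Q hQb hQ h𝒳 h𝒴 f hf G₁₂ y₁₂
  obtain ⟨W₁₂, w₁₂, hW₁₂⟩ := h₃ F₁₂ G₁₂ a₁₂ hQ₁₂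
  obtain ⟨ω₀, hω1, hω2⟩ := exists_points_z12 h𝒳 h𝒴 (Stk.isFibGrpd_ofPsh _) (Stk.isFibGrpd_ofPsh _)
    y₁ y₂ f η ξ h
  let ε : fp y₁₂ f ⥤ᵇ fp (z12 y₁ y₂) f := fpBase e (z12 y₁ y₂) f y₁₂ (Iso.refl _)
  have hε : IsEquivOver ε := fpMap_isEquivOver _ _ _ _ _ he (isEquivOver_id _) (isEquivOver_id _)
  obtain ⟨ω, rfl⟩ := (points_map_bijective_of_isEquivOver ε hε).2 ω₀
  have c1 : AlgSt.Points.map (fpBase (AlgSt.ofSpMap p₁.hom) y₁ f y₁₂ j₁) ω = η := by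
    rw [← hω1, ← points_map_comp]
    exact (points_map_congr (fpBaseCompIso (fpFst y₁ y₂) y₁ f (z12 y₁ y₂) (Iso.refl _) e
      (AlgSt.ofSpMap p₁.hom) σ₁) ω).symm
  have c2 : AlgSt.Points.map (fpBase (AlgSt.ofSpMap p₂.hom) y₂ f y₁₂ j₂) ω = ξ := by
    rw [← hω2, ← points_map_comp]
    exact (points_map_congr (fpBaseCompIso (fpSnd y₁ y₂) y₂ f (z12 y₁ y₂) (fpIso y₁ y₂) e
      (AlgSt.ofSpMap p₂.hom) σ₂) ω).symm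
  have k1 := mem_range_iff_of_isLargest h₄ f y₁ E₁ hE₁ a₁ i₁ p₁ hR₁ y₁₂ j₁ E₁₂ hE₁₂ a₁₂ i₁₂ hQ₁
    w₁ hW₁ w₁₂ hW₁₂ ω
  have k2 := mem_range_iff_of_isLargest h₄ f y₂ E₂ hE₂ a₂ i₂ p₂ hR₂ y₁₂ j₂ E₁₂ hE₁₂ a₁₂ i₁₂ hQ₂
    w₂ hW₂ w₁₂ hW₁₂ ω
  rw [c1] at k1
  rw [c2] at k2
  exact k1.symm.trans k2

end CMP

end Groth.Agent.Lib.Helper65.LargestOpen
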