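import Groth.Agent.Lib.Helper65.LargestOpenD
import Groth.Agent.Lib.Helper65.SubSt
import Groth.Agent.Lib.Helper65.OfPshMap

/-!
# Helper65: an open subspace of a chart as the pullback of a substack
-/

set_option autoImplicit false
set_option backward.isDefEq.respectTransparency false
set_option backward.isDefEq.respectTransparency.types false

universe u

open CategoryTheory CategoryTheory.Functor CategoryTheory.Limits Opposite AlgebraicGeometry

namespace Groth.Agent.Lib.Helper65.LargestOpen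

open FibCat Groth.Agent.Lib.Helper31 Groth.Agent.Lib.Helper65

variable {S : Scheme.{u}} {𝒳 : AlgSt.Cat S}

section OS

variable {F W : AlgSp.Sp S} (w : W ⟶ F) (u : AlgSt.ofSp F ⥤ᵇ 𝒳) (Q₀ : 𝒳.obj → Prop)
  (hW' : ∀ s' : (AlgSt.ofSp W).obj, Q₀ (u.obj ((AlgSt.ofSpMap w).obj s')))

/-- The comparison functor `W ⟶ F ×_𝒳 𝒳_{Q₀}`. -/
def osLift : AlgSt.ofSp W ⥤ᵇ fp u (AlgSt.subIncl 𝒳 Q₀) :=
  fpLift (AlgSt.ofSpMap w) (liftFullSub Q₀ (BasedFunctor.comp (AlgSt.ofSpMap w) u) hW')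
    (Iso.refl (BasedFunctor.comp (AlgSt.ofSpMap w) u))

theorem osLift_comp_fpFst :
    BasedFunctor.comp (osLift w u Q₀ hW') (fpFst u (AlgSt.subIncl 𝒳 Q₀)) = AlgSt.ofSpMap w := rfl

instance osLift_faithful : (osLift w u Q₀ hW').toFunctor.Faithful where
  map_injective := by
    intro a b k l h
    apply Stk.EltObj.hom_ext
    have := congrArg (fun t => t.hom.fst.hom) h
    exact this

theorem sections_injective_of_mono [hm : Mono w] (T : (Over S)ᵒᵖ) : Function.Injective (w.hom.app T) := by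
  have h1 : Mono w.hom := (Sheaf.Hom.mono_iff_presheaf_mono (AlgSp.J S) (Type (u + 1)) _).1 hm
  exact (mono_iff_injective _).1 ((NatTrans.mono_iff_mono_app w.hom).1 h1 T)

theorem osLift_full [Mono w] : (osLift w u Q₀ hW').toFunctor.Full where
  map_surjective := by
    intro a b ψ
    have h1 : F.obj.map ψ.hom.fst.hom.op (w.hom.app _ b.sec) = w.hom.app _ a.sec := ψ.hom.fst.map_sec
    have hsec : W.obj.map ψ.hom.fst.hom.op b.sec = a.sec := by
      apply sections_injective_of_mono w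
      rw [psh_naturality]
      exact h1
    let l : a ⟶ b := ⟨ψ.hom.fst.hom, hsec⟩
    have hfst : (AlgSt.ofSpMap w).map l = ψ.hom.fst := Stk.EltObj.hom_ext rfl
    refine ⟨l, ?_⟩
    apply fp_hom_ext
    · exact hfst
    · apply ObjectProperty.hom_ext
      have hw := fp_hom_w ψ
      have hw' : u.map ψ.hom.fst ≫ 𝟙 _ = 𝟙 _ ≫ ψ.hom.snd.hom := hw
      rw [Category.comp_id, Category.id_comp] at hw'
      refine Eq.trans ?_ hw'
      exact congrArg (fun t => u.map t) hfst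

theorem osLift_essSurjOver (hQi : ObjectProperty.IsClosedUnderIsomorphisms Q₀)
    (hO : ∀ s : (AlgSt.ofSp F).obj, Q₀ (u.obj s) →
      ∃ s' : W.obj.obj (op s.base), w.hom.app _ s' = s.sec) :
    EssSurjOver (osLift w u Q₀ hW') := by
  apply essSurjOver_fp_of
  intro T
  have hQT : Q₀ (u.obj T.obj.fst) := hQi.of_iso T.obj.iso.symm T.obj.snd.property
  obtain ⟨s', hs'⟩ := hO T.obj.fst hQT
  let a' : (AlgSt.ofSp W).obj := ⟨T.obj.fst.base, s'⟩
  let ε₁ : ((osLift w u Q₀ hW').obj a').obj.fst ≅ T.obj.fst :=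
    eltIsoMk (x := ((osLift w u Q₀ hW').obj a').obj.fst) (y := T.obj.fst) (Iso.refl _) (by
      change F.obj.map (𝟙 _).op T.obj.fst.sec = w.hom.app _ s'
      rw [hs']
      exact psh_map_id F.obj _)
  let ε₂ : ((osLift w u Q₀ hW').obj a').obj.snd ≅ T.obj.snd :=
    ObjectProperty.isoMk _ (u.toFunctor.mapIso ε₁ ≪≫ T.obj.iso)
  refine ⟨a', ε₁, ε₂, ?_, ?_⟩
  · exact inferInstanceAs ((Stk.ofPsh F.obj).p.IsHomLift ((Stk.ofPsh F.obj).p.map ε₁.hom) ε₁.hom)
  · change u.map ε₁.hom ≫ T.obj.iso.hom = 𝟙 _ ≫ (u.map ε₁.hom ≫ T.obj.iso.hom)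
    rw [Category.id_comp]

theorem osLift_isEquivOver [Mono w] (hQi : ObjectProperty.IsClosedUnderIsomorphisms Q₀)
    (hO : ∀ s : (AlgSt.ofSp F).obj, Q₀ (u.obj s) →
      ∃ s' : W.obj.obj (op s.base), w.hom.app _ s' = s.sec) :
    IsEquivOver (osLift w u Q₀ hW') := by
  haveI := osLift_full w u Q₀ hW'
  exact isEquivOver_of_ff_ess _ (osLift_essSurjOver w u Q₀ hW' hQi hO)

end OS

end Groth.Agent.Lib.Helper65.LargestOpen
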