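import Groth.Agent.Lib.Helper65.SubStImage
import Groth.Agent.S10176

/-!
# Helper65: the points of the category of an algebraic space are homeomorphic to the points of the space
-/

set_option autoImplicit false
set_option backward.isDefEq.respectTransparency false
set_option backward.isDefEq.respectTransparency.types false

universe u

open CategoryTheory CategoryTheory.Functor CategoryTheory.Limits Opposite AlgebraicGeometry

namespace Groth.Agent.Lib.Helper65

open FibCat Groth.Agent.Lib.Helper31

variable {S : Scheme.{u}}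

theorem ptsEquiv_ofChart_chartFunctor {G : AlgSp.Sp S} {T : Over S} (p : (AlgSp.yon S).obj T ⟶ G)
    (t : ↥T.left) :
    ptsEquiv G (AlgSt.Points.ofChart (chartFunctor p) t) = AlgSp.Points.ofPt p t := by
  rw [ofChart_eq, points_map_comp, ptsEquiv_map, ptsEquiv_ofOverCat_chartPt]
  change AlgSp.Points.map p (AlgSp.Points.ofPt (𝟙 _) t) = _
  rw [AlgSp.Points.map_ofPt, Category.id_comp]

theorem hasAtlas_ofSp (X : AlgSp.Space S) : AlgSt.HasAtlas (AlgSp.LocP @Smooth) (AlgSt.ofSp X.obj) := by
  obtain ⟨T, p, hpe, hps⟩ := X.property.atlas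
  exact ⟨T, chartFunctor p, chartFunctor_smooth X p hpe, chartFunctor_surjective X p hps⟩

/-- The homeomorphism `|ofSp X| ≃ₜ |X|` for an algebraic space `X`. -/
noncomputable def ptsHomeo (X : AlgSp.Space S) : AlgSt.Points (AlgSt.ofSp X.obj) ≃ₜ AlgSp.Points X.obj := by
  have hfib : IsFibGrpd (AlgSt.ofSp X.obj).p := Stk.isFibGrpd_ofPsh _
  have hex := X.property.atlas
  let T := hex.choose
  let p : (AlgSp.yon S).obj T ⟶ X.obj := hex.choose_spec.choose
  have hpe : AlgSp.RepWith @Etale p := hex.choose_spec.choose_spec.1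
  have hps : AlgSp.RepWith @Surjective p := hex.choose_spec.choose_spec.2
  have hc1 : Continuous (AlgSt.Points.ofChart (chartFunctor p)) :=
    continuous_ofChart hfib (hasAtlas_ofSp X) _
  have ho1 : IsOpenMap (AlgSt.Points.ofChart (chartFunctor p)) :=
    isOpenMap_ofChart_smooth hfib _ (chartFunctor_smooth X p hpe)
  have hs1 : Function.Surjective (AlgSt.Points.ofChart (chartFunctor p)) :=
    ofChart_surjective hfib _ (chartFunctor_surjective X p hps)
  have hq1 : Topology.IsQuotientMap (AlgSt.Points.ofChart (chartFunctor p)) :=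
    ho1.isQuotientMap hc1 hs1
  have hc2 : Continuous (AlgSp.Points.ofPt p) := AlgSp.Points.continuous_ofPt p
  have ho2 : IsOpenMap (AlgSp.Points.ofPt p) := Groth.Agent.S10176.result X p hpe
  have hs2 : Function.Surjective (AlgSp.Points.ofPt p) := by
    intro z
    obtain ⟨w, rfl⟩ := Groth.Agent.H52.surjective_points_of_repWith_surjective p hps z
    obtain ⟨t, rfl⟩ := (AlgSp.Points.schemeEquiv T).surjective w
    exact ⟨t, by
      change AlgSp.Points.ofPt p t = AlgSp.Points.map p (AlgSp.Points.ofPt (𝟙 _) t)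
      rw [AlgSp.Points.map_ofPt, Category.id_comp]⟩
  have hq2 : Topology.IsQuotientMap (AlgSp.Points.ofPt p) := ho2.isQuotientMap hc2 hs2
  have hcomp : ⇑(ptsEquiv X.obj) ∘ AlgSt.Points.ofChart (chartFunctor p) = AlgSp.Points.ofPt p :=
    funext fun t => ptsEquiv_ofChart_chartFunctor p t
  have hcomp' : ⇑(ptsEquiv X.obj).symm ∘ AlgSp.Points.ofPt p = AlgSt.Points.ofChart (chartFunctor p) := by
    rw [← hcomp]
    funext t
    exact (ptsEquiv X.obj).symm_apply_apply _
  exact
    { toEquiv := ptsEquiv X.obj
      continuous_toFun := hq1.continuous_iff.2 (by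
        change Continuous (⇑(ptsEquiv X.obj) ∘ AlgSt.Points.ofChart (chartFunctor p))
        rw [hcomp]; exact hc2)
      continuous_invFun := hq2.continuous_iff.2 (by
        change Continuous (⇑(ptsEquiv X.obj).symm ∘ AlgSp.Points.ofPt p)
        rw [hcomp']; exact hc1) }

theorem ptsHomeo_apply (X : AlgSp.Space S) (x : AlgSt.Points (AlgSt.ofSp X.obj)) :
    ptsHomeo X x = ptsEquiv X.obj x := rfl

end Groth.Agent.Lib.Helper65
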