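import Groth.Agent.Lib.Helper65.SubStImage
import Groth.Agent.S10194

/-!
# Helper65: open substacks correspond bijectively to open subsets of the space of points
-/

set_option autoImplicit false
set_option backward.isDefEq.respectTransparency false
set_option backward.isDefEq.respectTransparency.types false

universe u

open CategoryTheory CategoryTheory.Functor CategoryTheory.Limits Opposite AlgebraicGeometry

namespace Groth.Agent.Lib.Helper65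

open FibCat Groth.Agent.Lib.Helper31

variable {S : Scheme.{u}} {𝒳 : AlgSt.Cat S}

/-- 2-Yoneda: every object is, up to isomorphism, the value at the identity of a functor from the slice. -/
theorem exists_functor_of_obj (h𝒳 : IsFibGrpd 𝒳.p) (y : 𝒳.obj) :
    ∃ Y : FibCat.overCat (𝒳.p.obj y) ⥤ᵇ 𝒳, Nonempty (Y.obj (Over.mk (𝟙 (𝒳.p.obj y))) ≅ y) := by
  have hE : (FibCat.evalAtId 𝒳 (𝒳.p.obj y)).IsEquivalence :=
    evalAtId_isEquivalence_of_isFibGrpd h𝒳 _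
  let x : 𝒳.p.Fiber (𝒳.p.obj y) := ⟨y, rfl⟩
  have e := (FibCat.evalAtId 𝒳 (𝒳.p.obj y)).objObjPreimageIso x
  refine ⟨(FibCat.evalAtId 𝒳 (𝒳.p.obj y)).objPreimage x, ⟨⟨e.hom.1, e.inv.1, ?_, ?_⟩⟩⟩
  · exact congrArg (fun t => t.1) e.hom_inv_id
  · exact congrArg (fun t => t.1) e.inv_hom_id

variable (Q : 𝒳.obj → Prop)

/-- An object all of whose points lie in an open substack lies in the substack. -/
theorem prop_of_ptsProp_range (h𝒳 : AlgSt.IsAlgStack Scheme.fppfPrecoverage 𝒳)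
    (hQ : AlgSt.IsOpenSubstack 𝒳 Q Scheme.fppfPrecoverage) {y : 𝒳.obj}
    (hy : ptsProp (Set.range (AlgSt.Points.map (AlgSt.subIncl 𝒳 Q))) y) : Q y := by
  obtain ⟨Y, ⟨ey⟩⟩ := exists_functor_of_obj h𝒳.isStack.1 y
  obtain ⟨U, hU⟩ : ∃ U : Over S, U = 𝒳.p.obj y := ⟨_, rfl⟩
  subst hU
  obtain ⟨G, e, he, hπ⟩ := hQ.2.2 (𝒳.p.obj y) Y
  have hsurj : ∀ z : AlgSp.Points ((AlgSp.yon S).obj (𝒳.p.obj y)),
      z ∈ Set.range (AlgSp.Points.map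
        (AlgSt.spMapOfOver (BasedFunctor.comp e (fpFst Y (AlgSt.subIncl 𝒳 Q))))) := by
    intro z
    obtain ⟨z', rfl⟩ := (overPts_bijective (𝒳.p.obj y)).2 z
    obtain ⟨t, rfl⟩ := (chartPt_bijective (𝒳.p.obj y)).2 z'
    have h1 : AlgSt.Points.ofChart Y t ∈ Set.range (AlgSt.Points.map (AlgSt.subIncl 𝒳 Q)) :=
      (ptsProp_obj_iff _ h𝒳.isStack.1 Y (Over.mk (𝟙 (𝒳.p.obj y)))).1 (ptsProp_of_hom _ ey.hom hy) t
    obtain ⟨w₀, hw₀⟩ := h1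
    obtain ⟨w₁, hw₁, -⟩ := exists_points_fp hQ.2.1.isStack.1 h𝒳.isStack.1
      (isFibGrpd_overForget (𝒳.p.obj y)) (AlgSt.subIncl 𝒳 Q) Y (chartPt (𝒳.p.obj y) t) w₀
      (by rw [hw₀, ofChart_eq])
    obtain ⟨w₂, rfl⟩ := (points_map_bijective_of_isEquivOver e he).2 w₁
    refine ⟨ptsEquiv G.obj w₂, ?_⟩
    rw [← overPts_map, points_map_comp, hw₁]
  obtain ⟨g, hg⟩ := (Groth.Agent.S10194.result
    (X := ⟨(AlgSp.yon S).obj (𝒳.p.obj y), AlgSp.IsAlgSpace.yon_obj _⟩) (X' := G)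
    (Y := ⟨(AlgSp.yon S).obj (𝒳.p.obj y), AlgSp.IsAlgSpace.yon_obj _⟩)
    (ObjectProperty.homMk (AlgSt.spMapOfOver (BasedFunctor.comp e (fpFst Y (AlgSt.subIncl 𝒳 Q)))))
    hπ (𝟙 _)).2 (fun z _ => hsurj z)
  have hs : g.hom ≫ AlgSt.spMapOfOver (BasedFunctor.comp e (fpFst Y (AlgSt.subIncl 𝒳 Q))) =
      𝟙 ((AlgSp.yon S).obj (𝒳.p.obj y)) := congrArg (fun t => t.hom) hg
  let Ψ : FibCat.overCat (𝒳.p.obj y) ⥤ᵇ fp Y (AlgSt.subIncl 𝒳 Q) :=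
    BasedFunctor.comp (AlgSt.ofOverCat (𝒳.p.obj y)) (BasedFunctor.comp (AlgSt.ofSpMap g.hom) e)
  have hid : BasedFunctor.comp (BasedFunctor.comp (AlgSt.ofOverCat (𝒳.p.obj y)) (AlgSt.ofSpMap g.hom))
      (BasedFunctor.comp (AlgSt.ofSpMap
        (AlgSt.spMapOfOver (BasedFunctor.comp e (fpFst Y (AlgSt.subIncl 𝒳 Q)))))
        (AlgSt.toOverCat (𝒳.p.obj y))) = BasedFunctor.id _ := by
    change BasedFunctor.comp (AlgSt.ofOverCat (𝒳.p.obj y)) (BasedFunctor.comp (AlgSt.ofSpMap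
      (g.hom ≫ AlgSt.spMapOfOver (BasedFunctor.comp e (fpFst Y (AlgSt.subIncl 𝒳 Q)))))
      (AlgSt.toOverCat (𝒳.p.obj y))) = _
    rw [hs]
    rfl
  let i : BasedFunctor.comp Ψ (fpFst Y (AlgSt.subIncl 𝒳 Q)) ≅ BasedFunctor.id _ :=
    bWhiskerLeftIso (BasedFunctor.comp (AlgSt.ofOverCat (𝒳.p.obj y)) (AlgSt.ofSpMap g.hom))
      (isoSpMapOfOver (BasedFunctor.comp e (fpFst Y (AlgSt.subIncl 𝒳 Q)))) ≪≫ eqToIso hid
  let a₀ : Over (𝒳.p.obj y) := Over.mk (𝟙 (𝒳.p.obj y))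
  have hQz : Q (Ψ.obj a₀).obj.snd.obj := (Ψ.obj a₀).obj.snd.property
  let m : y ⟶ (Ψ.obj a₀).obj.snd.obj :=
    ey.inv ≫ Y.map (i.inv.toNatTrans.app a₀) ≫ (Ψ.obj a₀).obj.iso.hom
  exact IsOpenSubstack.prop_of_hom Q h𝒳.isStack.1 hQ m hQz

theorem prop_iff_ptsProp_range (h𝒳 : AlgSt.IsAlgStack Scheme.fppfPrecoverage 𝒳)
    (hQ : AlgSt.IsOpenSubstack 𝒳 Q Scheme.fppfPrecoverage) (y : 𝒳.obj) :
    Q y ↔ ptsProp (Set.range (AlgSt.Points.map (AlgSt.subIncl 𝒳 Q))) y :=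
  ⟨fun h => ptsProp_range_of_prop Q
    (fun _ _ φ h => IsOpenSubstack.prop_of_hom Q h𝒳.isStack.1 hQ φ h) h,
    prop_of_ptsProp_range Q h𝒳 hQ⟩

theorem ptsProp_mono {T T' : Set (AlgSt.Points 𝒳)} (h : T ⊆ T') {y : 𝒳.obj} (hy : ptsProp T y) :
    ptsProp T' y := fun p c => h (hy p c)

theorem range_subIncl_mono {Q Q' : 𝒳.obj → Prop} (h : ∀ y, Q y → Q' y) :
    Set.range (AlgSt.Points.map (AlgSt.subIncl 𝒳 Q)) ⊆
      Set.range (AlgSt.Points.map (AlgSt.subIncl 𝒳 Q')) := by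
  rintro _ ⟨z, rfl⟩
  obtain ⟨p, rfl⟩ := AlgSt.Points.mk_surjective z
  exact ⟨AlgSt.Points.mk { K := p.K, str := p.str, obj := ⟨p.obj.obj, h _ p.obj.property⟩, lies := p.lies },
    rfl⟩

/-- Open substacks correspond bijectively and monotonically to open subsets of the space of points. -/
theorem bijOn_openSubstacks (h𝒳 : AlgSt.IsAlgStack Scheme.fppfPrecoverage 𝒳) :
    Set.BijOn (fun Q : 𝒳.obj → Prop => Set.range (AlgSt.Points.map (AlgSt.subIncl 𝒳 Q)))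
        {Q | AlgSt.IsOpenSubstack 𝒳 Q Scheme.fppfPrecoverage} {T | IsOpen T} ∧
      ∀ (Q Q' : 𝒳.obj → Prop), AlgSt.IsOpenSubstack 𝒳 Q Scheme.fppfPrecoverage →
        AlgSt.IsOpenSubstack 𝒳 Q' Scheme.fppfPrecoverage →
        ((∀ y, Q y → Q' y) ↔ Set.range (AlgSt.Points.map (AlgSt.subIncl 𝒳 Q)) ⊆
          Set.range (AlgSt.Points.map (AlgSt.subIncl 𝒳 Q'))) := by
  refine ⟨⟨?_, ?_, ?_⟩, ?_⟩
  · intro Q hQ
    exact isOpen_range_subIncl h𝒳 Q hQ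
  · intro Q₁ hQ₁ Q₂ hQ₂ h
    funext y
    apply propext
    have h' : Set.range (AlgSt.Points.map (AlgSt.subIncl 𝒳 Q₁)) =
        Set.range (AlgSt.Points.map (AlgSt.subIncl 𝒳 Q₂)) := h
    rw [prop_iff_ptsProp_range Q₁ h𝒳 hQ₁, prop_iff_ptsProp_range Q₂ h𝒳 hQ₂, h']
  · intro T hT
    exact ⟨ptsProp T, isOpenSubstack_ptsProp T h𝒳 hT, range_subIncl_ptsProp T⟩
  · intro Q Q' hQ hQ'
    constructor
    · exact range_subIncl_mono
    · intro h y hy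
      rw [prop_iff_ptsProp_range Q' h𝒳 hQ']
      exact ptsProp_mono h ((prop_iff_ptsProp_range Q h𝒳 hQ y).1 hy)

end Groth.Agent.Lib.Helper65
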