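import Groth.Agent.Lib.Helper65.LargestOpenE
import Groth.Agent.Lib.Helper65.SubStBij
import Groth.Agent.Lib.Helper65.StHomeo
import Groth.Agent.Lib.Helper54.OpenSubspace
import Groth.Agent.H53.OpenSub

/-!
# Helper65: open subspaces of a chart and open substacks; comparison of smooth charts
-/

set_option autoImplicit false
set_option backward.isDefEq.respectTransparency false
set_option backward.isDefEq.respectTransparency.types false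

universe u

open CategoryTheory CategoryTheory.Functor CategoryTheory.Limits Opposite AlgebraicGeometry

namespace Groth.Agent.Lib.Helper65.LargestOpen

open FibCat Groth.Agent.Lib.Helper31 Groth.Agent.Lib.Helper65

variable {S : Scheme.{u}} {𝒳 𝒴 : AlgSt.Cat S}

section Sec

/-- Sections of `F` whose image in `𝒳` has all its points in `T` come from the open subspace `W` of `F`
whose points are those mapping to `T`. -/
theorem exists_sec_of_ptsProp {F W : AlgSp.Sp S} (w : W ⟶ F) (hw : AlgSp.RepWith @IsOpenImmersion w)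
    (u : AlgSt.ofSp F ⥤ᵇ 𝒳) (T : Set (AlgSt.Points 𝒳))
    (hpre : ∀ ζ : AlgSt.Points (AlgSt.ofSp F), AlgSt.Points.map u ζ ∈ T →
      ζ ∈ Set.range (AlgSt.Points.map (AlgSt.ofSpMap w)))
    (s : (AlgSt.ofSp F).obj) (hs : ptsProp T (u.obj s)) :
    ∃ s' : W.obj.obj (op s.base), w.hom.app _ s' = s.sec := by
  let m : (AlgSp.yon S).obj s.base ⟶ F := (AlgSp.J S).uliftYonedaEquiv.symm s.sec
  have hr : Set.range (AlgSp.Points.map m) ⊆ Set.range (AlgSp.Points.map w) := by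
    rintro _ ⟨x, rfl⟩
    induction x using AlgSp.Points.ind with
    | h q =>
      let q' : AlgSp.FieldPt F := q.map m
      let p : AlgSt.FPt (AlgSt.ofSp F) := ofFieldPt q'
      have hsec : F.obj.map q.val.down.op s.sec = q'.val := by
        change _ = m.hom.app _ q.val
        rfl
      let c : p.obj ⟶ s := ⟨q.val.down, hsec⟩
      have h1 : AlgSt.Points.mk (p.map u) ∈ T := hs (p.map u) (u.map c)
      have h2 := hpre (AlgSt.Points.mk p) h1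
      rw [mem_range_ofSpMap_iff, ptsEquiv_mk, toFieldPt_ofFieldPt] at h2
      exact h2
  obtain ⟨g, hg⟩ := Groth.Agent.H53.exists_factor_of_range_subset w hw m hr
  refine ⟨(AlgSp.J S).uliftYonedaEquiv g, ?_⟩
  have h3 := congrArg (AlgSp.J S).uliftYonedaEquiv hg
  rw [GrothendieckTopology.uliftYonedaEquiv_comp, Equiv.apply_symm_apply] at h3
  exact h3

end Sec

section OpenEquiv

/-- **Lemma G**: an open subspace `W` of the chart `F ≃ Y ×_𝒴 𝒳` whose points are exactly those mapping into the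
open substack `𝒳_{Q'}` is the chart `Y ×_𝒴 𝒳_{Q'}`. -/
theorem exists_equiv_of_open (h𝒳 : AlgSt.IsAlgStack Scheme.fppfPrecoverage 𝒳) {Y F W : AlgSp.Space S}
    (v : AlgSt.ofSp Y.obj ⥤ᵇ 𝒴) (f : 𝒳 ⥤ᵇ 𝒴) (a : F ⟶ Y) (E : AlgSt.ofSp F.obj ⥤ᵇ fp v f)
    (hE : IsEquivOver E) (i : BasedFunctor.comp E (fpFst v f) ≅ AlgSt.ofSpMap a.hom)
    (w : W ⟶ F) (hw : AlgSp.RepWith @IsOpenImmersion w.hom) (Q' : 𝒳.obj → Prop)
    (hQ' : AlgSt.IsOpenSubstack 𝒳 Q' Scheme.fppfPrecoverage)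
    (hiff : ∀ ζ : AlgSt.Points (AlgSt.ofSp F.obj),
      ζ ∈ Set.range (AlgSt.Points.map (AlgSt.ofSpMap w.hom)) ↔
        AlgSt.Points.map (BasedFunctor.comp E (fpSnd v f)) ζ ∈
          Set.range (AlgSt.Points.map (AlgSt.subIncl 𝒳 Q'))) :
    ∃ e : AlgSt.ofSp W.obj ⥤ᵇ fp v (BasedFunctor.comp (AlgSt.subIncl 𝒳 Q') f), IsEquivOver e ∧
      Nonempty (BasedFunctor.comp e (fpFst v (BasedFunctor.comp (AlgSt.subIncl 𝒳 Q') f)) ≅
        AlgSt.ofSpMap (w ≫ a).hom) := by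
  let u : AlgSt.ofSp F.obj ⥤ᵇ 𝒳 := BasedFunctor.comp E (fpSnd v f)
  let T' : Set (AlgSt.Points 𝒳) := Set.range (AlgSt.Points.map (AlgSt.subIncl 𝒳 Q'))
  have hfW : IsFibGrpd (AlgSt.ofSp W.obj).p := Stk.isFibGrpd_ofPsh _
  have hW' : ∀ s' : (AlgSt.ofSp W.obj).obj, Q' (u.obj ((AlgSt.ofSpMap w.hom).obj s')) := by
    intro s'
    rw [prop_iff_ptsProp_range Q' h𝒳 hQ']
    have h1 := ptsProp_range_map hfW h𝒳.isStack.1 (BasedFunctor.comp (AlgSt.ofSpMap w.hom) u) s'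
    refine ptsProp_mono ?_ h1
    rintro _ ⟨t, rfl⟩
    rw [points_map_comp]
    exact (hiff _).1 ⟨t, rfl⟩
  haveI : Mono w.hom := Groth.Agent.Lib.Helper54.mono_of_isOpenImmersion w.hom hw
  have hO : ∀ s : (AlgSt.ofSp F.obj).obj, Q' (u.obj s) →
      ∃ s' : W.obj.obj.obj (op s.base), w.hom.hom.app _ s' = s.sec := by
    intro s hs
    rw [prop_iff_ptsProp_range Q' h𝒳 hQ'] at hs
    exact exists_sec_of_ptsProp w.hom hw u T' (fun ζ hζ => (hiff ζ).2 hζ) s hs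
  have h1 : IsEquivOver (osLift w.hom u Q' hW') := osLift_isEquivOver w.hom u Q' hW' hQ'.1 hO
  let ε : fp u (AlgSt.subIncl 𝒳 Q') ⥤ᵇ fp (fpSnd v f) (AlgSt.subIncl 𝒳 Q') :=
    fpBase E (fpSnd v f) (AlgSt.subIncl 𝒳 Q') u (Iso.refl _)
  have hε : IsEquivOver ε := fpMap_isEquivOver _ _ _ _ _ hE (isEquivOver_id _) (isEquivOver_id _)
  refine ⟨BasedFunctor.comp (osLift w.hom u Q' hW')
    (BasedFunctor.comp ε (fpPasteSnd v f (AlgSt.subIncl 𝒳 Q'))),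
    isEquivOver_comp _ _ h1 (isEquivOver_comp _ _ hε (fpPasteSnd_isEquivOver _ _ _)), ⟨?_⟩⟩
  exact bWhiskerLeftIso (AlgSt.ofSpMap w.hom) i

end OpenEquiv

section LemmaU

/-- **Lemma U**: two charts of the same stack differ by an isomorphism of sheaves compatible with every functor
to the category of a sheaf. -/
theorem exists_iso_spMapOf {𝒲 : AlgSt.Cat S} {Y : AlgSp.Sp S} (Φ : 𝒲 ⥤ᵇ AlgSt.ofSp Y)
    {G G' : AlgSp.Sp S} (e : AlgSt.ofSp G ⥤ᵇ 𝒲) (he : IsEquivOver e)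
    (e' : AlgSt.ofSp G' ⥤ᵇ 𝒲) (he' : IsEquivOver e') :
    ∃ ι : G ≅ G', spMapOf (BasedFunctor.comp e Φ) = ι.hom ≫ spMapOf (BasedFunctor.comp e' Φ) := by
  obtain ⟨e'', he'', ⟨c₁⟩, ⟨c₂⟩⟩ := exists_inverse_equivOver e' he'
  let E : AlgSt.ofSp G ⥤ᵇ AlgSt.ofSp G' := BasedFunctor.comp e e''
  have hE : IsEquivOver E := isEquivOver_comp e e'' he he''
  obtain ⟨ι₀, hι₀⟩ := nonempty_iso_of_equivOver E hE
  let ι : G ≅ G' :=
    (fullyFaithfulSheafToPresheaf (AlgSp.J S) _).preimageIso (X := G) (Y := G') ι₀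
  have hι : ι.hom.hom = ι₀.hom :=
    (fullyFaithfulSheafToPresheaf (AlgSp.J S) _).map_preimage (X := G) (Y := G') ι₀.hom
  refine ⟨ι, ?_⟩
  have k : BasedFunctor.comp e Φ ≅
      BasedFunctor.comp (AlgSt.ofSpMap ι.hom) (BasedFunctor.comp e' Φ) := by
    have k1 : BasedFunctor.comp e Φ ≅ BasedFunctor.comp (BasedFunctor.comp E e') Φ :=
      bWhiskerRightIso (bWhiskerLeftIso e c₂.symm) Φ
    have k2 : BasedFunctor.comp (BasedFunctor.comp E e') Φ ≅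
        BasedFunctor.comp (BasedFunctor.comp (Stk.ofPshMap (pshMapOf E)) e') Φ :=
      bWhiskerRightIso (bWhiskerRightIso (isoOfPshMap E) e') Φ
    have e3 : BasedFunctor.comp (BasedFunctor.comp (Stk.ofPshMap (pshMapOf E)) e') Φ =
        BasedFunctor.comp (AlgSt.ofSpMap ι.hom) (BasedFunctor.comp e' Φ) := by
      change BasedFunctor.comp (BasedFunctor.comp (Stk.ofPshMap (pshMapOf E)) e') Φ =
        BasedFunctor.comp (BasedFunctor.comp (Stk.ofPshMap ι.hom.hom) e') Φ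
      rw [hι, hι₀]
    exact k1 ≪≫ k2 ≪≫ eqToIso e3
  apply ObjectProperty.hom_ext
  change pshMapOf (BasedFunctor.comp e Φ) = ι.hom.hom ≫ pshMapOf (BasedFunctor.comp e' Φ)
  rw [pshMapOf_congr k.hom]
  ext T x
  rfl

theorem spMapOf_eq_of_iso {F G : AlgSp.Sp S} {Φ : AlgSt.ofSp F ⥤ᵇ AlgSt.ofSp G} {a : F ⟶ G}
    (i : Φ ≅ AlgSt.ofSpMap a) : spMapOf Φ = a := by
  apply ObjectProperty.hom_ext
  change pshMapOf Φ = a.hom
  rw [pshMapOf_congr i.hom]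
  exact pshMapOf_ofPshMap a.hom

end LemmaU

section SM

variable {P Q R : MorphismProperty (AlgSp.Sp S)}

/-- **Comparison of two smooth charts**. -/
theorem mem_iff_mem_of_smooth_charts (hQb : StableBC Q) (hQ : AlgSp.IsLocalOnBase AlgSp.IsFppfCover Q)
    (hRb : StableBC R)
    (h₂ : ∀ (X Y : AlgSp.Space S) (g : X ⟶ Y), AlgSp.LocP @Smooth g.hom → R g.hom)
    (h₃ : H3 P Q) (h₄ : H4 P Q R)
    (h𝒳 : IsFibGrpd 𝒳.p) (h𝒴 : IsFibGrpd 𝒴.p) (f : 𝒳 ⥤ᵇ 𝒴) (hf : AlgSt.RepByAlgSpWith Q f)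
    {G₁ G₂ F₁ F₂ : AlgSp.Space S}
    (y₁ : AlgSt.ofSp G₁.obj ⥤ᵇ 𝒴) (hy₁ : AlgSt.RepByAlgSpWith (AlgSp.LocP @Smooth) y₁)
    (E₁ : AlgSt.ofSp F₁.obj ⥤ᵇ fp y₁ f) (hE₁ : IsEquivOver E₁)
    (a₁ : F₁ ⟶ G₁) (i₁ : BasedFunctor.comp E₁ (fpFst y₁ f) ≅ AlgSt.ofSpMap a₁.hom) (hQ₁ : Q a₁.hom)
    {W₁ : AlgSp.Space S} (w₁ : W₁ ⟶ F₁) (hW₁ : IsLargest P a₁ W₁ w₁)
    (y₂ : AlgSt.ofSp G₂.obj ⥤ᵇ 𝒴) (hy₂ : AlgSt.RepByAlgSpWith (AlgSp.LocP @Smooth) y₂)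
    (E₂ : AlgSt.ofSp F₂.obj ⥤ᵇ fp y₂ f) (hE₂ : IsEquivOver E₂)
    (a₂ : F₂ ⟶ G₂) (i₂ : BasedFunctor.comp E₂ (fpFst y₂ f) ≅ AlgSt.ofSpMap a₂.hom) (hQ₂ : Q a₂.hom)
    {W₂ : AlgSp.Space S} (w₂ : W₂ ⟶ F₂) (hW₂ : IsLargest P a₂ W₂ w₂)
    (η : AlgSt.Points (fp y₁ f)) (ξ : AlgSt.Points (fp y₂ f))
    (h : AlgSt.Points.map (fpSnd y₁ f) η = AlgSt.Points.map (fpSnd y₂ f) ξ) :
    η ∈ Set.range (AlgSt.Points.map (BasedFunctor.comp (AlgSt.ofSpMap w₁.hom) E₁)) ↔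
      ξ ∈ Set.range (AlgSt.Points.map (BasedFunctor.comp (AlgSt.ofSpMap w₂.hom) E₂)) := by
  have hfG₁ : IsFibGrpd (AlgSt.ofSp G₁.obj).p := Stk.isFibGrpd_ofPsh _
  have hfG₂ : IsFibGrpd (AlgSt.ofSp G₂.obj).p := Stk.isFibGrpd_ofPsh _
  obtain ⟨G₁₂, a₁₂, e, he, ⟨i⟩, hsm⟩ := exists_rep_ofSp_of_repByAlgSpWith (AlgSp.LocP @Smooth)
    stableBC_locP_smooth isLocalOnBase_fppf_locP_smooth hfG₂ h𝒴 y₂ hy₂ G₁ y₁
  obtain ⟨G₂₁, a₂₁, e', he', ⟨i'⟩, hsm'⟩ := exists_rep_ofSp_of_repByAlgSpWith (AlgSp.LocP @Smooth)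
    stableBC_locP_smooth isLocalOnBase_fppf_locP_smooth hfG₁ h𝒴 y₁ hy₁ G₂ y₂
  have hR₁ : R (spMapOf (BasedFunctor.comp e (fpFst y₁ y₂))) := by
    rw [spMapOf_eq_of_iso i]
    exact h₂ _ _ a₁₂ hsm
  have hR₂ : R (spMapOf (BasedFunctor.comp e (fpSnd y₁ y₂))) := by
    obtain ⟨ι, hι⟩ := exists_iso_spMapOf (fpFst y₂ y₁) (BasedFunctor.comp e (fpSwap y₁ y₂))
      (isEquivOver_comp _ _ he (fpSwap_isEquivOver _ _)) e' he'
    have h1 : spMapOf (BasedFunctor.comp e (fpSnd y₁ y₂)) = ι.hom ≫ a₂₁.hom := by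
      rw [← spMapOf_eq_of_iso i']
      exact hι
    rw [h1]
    exact hRb.precomp_iso G₂₁.property G₂.property ι _ (h₂ _ _ a₂₁ hsm')
  exact mem_iff_mem_of_charts hQb hQ h₃ h₄ h𝒳 h𝒴 f hf y₁ E₁ hE₁ a₁ i₁ hQ₁ w₁ hW₁ y₂ E₂ hE₂ a₂ i₂ hQ₂
    w₂ hW₂ e he hR₁ hR₂ η ξ h

end SM

end Groth.Agent.Lib.Helper65.LargestOpen
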