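import Groth.Agent.Lib.Helper65.LargestOpenF
import Groth.Agent.Lib.Helper65.RepDesc3
import Groth.Agent.Lib.Helper65.StSurj
import Groth.Agent.Lib.Helper65.AlgStProd
import Groth.Agent.Lib.Helper66.AlgStCancel

/-!
# Helper65: the largest open substack on which a representable morphism has a property
-/

set_option autoImplicit false
set_option backward.isDefEq.respectTransparency false
set_option backward.isDefEq.respectTransparency.types false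

universe u

open CategoryTheory CategoryTheory.Functor CategoryTheory.Limits Opposite AlgebraicGeometry

namespace Groth.Agent.Lib.Helper65.LargestOpen

open FibCat Groth.Agent.Lib.Helper31 Groth.Agent.Lib.Helper65

variable {S : Scheme.{u}} {𝒳 𝒴 : AlgSt.Cat S} {P Q R : MorphismProperty (AlgSp.Sp S)}

theorem repByAlgSp1_comp {𝒲 : AlgSt.Cat S} (h𝒲 : IsFibGrpd 𝒲.p) (h𝒳 : IsFibGrpd 𝒳.p) (g : 𝒲 ⥤ᵇ 𝒳)
    (f : 𝒳 ⥤ᵇ 𝒴) (hg : AlgSt.RepByAlgSp1 g) (hf : AlgSt.RepByAlgSp1 f) :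
    AlgSt.RepByAlgSp1 (BasedFunctor.comp g f) := by
  rw [repByAlgSp1_iff_top] at hg hf ⊢
  exact repByAlgSpWith_comp ⊤ Groth.Agent.Lib.Helper66.AlgStCancel.stableBC_top
    Groth.Agent.Lib.Helper66.AlgStCancel.stableComp_top
    (Groth.Agent.Lib.Helper66.AlgStCancel.isLocalOnBase_top _) h𝒲 h𝒳 g f hg hf

/-- **The largest open substack** on which a representable morphism with `Q` has `P`. -/
theorem exists_largest_openSubstack
    (h𝒳 : AlgSt.IsAlgStack Scheme.fppfPrecoverage 𝒳) (h𝒴 : AlgSt.IsAlgStack Scheme.fppfPrecoverage 𝒴)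
    (hPb : StableBC P) (hQb : StableBC Q) (hRb : StableBC R)
    (hP : AlgSp.IsLocalOnBase AlgSp.IsFppfCover P) (hQ : AlgSp.IsLocalOnBase AlgSp.IsFppfCover Q)
    (h₂ : ∀ (X Y : AlgSp.Space S) (g : X ⟶ Y), AlgSp.LocP @Smooth g.hom → R g.hom)
    (h₃ : H3 P Q) (h₄ : H4 P Q R) (f : 𝒳 ⥤ᵇ 𝒴) (hf : AlgSt.RepByAlgSpWith Q f) :
    ∃ Q₀ : 𝒳.obj → Prop, AlgSt.IsOpenSubstack 𝒳 Q₀ Scheme.fppfPrecoverage ∧
      AlgSt.RepByAlgSpWith P (BasedFunctor.comp (AlgSt.subIncl 𝒳 Q₀) f) ∧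
        ∀ Q₁ : 𝒳.obj → Prop, AlgSt.IsOpenSubstack 𝒳 Q₁ Scheme.fppfPrecoverage →
          AlgSt.RepByAlgSpWith P (BasedFunctor.comp (AlgSt.subIncl 𝒳 Q₁) f) → ∀ y, Q₁ y → Q₀ y := by
  have hfX : IsFibGrpd 𝒳.p := h𝒳.isStack.1
  have hfY : IsFibGrpd 𝒴.p := h𝒴.isStack.1
  obtain ⟨V, v₀, hv1, hv2⟩ := h𝒴.atlas
  let Y : AlgSp.Space S := ⟨(AlgSp.yon S).obj V, AlgSp.IsAlgSpace.yon_obj V⟩
  let v : AlgSt.ofSp Y.obj ⥤ᵇ 𝒴 := BasedFunctor.comp (AlgSt.toOverCat V) v₀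
  have hvs : AlgSt.RepByAlgSpWith (AlgSp.LocP @Smooth) v := repByAlgSpWith_toOverCat_comp _ v₀ hv1
  have hvj : AlgSt.RepByAlgSpWith AlgSp.IsSurjectiveMor v := repByAlgSpWith_toOverCat_comp _ v₀ hv2
  have hfYs : IsFibGrpd (AlgSt.ofSp Y.obj).p := Stk.isFibGrpd_ofPsh _
  obtain ⟨F, a, E, hE, ⟨i⟩, hQa⟩ := exists_rep_ofSp_of_repByAlgSpWith Q hQb hQ hfX hfY f hf Y v
  obtain ⟨W, w, hW⟩ := h₃ F Y a hQa
  have hfF : IsFibGrpd (AlgSt.ofSp F.obj).p := Stk.isFibGrpd_ofPsh _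
  have hfW : IsFibGrpd (AlgSt.ofSp W.obj).p := Stk.isFibGrpd_ofPsh _
  let u : AlgSt.ofSp F.obj ⥤ᵇ 𝒳 := BasedFunctor.comp E (fpSnd v f)
  have hus : AlgSt.RepByAlgSpWith (AlgSp.LocP @Smooth) u :=
    repByAlgSpWith_of_square _ (fpSnd v f) u E (BasedFunctor.id _) hE (isEquivOver_id _) (Iso.refl _)
      (repByAlgSpWith_fpSnd' _ v f hvs)
  have hwsm : AlgSp.LocP @Smooth w.hom :=
    Groth.Agent.Lib.Helper54.locP_smooth_of_isEtaleMor
      (Groth.Agent.Lib.Helper54.isEtaleMor_of_repWith_isOpenImmersion hW.1)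
  have hws : AlgSt.RepByAlgSpWith (AlgSp.LocP @Smooth) (AlgSt.ofSpMap w.hom) :=
    repByAlgSpWith_of_repBySpWith w.hom.hom _
      (repBySpWith_of_prop _ stableBC_locP_smooth (V := W) (Z := F) w.hom hwsm)
  have hwus : AlgSt.RepByAlgSpWith (AlgSp.LocP @Smooth) (BasedFunctor.comp (AlgSt.ofSpMap w.hom) u) :=
    repByAlgSpWith_comp _ stableBC_locP_smooth stableComp_locP_smooth isLocalOnBase_fppf_locP_smooth
      hfW hfF _ _ hws hus
  let T₀ : Set (AlgSt.Points 𝒳) :=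
    Set.range (AlgSt.Points.map (BasedFunctor.comp (AlgSt.ofSpMap w.hom) u))
  have hT₀ : IsOpen T₀ :=
    (isOpenMap_points_map_space hfX W _ (repByAlgSpWith_mono (locP_mono smooth_le_flat) _ hwus)
      (repByAlgSpWith_mono (locP_mono smooth_le_lfp) _ hwus)).isOpen_range
  have hQ₀ := isOpenSubstack_ptsProp T₀ h𝒳 hT₀
  have hbijE := points_map_bijective_of_isEquivOver E hE
  -- saturation
  have hiff₀ : ∀ ζ : AlgSt.Points (AlgSt.ofSp F.obj),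
      ζ ∈ Set.range (AlgSt.Points.map (AlgSt.ofSpMap w.hom)) ↔
        AlgSt.Points.map u ζ ∈ Set.range (AlgSt.Points.map (AlgSt.subIncl 𝒳 (ptsProp T₀))) := by
    intro ζ
    rw [range_subIncl_ptsProp T₀]
    constructor
    · rintro ⟨t, rfl⟩
      exact ⟨t, points_map_comp _ _ t⟩
    · rintro ⟨t, ht⟩
      have ht' : AlgSt.Points.map u (AlgSt.Points.map (AlgSt.ofSpMap w.hom) t) = AlgSt.Points.map u ζ := by
        rw [← points_map_comp]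
        exact ht
      have hsame : AlgSt.Points.map (fpSnd v f) (AlgSt.Points.map E ζ) =
          AlgSt.Points.map (fpSnd v f)
            (AlgSt.Points.map E (AlgSt.Points.map (AlgSt.ofSpMap w.hom) t)) := by
        rw [← points_map_comp, ← points_map_comp]
        exact ht'.symm
      have hk := mem_iff_mem_of_smooth_charts hQb hQ hRb h₂ h₃ h₄ hfX hfY f hf v hvs E hE a i hQa w hW
        v hvs E hE a i hQa w hW _ _ hsame
      obtain ⟨t', ht'⟩ := hk.2 ⟨t, points_map_comp _ _ t⟩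
      rw [points_map_comp] at ht'
      exact ⟨t', hbijE.1 ht'⟩
  refine ⟨ptsProp T₀, hQ₀, ?_, ?_⟩
  · -- the restriction has `P`
    obtain ⟨e_W, he_W, ⟨i_W⟩⟩ := exists_equiv_of_open h𝒳 v f a E hE i w hW.1 (ptsProp T₀) hQ₀ hiff₀
    have hrep : AlgSt.RepByAlgSp1 (BasedFunctor.comp (AlgSt.subIncl 𝒳 (ptsProp T₀)) f) :=
      repByAlgSp1_comp hQ₀.2.1.isStack.1 hfX _ f (repByAlgSp1_of_repByAlgSpWith hQ₀.2.2)
        (repByAlgSp1_of_repByAlgSpWith hf)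
    exact repByAlgSpWith_of_flat_cover P hPb hP hQ₀.2.1.isStack.1 hfY _ hrep Y v
      (repByAlgSpWith_mono (locP_mono smooth_le_flat) _ hvs)
      (repByAlgSpWith_mono (locP_mono smooth_le_lfp) _ hvs) hvj W (w ≫ a) e_W he_W i_W hW.2.1
  · -- maximality
    intro Q₁ hQ₁ hP₁
    refine ((bijOn_openSubstacks h𝒳).2 Q₁ (ptsProp T₀) hQ₁ hQ₀).2 ?_
    rw [range_subIncl_ptsProp T₀]
    let T₁ : Set (AlgSt.Points 𝒳) := Set.range (AlgSt.Points.map (AlgSt.subIncl 𝒳 Q₁))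
    have hT₁ : IsOpen T₁ := isOpen_range_subIncl h𝒳 Q₁ hQ₁
    let U₁ : Set (AlgSt.Points (AlgSt.ofSp F.obj)) := AlgSt.Points.map u ⁻¹' T₁
    have hU₁ : IsOpen U₁ := (continuous_points_map hfX h𝒳.atlas u).isOpen_preimage T₁ hT₁
    let Ws : Set (AlgSp.Points F.obj) := (ptsHomeo F).symm ⁻¹' U₁
    have hWs : IsOpen Ws := (ptsHomeo F).symm.continuous.isOpen_preimage U₁ hU₁
    let W₁ : AlgSp.Space S := ⟨Groth.Agent.Lib.Helper54.openSub F.obj Ws,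
      Groth.Agent.Lib.Helper54.isAlgSpace_openSub F.property Ws hWs⟩
    let w₁ : W₁ ⟶ F := ObjectProperty.homMk (Groth.Agent.Lib.Helper54.openSubι F.obj Ws)
    have hw₁ : AlgSp.RepWith @IsOpenImmersion w₁.hom :=
      Groth.Agent.Lib.Helper54.repWith_isOpenImmersion_openSubι F.obj Ws hWs
    have hiff₁ : ∀ ζ : AlgSt.Points (AlgSt.ofSp F.obj),
        ζ ∈ Set.range (AlgSt.Points.map (AlgSt.ofSpMap w₁.hom)) ↔
          AlgSt.Points.map u ζ ∈ Set.range (AlgSt.Points.map (AlgSt.subIncl 𝒳 Q₁)) := by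
      intro ζ
      rw [mem_range_ofSpMap_iff]
      have hr : Set.range (AlgSp.Points.map w₁.hom) = Ws :=
        Groth.Agent.Lib.Helper54.range_points_map_openSubι F.obj Ws
      rw [hr]
      change (ptsHomeo F).symm (ptsHomeo F ζ) ∈ U₁ ↔ _
      rw [Homeomorph.symm_apply_apply]
      rfl
    obtain ⟨e₁, he₁, ⟨j₁⟩⟩ := exists_equiv_of_open h𝒳 v f a E hE i w₁ hw₁ Q₁ hQ₁ hiff₁
    obtain ⟨F₁', a₁', E₁', hE₁', ⟨i₁'⟩, hPa₁'⟩ := exists_rep_ofSp_of_repByAlgSpWith P hPb hP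
      hQ₁.2.1.isStack.1 hfY (BasedFunctor.comp (AlgSt.subIncl 𝒳 Q₁) f) hP₁ Y v
    obtain ⟨ι, hι⟩ := exists_iso_spMapOf (fpFst v (BasedFunctor.comp (AlgSt.subIncl 𝒳 Q₁) f))
      e₁ he₁ E₁' hE₁'
    rw [spMapOf_eq_of_iso j₁, spMapOf_eq_of_iso i₁'] at hι
    have hPw₁ : P (w₁ ≫ a).hom := by
      rw [hι]
      exact hPb.precomp_iso F₁'.property Y.property ι _ hPa₁'
    obtain ⟨k, hk⟩ := hW.2.2 W₁ w₁ hw₁ hPw₁
    have hsub : Set.range (AlgSp.Points.map w₁.hom) ⊆ Set.range (AlgSp.Points.map w.hom) :=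
      range_subset_of_factor k.hom w.hom w₁.hom (congrArg (fun t => t.hom) hk)
    rintro x₁ hx₁
    obtain ⟨η₀, hη₀⟩ := isSurjective_of_repByAlgSpWith hfYs hfY v hvj (AlgSt.Points.map f x₁)
    obtain ⟨η, -, hη⟩ := exists_points_fp hfX hfY hfYs f v η₀ x₁ hη₀
    obtain ⟨ζ, rfl⟩ := hbijE.2 η
    have hζ : AlgSt.Points.map u ζ = x₁ := by
      rw [points_map_comp]
      exact hη
    have h1 : ζ ∈ Set.range (AlgSt.Points.map (AlgSt.ofSpMap w₁.hom)) := (hiff₁ ζ).2 (by rw [hζ]; exact hx₁)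
    rw [mem_range_ofSpMap_iff] at h1
    obtain ⟨t, ht⟩ := (mem_range_ofSpMap_iff w.hom ζ).2 (hsub h1)
    refine ⟨t, ?_⟩
    rw [points_map_comp, ht]
    exact hζ

end Groth.Agent.Lib.Helper65.LargestOpen
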