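import Groth.Agent.Lib.Helper65.LargestOpenH
import Groth.Agent.Lib.Helper66.AlgStSmoothLocus2

/-!
# Helper65: base change of the largest open substack along a morphism with `R`
-/

set_option autoImplicit false
set_option backward.isDefEq.respectTransparency false
set_option backward.isDefEq.respectTransparency.types false

universe u

open CategoryTheory CategoryTheory.Functor CategoryTheory.Limits Opposite AlgebraicGeometry

namespace Groth.Agent.Lib.Helper65.LargestOpen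

open FibCat Groth.Agent.Lib.Helper31 Groth.Agent.Lib.Helper65

variable {S : Scheme.{u}} {𝒳 𝒴 𝒵 : AlgSt.Cat S} {P Q R : MorphismProperty (AlgSp.Sp S)}

/-- **Base change of the largest open substack** along a representable morphism with `R`. -/
theorem largest_base_change
    (h𝒳 : AlgSt.IsAlgStack Scheme.fppfPrecoverage 𝒳) (h𝒴 : AlgSt.IsAlgStack Scheme.fppfPrecoverage 𝒴)
    (h𝒵 : AlgSt.IsAlgStack Scheme.fppfPrecoverage 𝒵)
    (hPb : StableBC P) (hQb : StableBC Q) (hRb : StableBC R)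
    (hP : AlgSp.IsLocalOnBase AlgSp.IsFppfCover P) (hQ : AlgSp.IsLocalOnBase AlgSp.IsFppfCover Q)
    (hR : AlgSp.IsLocalOnBase AlgSp.IsFppfCover R)
    (h₂ : ∀ (X Y : AlgSp.Space S) (g : X ⟶ Y), AlgSp.LocP @Smooth g.hom → R g.hom)
    (h₃ : H3 P Q) (h₄ : H4 P Q R) (f : 𝒳 ⥤ᵇ 𝒴) (hf : AlgSt.RepByAlgSpWith Q f)
    (Q₀ : 𝒳.obj → Prop) (hQ₀ : AlgSt.IsOpenSubstack 𝒳 Q₀ Scheme.fppfPrecoverage)
    (hQ₀P : AlgSt.RepByAlgSpWith P (BasedFunctor.comp (AlgSt.subIncl 𝒳 Q₀) f))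
    (hQ₀max : ∀ Q₁ : 𝒳.obj → Prop, AlgSt.IsOpenSubstack 𝒳 Q₁ Scheme.fppfPrecoverage →
      AlgSt.RepByAlgSpWith P (BasedFunctor.comp (AlgSt.subIncl 𝒳 Q₁) f) → ∀ y, Q₁ y → Q₀ y)
    (z : 𝒵 ⥤ᵇ 𝒴) (hz : AlgSt.RepByAlgSpWith R z)
    (Q₀' : (fp z f).obj → Prop) (hQ₀' : ∀ b, Q₀' b ↔ Q₀ b.obj.snd) :
    AlgSt.IsOpenSubstack (fp z f) Q₀' Scheme.fppfPrecoverage ∧
      AlgSt.RepByAlgSpWith P (BasedFunctor.comp (AlgSt.subIncl (fp z f) Q₀') (fpFst z f)) ∧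
        ∀ Q₁ : (fp z f).obj → Prop, AlgSt.IsOpenSubstack (fp z f) Q₁ Scheme.fppfPrecoverage →
          AlgSt.RepByAlgSpWith P (BasedFunctor.comp (AlgSt.subIncl (fp z f) Q₁) (fpFst z f)) →
            ∀ b, Q₁ b → Q₀' b := by
  have hfX : IsFibGrpd 𝒳.p := h𝒳.isStack.1
  have hfY : IsFibGrpd 𝒴.p := h𝒴.isStack.1
  have hfZ : IsFibGrpd 𝒵.p := h𝒵.isStack.1
  have h𝒫 : AlgSt.IsAlgStack Scheme.fppfPrecoverage (fp z f) :=
    Groth.Agent.S12763.result h𝒴.isStack h𝒴.diag h𝒵 h𝒳 z f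
  have hfP : IsFibGrpd (fp z f).p := h𝒫.isStack.1
  obtain ⟨V, v₀, hv1, hv2⟩ := h𝒴.atlas
  let Y : AlgSp.Space S := ⟨(AlgSp.yon S).obj V, AlgSp.IsAlgSpace.yon_obj V⟩
  let v : AlgSt.ofSp Y.obj ⥤ᵇ 𝒴 := BasedFunctor.comp (AlgSt.toOverCat V) v₀
  have hvs : AlgSt.RepByAlgSpWith (AlgSp.LocP @Smooth) v := repByAlgSpWith_toOverCat_comp _ v₀ hv1
  have hvj : AlgSt.RepByAlgSpWith AlgSp.IsSurjectiveMor v := repByAlgSpWith_toOverCat_comp _ v₀ hv2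
  obtain ⟨F, a, E, hE, ⟨i⟩, hQa⟩ := exists_rep_ofSp_of_repByAlgSpWith Q hQb hQ hfX hfY f hf Y v
  obtain ⟨W, w, hW⟩ := h₃ F Y a hQa
  obtain ⟨hsat, hopen, hPc, hmaxc⟩ := largest_of_chart h𝒳 h𝒴 hPb hQb hRb hP hQ h₂ h₃ h₄ f hf v hvs hvj
    a E hE i hQa w hW
  let T₀ : Set (AlgSt.Points 𝒳) := Set.range (AlgSt.Points.map
    (BasedFunctor.comp (AlgSt.ofSpMap w.hom) (BasedFunctor.comp E (fpSnd v f))))
  have hQ₀iff : ∀ y, Q₀ y ↔ ptsProp T₀ y :=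
    fun y => ⟨hmaxc Q₀ hQ₀ hQ₀P y, hQ₀max (ptsProp T₀) hopen hPc y⟩
  -- the chart of `𝒵`
  obtain ⟨V', b, e', he', ⟨ib⟩, hRb'⟩ := exists_rep_ofSp_of_repByAlgSpWith R hRb hR hfZ hfY z hz Y v
  have hfV' : IsFibGrpd (AlgSt.ofSp V'.obj).p := Stk.isFibGrpd_ofPsh _
  let vZ : AlgSt.ofSp V'.obj ⥤ᵇ 𝒵 := BasedFunctor.comp e' (fpSnd v z)
  have hvZs : AlgSt.RepByAlgSpWith (AlgSp.LocP @Smooth) vZ :=
    repByAlgSpWith_of_square _ (fpSnd v z) vZ e' (BasedFunctor.id _) he' (isEquivOver_id _) (Iso.refl _)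
      (repByAlgSpWith_fpSnd' _ v z hvs)
  have hvZj : AlgSt.RepByAlgSpWith AlgSp.IsSurjectiveMor vZ :=
    repByAlgSpWith_of_square _ (fpSnd v z) vZ e' (BasedFunctor.id _) he' (isEquivOver_id _) (Iso.refl _)
      (repByAlgSpWith_fpSnd' _ v z hvj)
  have hπ₁Q : AlgSt.RepByAlgSpWith Q (fpFst z f) := repByAlgSpWith_fpFst Q f z hf
  obtain ⟨F₂, a₂, E₂', hE₂', ⟨i₂'⟩, hQa₂⟩ :=
    exists_rep_ofSp_of_repByAlgSpWith Q hQb hQ hfP hfZ (fpFst z f) hπ₁Q V' vZ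
  obtain ⟨W₂, w₂, hW₂⟩ := h₃ F₂ V' a₂ hQa₂
  obtain ⟨-, hopen₂, hPc₂, hmaxc₂⟩ := largest_of_chart h𝒫 h𝒵 hPb hQb hRb hP hQ h₂ h₃ h₄ (fpFst z f) hπ₁Q
    vZ hvZs hvZj a₂ E₂' hE₂' i₂' hQa₂ w₂ hW₂
  let T₂ : Set (AlgSt.Points (fp z f)) := Set.range (AlgSt.Points.map
    (BasedFunctor.comp (AlgSt.ofSpMap w₂.hom) (BasedFunctor.comp E₂' (fpSnd vZ (fpFst z f)))))
  -- base change of the largest open subspaces of the charts
  let y₂ : AlgSt.ofSp V'.obj ⥤ᵇ 𝒴 := BasedFunctor.comp vZ z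
  let j : y₂ ≅ BasedFunctor.comp (AlgSt.ofSpMap b.hom) v :=
    bWhiskerLeftIso e' (fpIso v z).symm ≪≫ bWhiskerRightIso ib v
  let E₂ : AlgSt.ofSp F₂.obj ⥤ᵇ fp y₂ f := BasedFunctor.comp E₂' (fpPasteFst vZ z f)
  have hE₂ : IsEquivOver E₂ := isEquivOver_comp _ _ hE₂' (fpPasteFst_isEquivOver vZ z f)
  have i₂ : BasedFunctor.comp E₂ (fpFst y₂ f) ≅ AlgSt.ofSpMap a₂.hom := i₂'
  have KC := mem_range_iff_of_isLargest h₄ f v E hE a i b hRb' y₂ j E₂ hE₂ a₂ i₂ hQa w hW w₂ hW₂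
  have hbijE := points_map_bijective_of_isEquivOver E hE
  have hbijE₂ := points_map_bijective_of_isEquivOver E₂ hE₂
  have hbijE₂' := points_map_bijective_of_isEquivOver E₂' hE₂'
  let β : fp y₂ f ⥤ᵇ fp v f := fpBase (AlgSt.ofSpMap b.hom) v f y₂ j
  have hfun : BasedFunctor.comp (BasedFunctor.comp E₂' (fpSnd vZ (fpFst z f))) (fpSnd z f) =
      BasedFunctor.comp E₂ (BasedFunctor.comp β (fpSnd v f)) := rfl
  have hpt : ∀ ζ₂ : AlgSt.Points (AlgSt.ofSp F₂.obj),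
      AlgSt.Points.map (fpSnd z f)
        (AlgSt.Points.map (BasedFunctor.comp E₂' (fpSnd vZ (fpFst z f))) ζ₂) =
      AlgSt.Points.map (fpSnd v f) (AlgSt.Points.map β (AlgSt.Points.map E₂ ζ₂)) := by
    intro ζ₂
    rw [← points_map_comp, hfun, points_map_comp, points_map_comp]
  have hT₂ : T₂ = AlgSt.Points.map (fpSnd z f) ⁻¹' T₀ := by
    ext x
    constructor
    · rintro ⟨t, rfl⟩
      obtain ⟨t₁, ht₁⟩ := (KC _).1 ⟨t, rfl⟩
      refine ⟨t₁, ?_⟩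
      have e1 : AlgSt.Points.map
          (BasedFunctor.comp (AlgSt.ofSpMap w.hom) (BasedFunctor.comp E (fpSnd v f))) t₁ =
          AlgSt.Points.map (fpSnd v f)
            (AlgSt.Points.map (BasedFunctor.comp (AlgSt.ofSpMap w.hom) E) t₁) :=
        points_map_comp (BasedFunctor.comp (AlgSt.ofSpMap w.hom) E) (fpSnd v f) t₁
      have e2 : AlgSt.Points.map (BasedFunctor.comp (AlgSt.ofSpMap w₂.hom) E₂) t =
          AlgSt.Points.map E₂ (AlgSt.Points.map (AlgSt.ofSpMap w₂.hom) t) := points_map_comp _ _ _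
      have e3 : AlgSt.Points.map (BasedFunctor.comp (AlgSt.ofSpMap w₂.hom)
          (BasedFunctor.comp E₂' (fpSnd vZ (fpFst z f)))) t =
          AlgSt.Points.map (BasedFunctor.comp E₂' (fpSnd vZ (fpFst z f)))
            (AlgSt.Points.map (AlgSt.ofSpMap w₂.hom) t) := points_map_comp _ _ _
      change _ = AlgSt.Points.map (fpSnd z f) _
      rw [e1, ht₁, e2, e3, hpt]
    · intro hx
      obtain ⟨η₀, hη₀⟩ := isSurjective_of_repByAlgSpWith hfV' hfZ vZ hvZj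
        (AlgSt.Points.map (fpFst z f) x)
      obtain ⟨ω', -, hω'⟩ := exists_points_fp hfP hfZ hfV' (fpFst z f) vZ η₀ x hη₀
      obtain ⟨ζ₂, rfl⟩ := hbijE₂'.2 ω'
      obtain ⟨ζ, hζ⟩ := hbijE.2 (AlgSt.Points.map β (AlgSt.Points.map E₂ ζ₂))
      have hx' : AlgSt.Points.map (BasedFunctor.comp E (fpSnd v f)) ζ =
          AlgSt.Points.map (fpSnd z f) x := by
        rw [points_map_comp, hζ, ← hpt, points_map_comp, hω']
      obtain ⟨t₁, ht₁⟩ := (hsat ζ).2 (by rw [hx']; exact hx)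
      have h1 : AlgSt.Points.map β (AlgSt.Points.map E₂ ζ₂) ∈
          Set.range (AlgSt.Points.map (BasedFunctor.comp (AlgSt.ofSpMap w.hom) E)) :=
        ⟨t₁, by rw [points_map_comp, ht₁, hζ]⟩
      obtain ⟨t, ht⟩ := (KC _).2 h1
      rw [points_map_comp] at ht
      have ht' := hbijE₂.1 ht
      refine ⟨t, ?_⟩
      rw [points_map_comp, ht', points_map_comp]
      exact hω'
  have hfin : ∀ b, Q₀' b ↔ ptsProp T₂ b := by
    intro b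
    rw [hQ₀' b, hQ₀iff, hT₂]
    exact Groth.Agent.Lib.Helper66.AlgStSmoothLocus.ptsProp_comp_obj hfP hfX (fpSnd z f) T₀ b
  have hEq : Q₀' = ptsProp T₂ := funext fun b => propext (hfin b)
  subst hEq
  exact ⟨hopen₂, hPc₂, hmaxc₂⟩

end Groth.Agent.Lib.Helper65.LargestOpen
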