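import Groth.Agent.Lib.Helper10.LciEtaleDescentC
import Groth.Agent.H52.SmoothSection2
import Groth.Agent.H53.SourceLocal

/-!
# Helper65: local complete intersection morphisms descend along smooth surjective maps on the source
-/

set_option autoImplicit false
universe u

namespace Groth.Agent.Lib.Helper65

open AlgebraicGeometry CategoryTheory CategoryTheory.Limits
open Groth.Agent.Lib.Helper10.LciMor Groth.Agent.Lib.Helper10.LciEtaleDescent

variable {X' X Y : Scheme.{u}}

/-- If `r` is smooth and surjective and `r ≫ h` is a local complete intersection morphism, so is `h`. -/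
theorem lciMor_of_smooth_surjective_comp (r : X' ⟶ X) (h : X ⟶ Y) [Smooth r] [Surjective r]
    (hc : lciMor (r ≫ h)) : lciMor h := by
  have key : ∀ x : X, ∃ (Z : Scheme.{u}) (e : Z ⟶ X), Etale e ∧ x ∈ Set.range e ∧ lciMor (e ≫ h) := by
    intro x
    obtain ⟨w, rfl⟩ := r.surjective x
    obtain ⟨Z, i, z, -, he, hz⟩ := Groth.Agent.H52.exists_etale_slice_of_smooth' r w
    refine ⟨Z, i ≫ r, he, ⟨z, ?_⟩, ?_⟩
    · rw [Scheme.Hom.comp_apply]; exact hz
    · have hi : lciMor i := lciMor_of_comp_smooth i r (lciMor_of_smooth (i ≫ r))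
      rw [Category.assoc]
      exact MorphismProperty.comp_mem _ _ _ hi hc
  choose Z e hee hxe hlci using key
  have h1 : lciMor (Sigma.desc e ≫ h) := by
    have : Sigma.desc e ≫ h = Sigma.desc (fun x => e x ≫ h) := by
      apply Sigma.hom_ext
      intro x
      simp
    rw [this]
    exact IsZariskiLocalAtSource.sigmaDesc hlci
  have h2 : Etale (Sigma.desc e) := IsZariskiLocalAtSource.sigmaDesc hee
  have h3 : Surjective (Sigma.desc e) := by
    refine ⟨fun x => ?_⟩
    obtain ⟨z, hz⟩ := hxe x
    refine ⟨Sigma.ι Z x z, ?_⟩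
    rw [← Scheme.Hom.comp_apply, Sigma.ι_desc]
    exact hz
  have hlft : LocallyOfFiniteType (Sigma.desc e ≫ h) := locallyOfFiniteType_of_lciMor _ h1
  have : LocallyOfFiniteType h :=
    Groth.Agent.H53.locallyOfFiniteType_of_comp_etale_surjective (g := Sigma.desc e) (f := h) hlft
  exact lciMor_of_etale_surjective_comp (Sigma.desc e) h h1

end Groth.Agent.Lib.Helper65
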