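import Groth.Agent.Lib.Helper65.FlatLocal
import Groth.Agent.Lib.Helper66.AlgStLocQSq8
import Groth.Agent.Lib.Helper65.SubStImage
import Groth.Agent.Lib.Helper65.StSurj
import Groth.Agent.S12825

/-!
# Helper65: flat descent for properties of morphisms of algebraic stacks read on a chart square
-/

set_option autoImplicit false
set_option backward.isDefEq.respectTransparency false
set_option backward.isDefEq.respectTransparency.types false

universe u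

open CategoryTheory CategoryTheory.Functor CategoryTheory.Limits Opposite AlgebraicGeometry

namespace Groth.Agent.Lib.Helper65.LocQFlat

open FibCat Groth.Agent.Lib.Helper31 Groth.Agent.Lib.Helper65 Groth.Agent.Lib.Helper66
  Groth.Agent.Lib.Helper66.AlgStLocQSq

variable {S : Scheme.{u}} {𝒳 𝒴 𝒵 𝒲 : AlgSt.Cat S}

/-- The identity functor is smooth. -/
theorem repByAlgSpWith_smooth_id (𝒳 : AlgSt.Cat S) :
    AlgSt.RepByAlgSpWith (AlgSp.LocP @Smooth) (BasedFunctor.id 𝒳) :=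
  repByAlgSpWith_of_isEquivOver _ (fun U => Groth.Agent.Lib.Helper54.locP_smooth_id _) _ (isEquivOver_id _)

/-- Lemma A: a property read on a chart square of a morphism to a scheme holds for every smooth chart of
the source. -/
theorem prop_of_locQ_to_overCat (P : MorphismProperty (AlgSp.Sp S)) (hP : AlgSp.IsSmoothLocalST P)
    (h𝒳 : AlgSt.IsAlgStack Scheme.fppfPrecoverage 𝒳) {W : Over S} (f : 𝒳 ⥤ᵇ FibCat.overCat W)
    (hf : AlgSt.LocQ P f) (U : Over S) (x : FibCat.overCat U ⥤ᵇ 𝒳) (k : U ⟶ W)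
    (α : BasedFunctor.comp x f ≅ AlgSt.overMap k)
    (hx : AlgSt.RepByAlgSpWith (AlgSp.LocP @Smooth) x) : P ((AlgSp.yon S).map k) := by
  have hW := isAlgStack_overCat W
  let α' : BasedFunctor.comp x f ≅ BasedFunctor.comp (AlgSt.overMap k) (BasedFunctor.id (FibCat.overCat W)) := α
  refine prop_of_locQ_of_smooth_square P hP h𝒳 hW f hf U W x (BasedFunctor.id _) k α'
    (repByAlgSpWith_smooth_id _) ?_
  have hE : IsEquivOver (fpFst f (BasedFunctor.id (FibCat.overCat W))) :=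
    isEquivOver_comp _ _ (fpSwap_isEquivOver f (BasedFunctor.id _))
      (fpSnd_isEquivOver (BasedFunctor.id _) f (isEquivOver_id _))
  exact repByAlgSpWith_of_square _ x _ (BasedFunctor.id _) (fpFst f (BasedFunctor.id _))
    (isEquivOver_id _) hE (Iso.refl _) hx

/-- Lemma B: a property read on a chart square descends along a smooth surjective base change. -/
theorem locQ_of_locQ_fpFst (P : MorphismProperty (AlgSp.Sp S))
    (h𝒴 : IsFibGrpd 𝒴.p) (h𝒵 : IsFibGrpd 𝒵.p) (h𝒲 : IsFibGrpd 𝒲.p)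
    (g : 𝒴 ⥤ᵇ 𝒵) (w : 𝒲 ⥤ᵇ 𝒵) (hw1 : AlgSt.RepByAlgSpWith (AlgSp.LocP @Smooth) w)
    (hw2 : AlgSt.RepByAlgSpWith AlgSp.IsSurjectiveMor w) (h : AlgSt.LocQ P (fpFst w g)) :
    AlgSt.LocQ P g := by
  obtain ⟨U, V, x, y, k, α, hx, hxs, hy, hk⟩ := h
  have hfp : IsFibGrpd (fp w g).p := isFibGrpd_fp w g h𝒲 h𝒴 h𝒵
  have hs1 : AlgSt.RepByAlgSpWith (AlgSp.LocP @Smooth) (fpSnd w g) :=
    Groth.Agent.Lib.Helper66.AlgStBC.repByAlgSpWith_fpSnd _ g w hw1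
  have hs2 : AlgSt.RepByAlgSpWith AlgSp.IsSurjectiveMor (fpSnd w g) :=
    Groth.Agent.Lib.Helper66.AlgStBC.repByAlgSpWith_fpSnd _ g w hw2
  have hx1 : AlgSt.RepByAlgSpWith (AlgSp.LocP @Smooth) (BasedFunctor.comp x (fpSnd w g)) :=
    repByAlgSpWith_comp _ stableBC_locP_smooth
      (stableComp_locP _ (Or.inr (Or.inr (Or.inr (Or.inl rfl))))) isLocalOnBase_fppf_locP_smooth
      (isFibGrpd_overForget U) hfp x (fpSnd w g) hx hs1
  have hx2 : AlgSt.RepByAlgSpWith AlgSp.IsSurjectiveMor (BasedFunctor.comp x (fpSnd w g)) :=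
    repByAlgSpWith_comp _ stableBC_isSurjectiveMor stableComp_isSurjectiveMor
      isLocalOnBase_fppf_isSurjectiveMor (isFibGrpd_overForget U) hfp x (fpSnd w g) hxs hs2
  have hy1 : AlgSt.RepByAlgSpWith (AlgSp.LocP @Smooth) (BasedFunctor.comp y w) :=
    repByAlgSpWith_comp _ stableBC_locP_smooth
      (stableComp_locP _ (Or.inr (Or.inr (Or.inr (Or.inl rfl))))) isLocalOnBase_fppf_locP_smooth
      (isFibGrpd_overForget V) h𝒲 y w hy hw1
  let β : BasedFunctor.comp (BasedFunctor.comp x (fpSnd w g)) g ≅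
      BasedFunctor.comp (AlgSt.overMap k) (BasedFunctor.comp y w) :=
    bWhiskerLeftIso x (fpIso w g).symm ≪≫ bWhiskerRightIso α w
  exact ⟨U, V, BasedFunctor.comp x (fpSnd w g), BasedFunctor.comp y w, k, β, hx1, hx2, hy1, hk⟩

/-- Lemma S: a functor between slices that is surjective on points induces a surjective map of sheaves. -/
theorem isSurjectiveMor_of_isSurjective {U V : Over S} (Φ : FibCat.overCat U ⥤ᵇ FibCat.overCat V)
    (hΦ : AlgSt.IsSurjective Φ) :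
    AlgSp.IsSurjectiveMor (AlgSt.spMapOfOver (BasedFunctor.comp (AlgSt.toOverCat U) Φ)) := by
  intro z
  obtain ⟨z', rfl⟩ := (overPts_bijective V).2 z
  obtain ⟨u', rfl⟩ := hΦ z'
  obtain ⟨w, rfl⟩ := (points_map_bijective_of_isEquivOver _ (toOverCat_isEquivOver U)).2 u'
  refine ⟨ptsEquiv _ w, ?_⟩
  rw [← overPts_map, points_map_comp]

/-- Surjectivity on points of a composite. -/
theorem isSurjective_comp (f : 𝒳 ⥤ᵇ 𝒴) (g : 𝒴 ⥤ᵇ 𝒵) (hf : AlgSt.IsSurjective f) (hg : AlgSt.IsSurjective g) :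
    AlgSt.IsSurjective (BasedFunctor.comp f g) := by
  intro z
  obtain ⟨y, rfl⟩ := hg z
  obtain ⟨x, rfl⟩ := hf y
  exact ⟨x, points_map_comp f g x⟩

/-- Flatness descends along a flat surjective morphism on the source, for morphisms of schemes seen
as maps of sheaves. -/
theorem locP_flat_yon_of_comp {U V W : Over S} (h : U ⟶ V) (k : V ⟶ W)
    (hh : AlgSp.LocP @Flat ((AlgSp.yon S).map h)) (hs : AlgSp.IsSurjectiveMor ((AlgSp.yon S).map h))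
    (hhk : AlgSp.LocP @Flat ((AlgSp.yon S).map (h ≫ k))) : AlgSp.LocP @Flat ((AlgSp.yon S).map k) := by
  refine locP_flat_of_flat_cover (AlgSp.IsAlgSpace.yon_obj V) (AlgSp.IsAlgSpace.yon_obj W)
    (ι := PUnit.{u + 1}) (Xi := fun _ => (AlgSp.yon S).obj U) (fun _ => AlgSp.IsAlgSpace.yon_obj U)
    (fun _ => (AlgSp.yon S).map h) (fun _ => hh) ?_ _ ?_
  · intro x
    obtain ⟨u, hu⟩ := hs x
    exact ⟨PUnit.unit, u, hu⟩
  · intro _
    rw [← Functor.map_comp]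
    exact hhk

/-- S13004: if `f` is flat and surjective and `f ≫ g` is flat then `g` is flat. -/
theorem locQ_flat_of_comp
    (h𝒳 : AlgSt.IsAlgStack Scheme.fppfPrecoverage 𝒳) (h𝒴 : AlgSt.IsAlgStack Scheme.fppfPrecoverage 𝒴)
    (h𝒵 : AlgSt.IsAlgStack Scheme.fppfPrecoverage 𝒵) (f : 𝒳 ⥤ᵇ 𝒴) (g : 𝒴 ⥤ᵇ 𝒵)
    (hf₁ : AlgSt.LocQ (AlgSp.LocP @Flat) f) (hf₂ : AlgSt.IsSurjective f)
    (hfg : AlgSt.LocQ (AlgSp.LocP @Flat) (BasedFunctor.comp f g)) : AlgSt.LocQ (AlgSp.LocP @Flat) g := by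
  have hP : AlgSp.IsSmoothLocalST (AlgSp.LocP (S := S) @Flat) := isSmoothLocalST_locP_flat
  obtain ⟨W, w, hw1, hw2⟩ := h𝒵.atlas
  have hW := isAlgStack_overCat W
  have h𝒴W : AlgSt.IsAlgStack Scheme.fppfPrecoverage (fp w g) :=
    Groth.Agent.S12763.result h𝒵.isStack h𝒵.diag hW h𝒴 w g
  refine locQ_of_locQ_fpFst _ h𝒴.isStack.1 h𝒵.isStack.1 hW.isStack.1 g w hw1 hw2 ?_
  have hs1 : AlgSt.RepByAlgSpWith (AlgSp.LocP @Smooth) (fpSnd w g) :=
    Groth.Agent.Lib.Helper66.AlgStBC.repByAlgSpWith_fpSnd _ g w hw1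
  have h𝒳' : AlgSt.IsAlgStack Scheme.fppfPrecoverage (fp (fpSnd w g) f) :=
    Groth.Agent.S12763.result h𝒴.isStack h𝒴.diag h𝒴W h𝒳 (fpSnd w g) f
  -- the base change `f'` of `f`
  have hf' : AlgSt.LocQ (AlgSp.LocP @Flat) (fpFst (fpSnd w g) f) :=
    locQ_fpFst_of_smooth _ hP h𝒳 h𝒴 h𝒴W f (fpSnd w g) hs1 hf₁
  have hf's : AlgSt.IsSurjective (fpFst (fpSnd w g) f) :=
    Groth.Agent.S12825.result h𝒳 h𝒴 h𝒴W f (fpSnd w g) hf₂
  -- the composite `f' ≫ g_W`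
  have hfgW : AlgSt.LocQ (AlgSp.LocP @Flat) (fpFst w (BasedFunctor.comp f g)) :=
    locQ_fpFst_of_smooth _ hP h𝒳 h𝒵 hW (BasedFunctor.comp f g) w hw1 hfg
  have hE : AlgSt.RepByAlgSpWith (AlgSp.LocP @Smooth) (fpPasteSnd w g f) :=
    repByAlgSpWith_of_isEquivOver _ (fun U => Groth.Agent.Lib.Helper54.locP_smooth_id _) _
      (fpPasteSnd_isEquivOver w g f)
  have hcomp : AlgSt.LocQ (AlgSp.LocP @Flat)
      (BasedFunctor.comp (fpFst (fpSnd w g) f) (fpFst w g)) :=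
    locQ_precomp_smooth _ hP h𝒳'.isStack.1
      (isFibGrpd_fp w (BasedFunctor.comp f g) hW.isStack.1 h𝒳.isStack.1 h𝒵.isStack.1) hW.isStack.1
      (fpPasteSnd w g f) (fpFst w (BasedFunctor.comp f g)) hE hfgW
  -- charts
  obtain ⟨V, v, hv1, hv2⟩ := h𝒴W.atlas
  have hV := isAlgStack_overCat V
  have h𝒬 : AlgSt.IsAlgStack Scheme.fppfPrecoverage (fp v (fpFst (fpSnd w g) f)) :=
    Groth.Agent.S12763.result h𝒴W.isStack h𝒴W.diag hV h𝒳' v (fpFst (fpSnd w g) f)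
  obtain ⟨U, c, hc1, hc2⟩ := h𝒬.atlas
  obtain ⟨h₁, hh₁, ⟨i₁⟩⟩ := exists_iso_overMap (BasedFunctor.comp c (fpFst v (fpFst (fpSnd w g) f)))
  obtain ⟨k₂, -, ⟨i₂⟩⟩ := exists_iso_overMap (BasedFunctor.comp v (fpFst w g))
  -- `h₁` is flat
  have hq : AlgSt.LocQ (AlgSp.LocP @Flat) (fpFst v (fpFst (fpSnd w g) f)) :=
    locQ_fpFst_of_smooth _ hP h𝒳' h𝒴W hV (fpFst (fpSnd w g) f) v hv1 hf'
  have hP₁ : AlgSp.LocP @Flat ((AlgSp.yon S).map h₁) :=
    prop_of_locQ_to_overCat _ hP h𝒬 _ hq U c h₁ i₁ hc1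
  -- `h₁` is surjective
  have hqs : AlgSt.IsSurjective (fpFst v (fpFst (fpSnd w g) f)) :=
    Groth.Agent.S12825.result h𝒳' h𝒴W hV (fpFst (fpSnd w g) f) v hf's
  have hcs : AlgSt.IsSurjective c :=
    isSurjective_of_repByAlgSpWith (isFibGrpd_overForget U) h𝒬.isStack.1 c hc2
  have hS₁ : AlgSp.IsSurjectiveMor ((AlgSp.yon S).map h₁) := by
    rw [hh₁]
    exact isSurjectiveMor_of_isSurjective _ (isSurjective_comp _ _ hcs hqs)
  -- the composite `h₁ ≫ k₂` is flat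
  have hsnd : AlgSt.RepByAlgSpWith (AlgSp.LocP @Smooth) (fpSnd v (fpFst (fpSnd w g) f)) :=
    Groth.Agent.Lib.Helper66.AlgStBC.repByAlgSpWith_fpSnd _ (fpFst (fpSnd w g) f) v hv1
  have hx1 : AlgSt.RepByAlgSpWith (AlgSp.LocP @Smooth)
      (BasedFunctor.comp c (fpSnd v (fpFst (fpSnd w g) f))) :=
    repByAlgSpWith_comp _ stableBC_locP_smooth
      (stableComp_locP _ (Or.inr (Or.inr (Or.inr (Or.inl rfl))))) isLocalOnBase_fppf_locP_smooth
      (isFibGrpd_overForget U) h𝒬.isStack.1 c _ hc1 hsnd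
  let β : BasedFunctor.comp (BasedFunctor.comp c (fpSnd v (fpFst (fpSnd w g) f)))
      (BasedFunctor.comp (fpFst (fpSnd w g) f) (fpFst w g)) ≅ AlgSt.overMap (h₁ ≫ k₂) :=
    bWhiskerRightIso (bWhiskerLeftIso c (fpIso v (fpFst (fpSnd w g) f)).symm) (fpFst w g) ≪≫
      bWhiskerRightIso i₁ (BasedFunctor.comp v (fpFst w g)) ≪≫
      bWhiskerLeftIso (AlgSt.overMap h₁) i₂ ≪≫ overMapComp h₁ k₂
  have hP₂ : AlgSp.LocP @Flat ((AlgSp.yon S).map (h₁ ≫ k₂)) :=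
    prop_of_locQ_to_overCat _ hP h𝒳' _ hcomp U _ (h₁ ≫ k₂) β hx1
  have hP₃ : AlgSp.LocP @Flat ((AlgSp.yon S).map k₂) := locP_flat_yon_of_comp h₁ k₂ hP₁ hS₁ hP₂
  exact ⟨V, W, v, BasedFunctor.id _, k₂, i₂, hv1, hv2, repByAlgSpWith_smooth_id _, hP₃⟩

/-- `LocQ` is invariant under 2-isomorphism. -/
theorem locQ_of_iso (P : MorphismProperty (AlgSp.Sp S)) {f f' : 𝒳 ⥤ᵇ 𝒴} (e : f ≅ f')
    (h : AlgSt.LocQ P f) : AlgSt.LocQ P f' := by
  obtain ⟨U, V, x, y, k, α, hx, hxs, hy, hk⟩ := h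
  exact ⟨U, V, x, y, k, bWhiskerLeftIso x e.symm ≪≫ α, hx, hxs, hy, hk⟩

/-- S13003: if `z` is flat and surjective and the base change of `f` along `z` is flat then `f` is flat. -/
theorem locQ_flat_of_fpFst
    (h𝒳 : AlgSt.IsAlgStack Scheme.fppfPrecoverage 𝒳) (h𝒴 : AlgSt.IsAlgStack Scheme.fppfPrecoverage 𝒴)
    (h𝒵 : AlgSt.IsAlgStack Scheme.fppfPrecoverage 𝒵) (f : 𝒳 ⥤ᵇ 𝒴) (z : 𝒵 ⥤ᵇ 𝒴)
    (hz₁ : AlgSt.LocQ (AlgSp.LocP @Flat) z) (hz₂ : AlgSt.IsSurjective z)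
    (h : AlgSt.LocQ (AlgSp.LocP @Flat) (fpFst z f)) : AlgSt.LocQ (AlgSp.LocP @Flat) f := by
  have hP : AlgSp.IsSmoothLocalST (AlgSp.LocP (S := S) @Flat) := isSmoothLocalST_locP_flat
  have hPb : StableBC (AlgSp.LocP (S := S) @Flat) := stableBC_locP _ (Or.inr (Or.inr (Or.inl rfl)))
  have h𝒬 : AlgSt.IsAlgStack Scheme.fppfPrecoverage (fp z f) :=
    Groth.Agent.S12763.result h𝒴.isStack h𝒴.diag h𝒵 h𝒳 z f
  have h𝒬' : AlgSt.IsAlgStack Scheme.fppfPrecoverage (fp f z) :=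
    Groth.Agent.S12763.result h𝒴.isStack h𝒴.diag h𝒳 h𝒵 f z
  have hE : AlgSt.RepByAlgSpWith (AlgSp.LocP @Smooth) (fpSwap z f) :=
    repByAlgSpWith_of_isEquivOver _ (fun U => Groth.Agent.Lib.Helper54.locP_smooth_id _) _
      (fpSwap_isEquivOver z f)
  -- the second projection is flat and surjective
  have h1 : AlgSt.LocQ (AlgSp.LocP @Flat) (fpFst f z) := locQ_fpFst _ hP hPb h𝒵 h𝒴 h𝒳 z f hz₁
  have h2 : AlgSt.LocQ (AlgSp.LocP @Flat) (fpSnd z f) :=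
    locQ_precomp_smooth _ hP h𝒬.isStack.1 h𝒬'.isStack.1 h𝒳.isStack.1 (fpSwap z f) (fpFst f z) hE h1
  have h3 : AlgSt.IsSurjective (fpFst f z) := Groth.Agent.S12825.result h𝒵 h𝒴 h𝒳 z f hz₂
  have h4 : AlgSt.IsSurjective (fpSnd z f) :=
    isSurjective_comp (fpSwap z f) (fpFst f z)
      (points_map_bijective_of_isEquivOver _ (fpSwap_isEquivOver z f)).2 h3
  -- the composite is flat
  have h5 : AlgSt.LocQ (AlgSp.LocP @Flat) (BasedFunctor.comp (fpFst z f) z) :=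
    locQ_comp _ hP (fun X₁ Y₁ Z₁ hX hY hZ a b ha hb =>
      stableComp_locP @Flat (Or.inr (Or.inr (Or.inl rfl))) hX hY hZ a b ha hb) h𝒬 h𝒵 h𝒴 _ _ h hz₁
  have h6 : AlgSt.LocQ (AlgSp.LocP @Flat) (BasedFunctor.comp (fpSnd z f) f) :=
    locQ_of_iso _ (fpIso z f) h5
  exact locQ_flat_of_comp h𝒬 h𝒳 h𝒴 (fpSnd z f) f h2 h4 h6

end Groth.Agent.Lib.Helper65.LocQFlat
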