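import Groth.Agent.Lib.Helper65.LocQFlat
import Groth.Agent.Lib.Helper65.LciSmoothSrc
import Groth.Agent.Lib.Helper66.AlgSpSmLocalSmooth
import Groth.Agent.Lib.Helper66.LocQFppfDesc
import Groth.Agent.Lib.Helper66.AlgStLocQSq2
import Groth.Prelude.Def_AlgSpMor6

/-!
# Helper65: cancellation of a smooth morphism for local complete intersection morphisms of algebraic stacks
-/

set_option autoImplicit false
set_option backward.isDefEq.respectTransparency false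
set_option backward.isDefEq.respectTransparency.types false

universe u

open CategoryTheory CategoryTheory.Functor CategoryTheory.Limits Opposite AlgebraicGeometry

namespace Groth.Agent.Lib.Helper65.LocQLci

open FibCat Groth.Agent.Lib.Helper31 Groth.Agent.Lib.Helper65 Groth.Agent.Lib.Helper66
  Groth.Agent.Lib.Helper66.AlgStLocQSq Groth.Agent.Lib.Helper65.LocQFlat
  Groth.Agent.Lib.Helper10.LciMor Groth.Agent.Lib.Helper10.LciEtaleDescent

variable {S : Scheme.{u}} {𝒳 𝒴 𝒵 : AlgSt.Cat S}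

/-- Isomorphic functors of morphisms of schemes come from equal morphisms. -/
theorem eq_of_overMap_iso {T U : Over S} {a b : T ⟶ U} (j : AlgSt.overMap a ≅ AlgSt.overMap b) : a = b := by
  apply (AlgSp.yon S).map_injective
  have := spMapOfOver_congr (bWhiskerLeftIso (AlgSt.toOverCat T) j)
  rw [toOverCat_comp_overMap, toOverCat_comp_overMap, spMapOfOver_ofSpMap_toOverCat,
    spMapOfOver_ofSpMap_toOverCat] at this
  exact this

/-- A functor between slices which is representable and smooth comes from a smooth morphism. -/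
theorem smooth_of_repByAlgSpWith {T U : Over S} (Φ : FibCat.overCat T ⥤ᵇ FibCat.overCat U) (a : T ⟶ U)
    (i : Φ ≅ AlgSt.overMap a) (hΦ : AlgSt.RepByAlgSpWith (AlgSp.LocP @Smooth) Φ) : Smooth a.left := by
  have hPs : AlgSp.IsSmoothLocalST (AlgSp.LocP (S := S) @Smooth) :=
    Groth.Agent.Lib.Helper66.AlgSpSmLocalLft.isSmoothLocalST_locP_smooth
  have h1 : AlgSt.RepByAlgSpWith (AlgSp.LocP @Smooth) (AlgSt.overMap a) :=
    Groth.Agent.Lib.Helper66.RepWithPDet.repByAlgSpWith_of_iso _ i.symm hΦ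
  have h2 : AlgSt.LocQ (AlgSp.LocP @Smooth) (AlgSt.overMap a) :=
    locQ_of_repByAlgSpWith _ hPs (isFibGrpd_overForget T) (isFibGrpd_overForget U)
      (isAlgStack_overCat U).atlas _ h1
  exact AlgSp.locP_yon_map (prop_of_locQ_overMap _ hPs a h2)

/-- A functor between slices which is representable and surjective comes from a surjective morphism. -/
theorem surjective_of_repByAlgSpWith {T U : Over S} (Φ : FibCat.overCat T ⥤ᵇ FibCat.overCat U) (a : T ⟶ U)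
    (i : Φ ≅ AlgSt.overMap a) (hΦ : AlgSt.RepByAlgSpWith AlgSp.IsSurjectiveMor Φ) : Surjective a.left := by
  have h1 : AlgSt.RepByAlgSpWith AlgSp.IsSurjectiveMor (AlgSt.overMap a) :=
    Groth.Agent.Lib.Helper66.RepWithPDet.repByAlgSpWith_of_iso _ i.symm hΦ
  have h2 : AlgSt.IsSurjective (AlgSt.overMap a) :=
    isSurjective_of_repByAlgSpWith (isFibGrpd_overForget T) (isFibGrpd_overForget U) _ h1
  have h3 := isSurjectiveMor_of_isSurjective _ h2
  rw [toOverCat_comp_overMap, spMapOfOver_ofSpMap_toOverCat] at h3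
  exact Groth.Agent.Lib.Helper66.LocQFppfDesc.surjective_left_of_isSurjectiveMor a h3

/-- A local complete intersection morphism of schemes gives a Koszul morphism of sheaves. -/
theorem isLCIMor_yon_map {A B : Over S} (k : A ⟶ B) (hk : lciMor k.left) :
    AlgSp.IsLCIMor ((AlgSp.yon S).map k) := by
  intro U V a b h ha hb hcomm
  obtain ⟨α, rfl⟩ := (AlgSp.yon S).map_surjective a
  obtain ⟨β, rfl⟩ := (AlgSp.yon S).map_surjective b
  have hα : Etale α.left := (AlgSp.repWith_yon_map_iff @Etale α).mp ha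
  have hβ : Etale β.left := (AlgSp.repWith_yon_map_iff @Etale β).mp hb
  rw [← Functor.map_comp, ← Functor.map_comp] at hcomm
  have hcomm' := (AlgSp.yon S).map_injective hcomm
  have hleft : α.left ≫ k.left = h.left ≫ β.left := by
    have := congrArg CommaMorphism.left hcomm'
    simpa using this
  have h1 : lciMor (α.left ≫ k.left) := MorphismProperty.comp_mem _ _ _ (lciMor_of_smooth α.left) hk
  rw [hleft] at h1
  exact (lciMor_iff_forall_isKoszulAt _).mp (lciMor_of_comp_smooth h.left β.left h1)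


/-- If `q` is smooth and `p ≅ f ≫ q` is a local complete intersection morphism, then so is `f`. -/
theorem locQ_isLCIMor_of_comp
    (h𝒳 : AlgSt.IsAlgStack Scheme.fppfPrecoverage 𝒳) (h𝒴 : AlgSt.IsAlgStack Scheme.fppfPrecoverage 𝒴)
    (h𝒵 : AlgSt.IsAlgStack Scheme.fppfPrecoverage 𝒵)
    (f : 𝒳 ⥤ᵇ 𝒴) (q : 𝒴 ⥤ᵇ 𝒵) (p : 𝒳 ⥤ᵇ 𝒵) (e : BasedFunctor.comp f q ≅ p)
    (hq : AlgSt.LocQ (AlgSp.LocP @Smooth) q) (hp : AlgSt.LocQ AlgSp.IsLCIMor p) :
    AlgSt.LocQ AlgSp.IsLCIMor f := by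
  have hPs : AlgSp.IsSmoothLocalST (AlgSp.LocP (S := S) @Smooth) :=
    Groth.Agent.Lib.Helper66.AlgSpSmLocalLft.isSmoothLocalST_locP_smooth
  have hsmc := stableComp_locP (S := S) (@Smooth) (Or.inr (Or.inr (Or.inr (Or.inl rfl))))
  obtain ⟨U₁, W₁, x₁, z₁, h₁, α₁, hx₁, hx₁s, hz₁, hlci₁⟩ := hp
  obtain ⟨V, y, hy1, hy2⟩ := h𝒴.atlas
  have hU₁ := isAlgStack_overCat U₁
  have hV := isAlgStack_overCat V
  have hW₁ := isAlgStack_overCat W₁
  -- the chart `U ⟶ U₁ ×_𝒴 V`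
  have h𝒜 : AlgSt.IsAlgStack Scheme.fppfPrecoverage (fp (BasedFunctor.comp x₁ f) y) :=
    Groth.Agent.S12763.result h𝒴.isStack h𝒴.diag hU₁ hV (BasedFunctor.comp x₁ f) y
  obtain ⟨U, c, hc1, hc2⟩ := h𝒜.atlas
  have hU := isAlgStack_overCat U
  obtain ⟨m₁, -, ⟨i₁⟩⟩ := exists_iso_overMap (BasedFunctor.comp c (fpFst (BasedFunctor.comp x₁ f) y))
  obtain ⟨h, -, ⟨i₂⟩⟩ := exists_iso_overMap (BasedFunctor.comp c (fpSnd (BasedFunctor.comp x₁ f) y))
  have hπ1 : AlgSt.RepByAlgSpWith (AlgSp.LocP @Smooth) (fpFst (BasedFunctor.comp x₁ f) y) :=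
    repByAlgSpWith_fpFst _ y (BasedFunctor.comp x₁ f) hy1
  have hπ2 : AlgSt.RepByAlgSpWith AlgSp.IsSurjectiveMor (fpFst (BasedFunctor.comp x₁ f) y) :=
    repByAlgSpWith_fpFst _ y (BasedFunctor.comp x₁ f) hy2
  have hcπ1 : AlgSt.RepByAlgSpWith (AlgSp.LocP @Smooth)
      (BasedFunctor.comp c (fpFst (BasedFunctor.comp x₁ f) y)) :=
    repByAlgSpWith_comp _ stableBC_locP_smooth hsmc isLocalOnBase_fppf_locP_smooth
      (isFibGrpd_overForget U) h𝒜.isStack.1 c _ hc1 hπ1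
  have hcπ2 : AlgSt.RepByAlgSpWith AlgSp.IsSurjectiveMor
      (BasedFunctor.comp c (fpFst (BasedFunctor.comp x₁ f) y)) :=
    repByAlgSpWith_comp _ stableBC_isSurjectiveMor stableComp_isSurjectiveMor
      isLocalOnBase_fppf_isSurjectiveMor (isFibGrpd_overForget U) h𝒜.isStack.1 c _ hc2 hπ2
  have hm₁1 : AlgSt.RepByAlgSpWith (AlgSp.LocP @Smooth) (AlgSt.overMap m₁) :=
    Groth.Agent.Lib.Helper66.RepWithPDet.repByAlgSpWith_of_iso _ i₁.symm hcπ1
  have hm₁2 : AlgSt.RepByAlgSpWith AlgSp.IsSurjectiveMor (AlgSt.overMap m₁) :=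
    Groth.Agent.Lib.Helper66.RepWithPDet.repByAlgSpWith_of_iso _ i₁.symm hcπ2
  have hm₁sm : Smooth m₁.left := smooth_of_repByAlgSpWith _ m₁ i₁ hcπ1
  -- the chart of `𝒳`
  have hx1 : AlgSt.RepByAlgSpWith (AlgSp.LocP @Smooth) (BasedFunctor.comp (AlgSt.overMap m₁) x₁) :=
    repByAlgSpWith_comp _ stableBC_locP_smooth hsmc isLocalOnBase_fppf_locP_smooth
      (isFibGrpd_overForget U) (isFibGrpd_overForget U₁) _ x₁ hm₁1 hx₁
  have hx2 : AlgSt.RepByAlgSpWith AlgSp.IsSurjectiveMor (BasedFunctor.comp (AlgSt.overMap m₁) x₁) :=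
    repByAlgSpWith_comp _ stableBC_isSurjectiveMor stableComp_isSurjectiveMor
      isLocalOnBase_fppf_isSurjectiveMor (isFibGrpd_overForget U) (isFibGrpd_overForget U₁) _ x₁ hm₁2 hx₁s
  let α : BasedFunctor.comp (BasedFunctor.comp (AlgSt.overMap m₁) x₁) f ≅
      BasedFunctor.comp (AlgSt.overMap h) y :=
    bWhiskerRightIso i₁.symm (BasedFunctor.comp x₁ f) ≪≫
      bWhiskerLeftIso c (fpIso (BasedFunctor.comp x₁ f) y) ≪≫ bWhiskerRightIso i₂ y
  refine ⟨U, V, BasedFunctor.comp (AlgSt.overMap m₁) x₁, y, h, α, hx1, hx2, hy1, ?_⟩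
  apply isLCIMor_yon_map
  -- the algebraic stack `𝒟 = W₁ ×_𝒵 V`
  have h𝒟 : AlgSt.IsAlgStack Scheme.fppfPrecoverage (fp z₁ (BasedFunctor.comp y q)) :=
    Groth.Agent.S12763.result h𝒵.isStack h𝒵.diag hW₁ hV z₁ (BasedFunctor.comp y q)
  have hq' : AlgSt.LocQ (AlgSp.LocP @Smooth) (BasedFunctor.comp y q) :=
    locQ_precomp_smooth _ hPs (isFibGrpd_overForget V) h𝒴.isStack.1 h𝒵.isStack.1 y q hy1 hq
  have hD1 : AlgSt.LocQ (AlgSp.LocP @Smooth) (fpFst z₁ (BasedFunctor.comp y q)) :=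
    locQ_fpFst_of_smooth _ hPs hV h𝒵 hW₁ (BasedFunctor.comp y q) z₁ hz₁ hq'
  have hD2 : AlgSt.RepByAlgSpWith (AlgSp.LocP @Smooth) (fpSnd z₁ (BasedFunctor.comp y q)) :=
    Groth.Agent.Lib.Helper66.AlgStBC.repByAlgSpWith_fpSnd _ (BasedFunctor.comp y q) z₁ hz₁
  obtain ⟨W, d, hd1, hd2⟩ := h𝒟.atlas
  have hW := isAlgStack_overCat W
  obtain ⟨n₁, -, ⟨j₁⟩⟩ := exists_iso_overMap (BasedFunctor.comp d (fpFst z₁ (BasedFunctor.comp y q)))
  obtain ⟨n₂, -, ⟨j₂⟩⟩ := exists_iso_overMap (BasedFunctor.comp d (fpSnd z₁ (BasedFunctor.comp y q)))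
  have hn₁ : Smooth n₁.left :=
    AlgSp.locP_yon_map (prop_of_locQ_to_overCat _ hPs h𝒟 _ hD1 W d n₁ j₁ hd1)
  have hn₂ : Smooth n₂.left := smooth_of_repByAlgSpWith _ n₂ j₂
    (repByAlgSpWith_comp _ stableBC_locP_smooth hsmc isLocalOnBase_fppf_locP_smooth
      (isFibGrpd_overForget W) h𝒟.isStack.1 d _ hd1 hD2)
  -- the functor `U ⟶ 𝒟`
  let β : BasedFunctor.comp (AlgSt.overMap (m₁ ≫ h₁)) z₁ ≅
      BasedFunctor.comp (AlgSt.overMap h) (BasedFunctor.comp y q) :=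
    bWhiskerRightIso (overMapComp m₁ h₁).symm z₁ ≪≫ bWhiskerLeftIso (AlgSt.overMap m₁) α₁.symm ≪≫
      bWhiskerLeftIso (BasedFunctor.comp (AlgSt.overMap m₁) x₁) e.symm ≪≫ bWhiskerRightIso α q
  let b : FibCat.overCat U ⥤ᵇ fp z₁ (BasedFunctor.comp y q) :=
    FibCat.fpLift (AlgSt.overMap (m₁ ≫ h₁)) (AlgSt.overMap h) β
  have hb1 : BasedFunctor.comp b (fpFst z₁ (BasedFunctor.comp y q)) = AlgSt.overMap (m₁ ≫ h₁) := rfl
  have hb2 : BasedFunctor.comp b (fpSnd z₁ (BasedFunctor.comp y q)) = AlgSt.overMap h := rfl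
  -- the chart `U' ⟶ U ×_𝒟 W`
  have h𝒞 : AlgSt.IsAlgStack Scheme.fppfPrecoverage (fp b d) :=
    Groth.Agent.S12763.result h𝒟.isStack h𝒟.diag hU hW b d
  obtain ⟨U', c', hc'1, hc'2⟩ := h𝒞.atlas
  obtain ⟨r, -, ⟨k₁⟩⟩ := exists_iso_overMap (BasedFunctor.comp c' (fpFst b d))
  obtain ⟨t, -, ⟨k₂⟩⟩ := exists_iso_overMap (BasedFunctor.comp c' (fpSnd b d))
  have hρ1 : AlgSt.RepByAlgSpWith (AlgSp.LocP @Smooth) (fpFst b d) := repByAlgSpWith_fpFst _ d b hd1
  have hρ2 : AlgSt.RepByAlgSpWith AlgSp.IsSurjectiveMor (fpFst b d) := repByAlgSpWith_fpFst _ d b hd2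
  have hr1 : Smooth r.left := smooth_of_repByAlgSpWith _ r k₁
    (repByAlgSpWith_comp _ stableBC_locP_smooth hsmc isLocalOnBase_fppf_locP_smooth
      (isFibGrpd_overForget U') h𝒞.isStack.1 c' _ hc'1 hρ1)
  have hr2 : Surjective r.left := surjective_of_repByAlgSpWith _ r k₁
    (repByAlgSpWith_comp _ stableBC_isSurjectiveMor stableComp_isSurjectiveMor
      isLocalOnBase_fppf_isSurjectiveMor (isFibGrpd_overForget U') h𝒞.isStack.1 c' _ hc'2 hρ2)
  let γ : BasedFunctor.comp (AlgSt.overMap r) b ≅ BasedFunctor.comp (AlgSt.overMap t) d :=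
    bWhiskerRightIso k₁.symm b ≪≫ bWhiskerLeftIso c' (fpIso b d) ≪≫ bWhiskerRightIso k₂ d
  have e1 : r ≫ m₁ ≫ h₁ = t ≫ n₁ := by
    apply eq_of_overMap_iso
    have γ1 := bWhiskerRightIso γ (fpFst z₁ (BasedFunctor.comp y q))
    exact (overMapComp r (m₁ ≫ h₁)).symm ≪≫ γ1 ≪≫ bWhiskerLeftIso (AlgSt.overMap t) j₁ ≪≫
      overMapComp t n₁
  have e2 : r ≫ h = t ≫ n₂ := by
    apply eq_of_overMap_iso
    have γ2 := bWhiskerRightIso γ (fpSnd z₁ (BasedFunctor.comp y q))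
    exact (overMapComp r h).symm ≪≫ γ2 ≪≫ bWhiskerLeftIso (AlgSt.overMap t) j₂ ≪≫
      overMapComp t n₂
  -- the scheme-level argument
  have hl₁ : lciMor h₁.left := (lciMor_iff_forall_isKoszulAt _).mpr (AlgSp.locP_yon_map hlci₁)
  have hl₂ : lciMor (r ≫ m₁ ≫ h₁).left := by
    rw [Over.comp_left, Over.comp_left]
    exact MorphismProperty.comp_mem _ _ _ (lciMor_of_smooth r.left)
      (MorphismProperty.comp_mem _ _ _ (lciMor_of_smooth m₁.left) hl₁)
  rw [e1, Over.comp_left] at hl₂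
  have hl₃ : lciMor t.left := lciMor_of_comp_smooth t.left n₁.left hl₂
  have hl₄ : lciMor (t ≫ n₂).left := by
    rw [Over.comp_left]
    exact MorphismProperty.comp_mem _ _ _ hl₃ (lciMor_of_smooth n₂.left)
  rw [← e2, Over.comp_left] at hl₄
  exact lciMor_of_smooth_surjective_comp r.left h.left hl₄

end Groth.Agent.Lib.Helper65.LocQLci
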