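import Groth.Agent.Lib.Helper65.FppfSurjFam
import Groth.Agent.Lib.Helper65.RepDesc2
import Groth.Agent.Lib.Helper65.EssDimA
import Groth.Agent.Lib.Helper65.GerbeBasic
import Groth.Agent.Lib.Helper51.AlgSpBasic

/-!
# Helper65: descent of properties of a representable morphism `f : 𝒳₁ ⟶ 𝒴` along a family of functors
`r j : 𝒲 j ⟶ 𝒳₁` which is jointly locally surjective on objects
-/

set_option autoImplicit false
set_option backward.isDefEq.respectTransparency false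
set_option backward.isDefEq.respectTransparency.types false

universe w v₂ u₂ v u

open CategoryTheory CategoryTheory.Functor CategoryTheory.Limits Opposite AlgebraicGeometry

namespace Groth.Agent.Lib.Helper65.LocSurjFam

open FibCat Groth.Agent.Lib.Helper31 Groth.Agent.Lib.Helper65 Groth.Agent.Lib.Helper51

section L0

variable {C : Type u} [Category.{v} C] {P : Cᵒᵖ ⥤ Type w} {𝒜 : BasedCategory.{v₂, u₂} C}

theorem secOf_eq_of_isHomLift (Φ : 𝒜 ⥤ᵇ Stk.ofPsh P) (a : 𝒜.obj) {T' : C} (σ : P.obj (op T'))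
    (t : 𝒜.p.obj a ⟶ T') (μ : Φ.obj a ⟶ (⟨T', σ⟩ : (Stk.ofPsh P).obj))
    (hμ : (Stk.ofPsh P).p.IsHomLift t μ) : secOf Φ a = P.map t.op σ := by
  have h1 : P.map μ.hom.op σ = (Φ.obj a).sec := μ.map_sec
  have h2 : μ.hom = eqToHom (base_eq Φ a) ≫ t := by
    have := IsHomLift.fac' (Stk.ofPsh P).p t μ
    simpa using this
  unfold secOf
  rw [← h1, psh_map_map, h2]
  simp

end L0

variable {S : Scheme.{u}} {𝒳₁ 𝒴 : AlgSt.Cat S}

theorem exists_sieve_of_locSurj {κ : Type w} (𝒲 : κ → AlgSt.Cat S) (r : ∀ j, 𝒲 j ⥤ᵇ 𝒳₁)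
    (hr : ∀ x₁ : 𝒳₁.obj, ∃ R ∈ AlgSp.J S (𝒳₁.p.obj x₁), ∀ ⦃V : Over S⦄ (t : V ⟶ 𝒳₁.p.obj x₁),
      R.arrows t → ∃ (j : κ) (w : (𝒲 j).obj) (γ : (r j).obj w ⟶ x₁), 𝒳₁.p.IsHomLift t γ)
    (x₁ : 𝒳₁.obj) (T' : Over S) (hx : 𝒳₁.p.obj x₁ = T') :
    ∃ R ∈ AlgSp.J S T', ∀ ⦃V : Over S⦄ (t : V ⟶ T'),
      R.arrows t → ∃ (j : κ) (w : (𝒲 j).obj) (γ : (r j).obj w ⟶ x₁), 𝒳₁.p.IsHomLift t γ := by
  subst hx
  exact hr x₁

/-- Descent of a property `P` of `f : 𝒳₁ ⟶ 𝒴` along a jointly locally surjective family `r j : 𝒲 j ⟶ 𝒳₁`,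
given that `P` descends along jointly locally surjective families of maps of algebraic spaces. -/
theorem repByAlgSpWith_of_locSurj_family {κ : Type w}
    (P : MorphismProperty (AlgSp.Sp S))
    (hP : ∀ {X : κ → AlgSp.Sp S} {Y Z : AlgSp.Sp S}, (∀ j, AlgSp.IsAlgSpace (X j)) → AlgSp.IsAlgSpace Y →
      ∀ (g : ∀ j, X j ⟶ Y) (h : Y ⟶ Z),
      (∀ (T : Over S) (s : (AlgSp.yon S).obj T ⟶ Y), ∃ Sv ∈ AlgSp.J S T,
        ∀ ⦃T' : Over S⦄ (t : T' ⟶ T), Sv t →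
          ∃ (j : κ) (l : (AlgSp.yon S).obj T' ⟶ X j), l ≫ g j = (AlgSp.yon S).map t ≫ s) →
      (∀ j, P (g j ≫ h)) → P h)
    (h𝒳₁ : IsFibGrpd 𝒳₁.p) (h𝒴 : IsFibGrpd 𝒴.p)
    (f : 𝒳₁ ⥤ᵇ 𝒴) (hf : AlgSt.RepByAlgSp1 f)
    (𝒲 : κ → AlgSt.Cat S) (h𝒲 : ∀ j, IsFibGrpd (𝒲 j).p)
    (r : ∀ j, 𝒲 j ⥤ᵇ 𝒳₁) (f' : ∀ j, 𝒲 j ⥤ᵇ 𝒴) (θ : ∀ j, BasedFunctor.comp (r j) f ≅ f' j)
    (hr : ∀ x₁ : 𝒳₁.obj, ∃ R ∈ AlgSp.J S (𝒳₁.p.obj x₁), ∀ ⦃V : Over S⦄ (t : V ⟶ 𝒳₁.p.obj x₁),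
      R.arrows t → ∃ (j : κ) (w : (𝒲 j).obj) (γ : (r j).obj w ⟶ x₁), 𝒳₁.p.IsHomLift t γ)
    (hf' : ∀ j, AlgSt.RepByAlgSpWith P (f' j)) : AlgSt.RepByAlgSpWith P f := by
  intro T y
  obtain ⟨F₁, E₁, hE₁⟩ := hf T y
  refine ⟨F₁, E₁, hE₁, ?_⟩
  choose X E hE hPX using fun j => hf' j T y
  obtain ⟨G₁, ⟨η₁⟩, ⟨η₂⟩⟩ := hE₁
  have hTf : IsFibGrpd (FibCat.overCat T).p := isFibGrpd_overForget T
  have hfp : IsFibGrpd (fp y f).p := isFibGrpd_fp y f hTf h𝒳₁ h𝒴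
  have hfp' : ∀ j, IsFibGrpd (fp y (f' j)).p := fun j => isFibGrpd_fp y (f' j) hTf (h𝒲 j) h𝒴
  let Γ : ∀ j, fp y (f' j) ⥤ᵇ fp y f := fun j =>
    fpMap (F := y) (G := f' j) (F' := y) (G' := f) (BasedFunctor.id _) (r j) (BasedFunctor.id 𝒴)
      (Iso.refl _) (θ j).symm
  let Φ : ∀ j, AlgSt.ofSp (X j).obj ⥤ᵇ AlgSt.ofSp F₁.obj := fun j =>
    BasedFunctor.comp (BasedFunctor.comp (E j) (Γ j)) G₁
  let g : ∀ j, (X j).obj ⟶ F₁.obj := fun j => ObjectProperty.homMk (pshMapOf (Φ j))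
  refine hP (X := fun j => (X j).obj) (fun j => (X j).property) F₁.property g _ ?_ ?_
  · -- joint local surjectivity
    intro T' s
    let σ : F₁.obj.obj.obj (op T') := yonEquiv s
    let b : (fp y f).obj := E₁.obj ⟨T', σ⟩
    have hb : (fp y f).p.obj b = T' := E₁.w_obj ⟨T', σ⟩
    have hx₁ : 𝒳₁.p.obj b.obj.snd = T' := (fp_snd_obj b).trans hb
    obtain ⟨R, hR, hR'⟩ := exists_sieve_of_locSurj 𝒲 r hr b.obj.snd T' hx₁
    refine ⟨R, hR, fun T'' t ht => ?_⟩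
    obtain ⟨j, w, γ, hγ⟩ := hR' t ht
    have hw : (𝒲 j).p.obj w = T'' := by
      rw [← (r j).w_obj]; exact IsHomLift.domain_eq 𝒳₁.p t γ
    obtain ⟨a'', m, hm⟩ := exists_lift_of_eq hTf (y := b.obj.fst) hb t
    have ha'' : (FibCat.overCat T).p.obj a'' = T'' := IsHomLift.domain_eq _ t m
    have hym : 𝒴.p.IsHomLift t (y.map m) := inferInstance
    have hbi : 𝒴.p.IsHomLift (𝟙 T') b.obj.iso.hom := by
      have : 𝒴.p.IsHomLift (𝟙 ((FibCat.overCat T).p.obj b.obj.fst)) b.obj.iso.hom := b.property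
      have hb' : (FibCat.overCat T).p.obj b.obj.fst = T' := hb
      rwa [hb'] at this
    have h1 : 𝒴.p.IsHomLift t (y.map m ≫ b.obj.iso.hom) :=
      isHomLift_comp_id_right 𝒴.p t _ _ hym hbi
    have h2 : 𝒴.p.IsHomLift t (f.map γ) := inferInstance
    obtain ⟨κ', hκ, eκ⟩ := exists_comparison h𝒴 t (f.map γ) h2 (y.map m ≫ b.obj.iso.hom) h1
    have hθw : 𝒴.p.IsHomLift (𝟙 T'') ((θ j).hom.toNatTrans.app w) :=
      BasedNatTrans.isHomLift (θ j).hom hw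
    let ψ : y.obj a'' ≅ (f' j).obj w := κ' ≪≫ (basedIsoToNatIso (θ j)).app w
    have hψ : 𝒴.p.IsHomLift (𝟙 ((FibCat.overCat T).p.obj a'')) ψ.hom := by
      rw [ha'']
      exact isHomLift_comp_id_left 𝒴.p _ _ _ hκ hθw
    let o : (fp y (f' j)).obj := fpObjMk y (f' j) a'' w ψ hψ
    have ho : (fp y (f' j)).p.obj o = T'' := ha''
    obtain ⟨ζ, θ', hθ'⟩ := EssDim.exists_sec_of_obj (X j).obj (E j) (hE j) o T'' ho
    have := isIso_of_isHomLift_id (hfp' j) θ' hθ'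
    have hinv : (fp y (f' j)).p.IsHomLift (𝟙 T'') (inv θ') := inferInstance
    let ν : (Γ j).obj o ⟶ b := fpHomMk (F := y) (G := f) m γ (by
      change y.map m ≫ b.obj.iso.hom = ((Γ j).obj o).obj.iso.hom ≫ f.map γ
      rw [← eκ]
      congr 1
      change κ'.hom = 𝟙 _ ≫ (κ'.hom ≫ (θ j).hom.toNatTrans.app w) ≫ (θ j).inv.toNatTrans.app w
      have : (θ j).hom.toNatTrans.app w ≫ (θ j).inv.toNatTrans.app w = 𝟙 _ := by
        have := congrArg (fun α => α.toNatTrans.app w) (θ j).hom_inv_id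
        exact this
      rw [Category.id_comp, Category.assoc, this]
      exact (Category.comp_id _).symm)
    have hν : (fp y f).p.IsHomLift t ν := by
      rw [fp_isHomLift_iff]; exact hm
    have hΓinv : (fp y f).p.IsHomLift (𝟙 T'') ((Γ j).map (inv θ')) :=
      BasedFunctor.preserves_isHomLift (Γ j) (𝟙 T'') (inv θ')
    have h3 : (fp y f).p.IsHomLift t ((Γ j).map (inv θ') ≫ ν) :=
      isHomLift_comp_id_left _ t _ _ hΓinv hν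
    have h4 : (AlgSt.ofSp F₁.obj).p.IsHomLift t (G₁.map ((Γ j).map (inv θ') ≫ ν)) :=
      BasedFunctor.preserves_isHomLift G₁ t _
    have h5 : (AlgSt.ofSp F₁.obj).p.IsHomLift (𝟙 T') (η₁.hom.toNatTrans.app ⟨T', σ⟩) :=
      BasedNatTrans.isHomLift η₁.hom (rfl : (AlgSt.ofSp F₁.obj).p.obj ⟨T', σ⟩ = T')
    let μ : (Φ j).obj ⟨T'', ζ⟩ ⟶ (⟨T', σ⟩ : (AlgSt.ofSp F₁.obj).obj) :=
      G₁.map ((Γ j).map (inv θ') ≫ ν) ≫ η₁.hom.toNatTrans.app ⟨T', σ⟩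
    have hμ : (AlgSt.ofSp F₁.obj).p.IsHomLift t μ := isHomLift_comp_id_right _ t _ _ h4 h5
    have key : secOf (Φ j) ⟨T'', ζ⟩ = F₁.obj.obj.map t.op σ :=
      secOf_eq_of_isHomLift (Φ j) ⟨T'', ζ⟩ σ t μ hμ
    refine ⟨j, yonEquiv.symm ζ, ?_⟩
    apply yonEquiv.injective
    rw [yonEquiv_comp, Equiv.apply_symm_apply, ← yonEquiv_naturality]
    exact key
  · intro j
    have e1 : g j ≫ AlgSt.spMapOfOver (BasedFunctor.comp E₁ (fpFst y f)) =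
        AlgSt.spMapOfOver (BasedFunctor.comp (E j) (fpFst y (f' j))) := by
      rw [← spMapOfOver_ofSpMap_comp]
      apply spMapOfOver_congr
      have i1 : AlgSt.ofSpMap (g j) ≅ Φ j := (isoOfPshMap (Φ j)).symm
      have i2 : BasedFunctor.comp (Φ j) (BasedFunctor.comp E₁ (fpFst y f)) ≅
          BasedFunctor.comp (BasedFunctor.comp (E j) (Γ j)) (fpFst y f) :=
        bWhiskerLeftIso (BasedFunctor.comp (E j) (Γ j)) (bWhiskerRightIso η₂ (fpFst y f))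
      exact bWhiskerRightIso i1 (BasedFunctor.comp E₁ (fpFst y f)) ≪≫ i2
    rw [e1]
    exact hPX j

end Groth.Agent.Lib.Helper65.LocSurjFam
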