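import Mathlib.AlgebraicGeometry.Morphisms.QuasiFinite
import Mathlib.AlgebraicGeometry.Morphisms.UniversallyOpen
import Mathlib.AlgebraicGeometry.Artinian

set_option autoImplicit false
universe u
open CategoryTheory Limits AlgebraicGeometry

namespace Groth.Agent.Lib.Helper65.LqfSelf

/-- A morphism locally of finite type whose base change along itself is locally quasi-finite is locally
quasi-finite. -/
theorem locallyQuasiFinite_of_pullback_fst {W T : Scheme.{u}} (g : W ⟶ T) [LocallyOfFiniteType g]
    (h : LocallyQuasiFinite (pullback.fst g g)) : LocallyQuasiFinite g := by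
  refine LocallyQuasiFinite.of_fiberToSpecResidueField g fun t => ?_
  let q := g.fiberToSpecResidueField t
  have hq : LocallyOfFiniteType q := by
    change LocallyOfFiniteType (pullback.snd g (T.fromSpecResidueField t))
    infer_instance
  rw [locallyQuasiFinite_iff_isDiscrete_preimage_singleton]
  intro y
  refine IsDiscrete.mono (s := Set.univ) ?_ (Set.subset_univ _)
  rw [isDiscrete_univ_iff]
  by_cases hne : Nonempty ↥(g.fiber t)
  swap
  · rw [not_nonempty_iff] at hne
    exact ⟨by ext s; simp [Set.eq_empty_of_isEmpty]⟩
  obtain ⟨x₀⟩ := hne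
  let F := g.fiber t
  let ι : F ⟶ W := g.fiberι t
  let j := T.fromSpecResidueField t
  let s₀ := F.fromSpecResidueField x₀
  let r := s₀ ≫ q
  have sqF : IsPullback ι q g j := IsPullback.of_hasPullback g j
  have sqK : IsPullback (pullback.fst q r) (pullback.snd q r) q r := IsPullback.of_hasPullback q r
  have big : IsPullback (pullback.fst q r ≫ ι) (pullback.snd q r) g (r ≫ j) := sqK.paste_horiz sqF
  let σ : Spec (F.residueField x₀) ⟶ W := s₀ ≫ ι
  have hσ : σ ≫ g = r ≫ j := by
    simp only [σ, r, Category.assoc]
    rw [sqF.w]
  let top : pullback q r ⟶ pullback g g :=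
    pullback.lift (pullback.snd q r ≫ σ) (pullback.fst q r ≫ ι) (by
      rw [Category.assoc, hσ, ← big.w])
  have htop1 : top ≫ pullback.fst g g = pullback.snd q r ≫ σ := pullback.lift_fst _ _ _
  have htop2 : top ≫ pullback.snd g g = pullback.fst q r ≫ ι := pullback.lift_snd _ _ _
  have left : IsPullback top (pullback.snd q r) (pullback.fst g g) σ := by
    refine IsPullback.of_right ?_ htop1 (IsPullback.of_hasPullback g g).flip
    rw [htop2, hσ]
    exact big
  have hlqf : LocallyQuasiFinite (pullback.snd q r) :=
    MorphismProperty.of_isPullback (P := @LocallyQuasiFinite) left h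
  have hart : IsLocallyArtinian (pullback q r) :=
    IsLocallyArtinian.of_locallyQuasiFinite (pullback.snd q r)
  have hdisc : DiscreteTopology ↥(pullback q r) := inferInstance
  have hopen : IsOpenMap (pullback.fst q r) := (pullback.fst q r).isOpenMap
  have hsurj : Function.Surjective (pullback.fst q r) := by
    have : Surjective r := ⟨fun y => ⟨IsLocalRing.closedPoint _, Subsingleton.elim _ _⟩⟩
    exact (inferInstance : Surjective (pullback.fst q r)).surj
  have := hopen.isDiscrete_range
  rwa [hsurj.range_eq, isDiscrete_univ_iff] at this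

end Groth.Agent.Lib.Helper65.LqfSelf
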