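import Groth.Agent.Lib.Helper65.SourceLocal
import Groth.Agent.S10546

/-!
# Helper65: monomorphisms of algebraic spaces: base change, composition, fppf locality
-/

set_option autoImplicit false
set_option backward.isDefEq.respectTransparency false
set_option backward.isDefEq.respectTransparency.types false

universe u

open CategoryTheory CategoryTheory.Functor CategoryTheory.Limits Opposite AlgebraicGeometry

namespace Groth.Agent.Lib.Helper65

open FibCat Groth.Agent.Lib.Helper31

variable {S : Scheme.{u}}

theorem stableBC_mono : StableBC (MorphismProperty.monomorphisms (AlgSp.Sp S)) := by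
  intro X₁ Y₁ X₂ Y₂ hX₁ hY₁ hX₂ hY₂ a b a' b' sq ha
  have : Mono a := ha
  exact MorphismProperty.monomorphisms.infer_property (f := a') (hf := sq.mono_snd_of_mono)

theorem stableComp_mono : StableComp (MorphismProperty.monomorphisms (AlgSp.Sp S)) := by
  intro X Y Z hX hY hZ a b ha hb
  have : Mono a := ha
  have : Mono b := hb
  exact MorphismProperty.monomorphisms.infer_property (a ≫ b)

theorem isLocalOnBase_fppf_mono :
    AlgSp.IsLocalOnBase AlgSp.IsFppfCover (MorphismProperty.monomorphisms (AlgSp.Sp S)) :=
  isLocalOnBase_fppf_of_fpqc (Groth.Agent.S10546.result S)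

end Groth.Agent.Lib.Helper65
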