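import Groth.Agent.Lib.Helper66.ResGerbe4
import Groth.Agent.Lib.Helper66.AlgStLocQSq8
import Groth.Agent.Lib.Helper65.StQC

/-!
# Helper65: lifting charts through a monomorphism of stacks

`Lifts f a` says that the chart `a : (Sch/T) ⟶ 𝒳` lifts, up to 2-isomorphism, through `f : 𝒴 ⟶ 𝒳`.
For a monomorphism `f` and `T` the spectrum of a field, lifting can be tested after a field extension.
-/

set_option autoImplicit false
set_option backward.isDefEq.respectTransparency false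
set_option backward.isDefEq.respectTransparency.types false

universe u

open CategoryTheory CategoryTheory.Functor CategoryTheory.Limits Opposite AlgebraicGeometry

namespace Groth.Agent.Lib.Helper65.MonoQC

open FibCat Groth.Agent.Lib.Helper31 Groth.Agent.Lib.Helper65

variable {S : Scheme.{u}} {𝒳 𝒴 : AlgSt.Cat S}

/-- The chart `a` lifts through `f` up to 2-isomorphism. -/
def Lifts (f : 𝒴 ⥤ᵇ 𝒳) {T : Over S} (a : FibCat.overCat T ⥤ᵇ 𝒳) : Prop :=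
  ∃ y : FibCat.overCat T ⥤ᵇ 𝒴, Nonempty (BasedFunctor.comp y f ≅ a)

theorem Lifts.of_iso {f : 𝒴 ⥤ᵇ 𝒳} {T : Over S} {a a' : FibCat.overCat T ⥤ᵇ 𝒳} (h : Lifts f a)
    (e : a ≅ a') : Lifts f a' := by
  obtain ⟨y, ⟨ε⟩⟩ := h
  exact ⟨y, ⟨ε ≪≫ e⟩⟩

theorem Lifts.precomp {f : 𝒴 ⥤ᵇ 𝒳} {T T' : Over S} {a : FibCat.overCat T ⥤ᵇ 𝒳} (h : Lifts f a)
    (g : T' ⟶ T) : Lifts f (BasedFunctor.comp (AlgSt.overMap g) a) := by
  obtain ⟨y, ⟨ε⟩⟩ := h
  exact ⟨BasedFunctor.comp (AlgSt.overMap g) y, ⟨bWhiskerLeftIso (AlgSt.overMap g) ε⟩⟩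

/-- Lifting along a composite of morphisms of schemes. -/
theorem Lifts.of_comp {f : 𝒴 ⥤ᵇ 𝒳} {T T' T'' : Over S} {a : FibCat.overCat T ⥤ᵇ 𝒳}
    (g : T' ⟶ T) (g' : T'' ⟶ T') (h : Lifts f (BasedFunctor.comp (AlgSt.overMap g) a)) :
    Lifts f (BasedFunctor.comp (AlgSt.overMap (g' ≫ g)) a) :=
  (h.precomp g').of_iso
    (bWhiskerRightIso (Groth.Agent.Lib.Helper66.AlgStLocQSq.overMapComp g' g) a)

theorem lifts_congr_hom {f : 𝒴 ⥤ᵇ 𝒳} {T T' : Over S} {a : FibCat.overCat T ⥤ᵇ 𝒳}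
    {g g' : T' ⟶ T} (h : g = g') (hl : Lifts f (BasedFunctor.comp (AlgSt.overMap g) a)) :
    Lifts f (BasedFunctor.comp (AlgSt.overMap g') a) := by
  subst h; exact hl

theorem lifts_comp_overMap_iff {f : 𝒴 ⥤ᵇ 𝒳} {T T' T'' : Over S} {a : FibCat.overCat T ⥤ᵇ 𝒳}
    (g : T' ⟶ T) (g' : T'' ⟶ T') :
    Lifts f (BasedFunctor.comp (AlgSt.overMap g') (BasedFunctor.comp (AlgSt.overMap g) a)) ↔
      Lifts f (BasedFunctor.comp (AlgSt.overMap (g' ≫ g)) a) :=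
  ⟨fun h => h.of_iso (bWhiskerRightIso (Groth.Agent.Lib.Helper66.AlgStLocQSq.overMapComp g' g) a),
    fun h => h.of_iso (bWhiskerRightIso (Groth.Agent.Lib.Helper66.AlgStLocQSq.overMapComp g' g) a).symm⟩

/-- A section of the base change of `f` along a chart `z` lifts the chart. -/
theorem lifts_of_section {W : Over S} (z : FibCat.overCat W ⥤ᵇ 𝒳) (f : 𝒴 ⥤ᵇ 𝒳) (G : AlgSp.Sp S)
    (e : AlgSt.ofSp G ⥤ᵇ fp z f) (g : (AlgSp.yon S).obj W ⟶ G)
    (hs : g ≫ AlgSt.spMapOfOver (BasedFunctor.comp e (fpFst z f)) = 𝟙 _) : Lifts f z := by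
  let Ψ : FibCat.overCat W ⥤ᵇ fp z f :=
    BasedFunctor.comp (AlgSt.ofOverCat W) (BasedFunctor.comp (AlgSt.ofSpMap g) e)
  have hid : BasedFunctor.comp (BasedFunctor.comp (AlgSt.ofOverCat W) (AlgSt.ofSpMap g))
      (BasedFunctor.comp (AlgSt.ofSpMap
        (AlgSt.spMapOfOver (BasedFunctor.comp e (fpFst z f))))
        (AlgSt.toOverCat W)) = BasedFunctor.id _ := by
    change BasedFunctor.comp (AlgSt.ofOverCat W) (BasedFunctor.comp (AlgSt.ofSpMap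
      (g ≫ AlgSt.spMapOfOver (BasedFunctor.comp e (fpFst z f))))
      (AlgSt.toOverCat W)) = _
    rw [hs]
    rfl
  let i : BasedFunctor.comp Ψ (fpFst z f) ≅ BasedFunctor.id _ :=
    bWhiskerLeftIso (BasedFunctor.comp (AlgSt.ofOverCat W) (AlgSt.ofSpMap g))
      (isoSpMapOfOver (BasedFunctor.comp e (fpFst z f))) ≪≫ eqToIso hid
  let j1 : BasedFunctor.comp (BasedFunctor.comp Ψ (fpSnd z f)) f ≅
      BasedFunctor.comp (BasedFunctor.comp Ψ (fpFst z f)) z := bWhiskerLeftIso Ψ (fpIso z f).symm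
  let j2 : BasedFunctor.comp (BasedFunctor.comp Ψ (fpFst z f)) z ≅
      BasedFunctor.comp (BasedFunctor.id _) z := bWhiskerRightIso i z
  exact ⟨BasedFunctor.comp Ψ (fpSnd z f), ⟨j1 ≪≫ j2⟩⟩

/-- **Descent of liftings along field extensions**: for a monomorphism `f` and a chart `a` from the spectrum
of a field `k`, if the restriction of `a` to a nonempty scheme over `Spec k` lifts then `a` lifts. -/
theorem lifts_of_lifts_over_field (f : 𝒴 ⥤ᵇ 𝒳)
    (hf : AlgSt.IsMono f) {k : Type u} [Field k] (sk : Spec (CommRingCat.of k) ⟶ S)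
    (a : FibCat.overCat (Over.mk sk) ⥤ᵇ 𝒳) {T' : Over S} (m : T' ⟶ Over.mk sk) (pt : ↥T'.left)
    (h : Lifts f (BasedFunctor.comp (AlgSt.overMap m) a)) : Lifts f a := by
  obtain ⟨y, ⟨ε⟩⟩ := h
  let Λ : FibCat.overCat T' ⥤ᵇ fp a f := fpLift (AlgSt.overMap m) y ε.symm
  let w₁ : AlgSt.Points (fp a f) := AlgSt.Points.ofChart Λ pt
  obtain ⟨G, e, he, hm⟩ := hf (Over.mk sk) a
  have hm' : Mono (AlgSt.spMapOfOver (BasedFunctor.comp e (fpFst a f))) := hm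
  obtain ⟨w₂, -⟩ := (points_map_bijective_of_isEquivOver e he).2 w₁
  have hiso : IsIso (AlgSt.spMapOfOver (BasedFunctor.comp e (fpFst a f))) :=
    Groth.Agent.H52.isIso_of_mono_to_field sk G.property _ ⟨ptsEquiv G.obj w₂⟩
  exact lifts_of_section a f G.obj e (inv (AlgSt.spMapOfOver (BasedFunctor.comp e (fpFst a f))))
    (IsIso.inv_hom_id _)

end Groth.Agent.Lib.Helper65.MonoQC
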