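import Groth.Agent.Lib.Helper65.MonoQC1
import Groth.Agent.Lib.Helper65.MonoFull
import Groth.Agent.Lib.Helper65.StUniv
import Groth.Agent.S12763

/-!
# Helper65: compactness of the points of a base change of a monomorphism from a finite stratification
-/

set_option autoImplicit false
set_option backward.isDefEq.respectTransparency false
set_option backward.isDefEq.respectTransparency.types false

universe u

open CategoryTheory CategoryTheory.Functor CategoryTheory.Limits Opposite AlgebraicGeometry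

namespace Groth.Agent.Lib.Helper65.MonoQC

open FibCat Groth.Agent.Lib.Helper31 Groth.Agent.Lib.Helper65
open Groth.Agent.Lib.Helper66.AlgStLocQSq (overMapComp)

variable {S : Scheme.{u}} {𝒳 𝒴 : AlgSt.Cat S}

/-- If finitely many quasi-compact pieces `W k ⟶ X` carry liftings of the chart `x` through the monomorphism
`f`, and every field point of `X` at which `x` lifts factors through one of them, then for every quasi-compact
scheme `Z` over `X` the points of the base change of `f` to `Z` form a quasi-compact space. -/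
theorem compactSpace_points_fp_of_family
    (h𝒳 : AlgSt.IsAlgStack Scheme.fppfPrecoverage 𝒳) (h𝒴 : AlgSt.IsAlgStack Scheme.fppfPrecoverage 𝒴)
    (f : 𝒴 ⥤ᵇ 𝒳) (hf : AlgSt.IsMono f) {X : Over S} (x : FibCat.overCat X ⥤ᵇ 𝒳)
    {ι : Type} [Finite ι] (W : ι → Over S) (j : ∀ k, W k ⟶ X) (hqc : ∀ k, QuasiCompact (j k).left)
    (hl : ∀ k, Lifts f (BasedFunctor.comp (AlgSt.overMap (j k)) x))
    (hcov : ∀ (L : Type u) [Field L] (str : Spec (CommRingCat.of L) ⟶ S) (t : Over.mk str ⟶ X),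
      Lifts f (BasedFunctor.comp (AlgSt.overMap t) x) →
        ∃ k, ∃ ψ : Spec (CommRingCat.of L) ⟶ (W k).left, ψ ≫ (j k).left = t.left)
    (Z : Over S) [CompactSpace ↥Z.left] (g₀ : Z ⟶ X) (a : FibCat.overCat Z ⥤ᵇ 𝒳)
    (ia : a ≅ BasedFunctor.comp (AlgSt.overMap g₀) x) :
    CompactSpace (AlgSt.Points (fp a f)) := by
  classical
  have hZ := isAlgStack_overCat Z
  have hfp : AlgSt.IsAlgStack Scheme.fppfPrecoverage (fp a f) :=
    Groth.Agent.S12763.result h𝒳.isStack h𝒳.diag hZ h𝒴 a f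
  have hfib : IsFibGrpd (fp a f).p := hfp.isStack.1
  have hπ : AlgSt.IsMono (fpFst a f) := repByAlgSpWith_fpFst _ f a hf
  obtain ⟨hfull, -⟩ := full_faithful_of_isMono hfib (isFibGrpd_overForget Z) (fpFst a f) hπ
  choose y ε using hl
  let Zk : ι → Over S := fun k => Over.mk (pullback.fst g₀.left (j k).left ≫ Z.hom)
  let pr₁ : ∀ k, Zk k ⟶ Z := fun k => Over.homMk (pullback.fst g₀.left (j k).left) rfl
  let pr₂ : ∀ k, Zk k ⟶ W k := fun k => Over.homMk (pullback.snd g₀.left (j k).left) (by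
    have h1 : (j k).left ≫ X.hom = (W k).hom := Over.w (j k)
    have h2 : g₀.left ≫ X.hom = Z.hom := Over.w g₀
    change pullback.snd _ _ ≫ (W k).hom = pullback.fst _ _ ≫ Z.hom
    rw [← h1, ← h2, ← Category.assoc, ← Category.assoc, pullback.condition])
  have hcomm : ∀ k, pr₁ k ≫ g₀ = pr₂ k ≫ j k := fun k => by
    apply Over.OverMorphism.ext
    exact pullback.condition
  have hZk : ∀ k, CompactSpace ↥(Zk k).left := fun k => by
    have := hqc k
    exact QuasiCompact.compactSpace_of_compactSpace (pullback.fst g₀.left (j k).left)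
  let θ : ∀ k, BasedFunctor.comp (AlgSt.overMap (pr₁ k)) a ≅
      BasedFunctor.comp (BasedFunctor.comp (AlgSt.overMap (pr₂ k)) (y k)) f := fun k =>
    bWhiskerLeftIso (AlgSt.overMap (pr₁ k)) ia ≪≫ bWhiskerRightIso (overMapComp (pr₁ k) g₀) x ≪≫
      eqToIso (by rw [hcomm k]) ≪≫ (bWhiskerRightIso (overMapComp (pr₂ k) (j k)) x).symm ≪≫
      bWhiskerLeftIso (AlgSt.overMap (pr₂ k)) (Classical.choice (ε k)).symm
  let c : ∀ k, FibCat.overCat (Zk k) ⥤ᵇ fp a f := fun k =>
    fpLift (AlgSt.overMap (pr₁ k)) (BasedFunctor.comp (AlgSt.overMap (pr₂ k)) (y k)) (θ k)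
  have hcover : ∀ p : AlgSt.Points (fp a f), ∃ k, p ∈ Set.range (AlgSt.Points.ofChart (c k)) := by
    intro p
    obtain ⟨p₀, rfl⟩ := AlgSt.Points.mk_surjective p
    obtain ⟨P, hP⟩ := exists_functor_of_fpt hfib p₀
    obtain ⟨ζ, -, ⟨iζ⟩⟩ := exists_iso_overMap (BasedFunctor.comp P (fpFst a f))
    have hl' : Lifts f (BasedFunctor.comp (AlgSt.overMap (ζ ≫ g₀)) x) :=
      ⟨BasedFunctor.comp P (fpSnd a f),
        ⟨bWhiskerLeftIso P (fpIso a f).symm ≪≫ bWhiskerRightIso iζ a ≪≫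
          bWhiskerLeftIso (AlgSt.overMap ζ) ia ≪≫ bWhiskerRightIso (overMapComp ζ g₀) x⟩⟩
    obtain ⟨k, ψ, hψ⟩ := hcov p₀.K p₀.str (ζ ≫ g₀) hl'
    have hψ' : ζ.left ≫ g₀.left = ψ ≫ (j k).left := hψ.symm
    let ζk : Over.mk p₀.str ⟶ Zk k := Over.homMk (pullback.lift ζ.left ψ hψ') (by
      change pullback.lift _ _ _ ≫ pullback.fst _ _ ≫ Z.hom = p₀.str
      rw [pullback.lift_fst_assoc]
      exact Over.w ζ)
    have hζk : ζk ≫ pr₁ k = ζ := by
      apply Over.OverMorphism.ext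
      exact pullback.lift_fst _ _ _
    refine ⟨k, ?_⟩
    let b₀ : AlgSt.FPt (FibCat.overCat (Over.mk p₀.str)) :=
      { K := p₀.K, str := p₀.str, obj := Over.mk (𝟙 (Over.mk p₀.str)), lies := rfl }
    have h1 : AlgSt.Points.map (BasedFunctor.comp (AlgSt.overMap ζk) (c k)) (AlgSt.Points.mk b₀) =
        AlgSt.Points.mk p₀ := by
      rw [← hP]
      let o₁ : (fp a f).obj := (BasedFunctor.comp (AlgSt.overMap ζk) (c k)).obj b₀.obj
      let o₂ : (fp a f).obj := P.obj b₀.obj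
      let m₀ : (AlgSt.overMap ζ).obj b₀.obj ⟶ (fpFst a f).obj o₁ :=
        Over.homMk (𝟙 _) (by
          change 𝟙 _ ≫ ((𝟙 (Over.mk p₀.str) ≫ ζk) ≫ pr₁ k) = 𝟙 (Over.mk p₀.str) ≫ ζ
          rw [Category.id_comp, Category.assoc, hζk])
      let e : (fpFst a f).obj o₂ ⟶ (fpFst a f).obj o₁ := iζ.hom.toNatTrans.app b₀.obj ≫ m₀
      obtain ⟨m, -⟩ := (fpFst a f).toFunctor.map_surjective e
      exact AlgSt.Points.sound ⟨b₀.map P, m, 𝟙 _, trivial⟩
    obtain ⟨t, ht⟩ := (chartPt_bijective (Zk k)).2 (AlgSt.Points.map (AlgSt.overMap ζk) (AlgSt.Points.mk b₀))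
    refine ⟨t, ?_⟩
    rw [ofChart_eq, ht, ← points_map_comp, h1]
  refine ⟨?_⟩
  have hU : (Set.univ : Set (AlgSt.Points (fp a f))) = ⋃ k, Set.range (AlgSt.Points.ofChart (c k)) := by
    ext p
    simp only [Set.mem_univ, Set.mem_iUnion, true_iff]
    exact hcover p
  rw [hU]
  exact isCompact_iUnion (fun k => by
    have := hZk k
    exact isCompact_range (continuous_ofChart hfib hfp.atlas (c k)))

end Groth.Agent.Lib.Helper65.MonoQC
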