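import Groth.Agent.Lib.Helper65.MonoQC1
import Mathlib.RingTheory.Noetherian.Basic
import Mathlib.RingTheory.Localization.Away.Basic
import Mathlib.AlgebraicGeometry.ResidueField

/-!
# Helper65: Noetherian induction — a finite stratification over which a monomorphism with generic liftings lifts
-/

set_option autoImplicit false
set_option backward.isDefEq.respectTransparency false
set_option backward.isDefEq.respectTransparency.types false

universe u

open CategoryTheory CategoryTheory.Functor CategoryTheory.Limits Opposite AlgebraicGeometry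

namespace Groth.Agent.Lib.Helper65.MonoQC

open FibCat Groth.Agent.Lib.Helper31 Groth.Agent.Lib.Helper65

variable {S : Scheme.{u}} {𝒳 𝒴 : AlgSt.Cat S}

/-- The generic lifting hypothesis: a chart from the spectrum of a domain which lifts at the points of a dense
subset lifts over a nonempty open subscheme. -/
def GenLift (f : 𝒴 ⥤ᵇ 𝒳) : Prop :=
  ∀ (A : Type u) [CommRing A] [IsDomain A] (sA : Spec (CommRingCat.of A) ⟶ S)
    (a : FibCat.overCat (Over.mk sA) ⥤ᵇ 𝒳) (D : Set ↥(Spec (CommRingCat.of A))), Dense D →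
    (∀ p ∈ D, Lifts f (BasedFunctor.comp (AlgSt.overMap
      (Over.homMk ((Spec (CommRingCat.of A)).fromSpecResidueField p) rfl :
        Over.mk (((Spec (CommRingCat.of A)).fromSpecResidueField p) ≫ sA) ⟶ Over.mk sA)) a)) →
    ∃ U : (Spec (CommRingCat.of A)).Opens, (U : Set ↥(Spec (CommRingCat.of A))).Nonempty ∧
      Lifts f (BasedFunctor.comp (AlgSt.overMap
        (Over.homMk (U.ι) rfl : Over.mk ((U.ι) ≫ sA) ⟶ Over.mk sA)) a)

section Good

variable (f : 𝒴 ⥤ᵇ 𝒳) (R : CommRingCat.{u}) (sR : Spec R ⟶ S) (x : FibCat.overCat (Over.mk sR) ⥤ᵇ 𝒳)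

/-- Every field point of `V(I)` at which `x` lifts factors through one of the pieces. -/
def Cov (I : Ideal R) {ι : Type} (W : ι → Over S) (j : ∀ k, W k ⟶ Over.mk sR) : Prop :=
  ∀ (L : Type u) [Field L] (str : Spec (CommRingCat.of L) ⟶ S) (t : Over.mk str ⟶ Over.mk sR),
    I ≤ RingHom.ker (Spec.preimage t.left).hom → Lifts f (BasedFunctor.comp (AlgSt.overMap t) x) →
      ∃ k, ∃ ψ : Spec (CommRingCat.of L) ⟶ (W k).left, ψ ≫ (j k).left = t.left

/-- A finite family of quasi-compact pieces with liftings covering the liftable field points of `V(I)`. -/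
def Good (I : Ideal R) : Prop :=
  ∃ (ι : Type) (_ : Finite ι) (W : ι → Over S) (j : ∀ k, W k ⟶ Over.mk sR),
    (∀ k, QuasiCompact (j k).left) ∧ (∀ k, Lifts f (BasedFunctor.comp (AlgSt.overMap (j k)) x)) ∧
      Cov f R sR x I W j

theorem good_top : Good f R sR x ⊤ := by
  refine ⟨Empty, inferInstance, fun k => k.elim, fun k => k.elim, fun k => k.elim, fun k => k.elim, ?_⟩
  intro L _ str t hI _
  exfalso
  have h1 : (1 : R) ∈ RingHom.ker (Spec.preimage t.left).hom := hI Submodule.mem_top
  rw [RingHom.mem_ker, map_one] at h1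
  exact one_ne_zero h1

theorem good_of_mul (I : Ideal R) (a b : R) (hab : a * b ∈ I)
    (h₁ : Good f R sR x (I ⊔ Ideal.span {a})) (h₂ : Good f R sR x (I ⊔ Ideal.span {b})) :
    Good f R sR x I := by
  obtain ⟨ι₁, _, W₁, j₁, hq₁, hl₁, hc₁⟩ := h₁
  obtain ⟨ι₂, _, W₂, j₂, hq₂, hl₂, hc₂⟩ := h₂
  refine ⟨ι₁ ⊕ ι₂, inferInstance, Sum.elim W₁ W₂,
    fun k => Sum.rec (motive := fun k => Sum.elim W₁ W₂ k ⟶ Over.mk sR) j₁ j₂ k, ?_, ?_, ?_⟩
  · rintro (k | k)
    · exact hq₁ k
    · exact hq₂ k
  · rintro (k | k)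
    · exact hl₁ k
    · exact hl₂ k
  · intro L _ str t hI hl
    have h0 : (Spec.preimage t.left).hom a * (Spec.preimage t.left).hom b = 0 := by
      rw [← map_mul]
      exact hI hab
    rcases mul_eq_zero.1 h0 with h | h
    · obtain ⟨k, ψ, hψ⟩ := hc₁ L str t
        (sup_le hI ((Ideal.span_singleton_le_iff_mem _).2 h)) hl
      exact ⟨Sum.inl k, ψ, hψ⟩
    · obtain ⟨k, ψ, hψ⟩ := hc₂ L str t
        (sup_le hI ((Ideal.span_singleton_le_iff_mem _).2 h)) hl
      exact ⟨Sum.inr k, ψ, hψ⟩

theorem lt_sup_span {I : Ideal R} {a : R} (ha : a ∉ I) : I < I ⊔ Ideal.span {a} :=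
  lt_of_le_of_ne le_sup_left (fun h => ha (by
    rw [h]
    exact Ideal.mem_sup_right (Ideal.subset_span rfl)))

end Good

section Prime

variable (f : 𝒴 ⥤ᵇ 𝒳) (R : CommRingCat.{u}) (sR : Spec R ⟶ S) (x : FibCat.overCat (Over.mk sR) ⥤ᵇ 𝒳)

/-- Factorisation of a field point of `V(I)` through `Spec (R/I)`. -/
theorem spec_map_quotient_lift (I : Ideal R) {L : Type u} [Field L]
    (g : Spec (CommRingCat.of L) ⟶ Spec R) (hI : I ≤ RingHom.ker (Spec.preimage g).hom) :
    Spec.map (CommRingCat.ofHom (Ideal.Quotient.lift I (Spec.preimage g).hom (fun r hr => hI hr))) ≫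
      Spec.map (CommRingCat.ofHom (Ideal.Quotient.mk I)) = g := by
  rw [← Spec.map_comp]
  have h : CommRingCat.ofHom (Ideal.Quotient.mk I) ≫
      CommRingCat.ofHom (Ideal.Quotient.lift I (Spec.preimage g).hom (fun r hr => hI hr)) =
      Spec.preimage g := by
    ext r
    exact Ideal.Quotient.lift_mk I (Spec.preimage g).hom (fun r hr => hI hr)
  rw [h, Spec.map_preimage]

theorem good_of_prime (hf : AlgSt.IsMono f) (hc : GenLift f) (I : Ideal R) [hI : I.IsPrime]
    (ih : ∀ J, I < J → Good f R sR x J) : Good f R sR x I := by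
  classical
  let A := ↑R ⧸ I
  let q : ↑R →+* A := Ideal.Quotient.mk I
  let sA : Spec (CommRingCat.of A) ⟶ S := Spec.map (CommRingCat.ofHom q) ≫ sR
  let bcA : Over.mk sA ⟶ Over.mk sR := Over.homMk (Spec.map (CommRingCat.ofHom q)) rfl
  let a : FibCat.overCat (Over.mk sA) ⥤ᵇ 𝒳 := BasedFunctor.comp (AlgSt.overMap bcA) x
  let D : Set ↥(Spec (CommRingCat.of A)) := {p | Lifts f (BasedFunctor.comp (AlgSt.overMap
      (Over.homMk ((Spec (CommRingCat.of A)).fromSpecResidueField p) rfl :
        Over.mk (((Spec (CommRingCat.of A)).fromSpecResidueField p) ≫ sA) ⟶ Over.mk sA)) a)}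
  by_cases hD : Dense D
  · obtain ⟨U, ⟨u, hu⟩, hlU⟩ := hc A sA a D hD (fun p hp => hp)
    obtain ⟨_, ⟨ā, rfl⟩, huā, hāU⟩ :=
      (PrimeSpectrum.isTopologicalBasis_basic_opens (R := A)).exists_subset_of_mem_open hu U.2
    obtain ⟨a₀, rfl⟩ := Ideal.Quotient.mk_surjective ā
    have ha₀ : a₀ ∉ I := by
      intro h
      apply huā
      have : q a₀ = 0 := Ideal.Quotient.eq_zero_iff_mem.2 h
      change q a₀ ∈ u.asIdeal
      rw [this]
      exact u.asIdeal.zero_mem
    obtain ⟨ι', _, W', j', hq', hl', hc'⟩ := ih _ (lt_sup_span R ha₀)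
    let B := Localization.Away (q a₀)
    let β : Spec (CommRingCat.of B) ⟶ Spec (CommRingCat.of A) :=
      Spec.map (CommRingCat.ofHom (algebraMap A B))
    have hβrange : Set.range β.base ⊆ Set.range U.ι.base := by
      rw [Scheme.Opens.range_ι]
      rintro _ ⟨z, rfl⟩
      apply hāU
      have h1 : β.base z ∈ Set.range (PrimeSpectrum.comap (algebraMap A B)) := ⟨z, rfl⟩
      rw [PrimeSpectrum.localization_away_comap_range B (q a₀)] at h1
      exact h1
    let lam₀ : Spec (CommRingCat.of B) ⟶ ↑U := IsOpenImmersion.lift U.ι β hβrange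
    have hlam₀ : lam₀ ≫ U.ι = β := IsOpenImmersion.lift_fac _ _ _
    let Wn : Over S := Over.mk (β ≫ sA)
    let lam : Wn ⟶ Over.mk (U.ι ≫ sA) := Over.homMk lam₀ (by
      change lam₀ ≫ U.ι ≫ sA = β ≫ sA
      rw [← Category.assoc, hlam₀])
    let jn : Wn ⟶ Over.mk sR := (Over.homMk β rfl : Wn ⟶ Over.mk sA) ≫ bcA
    have hjn : (lam ≫ (Over.homMk U.ι rfl : Over.mk (U.ι ≫ sA) ⟶ Over.mk sA)) ≫ bcA = jn := by
      apply Over.OverMorphism.ext
      change (lam₀ ≫ U.ι) ≫ Spec.map _ = β ≫ Spec.map _
      rw [hlam₀]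
    have hln : Lifts f (BasedFunctor.comp (AlgSt.overMap jn) x) := by
      have h1 : Lifts f (BasedFunctor.comp (AlgSt.overMap
          (lam ≫ (Over.homMk U.ι rfl : Over.mk (U.ι ≫ sA) ⟶ Over.mk sA))) a) :=
        Lifts.of_comp _ lam hlU
      exact lifts_congr_hom hjn ((lifts_comp_overMap_iff bcA _).1 h1)
    have hqn : QuasiCompact jn.left := by
      change QuasiCompact (β ≫ Spec.map (CommRingCat.ofHom q))
      infer_instance
    refine ⟨Option ι', inferInstance, fun o => o.elim Wn W',
      fun o => Option.rec (motive := fun o => (o.elim Wn W') ⟶ Over.mk sR) jn j' o, ?_, ?_, ?_⟩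
    · rintro (_ | k)
      · exact hqn
      · exact hq' k
    · rintro (_ | k)
      · exact hln
      · exact hl' k
    · intro L _ str t hIt hl
      by_cases h0 : (Spec.preimage t.left).hom a₀ = 0
      · obtain ⟨k, ψ, hψ⟩ := hc' L str t
          (sup_le hIt ((Ideal.span_singleton_le_iff_mem _).2 h0)) hl
        exact ⟨some k, ψ, hψ⟩
      · let φb : A →+* L := Ideal.Quotient.lift I (Spec.preimage t.left).hom (fun r hr => hIt hr)
        have hu : IsUnit (φb (q a₀)) := by
          change IsUnit (Ideal.Quotient.lift I _ _ (Ideal.Quotient.mk I a₀))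
          rw [Ideal.Quotient.lift_mk]
          exact IsUnit.mk0 _ h0
        let φt : B →+* L := IsLocalization.Away.lift (q a₀) hu
        have hφt : φt.comp (algebraMap A B) = φb := IsLocalization.Away.lift_comp _ hu
        refine ⟨none, Spec.map (CommRingCat.ofHom φt), ?_⟩
        change Spec.map (CommRingCat.ofHom φt) ≫ β ≫ Spec.map (CommRingCat.ofHom q) = t.left
        rw [← spec_map_quotient_lift R I t.left hIt, ← Category.assoc]
        congr 1
        change Spec.map (CommRingCat.ofHom φt) ≫ Spec.map (CommRingCat.ofHom (algebraMap A B)) = _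
        rw [← Spec.map_comp, ← CommRingCat.ofHom_comp, hφt]
  · rw [dense_iff_inter_open] at hD
    push Not at hD
    obtain ⟨U, hUo, ⟨u, hu⟩, hUD⟩ := hD
    obtain ⟨_, ⟨ā, rfl⟩, huā, hāU⟩ :=
      (PrimeSpectrum.isTopologicalBasis_basic_opens (R := A)).exists_subset_of_mem_open hu hUo
    obtain ⟨a₀, rfl⟩ := Ideal.Quotient.mk_surjective ā
    have ha₀ : a₀ ∉ I := by
      intro h
      apply huā
      have : q a₀ = 0 := Ideal.Quotient.eq_zero_iff_mem.2 h
      change q a₀ ∈ u.asIdeal
      rw [this]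
      exact u.asIdeal.zero_mem
    obtain ⟨ι', hfin, W', j', hq', hl', hc'⟩ := ih _ (lt_sup_span R ha₀)
    refine ⟨ι', hfin, W', j', hq', hl', ?_⟩
    intro L _ str t hIt hl
    by_cases h0 : (Spec.preimage t.left).hom a₀ = 0
    · exact hc' L str t (sup_le hIt ((Ideal.span_singleton_le_iff_mem _).2 h0)) hl
    · exfalso
      let φb : A →+* L := Ideal.Quotient.lift I (Spec.preimage t.left).hom (fun r hr => hIt hr)
      have hφb : φb (q a₀) ≠ 0 := by
        change Ideal.Quotient.lift I _ _ (Ideal.Quotient.mk I a₀) ≠ 0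
        rw [Ideal.Quotient.lift_mk]
        exact h0
      let tb : Spec (CommRingCat.of L) ⟶ Spec (CommRingCat.of A) := Spec.map (CommRingCat.ofHom φb)
      have htb : tb ≫ Spec.map (CommRingCat.ofHom q) = t.left := spec_map_quotient_lift R I t.left hIt
      obtain ⟨⟨pt, m⟩, hpm⟩ : ∃ z, z = Scheme.SpecToEquivOfField L (Spec (CommRingCat.of A)) tb :=
        ⟨_, rfl⟩
      have hfac : Spec.map m ≫ (Spec (CommRingCat.of A)).fromSpecResidueField pt = tb := by
        have h := (Scheme.SpecToEquivOfField L (Spec (CommRingCat.of A))).symm_apply_apply tb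
        rw [← hpm] at h
        exact h
      have hpt : pt = tb.base (IsLocalRing.closedPoint L) := by
        have h := congrArg Sigma.fst hpm
        exact h
      suffices hmem : pt ∈ U ∩ D by
        rw [hUD] at hmem
        exact hmem
      refine ⟨hāU ?_, ?_⟩
      · change q a₀ ∉ pt.asIdeal
        rw [hpt]
        change ¬ (φb (q a₀) ∈ (IsLocalRing.closedPoint L).asIdeal)
        intro h
        apply hφb
        have h2 : (IsLocalRing.closedPoint L).asIdeal = ⊥ := IsLocalRing.maximalIdeal_eq_bot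
        rw [h2] at h
        exact h
      · change Lifts f (BasedFunctor.comp (AlgSt.overMap
          (Over.homMk ((Spec (CommRingCat.of A)).fromSpecResidueField pt) rfl :
            Over.mk (((Spec (CommRingCat.of A)).fromSpecResidueField pt) ≫ sA) ⟶ Over.mk sA)) a)
        let m' : Over.mk str ⟶ Over.mk ((Spec (CommRingCat.of A)).fromSpecResidueField pt ≫ sA) :=
          Over.homMk (Spec.map m) (by
            change Spec.map m ≫ (Spec (CommRingCat.of A)).fromSpecResidueField pt ≫
              Spec.map (CommRingCat.ofHom q) ≫ sR = str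
            rw [← Category.assoc, hfac, ← Category.assoc, htb]
            exact Over.w t)
        have e : (m' ≫ (Over.homMk ((Spec (CommRingCat.of A)).fromSpecResidueField pt) rfl :
            Over.mk (((Spec (CommRingCat.of A)).fromSpecResidueField pt) ≫ sA) ⟶ Over.mk sA)) ≫ bcA = t := by
          apply Over.OverMorphism.ext
          change (Spec.map m ≫ (Spec (CommRingCat.of A)).fromSpecResidueField pt) ≫
            Spec.map (CommRingCat.ofHom q) = t.left
          rw [hfac, htb]
        have h1 : Lifts f (BasedFunctor.comp (AlgSt.overMap (m' ≫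
            (Over.homMk ((Spec (CommRingCat.of A)).fromSpecResidueField pt) rfl :
            Over.mk (((Spec (CommRingCat.of A)).fromSpecResidueField pt) ≫ sA) ⟶ Over.mk sA))) a) :=
          (lifts_comp_overMap_iff bcA _).2 (lifts_congr_hom e.symm hl)
        exact lifts_of_lifts_over_field f hf _ _ m' (IsLocalRing.closedPoint L)
          ((lifts_comp_overMap_iff _ m').2 h1)

/-- **Noetherian induction**: over a Noetherian ring every ideal is good. -/
theorem good_all (hf : AlgSt.IsMono f) (hc : GenLift f) [IsNoetherianRing R] (I : Ideal R) :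
    Good f R sR x I := by
  refine IsNoetherian.induction (P := Good f R sR x) (fun (I : Ideal ↑R) ih => ?_) I
  by_cases hp : I.IsPrime
  · exact good_of_prime f R sR x hf hc I ih
  · rcases Ideal.not_isPrime_iff.1 hp with rfl | ⟨a, ha, b, hb, hab⟩
    · exact good_top f R sR x
    · exact good_of_mul f R sR x I a b hab (ih _ (lt_sup_span R ha)) (ih _ (lt_sup_span R hb))

end Prime

end Groth.Agent.Lib.Helper65.MonoQC
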