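import Groth.Agent.Lib.Helper65.MonoQC2
import Groth.Agent.Lib.Helper65.MonoQC3
import Groth.Agent.Lib.Helper65.StSurj
import Groth.Agent.Lib.Helper66.AlgStQC4
import Groth.Agent.Lib.Helper66.AlgStQC2
import Mathlib.AlgebraicGeometry.Noetherian
import Groth.Agent.Lib.Helper65.SubStImage
import Groth.Agent.Lib.Helper65.SpaceDM

/-!
# Helper65: a monomorphism into a locally Noetherian algebraic stack with generic liftings is quasi-compact
-/

set_option autoImplicit false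
set_option backward.isDefEq.respectTransparency false
set_option backward.isDefEq.respectTransparency.types false

universe v u

open CategoryTheory CategoryTheory.Functor CategoryTheory.Limits Opposite AlgebraicGeometry

namespace Groth.Agent.Lib.Helper65.MonoQC

open FibCat Groth.Agent.Lib.Helper31 Groth.Agent.Lib.Helper65
open Groth.Agent.Lib.Helper66.AlgStLocQSq (overMapComp)

variable {S : Scheme.{u}} {𝒳 𝒴 : AlgSt.Cat S}

/-- Compactness of the space of points is invariant under equivalences. -/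
theorem compactSpace_points_of_equivOver {𝒜 ℬ : AlgSt.Cat S} (E : 𝒜 ⥤ᵇ ℬ) (hE : IsEquivOver E)
    (hℬ : AlgSt.IsAlgStack Scheme.fppfPrecoverage ℬ) [CompactSpace (AlgSt.Points 𝒜)] :
    CompactSpace (AlgSt.Points ℬ) := by
  have hc := continuous_points_map hℬ.isStack.1 hℬ.atlas E
  have hs : Function.Surjective (AlgSt.Points.map E) := (points_map_bijective_of_isEquivOver E hE).2
  refine ⟨?_⟩
  rw [← Set.range_eq_univ.2 hs]
  exact isCompact_range hc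

/-- **Covering lemma**: the points of `𝒵 ×_𝒳 𝒴` are quasi-compact as soon as finitely many `𝒲 i ⟶ 𝒵`,
jointly surjective on points, have quasi-compact `𝒲 i ×_𝒳 𝒴`. -/
theorem compactSpace_points_fp_of_cover
    (h𝒳 : AlgSt.IsAlgStack Scheme.fppfPrecoverage 𝒳) (h𝒴 : AlgSt.IsAlgStack Scheme.fppfPrecoverage 𝒴)
    (f : 𝒴 ⥤ᵇ 𝒳) {𝒵 : AlgSt.Cat S} (h𝒵 : AlgSt.IsAlgStack Scheme.fppfPrecoverage 𝒵) (g : 𝒵 ⥤ᵇ 𝒳)
    {ι : Type v} [Finite ι] (𝒲 : ι → AlgSt.Cat S)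
    (h𝒲 : ∀ i, AlgSt.IsAlgStack Scheme.fppfPrecoverage (𝒲 i)) (w : ∀ i, 𝒲 i ⥤ᵇ 𝒵)
    (hcov : ∀ z : AlgSt.Points 𝒵, ∃ i, z ∈ Set.range (AlgSt.Points.map (w i)))
    (hcomp : ∀ i, CompactSpace (AlgSt.Points (fp (BasedFunctor.comp (w i) g) f))) :
    CompactSpace (AlgSt.Points (fp g f)) := by
  have hℱ : AlgSt.IsAlgStack Scheme.fppfPrecoverage (fp g f) :=
    Groth.Agent.S12763.result h𝒳.isStack h𝒳.diag h𝒵 h𝒴 g f
  have h𝒬 : ∀ i, AlgSt.IsAlgStack Scheme.fppfPrecoverage (fp (w i) (fpFst g f)) := fun i =>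
    Groth.Agent.S12763.result h𝒵.isStack h𝒵.diag (h𝒲 i) hℱ (w i) (fpFst g f)
  have hQc : ∀ i, CompactSpace (AlgSt.Points (fp (w i) (fpFst g f))) := fun i => by
    obtain ⟨Ψ, hΨ, -, -⟩ := exists_inverse_equivOver (fpPasteFst (w i) g f)
      (fpPasteFst_isEquivOver (w i) g f)
    have := hcomp i
    exact compactSpace_points_of_equivOver Ψ hΨ (h𝒬 i)
  refine ⟨?_⟩
  have hU : (Set.univ : Set (AlgSt.Points (fp g f))) =
      ⋃ i, Set.range (AlgSt.Points.map (fpSnd (w i) (fpFst g f))) := by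
    ext p
    simp only [Set.mem_univ, Set.mem_iUnion, true_iff]
    obtain ⟨i, z, hz⟩ := hcov (AlgSt.Points.map (fpFst g f) p)
    obtain ⟨ω, -, hω⟩ := exists_points_fp hℱ.isStack.1 h𝒵.isStack.1 (h𝒲 i).isStack.1 (fpFst g f) (w i)
      z p hz
    exact ⟨i, ω, hω⟩
  rw [hU]
  exact isCompact_iUnion (fun i => by
    have := hQc i
    exact isCompact_range (continuous_points_map hℱ.isStack.1 hℱ.atlas (fpSnd (w i) (fpFst g f))))

/-- Over a Noetherian affine chart, base changes of `f` to quasi-compact schemes have quasi-compact points. -/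
theorem compactSpace_points_fp_of_noeth
    (h𝒳 : AlgSt.IsAlgStack Scheme.fppfPrecoverage 𝒳) (h𝒴 : AlgSt.IsAlgStack Scheme.fppfPrecoverage 𝒴)
    (f : 𝒴 ⥤ᵇ 𝒳) (hf : AlgSt.IsMono f) (hc : GenLift f)
    (R : CommRingCat.{u}) [IsNoetherianRing R] (sR : Spec R ⟶ S)
    (x : FibCat.overCat (Over.mk sR) ⥤ᵇ 𝒳)
    (Z : Over S) [CompactSpace ↥Z.left] (g₀ : Z ⟶ Over.mk sR) (a : FibCat.overCat Z ⥤ᵇ 𝒳)
    (ia : a ≅ BasedFunctor.comp (AlgSt.overMap g₀) x) :
    CompactSpace (AlgSt.Points (fp a f)) := by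
  obtain ⟨ι, _, W, j, hq, hl, hcov⟩ := good_all f R sR x hf hc ⊥
  exact compactSpace_points_fp_of_family h𝒳 h𝒴 f hf x W j hq hl
    (fun L _ str t hlt => hcov L str t bot_le hlt) Z g₀ a ia

/-- Base changes of `f` to quasi-compact schemes have quasi-compact spaces of points. -/
theorem compactSpace_points_fp_of_compact
    (h𝒳 : AlgSt.IsAlgStack Scheme.fppfPrecoverage 𝒳) (h𝒴 : AlgSt.IsAlgStack Scheme.fppfPrecoverage 𝒴)
    (hnoeth : AlgSt.SmoothLocally (fun X => IsLocallyNoetherian X) 𝒳)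
    (f : 𝒴 ⥤ᵇ 𝒳) (hf : AlgSt.IsMono f) (hc : GenLift f)
    (Z : Over S) [CompactSpace ↥Z.left] (y : FibCat.overCat Z ⥤ᵇ 𝒳) :
    CompactSpace (AlgSt.Points (fp y f)) := by
  classical
  obtain ⟨X₀, x₀, hx1, hx2⟩ := h𝒳.atlas
  have hX₀ : IsLocallyNoetherian X₀.left := hnoeth X₀ x₀ hx1
  have hZ := isAlgStack_overCat Z
  have hX := isAlgStack_overCat X₀
  have hyx : AlgSt.IsAlgStack Scheme.fppfPrecoverage (fp y x₀) :=
    Groth.Agent.S12763.result h𝒳.isStack h𝒳.diag hZ hX y x₀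
  obtain ⟨V, v, hv1, hv2⟩ := hyx.atlas
  let c : FibCat.overCat V ⥤ᵇ FibCat.overCat Z := BasedFunctor.comp v (fpFst y x₀)
  have hc1 : AlgSt.RepByAlgSpWith (AlgSp.LocP @Smooth) c :=
    repByAlgSpWith_comp _ stableBC_locP_smooth stableComp_locP_smooth isLocalOnBase_fppf_locP_smooth
      (isFibGrpd_overForget V) hyx.isStack.1 v (fpFst y x₀) hv1 (repByAlgSpWith_fpFst _ x₀ y hx1)
  have hc2 : AlgSt.RepByAlgSpWith AlgSp.IsSurjectiveMor c :=
    repByAlgSpWith_comp _ stableBC_isSurjectiveMor stableComp_isSurjectiveMor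
      isLocalOnBase_fppf_isSurjectiveMor
      (isFibGrpd_overForget V) hyx.isStack.1 v (fpFst y x₀) hv2 (repByAlgSpWith_fpFst _ x₀ y hx2)
  obtain ⟨k₀, -, ⟨ik⟩⟩ := exists_iso_overMap (BasedFunctor.comp v (fpSnd y x₀))
  have hcomp : CompactSpace (AlgSt.Points (FibCat.overCat Z)) :=
    compactSpace_points_of_isQuasiCompact (isFibGrpd_overForget Z) hZ.atlas
      (Groth.Agent.Lib.Helper66.AlgStQC4.isQuasiCompact_overCat Z)
  have hopen := isOpenMap_ofChart_smooth (isFibGrpd_overForget Z) c hc1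
  have hsurj := ofChart_surjective (isFibGrpd_overForget Z) c hc2
  let Idx := {p : X₀.left.affineOpens × V.left.affineOpens //
    ((p.2 : V.left.Opens) : Set ↥V.left) ⊆ k₀.left.base ⁻¹' ((p.1 : X₀.left.Opens) : Set ↥X₀.left)}
  obtain ⟨t, ht⟩ := isCompact_univ.elim_finite_subcover
    (fun i : Idx => AlgSt.Points.ofChart c '' ((i.1.2 : V.left.Opens) : Set ↥V.left))
    (fun i => hopen _ i.1.2.1.2) (by
      intro z _
      obtain ⟨v₁, rfl⟩ := hsurj z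
      obtain ⟨O, hO, hvO, -⟩ :=
        TopologicalSpace.Opens.isBasis_iff_nbhd.1 X₀.left.isBasis_affineOpens (U := ⊤)
          (x := k₀.left.base v₁) trivial
      obtain ⟨A, hA, hvA, hAO⟩ :=
        TopologicalSpace.Opens.isBasis_iff_nbhd.1 V.left.isBasis_affineOpens (U := k₀.left ⁻¹ᵁ O)
          (x := v₁) hvO
      exact Set.mem_iUnion.2 ⟨⟨(⟨O, hO⟩, ⟨A, hA⟩), hAO⟩, v₁, hvA, rfl⟩)
  -- the pieces
  let VA : Idx → Over S := fun i => Over.mk ((i.1.2 : V.left.Opens).ι ≫ V.hom)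
  let ιA : ∀ i : Idx, VA i ⟶ V := fun i => Over.homMk (i.1.2 : V.left.Opens).ι rfl
  let wA : ∀ i : Idx, FibCat.overCat (VA i) ⥤ᵇ FibCat.overCat Z := fun i =>
    BasedFunctor.comp (AlgSt.overMap (ιA i)) c
  refine compactSpace_points_fp_of_cover h𝒳 h𝒴 f hZ y (ι := ↥t) (fun i => FibCat.overCat (VA i.1))
    (fun i => isAlgStack_overCat _) (fun i => wA i.1) ?_ ?_
  · intro z
    have hz := ht (Set.mem_univ z)
    simp only [Set.mem_iUnion] at hz
    obtain ⟨i, hit, v₁, hv₁, rfl⟩ := hz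
    refine ⟨⟨i, hit⟩, chartPt (VA i) ⟨v₁, hv₁⟩, ?_⟩
    change AlgSt.Points.map (BasedFunctor.comp (AlgSt.overMap (ιA i)) c) _ = _
    rw [points_map_comp, points_map_overMap_chartPt, ofChart_eq]
    rfl
  · intro i
    obtain ⟨⟨⟨⟨O, hO⟩, ⟨A, hA⟩⟩, hAO⟩, hit⟩ := i
    have : IsNoetherianRing Γ(X₀.left, O) := hX₀.component_noetherian ⟨O, hO⟩
    have : IsAffine (A : Scheme.{u}) := hA
    let i₀ : Idx := ⟨(⟨O, hO⟩, ⟨A, hA⟩), hAO⟩
    let sR : Spec Γ(X₀.left, O) ⟶ S := hO.fromSpec ≫ X₀.hom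
    let fs : Over.mk sR ⟶ X₀ := Over.homMk hO.fromSpec rfl
    have hrange : Set.range (A.ι ≫ k₀.left).base ⊆ Set.range hO.fromSpec.base := by
      rw [hO.range_fromSpec]
      rintro _ ⟨a, rfl⟩
      exact hAO a.2
    let g₀ : (A : Scheme.{u}) ⟶ Spec Γ(X₀.left, O) := IsOpenImmersion.lift hO.fromSpec (A.ι ≫ k₀.left) hrange
    have hg₀ : g₀ ≫ hO.fromSpec = A.ι ≫ k₀.left := IsOpenImmersion.lift_fac _ _ _
    let gA : VA i₀ ⟶ Over.mk sR := Over.homMk g₀ (by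
      change g₀ ≫ hO.fromSpec ≫ X₀.hom = A.ι ≫ V.hom
      rw [← Category.assoc, hg₀, Category.assoc, Over.w k₀])
    have hgA : gA ≫ fs = ιA i₀ ≫ k₀ := by
      apply Over.OverMorphism.ext
      exact hg₀
    have : CompactSpace ↥(VA i₀).left := by
      change CompactSpace ↥(A : Scheme.{u})
      infer_instance
    let x : FibCat.overCat (Over.mk sR) ⥤ᵇ 𝒳 := BasedFunctor.comp (AlgSt.overMap fs) x₀
    have ia : BasedFunctor.comp (wA i₀) y ≅ BasedFunctor.comp (AlgSt.overMap gA) x :=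
      bWhiskerLeftIso (BasedFunctor.comp (AlgSt.overMap (ιA i₀)) v) (fpIso y x₀) ≪≫
        bWhiskerLeftIso (AlgSt.overMap (ιA i₀)) (bWhiskerRightIso ik x₀) ≪≫
        bWhiskerRightIso (overMapComp (ιA i₀) k₀) x₀ ≪≫ eqToIso (by rw [hgA]) ≪≫
        (bWhiskerRightIso (overMapComp gA fs) x₀).symm
    exact compactSpace_points_fp_of_noeth h𝒳 h𝒴 f hf hc Γ(X₀.left, O) sR x (VA i₀) gA _ ia

/-- **A monomorphism into a locally Noetherian algebraic stack with generic liftings is quasi-compact.** -/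
theorem isQuasiCompactMor_of_isMono_genLift
    (h𝒳 : AlgSt.IsAlgStack Scheme.fppfPrecoverage 𝒳) (h𝒴 : AlgSt.IsAlgStack Scheme.fppfPrecoverage 𝒴)
    (hnoeth : AlgSt.SmoothLocally (fun X => IsLocallyNoetherian X) 𝒳)
    (f : 𝒴 ⥤ᵇ 𝒳) (hf : AlgSt.IsMono f) (hc : GenLift f) :
    AlgSt.IsQuasiCompactMor Scheme.fppfPrecoverage f := by
  intro 𝒵 h𝒵 hqc g
  obtain ⟨Z, z₀, hZaff, -, hz2⟩ := hqc
  have : IsAffine Z.left := hZaff
  have hfp : AlgSt.IsAlgStack Scheme.fppfPrecoverage (fp g f) :=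
    Groth.Agent.S12763.result h𝒳.isStack h𝒳.diag h𝒵 h𝒴 g f
  have hA := compactSpace_points_fp_of_compact h𝒳 h𝒴 hnoeth f hf hc Z (BasedFunctor.comp z₀ g)
  have : CompactSpace (AlgSt.Points (fp g f)) :=
    compactSpace_points_fp_of_cover h𝒳 h𝒴 f h𝒵 g (ι := PUnit.{1}) (fun _ => FibCat.overCat Z)
      (fun _ => isAlgStack_overCat Z) (fun _ => z₀)
      (fun z => ⟨PUnit.unit,
        isSurjective_of_repByAlgSpWith (isFibGrpd_overForget Z) h𝒵.isStack.1 z₀ hz2 z⟩)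
      (fun _ => hA)
  exact isQuasiCompact_of_compactSpace hfp.isStack.1 hfp.atlas

theorem repByAlgSpWith_isQuasiCompactMor_of_isMono_genLift
    (h𝒳 : AlgSt.IsAlgStack Scheme.fppfPrecoverage 𝒳) (h𝒴 : AlgSt.IsAlgStack Scheme.fppfPrecoverage 𝒴)
    (hnoeth : AlgSt.SmoothLocally (fun X => IsLocallyNoetherian X) 𝒳)
    (f : 𝒴 ⥤ᵇ 𝒳) (hrep : AlgSt.RepByAlgSp1 f) (hf : AlgSt.IsMono f) (hc : GenLift f) :
    AlgSt.RepByAlgSpWith AlgSp.IsQuasiCompactMor f :=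
  Groth.Agent.Lib.Helper66.AlgStQC2.repByAlgSpWith_isQuasiCompactMor h𝒴.isStack.1 h𝒳.isStack.1 f hrep
    (isQuasiCompactMor_of_isMono_genLift h𝒳 h𝒴 hnoeth f hf hc)

end Groth.Agent.Lib.Helper65.MonoQC
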