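import Groth.Agent.Lib.Helper65.MonoProps
import Groth.Agent.S10531

/-!
# Helper65: open immersions of algebraic spaces: base change, composition, fppf locality
-/

set_option autoImplicit false
set_option backward.isDefEq.respectTransparency false
set_option backward.isDefEq.respectTransparency.types false

universe u

open CategoryTheory CategoryTheory.Functor CategoryTheory.Limits Opposite AlgebraicGeometry

namespace Groth.Agent.Lib.Helper65

open FibCat Groth.Agent.Lib.Helper31

variable {S : Scheme.{u}}

theorem stableBC_of_isStableUnderBaseChange (Q : MorphismProperty (AlgSp.Sp S)) [Q.IsStableUnderBaseChange] :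
    StableBC Q := by
  intro X₁ Y₁ X₂ Y₂ hX₁ hY₁ hX₂ hY₂ a b a' b' sq ha
  exact Q.of_isPullback sq ha

theorem stableComp_of_isStableUnderComposition (Q : MorphismProperty (AlgSp.Sp S))
    [Q.IsStableUnderComposition] : StableComp Q := by
  intro X Y Z hX hY hZ a b ha hb
  exact Q.comp_mem a b ha hb

theorem isLocalOnBase_fppf_repWith_isOpenImmersion :
    AlgSp.IsLocalOnBase AlgSp.IsFppfCover (AlgSp.RepWith (S := S) @IsOpenImmersion) :=
  isLocalOnBase_fppf_of_fpqc (Groth.Agent.S10531.result S)

end Groth.Agent.Lib.Helper65
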