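import Mathlib.CategoryTheory.IsConnected
import Mathlib.CategoryTheory.Functor.Const
import Mathlib.CategoryTheory.Limits.Shapes.IsTerminal

/-!
# Helper65: nonempty categories with weak binary products, or with a terminal object, are connected and
every functor from them to a category all of whose morphisms are invertible is isomorphic to a constant.
-/

set_option autoImplicit false

open CategoryTheory

namespace Groth.Agent.Lib.Helper65.WeakProd

universe v u v' u'

variable (J : Type u) [Category.{v} J]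

/-- weak binary products: spans through which every span factors -/
def HasWeakProd : Prop :=
  ∀ X₁ X₂ : J, ∃ (P : J) (p₁ : P ⟶ X₁) (p₂ : P ⟶ X₂), ∀ (Q : J) (q₁ : Q ⟶ X₁) (q₂ : Q ⟶ X₂),
    ∃ l : Q ⟶ P, l ≫ p₁ = q₁ ∧ l ≫ p₂ = q₂

variable {J}

theorem isConnected_of_weakProd [Nonempty J] (h : HasWeakProd J) : IsConnected J := by
  apply IsConnected.of_constant_of_preserves_morphisms
  intro α F hF X X'
  obtain ⟨P, p₁, p₂, -⟩ := h X X'
  rw [← hF p₁, hF p₂]

theorem exists_const_iso_of_weakProd [Nonempty J] (h : HasWeakProd J) {E : Type u'} [Category.{v'} E]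
    (hE : ∀ {x y : E} (m : x ⟶ y), IsIso m) (T : J ⥤ E) :
    ∃ g : E, Nonempty (T ≅ (Functor.const J).obj g) := by
  let X₀ : J := Classical.arbitrary J
  have hiso : ∀ {x y : E} (m : x ⟶ y), IsIso m := hE
  choose P p₁ p₂ hP using fun X => h X X₀
  let θ : ∀ X : J, T.obj X ⟶ T.obj X₀ := fun X =>
    @CategoryTheory.inv _ _ _ _ (T.map (p₁ X)) (hE _) ≫ T.map (p₂ X)
  have key : ∀ (X Q : J) (q₁ : Q ⟶ X) (q₂ : Q ⟶ X₀), T.map q₁ ≫ θ X = T.map q₂ := by
    intro X Q q₁ q₂
    obtain ⟨l, hl1, hl2⟩ := hP X Q q₁ q₂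
    have := hE (T.map (p₁ X))
    rw [← hl1, ← hl2, T.map_comp, T.map_comp, Category.assoc]
    simp [θ]
  have hnat : ∀ {X X' : J} (k : X ⟶ X'), T.map k ≫ θ X' = θ X := by
    intro X X' k
    have h1 := key X' (P X) (p₁ X ≫ k) (p₂ X)
    have h2 := key X (P X) (p₁ X) (p₂ X)
    have := hE (T.map (p₁ X))
    rw [← cancel_epi (T.map (p₁ X)), h2, ← Category.assoc, ← T.map_comp, h1]
  refine ⟨T.obj X₀, ⟨NatIso.ofComponents (fun X => @asIso _ _ _ _ (θ X) (hE _)) (fun {X X'} k => ?_)⟩⟩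
  change T.map k ≫ θ X' = θ X ≫ 𝟙 _
  rw [hnat k, Category.comp_id]

theorem isConnected_of_isTerminal {X₀ : J} (hX₀ : Limits.IsTerminal X₀) : IsConnected J := by
  haveI : Nonempty J := ⟨X₀⟩
  apply IsConnected.of_constant_of_preserves_morphisms
  intro α F hF X X'
  rw [hF (hX₀.from X), hF (hX₀.from X')]

theorem exists_const_iso_of_isTerminal {X₀ : J} (hX₀ : Limits.IsTerminal X₀) {E : Type u'}
    [Category.{v'} E] (hE : ∀ {x y : E} (m : x ⟶ y), IsIso m) (T : J ⥤ E) :
    ∃ g : E, Nonempty (T ≅ (Functor.const J).obj g) := by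
  refine ⟨T.obj X₀, ⟨NatIso.ofComponents (fun X => @asIso _ _ _ _ (T.map (hX₀.from X)) (hE _))
    (fun {X X'} k => ?_)⟩⟩
  change T.map k ≫ T.map (hX₀.from X') = T.map (hX₀.from X) ≫ 𝟙 _
  rw [Category.comp_id, ← T.map_comp]
  congr 1
  exact hX₀.hom_ext _ _

end Groth.Agent.Lib.Helper65.WeakProd
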