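import Mathlib.CategoryTheory.Sites.Sieves
import Mathlib.CategoryTheory.Sites.CoverPreserving
import Mathlib.CategoryTheory.Limits.Shapes.Pullback.IsPullback.Basic
import Mathlib.CategoryTheory.Comma.Over.Basic
import Mathlib.CategoryTheory.Comma.StructuredArrow.Basic
import Groth.Agent.Lib.Helper65.WeakProd

/-!
# Helper65: the comma categories of `C/U ⥤ D/uU` and of `R ⥤ u_* R` for a pullback preserving functor `u`
-/

set_option autoImplicit false

universe v₂ u₂ v u

open CategoryTheory CategoryTheory.Limits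

namespace Groth.Agent.Lib.Helper65.PushSieve

open Groth.Agent.Lib.Helper65.WeakProd

variable {C : Type u} [Category.{v} C] {D : Type u₂} [Category.{v₂} D] (u : C ⥤ D) {U : C}

section Over

theorem post_obj_hom (Y : Over U) : ((Over.post (X := U) u).obj Y).hom = u.map Y.hom := rfl

theorem post_map_left {Y Y' : Over U} (k : Y ⟶ Y') : ((Over.post (X := U) u).map k).left = u.map k.left := rfl

theorem hom_w (b : Over (u.obj U)) (X : StructuredArrow b (Over.post (X := U) u)) :
    (X.hom : b ⟶ (Over.post (X := U) u).obj X.right).left ≫ u.map X.right.hom = b.hom :=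
  Over.w (X.hom : b ⟶ (Over.post (X := U) u).obj X.right)

/-- the terminal object of the comma category `b ↓ (C/U ⥤ D/uU)`. -/
def termObj (b : Over (u.obj U)) : StructuredArrow b (Over.post (X := U) u) :=
  StructuredArrow.mk (Y := Over.mk (𝟙 U))
    (Over.homMk (U := b) (V := (Over.post (X := U) u).obj (Over.mk (𝟙 U))) b.hom (by
      show b.hom ≫ u.map (𝟙 U) = b.hom
      rw [u.map_id, Category.comp_id]))

/-- it is terminal -/
def termObjIsTerminal (b : Over (u.obj U)) : IsTerminal (termObj u b) :=
  IsTerminal.ofUniqueHom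
    (fun X => StructuredArrow.homMk
      (Over.homMk (U := X.right) (V := Over.mk (𝟙 U)) X.right.hom (Category.comp_id _)) (by
        apply Over.OverMorphism.ext
        exact hom_w u b X))
    (by
      intro X m
      apply StructuredArrow.ext
      apply Over.OverMorphism.ext
      have h := Over.w m.right
      have h2 : m.right.left ≫ 𝟙 U = X.right.hom := h
      exact (Category.comp_id _).symm.trans h2)

end Over

section Sieve

variable (R : Sieve U)

/-- the functor from a sieve to its pushforward. -/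
def φR : R.arrows.category ⥤ (R.functorPushforward u).arrows.category :=
  ObjectProperty.lift _ (ObjectProperty.ι _ ⋙ Over.post (X := U) u)
    (fun a => Sieve.image_mem_functorPushforward u R a.property)

variable {u R} {b : (R.functorPushforward u).arrows.category}

/-- the underlying arrow of the sieve -/
abbrev saF (X : StructuredArrow b (φR u R)) : X.right.obj.left ⟶ U := X.right.obj.hom

/-- the underlying morphism of `D` -/
def saH (X : StructuredArrow b (φR u R)) : b.obj.left ⟶ u.obj X.right.obj.left :=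
  ((X.hom : b ⟶ (φR u R).obj X.right).hom : b.obj ⟶ (Over.post (X := U) u).obj X.right.obj).left

theorem saH_fac (X : StructuredArrow b (φR u R)) : saH X ≫ u.map (saF X) = b.obj.hom :=
  Over.w ((X.hom : b ⟶ (φR u R).obj X.right).hom : b.obj ⟶ (Over.post (X := U) u).obj X.right.obj)

/-- constructor for objects of the comma category -/
def saMk (b : (R.functorPushforward u).arrows.category) {V : C} (f : V ⟶ U) (hf : R f)
    (h : b.obj.left ⟶ u.obj V) (hh : h ≫ u.map f = b.obj.hom) : StructuredArrow b (φR u R) :=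
  StructuredArrow.mk (Y := (⟨Over.mk f, hf⟩ : R.arrows.category))
    (ObjectProperty.homMk (Over.homMk (U := b.obj) (V := (Over.post (X := U) u).obj (Over.mk f)) h hh) :
      b ⟶ (φR u R).obj ⟨Over.mk f, hf⟩)

theorem saMk_H (b : (R.functorPushforward u).arrows.category) {V : C} (f : V ⟶ U) (hf : R f)
    (h : b.obj.left ⟶ u.obj V) (hh : h ≫ u.map f = b.obj.hom) : saH (saMk b f hf h hh) = h := rfl

/-- the underlying morphism of `C` of a morphism of the comma category -/
def saK {X Y : StructuredArrow b (φR u R)} (m : X ⟶ Y) : X.right.obj.left ⟶ Y.right.obj.left :=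
  m.right.hom.left

theorem saK_fac {X Y : StructuredArrow b (φR u R)} (m : X ⟶ Y) : saK m ≫ saF Y = saF X :=
  Over.w m.right.hom

theorem saK_fac' {X Y : StructuredArrow b (φR u R)} (m : X ⟶ Y) : saH X ≫ u.map (saK m) = saH Y := by
  have h : (X.hom : b ⟶ (φR u R).obj X.right) ≫ (φR u R).map m.right = Y.hom := StructuredArrow.w m
  have h2 := congrArg (fun t : b ⟶ (φR u R).obj Y.right =>
    (t.hom : b.obj ⟶ (Over.post (X := U) u).obj Y.right.obj).left) h
  exact h2

theorem sa_hom_ext {X Y : StructuredArrow b (φR u R)} {m m' : X ⟶ Y} (h : saK m = saK m') : m = m' := by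
  apply StructuredArrow.ext
  apply ObjectProperty.hom_ext
  apply Over.OverMorphism.ext
  exact h

/-- constructor for morphisms of the comma category -/
def saHomMk {X Y : StructuredArrow b (φR u R)} (k : X.right.obj.left ⟶ Y.right.obj.left)
    (hk : k ≫ saF Y = saF X) (hk' : saH X ≫ u.map k = saH Y) : X ⟶ Y :=
  StructuredArrow.homMk (ObjectProperty.homMk (Over.homMk k hk)) (by
    apply ObjectProperty.hom_ext
    apply Over.OverMorphism.ext
    exact hk')

theorem saHomMk_K {X Y : StructuredArrow b (φR u R)} (k : X.right.obj.left ⟶ Y.right.obj.left)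
    (hk : k ≫ saF Y = saF X) (hk' : saH X ≫ u.map k = saH Y) : saK (saHomMk k hk hk') = k := rfl

theorem nonempty_sa (b : (R.functorPushforward u).arrows.category) :
    Nonempty (StructuredArrow b (φR u R)) := by
  obtain ⟨Z, g, h, hg, hfac⟩ := b.property
  exact ⟨saMk b g hg h hfac.symm⟩

end Sieve

section WeakProd

variable {u} {R : Sieve U} [HasPullbacks C] [PreservesLimitsOfShape WalkingCospan u]

theorem saMk_F (b : (R.functorPushforward u).arrows.category) {V : C} (f : V ⟶ U) (hf : R f)
    (h : b.obj.left ⟶ u.obj V) (hh : h ≫ u.map f = b.obj.hom) : saF (saMk b f hf h hh) = f := rfl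

theorem hasWeakProd_sa (b : (R.functorPushforward u).arrows.category) :
    HasWeakProd (StructuredArrow b (φR u R)) := by
  intro X₁ X₂
  have hpb : IsPullback (u.map (pullback.fst (saF X₁) (saF X₂))) (u.map (pullback.snd (saF X₁) (saF X₂)))
      (u.map (saF X₁)) (u.map (saF X₂)) :=
    (IsPullback.of_hasPullback (saF X₁) (saF X₂)).map u
  have hcomm : saH X₁ ≫ u.map (saF X₁) = saH X₂ ≫ u.map (saF X₂) := (saH_fac X₁).trans (saH_fac X₂).symm
  have hl1 : hpb.lift (saH X₁) (saH X₂) hcomm ≫ u.map (pullback.fst (saF X₁) (saF X₂)) = saH X₁ :=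
    hpb.lift_fst _ _ _
  have hl2 : hpb.lift (saH X₁) (saH X₂) hcomm ≫ u.map (pullback.snd (saF X₁) (saF X₂)) = saH X₂ :=
    hpb.lift_snd _ _ _
  have hP : hpb.lift (saH X₁) (saH X₂) hcomm ≫ u.map (pullback.fst (saF X₁) (saF X₂) ≫ saF X₁) =
      b.obj.hom := by
    rw [u.map_comp, ← Category.assoc, hl1]
    exact saH_fac X₁
  refine ⟨saMk b (pullback.fst (saF X₁) (saF X₂) ≫ saF X₁) (R.downward_closed X₁.right.property _)
      (hpb.lift (saH X₁) (saH X₂) hcomm) hP,
    saHomMk (pullback.fst (saF X₁) (saF X₂)) rfl hl1,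
    saHomMk (pullback.snd (saF X₁) (saF X₂)) pullback.condition.symm hl2, ?_⟩
  intro Q q₁ q₂
  have hk : saK q₁ ≫ saF X₁ = saK q₂ ≫ saF X₂ := (saK_fac q₁).trans (saK_fac q₂).symm
  have hm1 : pullback.lift (saK q₁) (saK q₂) hk ≫ pullback.fst (saF X₁) (saF X₂) = saK q₁ :=
    pullback.lift_fst _ _ _
  have hm2 : pullback.lift (saK q₁) (saK q₂) hk ≫ pullback.snd (saF X₁) (saF X₂) = saK q₂ :=
    pullback.lift_snd _ _ _
  refine ⟨saHomMk (pullback.lift (saK q₁) (saK q₂) hk) ?_ ?_, sa_hom_ext ?_, sa_hom_ext ?_⟩
  · change pullback.lift (saK q₁) (saK q₂) hk ≫ pullback.fst (saF X₁) (saF X₂) ≫ saF X₁ = saF Q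
    rw [← Category.assoc, hm1]
    exact saK_fac q₁
  · change saH Q ≫ u.map (pullback.lift (saK q₁) (saK q₂) hk) = hpb.lift (saH X₁) (saH X₂) hcomm
    apply hpb.hom_ext
    · rw [Category.assoc, ← u.map_comp, hm1, hl1]
      exact saK_fac' q₁
    · rw [Category.assoc, ← u.map_comp, hm2, hl2]
      exact saK_fac' q₂
  · exact hm1
  · exact hm2

theorem isConnected_sa (b : (R.functorPushforward u).arrows.category) :
    IsConnected (StructuredArrow b (φR u R)) := by
  haveI := nonempty_sa (u := u) (R := R) b
  exact isConnected_of_weakProd (hasWeakProd_sa b)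

end WeakProd

end Groth.Agent.Lib.Helper65.PushSieve
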