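import Groth.Prelude.Def_AlgSt
import Groth.Agent.Lib.Helper65.PushSieve
import Groth.Agent.Lib.Helper65.CatPbSections
import Groth.Agent.Lib.Helper65.CatPbFib
import Groth.Agent.Lib.Helper65.RestrSrc
import Groth.Agent.Lib.Helper65.ConeDescent
import Groth.Agent.Lib.Helper65.WeakProd

/-!
# Helper65: the pullback of a stack along a cover preserving, pullback preserving functor is a stack
-/

set_option autoImplicit false
set_option backward.isDefEq.respectTransparency false
set_option backward.isDefEq.respectTransparency.types false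

universe v₃ u₃ v₂ u₂ v u

open CategoryTheory CategoryTheory.Functor CategoryTheory.Limits

namespace Groth.Agent.Lib.Helper65.PbStack

open FibCat Groth.Agent.Lib.Helper31 Groth.Agent.Lib.Helper65
open Groth.Agent.Lib.Helper65.CatPbSections Groth.Agent.Lib.Helper65.PushSieve
open Groth.Agent.Lib.Helper65.WeakProd

variable {C : Type u} [Category.{v} C] {D : Type u₂} [Category.{v₂} D] (u : C ⥤ D)
  (𝒮 : BasedCategory.{v₃, u₃} D)

theorem pb_isFibGrpd (h𝒮 : IsFibGrpd 𝒮.p) : IsFibGrpd (CategoricalPullback.π₁ u 𝒮.p) where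
  exists_lift := by
    intro x V f
    haveI := isFibered_of_isFibGrpd 𝒮.p h𝒮
    haveI := pi1_isFibered u 𝒮.p
    obtain ⟨y, φ, hφ⟩ := IsPreFibered.exists_isCartesian' (p := CategoricalPullback.π₁ u 𝒮.p) (a := x) f
    exact ⟨y, φ, inferInstance⟩
  isStronglyCartesian := by
    intro y x φ
    exact pi1_isStronglyCartesian u 𝒮.p φ (h𝒮.isStronglyCartesian φ.snd)

variable {U : C} (R : Sieve U)

/-- `C/U ⟶ D/uU` as a functor over `D`. -/
def ψU : push u (overCat U) ⥤ᵇ overCat (u.obj U) where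
  toFunctor := Over.post (X := U) u
  w := rfl

/-- `R ⟶ u_* R` as a functor over `D`. -/
def ψR : push u (Stk.sieveCat R) ⥤ᵇ Stk.sieveCat (R.functorPushforward u) where
  toFunctor := φR u R
  w := rfl

theorem sq : BasedFunctor.comp (pushMap u (Stk.sieveIncl R)) (ψU u) =
    BasedFunctor.comp (ψR u R) (Stk.sieveIncl (R.functorPushforward u)) := by
  apply TotFib.basedFunctor_ext
  rfl

variable {𝒮}

theorem fiber_isIso (h𝒮 : IsFibGrpd 𝒮.p) (V : D) {x y : 𝒮.p.Fiber V} (m : x ⟶ y) : IsIso m := by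
  haveI := isGroupoid_fiber_of_isFibGrpd 𝒮.p h𝒮 V
  infer_instance

theorem restr_ψU_isEquivalence (h𝒮 : IsFibGrpd 𝒮.p) : (Stk.restr (ψU (U := U) u) 𝒮).IsEquivalence := by
  haveI hconn : ∀ b : (overCat (u.obj U)).obj, IsConnected (StructuredArrow b (Over.post (X := U) u)) :=
    fun b => isConnected_of_isTerminal (termObjIsTerminal u b)
  exact ConeDescent.restr_isEquivalence (ℬ := overCat (u.obj U)) (φ₀ := Over.post (X := U) u) h𝒮
    (hconn := hconn)
    (fun b T => exists_const_iso_of_isTerminal (termObjIsTerminal u b) (fun m => fiber_isIso h𝒮 _ m) T)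

theorem restr_ψR_isEquivalence [HasPullbacks C] [PreservesLimitsOfShape WalkingCospan u]
    (h𝒮 : IsFibGrpd 𝒮.p) : (Stk.restr (ψR u R) 𝒮).IsEquivalence := by
  haveI hconn : ∀ b : (Stk.sieveCat (R.functorPushforward u)).obj,
      IsConnected (StructuredArrow b (φR u R)) := fun b => isConnected_sa b
  exact ConeDescent.restr_isEquivalence (ℬ := Stk.sieveCat (R.functorPushforward u)) (φ₀ := φR u R) h𝒮
    (hconn := hconn)
    (fun b T => by
      haveI := nonempty_sa (u := u) (R := R) b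
      exact exists_const_iso_of_weakProd (hasWeakProd_sa b) (fun m => fiber_isIso h𝒮 _ m) T)

theorem restr_push_isEquivalence [HasPullbacks C] [PreservesLimitsOfShape WalkingCospan u]
    (h𝒮 : IsFibGrpd 𝒮.p) (hR : Stk.IsStackFor (R.functorPushforward u) 𝒮) :
    (Stk.restr (pushMap u (Stk.sieveIncl R)) 𝒮).IsEquivalence := by
  have h1 : (Stk.restr (ψU (U := U) u) 𝒮).IsEquivalence := restr_ψU_isEquivalence u h𝒮
  have h2 : (Stk.restr (ψR u R) 𝒮).IsEquivalence := restr_ψR_isEquivalence u R h𝒮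
  have h3 : (Stk.restr (Stk.sieveIncl (R.functorPushforward u)) 𝒮).IsEquivalence := hR
  have e : Stk.restr (ψU (U := U) u) 𝒮 ⋙ Stk.restr (pushMap u (Stk.sieveIncl R)) 𝒮 =
      Stk.restr (Stk.sieveIncl (R.functorPushforward u)) 𝒮 ⋙ Stk.restr (ψR u R) 𝒮 := by
    rw [← RestrSrc.restr_comp, ← RestrSrc.restr_comp, sq]
  have h4 : (Stk.restr (ψU (U := U) u) 𝒮 ⋙ Stk.restr (pushMap u (Stk.sieveIncl R)) 𝒮).IsEquivalence := by
    rw [e]
    infer_instance
  exact Functor.isEquivalence_of_comp_left (Stk.restr (ψU (U := U) u) 𝒮) _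

/-- **The pullback of a stack along a cover preserving, pullback preserving functor is a stack.** -/
theorem isStack_pb [HasPullbacks C] [PreservesLimitsOfShape WalkingCospan u]
    (J : GrothendieckTopology C) (K : GrothendieckTopology D) (hu : CoverPreserving J K u)
    (h𝒮 : Stk.IsStack K 𝒮) : Stk.IsStack J (pb u 𝒮) := by
  refine ⟨pb_isFibGrpd u 𝒮 h𝒮.1, fun V R hR => ?_⟩
  have hR' : Stk.IsStackFor (R.functorPushforward u) 𝒮 := h𝒮.2 _ (hu.cover_preserve hR)
  have h := restr_push_isEquivalence u R h𝒮.1 hR'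
  exact restr_pb_isEquivalence (u := u) (𝒮 := 𝒮) (ℬ := overCat V) (ObjectProperty.ι _) h𝒮.1 h

end Groth.Agent.Lib.Helper65.PbStack
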