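import Groth.Agent.Lib.Helper65.SmoothLocal2

/-!
# Helper65: quasi-compact algebraic stacks via charts
-/

set_option autoImplicit false
set_option backward.isDefEq.respectTransparency false
set_option backward.isDefEq.respectTransparency.types false

universe u

open CategoryTheory CategoryTheory.Functor CategoryTheory.Limits Opposite AlgebraicGeometry

namespace Groth.Agent.Lib.Helper65

open FibCat Groth.Agent.Lib.Helper31

variable {S : Scheme.{u}}

/-- A quasi-compact scheme admits an etale surjective morphism from an affine scheme. -/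
theorem exists_affine_etale_surjective (U : Scheme.{u}) [CompactSpace U] :
    ∃ (T : Scheme.{u}) (g : T ⟶ U), IsAffine T ∧ Etale g ∧ Surjective g := by
  let 𝒰 : U.OpenCover := U.affineCover.finiteSubcover
  have hfin : Finite 𝒰.I₀ := inferInstanceAs (Finite U.affineCover.finiteSubcover.I₀)
  have haff : ∀ i, IsAffine (𝒰.X i) := fun i =>
    inferInstanceAs (IsAffine (U.affineCover.X (U.affineCover.idx i.1)))
  refine ⟨∐ 𝒰.X, Sigma.desc 𝒰.f, inferInstance, ?_, ?_⟩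
  · exact IsZariskiLocalAtSource.sigmaDesc (P := @Etale) (fun i => inferInstance)
  · exact inferInstanceAs (Surjective (Sigma.desc fun i => 𝒰.f i))

variable {𝒳 : AlgSt.Cat S}

theorem isQuasiCompact_of_compact_chart (h𝒳 : IsFibGrpd 𝒳.p) (U : Over S) [CompactSpace ↥U.left]
    (x : FibCat.overCat U ⥤ᵇ 𝒳) (hx1 : AlgSt.RepByAlgSpWith (AlgSp.LocP @Smooth) x)
    (hx2 : AlgSt.RepByAlgSpWith AlgSp.IsSurjectiveMor x) : AlgSt.IsQuasiCompact 𝒳 := by
  obtain ⟨T, g, hT, hge, hgs⟩ := exists_affine_etale_surjective U.left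
  let T' : Over S := Over.mk (g ≫ U.hom)
  let g' : T' ⟶ U := Over.homMk g rfl
  let X : AlgSp.Space S := ⟨(AlgSp.yon S).obj U, AlgSp.IsAlgSpace.yon_obj U⟩
  have hpe : AlgSp.RepWith @Etale ((AlgSp.yon S).map g') := (AlgSp.repWith_yon_map_iff _ _).2 hge
  have hps : AlgSp.RepWith @Surjective ((AlgSp.yon S).map g') := (AlgSp.repWith_yon_map_iff _ _).2 hgs
  exact ⟨T', _, hT,
    chart_comp_smooth h𝒳 X ((AlgSp.yon S).map g') hpe _ (repByAlgSpWith_toOverCat_comp _ x hx1),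
    chart_comp_surjective h𝒳 X ((AlgSp.yon S).map g') hps _ (repByAlgSpWith_toOverCat_comp _ x hx2)⟩

theorem isQuasiCompact_iff_compact_scheme_chart (h𝒳 : IsFibGrpd 𝒳.p) :
    AlgSt.IsQuasiCompact 𝒳 ↔
      ∃ (U : Over S) (x : FibCat.overCat U ⥤ᵇ 𝒳), CompactSpace ↥U.left ∧
        AlgSt.RepByAlgSpWith (AlgSp.LocP @Smooth) x ∧ AlgSt.RepByAlgSpWith AlgSp.IsSurjectiveMor x := by
  constructor
  · rintro ⟨U, x, hU, hx1, hx2⟩
    exact ⟨U, x, inferInstance, hx1, hx2⟩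
  · rintro ⟨U, x, hU, hx1, hx2⟩
    exact isQuasiCompact_of_compact_chart h𝒳 U x hx1 hx2

theorem isQuasiCompact_iff_quasiCompact_space_chart (h𝒳 : IsFibGrpd 𝒳.p) :
    AlgSt.IsQuasiCompact 𝒳 ↔
      ∃ (U : AlgSp.Space S) (x : AlgSt.ofSp U.obj ⥤ᵇ 𝒳), AlgSp.IsQuasiCompactSp U.obj ∧
        AlgSt.RepByAlgSpWith (AlgSp.LocP @Smooth) x ∧ AlgSt.RepByAlgSpWith AlgSp.IsSurjectiveMor x := by
  constructor
  · rintro ⟨U, x, hU, hx1, hx2⟩
    refine ⟨⟨(AlgSp.yon S).obj U, AlgSp.IsAlgSpace.yon_obj U⟩, _, ?_,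
      repByAlgSpWith_toOverCat_comp _ x hx1, repByAlgSpWith_toOverCat_comp _ x hx2⟩
    exact ⟨U, 𝟙 _, AlgSp.repWith_id _ U, AlgSp.repWith_id _ U, inferInstance⟩
  · rintro ⟨U, x, ⟨T, p, hpe, hps, hT⟩, hx1, hx2⟩
    have : CompactSpace ↥T.left := hT
    exact isQuasiCompact_of_compact_chart h𝒳 T _ (chart_comp_smooth h𝒳 U p hpe x hx1)
      (chart_comp_surjective h𝒳 U p hps x hx2)

end Groth.Agent.Lib.Helper65
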