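import Groth.Agent.Lib.Helper65.QuotStUniv

/-!
# Helper65: descent of invariant morphisms along the torsors of `[X/G]`; the functor `[X/G] ⟶ Z` attached to an
invariant morphism `X ⟶ Z`
-/

set_option autoImplicit false
set_option backward.isDefEq.respectTransparency false
set_option backward.isDefEq.respectTransparency.types false

universe u

open CategoryTheory CategoryTheory.Functor AlgebraicGeometry Opposite MonoidalCategory
  CartesianMonoidalCategory

namespace Groth.Agent.Lib.Helper65.QuotStDesc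

open FibCat Groth.Agent.Lib.Helper31 Groth.Agent.Lib.Helper65 Groth.Agent.Lib.Helper65.QuotStUniv

variable {S : Scheme.{u}} {G : Over S} [GrpObj G] {X : Over S} {aX : AlgGrp.Action G X}

/-- a morphism from the total space of a torsor which is invariant descends uniquely to the base -/
theorem existsUnique_desc (A : AlgSt.QuotObj Scheme.fppfPrecoverage G aX) {Z : Over S} (m : A.P ⟶ Z)
    (hm : A.act.act ≫ m = snd G A.P ≫ m) : ∃! s : A.base ⟶ Z, A.π ≫ s = m := by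
  have hind : ∀ {V : Over S} (l l' : V ⟶ A.P), l ≫ A.π = l' ≫ A.π → l ≫ m = l' ≫ m := by
    intro V l l' h
    have e1 : A.cart.lift l l' h ≫ A.act.act = l := A.cart.lift_fst _ _ _
    have e2 : A.cart.lift l l' h ≫ snd G A.P = l' := A.cart.lift_snd _ _ _
    rw [← e1, Category.assoc, hm, ← Category.assoc, e2]
  let N : AlgSp.Sp S := (AlgSp.yon S).obj Z
  have hN : Presieve.IsSheaf (QuotSh.J Scheme.fppfPrecoverage S) N.obj :=
    (isSheaf_iff_isSheaf_of_type _ _).1 N.property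
  let E : Sieve A.base :=
    { arrows := fun V g => ∃ l : V ⟶ A.P, l ≫ A.π = g
      downward_closed := by
        rintro V W g ⟨l, rfl⟩ k
        exact ⟨k ≫ l, Category.assoc _ _ _⟩ }
  have hE : E ∈ QuotSh.J Scheme.fppfPrecoverage S A.base := by
    obtain ⟨R, hR, hsec⟩ := A.loc
    apply mem_J_of_precoverage R hR
    intro T' f hf
    obtain ⟨s, hs⟩ := hsec f hf
    have hs' : s ≫ A.π.left = f := hs
    have hw : s ≫ A.P.hom = f ≫ A.base.hom := by
      rw [← hs', Category.assoc, Over.w A.π]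
    refine ⟨(Over.homMk s hw : Over.mk (f ≫ A.base.hom) ⟶ A.P), ?_⟩
    apply Over.OverMorphism.ext
    exact hs'
  let x : Presieve.FamilyOfElements N.obj (E : Presieve A.base) :=
    fun V g hg => (⟨hg.choose ≫ m⟩ : ULift (V ⟶ Z))
  have hx' : ∀ {V : Over S} (g : V ⟶ A.base) (hg : E g) (l : V ⟶ A.P), l ≫ A.π = g →
      x g hg = ⟨l ≫ m⟩ := by
    intro V g hg l hl
    change (⟨hg.choose ≫ m⟩ : ULift (V ⟶ Z)) = _
    rw [hind hg.choose l (hg.choose_spec.trans hl.symm)]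
  have hx : x.Compatible := by
    intro V₁ V₂ W k₁ k₂ g₁ g₂ h₁ h₂ hk
    obtain ⟨l₁, hl₁⟩ := h₁
    obtain ⟨l₂, hl₂⟩ := h₂
    rw [hx' g₁ ⟨l₁, hl₁⟩ l₁ hl₁, hx' g₂ ⟨l₂, hl₂⟩ l₂ hl₂]
    change (⟨k₁ ≫ l₁ ≫ m⟩ : ULift (W ⟶ Z)) = ⟨k₂ ≫ l₂ ≫ m⟩
    rw [← Category.assoc, ← Category.assoc, hind (k₁ ≫ l₁) (k₂ ≫ l₂)
      (by rw [Category.assoc, Category.assoc, hl₁, hl₂, hk])]
  obtain ⟨t, ht, htu⟩ := hN E hE x hx
  refine ⟨t.down, ?_, ?_⟩
  · have := ht A.π ⟨𝟙 _, Category.id_comp _⟩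
    rw [hx' A.π _ (𝟙 _) (Category.id_comp _)] at this
    have := congrArg ULift.down this
    rw [Category.id_comp] at this
    exact this
  · intro s' hs'
    have : (⟨s'⟩ : ULift (A.base ⟶ Z)) = t := by
      apply htu
      intro V g hg
      obtain ⟨l, hl⟩ := hg
      rw [hx' g ⟨l, hl⟩ l hl]
      change (⟨g ≫ s'⟩ : ULift (V ⟶ Z)) = _
      rw [← hl, Category.assoc, hs']
    rw [← this]

variable {Z : Over S} (ψ : X ⟶ Z) (hψ : aX.act ≫ ψ = snd G X ≫ ψ)

theorem inv_of_inv (A : AlgSt.QuotObj Scheme.fppfPrecoverage G aX) (hψ : aX.act ≫ ψ = snd G X ≫ ψ) :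
    A.act.act ≫ (A.φ ≫ ψ) = snd G A.P ≫ (A.φ ≫ ψ) := by
  rw [← Category.assoc, A.eqv, Category.assoc, hψ, ← Category.assoc, whiskerLeft_snd, Category.assoc]

/-- the morphism `T ⟶ Z` attached to an object of `[X/G]` over `T` and an invariant `X ⟶ Z` -/
noncomputable def descSec (A : AlgSt.QuotObj Scheme.fppfPrecoverage G aX) : A.base ⟶ Z :=
  (existsUnique_desc A (A.φ ≫ ψ) (inv_of_inv ψ A hψ)).exists.choose

theorem π_descSec (A : AlgSt.QuotObj Scheme.fppfPrecoverage G aX) :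
    A.π ≫ descSec ψ hψ A = A.φ ≫ ψ :=
  (existsUnique_desc A (A.φ ≫ ψ) (inv_of_inv ψ A hψ)).exists.choose_spec

theorem descSec_unique (A : AlgSt.QuotObj Scheme.fppfPrecoverage G aX) (s : A.base ⟶ Z)
    (hs : A.π ≫ s = A.φ ≫ ψ) : s = descSec ψ hψ A :=
  (existsUnique_desc A (A.φ ≫ ψ) (inv_of_inv ψ A hψ)).unique hs (π_descSec ψ hψ A)

theorem descSec_compat {A B : AlgSt.QuotObj Scheme.fppfPrecoverage G aX} (k : AlgSt.QuotObj.Hom A B) :
    k.base ≫ descSec ψ hψ B = descSec ψ hψ A :=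
  descSec_unique ψ hψ A (k.base ≫ descSec ψ hψ B)
    (by rw [← Category.assoc, ← k.cart.w, Category.assoc, π_descSec, ← Category.assoc, k.wφ])

/-- the sections defining `descFunctor` -/
noncomputable def descS (A : (AlgSt.QuotSt Scheme.fppfPrecoverage G aX).obj) :
    ((AlgSp.yon S).obj Z).obj.obj (op ((AlgSt.QuotSt Scheme.fppfPrecoverage G aX).p.obj A)) :=
  (⟨descSec ψ hψ A⟩ : ULift (A.base ⟶ Z))

theorem descS_compat {A B : (AlgSt.QuotSt Scheme.fppfPrecoverage G aX).obj} (k : A ⟶ B) :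
    ((AlgSp.yon S).obj Z).obj.map ((AlgSt.QuotSt Scheme.fppfPrecoverage G aX).p.map k).op (descS ψ hψ B) =
      descS ψ hψ A := by
  change (⟨k.base ≫ descSec ψ hψ B⟩ : ULift (A.base ⟶ Z)) = ⟨descSec ψ hψ A⟩
  rw [descSec_compat]

/-- **the functor `[X/G] ⟶ Z` attached to an invariant morphism `X ⟶ Z`** -/
noncomputable def descFunctor : AlgSt.QuotSt Scheme.fppfPrecoverage G aX ⥤ᵇ AlgSt.ofSch Z :=
  ofSec (descS ψ hψ) (fun k => descS_compat ψ hψ k)

theorem secOf_descFunctor {T : Over S} (x : T ⟶ X) :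
    secOf (descFunctor ψ hψ) (qObj G aX x) = ⟨x ≫ ψ⟩ := by
  unfold descFunctor
  refine (secOf_ofSec (descS ψ hψ) (fun k => descS_compat ψ hψ k) _).trans ?_
  change (⟨descSec ψ hψ (qObj G aX x)⟩ : ULift (T ⟶ Z)) = _
  rw [← descSec_unique ψ hψ (qObj G aX x) (x ≫ ψ)]
  change snd G T ≫ x ≫ ψ = ((G ◁ x) ≫ aX.act) ≫ ψ
  rw [Category.assoc, hψ, whiskerLeft_snd_assoc]

end Groth.Agent.Lib.Helper65.QuotStDesc
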