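import Groth.Agent.Lib.Helper65.SelfBC
import Groth.Agent.Lib.Helper65.RepSp
import Groth.Agent.Lib.Helper66.AlgStDiagComp

/-!
# Cancellation for morphisms representable by algebraic spaces with a property (helper65)

If `P` is stable under base change and has the cancellation property (`P b` and `P (a ≫ b)` imply `P a`)
for morphisms of algebraic spaces, then the same cancellation holds for functors over `(Sch/S)`
representable by algebraic spaces with `P`.
-/

set_option autoImplicit false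
set_option backward.isDefEq.respectTransparency false
set_option backward.isDefEq.respectTransparency.types false
universe u

open CategoryTheory CategoryTheory.Limits AlgebraicGeometry Opposite

namespace Groth.Agent.Lib.Helper65.RepCancel

open FibCat Groth.Agent.Lib.Helper31 Groth.Agent.Lib.Helper65 AlgSt

variable {S : Scheme.{u}}

/-- The cancellation property among algebraic spaces (the form used in the statements). -/
def StableCancel (P : MorphismProperty (AlgSp.Sp S)) : Prop :=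
  ∀ ⦃X Y Z : AlgSp.Sp S⦄, AlgSp.IsAlgSpace X → AlgSp.IsAlgSpace Y → AlgSp.IsAlgSpace Z →
    ∀ (a : X ⟶ Y) (b : Y ⟶ Z), P b → P (a ≫ b) → P a

variable {𝒱 𝒲 : AlgSt.Cat S}

/-- A functor between categories equivalent to algebraic spaces over a scheme `T`, such that both structure
maps to `T` have `P`, is representable by algebraic spaces with `P`. -/
theorem repByAlgSpWith_of_spaces_over (P : MorphismProperty (AlgSp.Sp S)) (hPb : StableBC P)
    (hPk : StableCancel P) {T : Over S} (φ : 𝒲 ⥤ᵇ 𝒱) (q : 𝒱 ⥤ᵇ FibCat.overCat T)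
    (V : AlgSp.Space S) (eV : AlgSt.ofSp V.obj ⥤ᵇ 𝒱) (heV : IsEquivOver eV)
    (hv : P (AlgSt.spMapOfOver (BasedFunctor.comp eV q)))
    (W : AlgSp.Space S) (eW : AlgSt.ofSp W.obj ⥤ᵇ 𝒲) (heW : IsEquivOver eW)
    (hw : P (AlgSt.spMapOfOver (BasedFunctor.comp eW (BasedFunctor.comp φ q)))) :
    AlgSt.RepByAlgSpWith P φ := by
  obtain ⟨eV', heV', ⟨i1⟩, ⟨i2⟩⟩ := exists_inverse_equivOver eV heV
  let f' : AlgSt.ofSp W.obj ⥤ᵇ AlgSt.ofSp V.obj := BasedFunctor.comp (BasedFunctor.comp eW φ) eV'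
  let c₀ : W.obj.obj ⟶ V.obj.obj := pshMapOf f'
  let c : W.obj ⟶ V.obj := ObjectProperty.homMk c₀
  have e : BasedFunctor.comp (Stk.ofPshMap c₀) eV ≅ BasedFunctor.comp eW φ :=
    bWhiskerRightIso (isoOfPshMap f').symm eV ≪≫ bWhiskerLeftIso (BasedFunctor.comp eW φ) i2
  have hcv : c ≫ AlgSt.spMapOfOver (BasedFunctor.comp eV q) =
      AlgSt.spMapOfOver (BasedFunctor.comp eW (BasedFunctor.comp φ q)) := by
    rw [← spMapOfOver_ofSpMap_comp]
    exact spMapOfOver_congr (bWhiskerRightIso e q)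
  have hc : P c := by
    refine hPk W.property V.property (AlgSp.IsAlgSpace.yon_obj T) c _ hv ?_
    rw [hcv]
    exact hw
  have h1 : AlgSp.RepBySpWith P c.hom := repBySpWith_of_prop P hPb (V := W) (Z := V) c hc
  have h2 : AlgSt.RepByAlgSpWith P (Stk.ofPshMap c.hom) := repByAlgSpWith_of_repBySpWith c.hom P h1
  exact repByAlgSpWith_of_square' P φ (Stk.ofPshMap c₀) eW eV heW heV e h2

variable {𝒜 ℬ 𝒞 : AlgSt.Cat S}

/-- The instance over `(T, t)` of a representable base change. -/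
theorem exists_rep_of_fpFst (P : MorphismProperty (AlgSp.Sp S)) (a : 𝒜 ⥤ᵇ ℬ) {T : Over S}
    (t : FibCat.overCat T ⥤ᵇ ℬ) (h : AlgSt.RepByAlgSpWith P (fpFst t a)) :
    ∃ (F : AlgSp.Space S) (e : AlgSt.ofSp F.obj ⥤ᵇ fp t a), IsEquivOver e ∧
      P (AlgSt.spMapOfOver (BasedFunctor.comp e (fpFst t a))) := by
  obtain ⟨F, e, he, hF⟩ := h T (BasedFunctor.id _)
  exact ⟨F, BasedFunctor.comp e (fpPasteFst (BasedFunctor.id _) t a),
    isEquivOver_comp _ _ he (fpPasteFst_isEquivOver (BasedFunctor.id _) t a), hF⟩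

/-- **Cancellation** for functors representable by algebraic spaces with `P`. -/
theorem repByAlgSpWith_cancel (P : MorphismProperty (AlgSp.Sp S)) (hPb : StableBC P)
    (hPk : StableCancel P) (a : 𝒜 ⥤ᵇ ℬ) (b : ℬ ⥤ᵇ 𝒞) (hb : AlgSt.RepByAlgSpWith P b)
    (hab : AlgSt.RepByAlgSpWith P (BasedFunctor.comp a b)) : AlgSt.RepByAlgSpWith P a := by
  intro T t
  obtain ⟨V, eV, heV, hv⟩ := hb T (BasedFunctor.comp t b)
  obtain ⟨W, eW, heW, hw⟩ := hab T (BasedFunctor.comp t b)
  have hΞ := fpPasteSnd_isEquivOver (BasedFunctor.comp t b) b a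
  obtain ⟨Ξ', hΞ', ⟨j1⟩, ⟨j2⟩⟩ := exists_inverse_equivOver _ hΞ
  have hw' : P (AlgSt.spMapOfOver (BasedFunctor.comp (BasedFunctor.comp eW Ξ')
      (BasedFunctor.comp (fpFst (fpSnd (BasedFunctor.comp t b) b) a) (fpFst (BasedFunctor.comp t b) b)))) := by
    have i : BasedFunctor.comp (BasedFunctor.comp eW Ξ')
        (BasedFunctor.comp (fpFst (fpSnd (BasedFunctor.comp t b) b) a) (fpFst (BasedFunctor.comp t b) b)) ≅
        BasedFunctor.comp eW (fpFst (BasedFunctor.comp t b) (BasedFunctor.comp a b)) :=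
      bWhiskerLeftIso eW (bWhiskerRightIso j2 (fpFst (BasedFunctor.comp t b) (BasedFunctor.comp a b)))
    rw [spMapOfOver_congr i]
    exact hw
  have H3 : AlgSt.RepByAlgSpWith P (fpFst (fpSnd (BasedFunctor.comp t b) b) a) :=
    repByAlgSpWith_of_spaces_over P hPb hPk _ (fpFst (BasedFunctor.comp t b) b) V eV heV hv W
      (BasedFunctor.comp eW Ξ') (isEquivOver_comp _ _ heW hΞ') hw'
  let σ : FibCat.overCat T ⥤ᵇ fp (BasedFunctor.comp t b) b :=
    fpLift (BasedFunctor.id _) t (Iso.refl _)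
  have H4 : AlgSt.RepByAlgSpWith P (fpFst σ (fpFst (fpSnd (BasedFunctor.comp t b) b) a)) :=
    repByAlgSpWith_fpFst P _ σ H3
  have H5 : AlgSt.RepByAlgSpWith P (fpFst (BasedFunctor.comp σ (fpSnd (BasedFunctor.comp t b) b)) a) :=
    (Groth.Agent.Lib.Helper65.SelfBC.repByAlgSpWith_fpFst_comp_iff P σ _ a).2 H4
  exact exists_rep_of_fpFst P a t H5

end Groth.Agent.Lib.Helper65.RepCancel
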