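import Groth.Agent.Lib.Helper65.LqfSelf
import Groth.Agent.Lib.Helper66.AlgStBridgeConv
import Groth.Agent.Lib.Helper66.AlgStPFacts
import Groth.Agent.H52.LocPCalc4
import Groth.Agent.H52.FibreProd
import Groth.Agent.H52.SmoothSource

/-!
# Local quasi-finiteness from the self base change (helper65)

* `locP_lqf_of_pullback_fst`: a morphism `a : V ⟶ h_U` from an algebraic space to a scheme which is locally
  of finite type and whose base change along itself `V ×_U V ⟶ V` is locally quasi-finite is locally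
  quasi-finite.
* `repByAlgSpWith_fpFst_self`: for `d : 𝒳 ⟶ 𝒴` and `g : 𝒵 ⟶ 𝒴`, if the self base change
  `𝒳 ×_𝒴 𝒳 ⟶ 𝒳` of `d` has `P` then so has the self base change of the projection `q : 𝒵 ×_𝒴 𝒳 ⟶ 𝒵`.
* `prop_pullback_fst_of_equiv`: passing from the stack level to the algebraic space level.
-/

set_option autoImplicit false
set_option backward.isDefEq.respectTransparency false
set_option backward.isDefEq.respectTransparency.types false
universe u

open CategoryTheory CategoryTheory.Limits AlgebraicGeometry Opposite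

namespace Groth.Agent.Lib.Helper65.SelfBC

open AlgSp

variable {S : Scheme.{u}}

/-- A morphism from an algebraic space to a scheme, locally of finite type, whose base change along itself is
locally quasi-finite, is locally quasi-finite. -/
theorem locP_lqf_of_pullback_fst {V : AlgSp.Sp S} (hV : AlgSp.IsAlgSpace V) {U : Over S}
    (a : V ⟶ (AlgSp.yon S).obj U) (hl : AlgSp.LocP @LocallyOfFiniteType a)
    (h : AlgSp.LocP (@LocallyQuasiFinite ⊓ @LocallyOfFiniteType) (pullback.fst a a)) :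
    AlgSp.LocP (@LocallyQuasiFinite ⊓ @LocallyOfFiniteType) a := by
  have hP := Groth.Agent.H52.isEtLocal_of_list (@LocallyQuasiFinite ⊓ @LocallyOfFiniteType)
    Groth.Agent.Lib.Helper66.AlgStPFacts.listed_lqf
  obtain ⟨W, α, hαe, hαs⟩ := hV.atlas
  obtain ⟨g, hg⟩ := (AlgSp.yon S).map_surjective (α ≫ a)
  have comm : α ≫ a = (AlgSp.yon S).map g ≫ 𝟙 _ := by rw [hg, Category.comp_id]
  have hid : AlgSp.RepWith @Etale (𝟙 ((AlgSp.yon S).obj U)) := AlgSp.repWith_id _ U
  refine hP.locP_of_chart a α (𝟙 _) g hαe hαs hid comm ?_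
  have hlft : LocallyOfFiniteType g.left := hl α (𝟙 _) g hαe hid comm
  refine ⟨?_, hlft⟩
  -- chart of the self fibre product
  have hU : AlgSp.IsAlgSpace ((AlgSp.yon S).obj U) := AlgSp.IsAlgSpace.yon_obj U
  obtain ⟨V0, q, a₁, b₁, h1, h2, sq, hq⟩ :=
    Groth.Agent.H52.exists_chart_of_isPullback (IsPullback.of_hasPullback a a)
      (fun _ t => hU.representable_from_yon t) α α
  have hqe : AlgSp.RepWith @Etale q := hq @Etale hαe hαe
  have h3 : (@LocallyQuasiFinite ⊓ @LocallyOfFiniteType : MorphismProperty Scheme.{u}) a₁.left :=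
    h q α a₁ hqe hαe h1
  rw [← hg] at sq
  have sq' : IsPullback a₁ b₁ g g := IsPullback.of_map (AlgSp.yon S) (by
    apply (AlgSp.yon S).map_injective
    rw [Functor.map_comp, Functor.map_comp]
    exact sq.w) sq
  have sq'' : IsPullback a₁.left b₁.left g.left g.left := sq'.map (Over.forget S)
  have h4 : LocallyQuasiFinite (pullback.fst g.left g.left) := by
    have e : sq''.isoPullback.hom ≫ pullback.fst g.left g.left = a₁.left := sq''.isoPullback_hom_fst
    have h5 : LocallyQuasiFinite (sq''.isoPullback.hom ≫ pullback.fst g.left g.left) := by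
      rw [e]; exact h3.1
    exact (MorphismProperty.cancel_left_of_respectsIso @LocallyQuasiFinite _ _).1 h5
  exact Groth.Agent.Lib.Helper65.LqfSelf.locallyQuasiFinite_of_pullback_fst g.left h4


section Stacks

open FibCat Groth.Agent.Lib.Helper31 Groth.Agent.Lib.Helper65 AlgSt

variable {𝒳 𝒴 𝒵 𝒲 : AlgSt.Cat S}

/-- `fpFst g f` only depends on `g` up to isomorphism. -/
theorem repByAlgSpWith_fpFst_of_iso (P : MorphismProperty (AlgSp.Sp S)) (f : 𝒳 ⥤ᵇ 𝒴) {g g' : 𝒵 ⥤ᵇ 𝒴}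
    (i : g ≅ g') (h : AlgSt.RepByAlgSpWith P (fpFst g f)) : AlgSt.RepByAlgSpWith P (fpFst g' f) := by
  let α : BasedFunctor.comp g' (BasedFunctor.id 𝒴) ≅ BasedFunctor.comp (BasedFunctor.id 𝒵) g := i.symm
  let β : BasedFunctor.comp f (BasedFunctor.id 𝒴) ≅ BasedFunctor.comp (BasedFunctor.id 𝒳) f := Iso.refl _
  exact repByAlgSpWith_of_square P (fpFst g f) (fpFst g' f)
    (fpMap (F := g') (G := f) (F' := g) (G' := f) (BasedFunctor.id _) (BasedFunctor.id _)
      (BasedFunctor.id _) α β) (BasedFunctor.id _)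
    (fpMap_isEquivOver _ _ _ _ _ (isEquivOver_id _) (isEquivOver_id _) (isEquivOver_id _))
    (isEquivOver_id _) (Iso.refl _) h

/-- Pasting of base changes. -/
theorem repByAlgSpWith_fpFst_comp_iff (P : MorphismProperty (AlgSp.Sp S)) (h : 𝒲 ⥤ᵇ 𝒵) (g : 𝒵 ⥤ᵇ 𝒴)
    (f : 𝒳 ⥤ᵇ 𝒴) :
    AlgSt.RepByAlgSpWith P (fpFst (BasedFunctor.comp h g) f) ↔
      AlgSt.RepByAlgSpWith P (fpFst h (fpFst g f)) :=
  repByAlgSpWith_iff_of_square P (fpFst (BasedFunctor.comp h g) f) (fpFst h (fpFst g f))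
    (fpPasteFst h g f) (BasedFunctor.id _) (fpPasteFst_isEquivOver h g f) (isEquivOver_id _) (Iso.refl _)

/-- If the self base change `𝒳 ×_𝒴 𝒳 ⟶ 𝒳` of `d : 𝒳 ⟶ 𝒴` has `P`, so has the self base change of the projection
`q : 𝒵 ×_𝒴 𝒳 ⟶ 𝒵`, for every `g : 𝒵 ⟶ 𝒴`. -/
theorem repByAlgSpWith_fpFst_self (P : MorphismProperty (AlgSp.Sp S)) (d : 𝒳 ⥤ᵇ 𝒴) (g : 𝒵 ⥤ᵇ 𝒴)
    (H : AlgSt.RepByAlgSpWith P (fpFst d d)) :
    AlgSt.RepByAlgSpWith P (fpFst (fpFst g d) (fpFst g d)) := by
  have H2 : AlgSt.RepByAlgSpWith P (fpFst (fpSnd g d) (fpFst d d)) :=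
    repByAlgSpWith_fpFst P (fpFst d d) (fpSnd g d) H
  have H3 : AlgSt.RepByAlgSpWith P (fpFst (BasedFunctor.comp (fpSnd g d) d) d) :=
    (repByAlgSpWith_fpFst_comp_iff P (fpSnd g d) d d).2 H2
  have H4 : AlgSt.RepByAlgSpWith P (fpFst (BasedFunctor.comp (fpFst g d) g) d) :=
    repByAlgSpWith_fpFst_of_iso P d (fpIso g d).symm H3
  exact (repByAlgSpWith_fpFst_comp_iff P (fpFst g d) g d).1 H4

/-- The self base change is invariant under precomposition with an equivalence. -/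
theorem repByAlgSpWith_fpFst_self_of_equiv (P : MorphismProperty (AlgSp.Sp S)) (e : 𝒲 ⥤ᵇ 𝒵)
    (he : IsEquivOver e) (q : 𝒵 ⥤ᵇ 𝒴) (H : AlgSt.RepByAlgSpWith P (fpFst q q)) :
    AlgSt.RepByAlgSpWith P (fpFst (BasedFunctor.comp e q) (BasedFunctor.comp e q)) := by
  let α : BasedFunctor.comp (BasedFunctor.comp e q) (BasedFunctor.id 𝒴) ≅ BasedFunctor.comp e q := Iso.refl _
  exact repByAlgSpWith_of_square P (fpFst q q) (fpFst (BasedFunctor.comp e q) (BasedFunctor.comp e q))
    (fpMap (F := BasedFunctor.comp e q) (G := BasedFunctor.comp e q) (F' := q) (G' := q) e e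
      (BasedFunctor.id _) α α) e
    (fpMap_isEquivOver _ _ _ _ _ he he (isEquivOver_id _)) he (Iso.refl _) H

/-- The self base change is invariant under postcomposition with an equivalence. -/
theorem repByAlgSpWith_fpFst_self_of_post {𝒴' : AlgSt.Cat S} (P : MorphismProperty (AlgSp.Sp S))
    (c : 𝒴' ⥤ᵇ 𝒴) (hc : IsEquivOver c) (q : 𝒵 ⥤ᵇ 𝒴) (A : 𝒵 ⥤ᵇ 𝒴') (i : BasedFunctor.comp A c ≅ q)
    (H : AlgSt.RepByAlgSpWith P (fpFst q q)) : AlgSt.RepByAlgSpWith P (fpFst A A) := by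
  let α : BasedFunctor.comp A c ≅ BasedFunctor.comp (BasedFunctor.id 𝒵) q := i
  exact repByAlgSpWith_of_square P (fpFst q q) (fpFst A A)
    (fpMap (F := A) (G := A) (F' := q) (G' := q) (BasedFunctor.id _) (BasedFunctor.id _) c α α)
    (BasedFunctor.id _)
    (fpMap_isEquivOver _ _ _ _ _ (isEquivOver_id _) (isEquivOver_id _) hc) (isEquivOver_id _)
    (Iso.refl _) H

/-- From the stack level to the level of algebraic spaces: if `ofSp V ≃ 𝒵` and the self base change of
`q : 𝒵 ⟶ (Sch/U)` has `P`, then the first projection of the self fibre product of the induced `a : V ⟶ h_U`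
has `P`. -/
theorem prop_pullback_fst_of_equiv' (P : MorphismProperty (AlgSp.Sp S)) (hPb : StableBC P)
    (hP : Groth.Agent.Lib.Helper66.RepWithPDet.Detected P) {U : Over S} (V : AlgSp.Space S)
    (e : AlgSt.ofSp V.obj ⥤ᵇ 𝒵) (he : IsEquivOver e) (q : 𝒵 ⥤ᵇ FibCat.overCat U)
    (a : V.obj ⟶ (AlgSp.yon S).obj U)
    (i : BasedFunctor.comp (AlgSt.ofSpMap a) (AlgSt.toOverCat U) ≅ BasedFunctor.comp e q)
    (H : AlgSt.RepByAlgSpWith P (fpFst q q)) : P (pullback.fst a a) := by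
  have H6 := repByAlgSpWith_fpFst_self_of_equiv P e he q H
  have H7 : AlgSt.RepByAlgSpWith P (fpFst (AlgSt.ofSpMap a) (AlgSt.ofSpMap a)) :=
    repByAlgSpWith_fpFst_self_of_post P (AlgSt.toOverCat U) (toOverCat_isEquivOver U)
      (BasedFunctor.comp e q) _ i H6
  have H8 : AlgSt.RepByAlgSpWith P (AlgSt.ofSpMap (pullback.fst a a)) :=
    repByAlgSpWith_of_square P (fpFst (AlgSt.ofSpMap a) (AlgSt.ofSpMap a))
      (AlgSt.ofSpMap (pullback.fst a a))
      (pbLift (Groth.Agent.Lib.Helper66.AlgStBridge.sq_presheaf a).w) (BasedFunctor.id _)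
      (pbLift_isEquivOver (Groth.Agent.Lib.Helper66.AlgStBridge.sq_presheaf a)) (isEquivOver_id _)
      (Iso.refl _) H7
  have hD : AlgSp.IsAlgSpace (pullback a a) :=
    Groth.Agent.H52.isAlgSpace_of_isPullback (IsPullback.of_hasPullback a a) V.property
      (AlgSp.IsAlgSpace.yon_obj U) V.property
  exact Groth.Agent.Lib.Helper66.AlgStBridgeConv.prop_of_repByAlgSpWith_ofSpMap P hPb hP
    (V := ⟨pullback a a, hD⟩) (Z := V) (pullback.fst a a) H8

theorem prop_pullback_fst_of_equiv (P : MorphismProperty (AlgSp.Sp S)) (hPb : StableBC P)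
    (hP : Groth.Agent.Lib.Helper66.RepWithPDet.Detected P) {U : Over S} (V : AlgSp.Space S)
    (e : AlgSt.ofSp V.obj ⥤ᵇ 𝒵) (he : IsEquivOver e) (q : 𝒵 ⥤ᵇ FibCat.overCat U)
    (H : AlgSt.RepByAlgSpWith P (fpFst q q)) :
    P (pullback.fst (AlgSt.spMapOfOver (BasedFunctor.comp e q))
      (AlgSt.spMapOfOver (BasedFunctor.comp e q))) :=
  prop_pullback_fst_of_equiv' P hPb hP V e he q _ (isoSpMapOfOver (BasedFunctor.comp e q)).symm H

end Stacks

end Groth.Agent.Lib.Helper65.SelfBC
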