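import Groth.Prelude.Def_AlgSt
import Groth.Agent.Lib.Helper65.GlueHom
import Groth.Agent.Lib.Helper65.RestrSrc
import Groth.Agent.Lib.Helper65.TotFib

/-!
# Helper65: the gluing condition for a sieve follows from that of a smaller sieve
-/

set_option autoImplicit false
set_option backward.isDefEq.respectTransparency false
set_option backward.isDefEq.respectTransparency.types false

universe v₂ u₂ v u

open CategoryTheory CategoryTheory.Functor

namespace Groth.Agent.Lib.Helper65.SieveRefine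

open FibCat Groth.Agent.Lib.Helper31 Groth.Agent.Lib.Helper65 Groth.Agent.Lib.Helper65.GlueHom

variable {C : Type u} [Category.{v} C] {𝒳 : BasedCategory.{v₂, u₂} C} {U : C} {S R : Sieve U}
  (hSR : S ≤ R)

/-- inclusion of sieve categories -/
def j : Stk.sieveCat S ⥤ᵇ Stk.sieveCat R where
  toFunctor := ObjectProperty.ιOfLE (fun f hf => hSR _ hf)
  w := rfl

theorem j_comp : BasedFunctor.comp (j hSR) (Stk.sieveIncl R) = Stk.sieveIncl S := by
  apply TotFib.basedFunctor_ext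
  rfl

/-- the object of the small sieve attached to an arrow into an object of the big one -/
def cObj (b : (Stk.sieveCat R).obj) {W : C} (g : W ⟶ b.obj.left) (hg : S (g ≫ b.obj.hom)) :
    (Stk.sieveCat S).obj := ⟨Over.mk (g ≫ b.obj.hom), hg⟩

/-- its morphism to the given object -/
def cHom (b : (Stk.sieveCat R).obj) {W : C} (g : W ⟶ b.obj.left) (hg : S (g ≫ b.obj.hom)) :
    (j hSR).obj (cObj b g hg) ⟶ b :=
  ObjectProperty.homMk (Over.homMk (U := Over.mk (g ≫ b.obj.hom)) (V := b.obj) g rfl)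

theorem map_isHomLift (t : Stk.sieveCat R ⥤ᵇ 𝒳) {a b : (Stk.sieveCat R).obj} (m : a ⟶ b) :
    𝒳.p.IsHomLift m.hom.left (t.map m) := by
  have : (Stk.sieveCat R).p.IsHomLift m.hom.left m :=
    inferInstanceAs ((Stk.sieveCat R).p.IsHomLift ((Stk.sieveCat R).p.map m) m)
  exact BasedFunctor.preserves_isHomLift t m.hom.left m

theorem map_cHom_isHomLift (t : Stk.sieveCat R ⥤ᵇ 𝒳) (b : (Stk.sieveCat R).obj) {W : C}
    (g : W ⟶ b.obj.left) (hg : S (g ≫ b.obj.hom)) : 𝒳.p.IsHomLift g (t.map (cHom hSR b g hg)) :=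
  map_isHomLift t (cHom hSR b g hg)

theorem restr_j_faithful (h𝒳 : IsFibGrpd 𝒳.p)
    (hR : ∀ ⦃V : C⦄ (f : V ⟶ U), R f → (Stk.resSieve (S.pullback f) 𝒳).Faithful) :
    (Stk.restr (j hSR) 𝒳).Faithful where
  map_injective := by
    intro t t' α α' h
    apply BasedNatTrans.homCategory.ext
    apply NatTrans.ext
    funext b
    apply hom_ext_of_locally' h𝒳 (t.w_obj b) (S.pullback b.obj.hom) (hR b.obj.hom b.property)
      (𝟙 b.obj.left) _ _ (α.isHomLift' b) (α'.isHomLift' b)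
    intro W g hg s ψ hψ
    obtain ⟨θ, hθ1, hθ2⟩ := exists_comparison h𝒳 g (t.map (cHom hSR b g hg))
      (map_cHom_isHomLift hSR t b g hg) ψ hψ
    have e : α.toNatTrans.app ((j hSR).obj (cObj b g hg)) = α'.toNatTrans.app ((j hSR).obj (cObj b g hg)) :=
      congrArg (fun γ => γ.toNatTrans.app (cObj b g hg)) h
    have n1 := α.toNatTrans.naturality (cHom hSR b g hg)
    have n2 := α'.toNatTrans.naturality (cHom hSR b g hg)
    rw [← hθ2, Category.assoc, Category.assoc]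
    congr 1
    exact n1.trans ((congrArg (fun z => z ≫ t'.map (cHom hSR b g hg)) e).trans n2.symm)

section Full

variable (h𝒳 : IsFibGrpd 𝒳.p) {t t' : Stk.sieveCat R ⥤ᵇ 𝒳}
  (β : (Stk.restr (j hSR) 𝒳).obj t ⟶ (Stk.restr (j hSR) 𝒳).obj t')

/-- the comparison of a lift of `g` with the value of `t` -/
noncomputable def θ (b : (Stk.sieveCat R).obj) {W : C} (g : W ⟶ b.obj.left) (hg : S (g ≫ b.obj.hom))
    (s : 𝒳.obj) (ψ : s ⟶ t.obj b) (hψ : 𝒳.p.IsHomLift g ψ) :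
    s ⟶ t.obj ((j hSR).obj (cObj b g hg)) :=
  (exists_comparison h𝒳 g (t.map (cHom hSR b g hg)) (map_cHom_isHomLift hSR t b g hg) ψ hψ).choose.hom

theorem θ_isHomLift (b : (Stk.sieveCat R).obj) {W : C} (g : W ⟶ b.obj.left) (hg : S (g ≫ b.obj.hom))
    (s : 𝒳.obj) (ψ : s ⟶ t.obj b) (hψ : 𝒳.p.IsHomLift g ψ) :
    𝒳.p.IsHomLift (𝟙 W) (θ hSR h𝒳 b g hg s ψ hψ) :=
  (exists_comparison h𝒳 g (t.map (cHom hSR b g hg)) (map_cHom_isHomLift hSR t b g hg) ψ hψ).choose_spec.1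

theorem θ_fac (b : (Stk.sieveCat R).obj) {W : C} (g : W ⟶ b.obj.left) (hg : S (g ≫ b.obj.hom))
    (s : 𝒳.obj) (ψ : s ⟶ t.obj b) (hψ : 𝒳.p.IsHomLift g ψ) :
    θ hSR h𝒳 b g hg s ψ hψ ≫ t.map (cHom hSR b g hg) = ψ :=
  (exists_comparison h𝒳 g (t.map (cHom hSR b g hg)) (map_cHom_isHomLift hSR t b g hg) ψ hψ).choose_spec.2

/-- the local family -/
noncomputable def kFam (b : (Stk.sieveCat R).obj) ⦃W : C⦄ (g : W ⟶ b.obj.left)
    (hg : (S.pullback b.obj.hom) g) (s : 𝒳.obj) (ψ : s ⟶ t.obj b) (hψ : 𝒳.p.IsHomLift g ψ) :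
    s ⟶ t'.obj b :=
  θ hSR h𝒳 b g hg s ψ hψ ≫ β.toNatTrans.app (cObj b g hg) ≫ t'.map (cHom hSR b g hg)

theorem β_isHomLift (c : (Stk.sieveCat S).obj) : 𝒳.p.IsHomLift (𝟙 c.obj.left) (β.toNatTrans.app c) :=
  β.isHomLift' c

theorem kFam_isHomLift (b : (Stk.sieveCat R).obj) ⦃W : C⦄ (g : W ⟶ b.obj.left)
    (hg : (S.pullback b.obj.hom) g) (s : 𝒳.obj) (ψ : s ⟶ t.obj b) (hψ : 𝒳.p.IsHomLift g ψ) :
    𝒳.p.IsHomLift g (kFam hSR h𝒳 β b g hg s ψ hψ) := by
  have h1 := θ_isHomLift hSR h𝒳 b g hg s ψ hψ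
  have h2 : 𝒳.p.IsHomLift (𝟙 W) (β.toNatTrans.app (cObj b g hg)) := β_isHomLift hSR β (cObj b g hg)
  have h3 := map_cHom_isHomLift hSR t' b g hg
  exact isHomLift_comp_id_left 𝒳.p g _ _ h1 (isHomLift_comp_id_left 𝒳.p g _ _ h2 h3)

/-- the transition morphism between the objects attached to `l ≫ g` and `g` -/
def cTrans (b : (Stk.sieveCat R).obj) {W W' : C} (g : W ⟶ b.obj.left) (hg : S (g ≫ b.obj.hom))
    (l : W' ⟶ W) (hlg : S ((l ≫ g) ≫ b.obj.hom)) : cObj b (l ≫ g) hlg ⟶ cObj b g hg :=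
  ObjectProperty.homMk (Over.homMk (U := Over.mk ((l ≫ g) ≫ b.obj.hom)) (V := Over.mk (g ≫ b.obj.hom)) l
    (Category.assoc _ _ _).symm)

theorem cTrans_comp (b : (Stk.sieveCat R).obj) {W W' : C} (g : W ⟶ b.obj.left) (hg : S (g ≫ b.obj.hom))
    (l : W' ⟶ W) (hlg : S ((l ≫ g) ≫ b.obj.hom)) :
    (j hSR).map (cTrans b g hg l hlg) ≫ cHom hSR b g hg = cHom hSR b (l ≫ g) hlg := by
  apply ObjectProperty.hom_ext
  apply Over.OverMorphism.ext
  rfl

theorem kFam_compat (b : (Stk.sieveCat R).obj) ⦃W W' : C⦄ (g : W ⟶ b.obj.left)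
    (hg : (S.pullback b.obj.hom) g) (l : W' ⟶ W) (s : 𝒳.obj) (ψ : s ⟶ t.obj b)
    (hψ : 𝒳.p.IsHomLift g ψ) (s' : 𝒳.obj) (m : s' ⟶ s) (hm : 𝒳.p.IsHomLift l m)
    (hmψ : 𝒳.p.IsHomLift (l ≫ g) (m ≫ ψ)) :
    kFam hSR h𝒳 β b (l ≫ g) ((S.pullback b.obj.hom).downward_closed hg l) s' (m ≫ ψ) hmψ =
      m ≫ kFam hSR h𝒳 β b g hg s ψ hψ := by
  have hlg : S ((l ≫ g) ≫ b.obj.hom) := (S.pullback b.obj.hom).downward_closed hg l
  -- the transition
  have hn : 𝒳.p.IsHomLift l (t.map ((j hSR).map (cTrans b g hg l hlg))) :=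
    map_isHomLift t ((j hSR).map (cTrans b g hg l hlg))
  have hc := cTrans_comp hSR b g hg l hlg
  have e1 : m ≫ θ hSR h𝒳 b g hg s ψ hψ =
      θ hSR h𝒳 b (l ≫ g) hlg s' (m ≫ ψ) hmψ ≫ t.map ((j hSR).map (cTrans b g hg l hlg)) := by
    have c : 𝒳.p.IsStronglyCartesian g (t.map (cHom hSR b g hg)) :=
      have := map_cHom_isHomLift hSR t b g hg
      isStronglyCartesian_of_isFibGrpd 𝒳.p h𝒳 g _
    have i1 : 𝒳.p.IsHomLift l (m ≫ θ hSR h𝒳 b g hg s ψ hψ) :=
      isHomLift_comp_id_right 𝒳.p l _ _ hm (θ_isHomLift hSR h𝒳 b g hg s ψ hψ)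
    have i2 : 𝒳.p.IsHomLift l
        (θ hSR h𝒳 b (l ≫ g) hlg s' (m ≫ ψ) hmψ ≫ t.map ((j hSR).map (cTrans b g hg l hlg))) :=
      isHomLift_comp_id_left 𝒳.p l _ _ (θ_isHomLift hSR h𝒳 b (l ≫ g) hlg s' (m ≫ ψ) hmψ) hn
    apply IsStronglyCartesian.ext 𝒳.p g (t.map (cHom hSR b g hg)) l
    rw [Category.assoc, θ_fac, Category.assoc, ← t.map_comp, hc, θ_fac]
  have nat := β.toNatTrans.naturality (cTrans b g hg l hlg)
  have nat' : t.map ((j hSR).map (cTrans b g hg l hlg)) ≫ β.toNatTrans.app (cObj b g hg) =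
      β.toNatTrans.app (cObj b (l ≫ g) hlg) ≫ t'.map ((j hSR).map (cTrans b g hg l hlg)) := nat
  unfold kFam
  rw [← Category.assoc m, e1, Category.assoc, ← Category.assoc (t.map _), nat', Category.assoc,
    ← t'.map_comp, hc]

include h𝒳 in
/-- the glued component -/
theorem exists_app (hR : ∀ ⦃V : C⦄ (f : V ⟶ U), R f → (Stk.resSieve (S.pullback f) 𝒳).Full)
    (b : (Stk.sieveCat R).obj) :
    ∃ κ : t.obj b ⟶ t'.obj b, 𝒳.p.IsHomLift (𝟙 b.obj.left) κ ∧
      ∀ (c : (Stk.sieveCat S).obj) (m : (j hSR).obj c ⟶ b),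
        t.map m ≫ κ = β.toNatTrans.app c ≫ t'.map m := by
  obtain ⟨κ, hκ1, hκ2⟩ := exists_glue' h𝒳 (t.w_obj b) (t'.w_obj b) (S.pullback b.obj.hom)
    (hR b.obj.hom b.property) (kFam hSR h𝒳 β b) (kFam_isHomLift hSR h𝒳 β b) (kFam_compat hSR h𝒳 β b)
  refine ⟨κ, hκ1, ?_⟩
  intro c m
  have hw : m.hom.left ≫ b.obj.hom = c.obj.hom := Over.w m.hom
  have hg : (S.pullback b.obj.hom) m.hom.left := by
    change S (m.hom.left ≫ b.obj.hom)
    rw [hw]
    exact c.property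
  have hm : 𝒳.p.IsHomLift m.hom.left (t.map m) := map_isHomLift t m
  rw [hκ2 m.hom.left hg _ (t.map m) hm]
  -- the comparison of `c` with the attached object
  let e : c ⟶ cObj b m.hom.left hg :=
    ObjectProperty.homMk (Over.homMk (U := c.obj) (V := Over.mk (m.hom.left ≫ b.obj.hom)) (𝟙 _)
      ((Category.id_comp _).trans hw))
  have he : (j hSR).map e ≫ cHom hSR b m.hom.left hg = m := by
    apply ObjectProperty.hom_ext
    apply Over.OverMorphism.ext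
    exact Category.id_comp _
  have hθ : θ hSR h𝒳 b m.hom.left hg _ (t.map m) hm = t.map ((j hSR).map e) := by
    have c' : 𝒳.p.IsStronglyCartesian m.hom.left (t.map (cHom hSR b m.hom.left hg)) :=
      have := map_cHom_isHomLift hSR t b m.hom.left hg
      isStronglyCartesian_of_isFibGrpd 𝒳.p h𝒳 _ _
    have i1 := θ_isHomLift hSR h𝒳 b m.hom.left hg _ (t.map m) hm
    have i2 : 𝒳.p.IsHomLift (𝟙 ((j hSR).obj c).obj.left) (t.map ((j hSR).map e)) :=
      map_isHomLift t ((j hSR).map e)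
    apply IsStronglyCartesian.ext 𝒳.p m.hom.left (t.map (cHom hSR b m.hom.left hg)) (𝟙 _)
    rw [θ_fac, ← t.map_comp, he]
  have nat : t.map ((j hSR).map e) ≫ β.toNatTrans.app (cObj b m.hom.left hg) =
      β.toNatTrans.app c ≫ t'.map ((j hSR).map e) := β.toNatTrans.naturality e
  unfold kFam
  rw [hθ, ← Category.assoc, nat, Category.assoc, ← t'.map_comp, he]

include h𝒳 in
theorem restr_j_full (hR : ∀ ⦃V : C⦄ (f : V ⟶ U), R f → Stk.IsPrestackFor (S.pullback f) 𝒳) :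
    (Stk.restr (j hSR) 𝒳).Full where
  map_surjective := by
    intro t t' β
    have hfull : ∀ ⦃V : C⦄ (f : V ⟶ U), R f → (Stk.resSieve (S.pullback f) 𝒳).Full := fun V f hf => (hR f hf).1
    have hfaith : ∀ ⦃V : C⦄ (f : V ⟶ U), R f → (Stk.resSieve (S.pullback f) 𝒳).Faithful :=
      fun V f hf => (hR f hf).2
    choose κ hκ1 hκ2 using exists_app hSR h𝒳 β hfull
    let α : t ⟶ t' :=
      { toNatTrans :=
          { app := κ
            naturality := fun {b₁ b₂} n => by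
              have hn : 𝒳.p.IsHomLift n.hom.left (t.map n) := map_isHomLift t n
              have hn' : 𝒳.p.IsHomLift n.hom.left (t'.map n) := map_isHomLift t' n
              apply hom_ext_of_locally' h𝒳 (t.w_obj b₁) (S.pullback b₁.obj.hom)
                (hfaith b₁.obj.hom b₁.property) n.hom.left _ _
                (isHomLift_comp_id_right 𝒳.p n.hom.left _ _ hn (hκ1 b₂))
                (isHomLift_comp_id_left 𝒳.p n.hom.left _ _ (hκ1 b₁) hn')
              intro W g hg s ψ hψ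
              obtain ⟨θ', hθ1, hθ2⟩ := exists_comparison h𝒳 g (t.map (cHom hSR b₁ g hg))
                (map_cHom_isHomLift hSR t b₁ g hg) ψ hψ
              rw [← hθ2]
              have e1 := hκ2 b₂ (cObj b₁ g hg) (cHom hSR b₁ g hg ≫ n)
              have e2 := hκ2 b₁ (cObj b₁ g hg) (cHom hSR b₁ g hg)
              rw [t.map_comp, t'.map_comp, Category.assoc] at e1
              simp only [Category.assoc]
              rw [e1, ← Category.assoc (t.map (cHom hSR b₁ g hg)), e2, Category.assoc] }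
        isHomLift' := fun b => hκ1 b }
    refine ⟨α, ?_⟩
    apply BasedNatTrans.homCategory.ext
    apply NatTrans.ext
    funext c
    change κ ((j hSR).obj c) = β.toNatTrans.app c
    have e := hκ2 ((j hSR).obj c) c (𝟙 _)
    rw [t.map_id, t'.map_id, Category.id_comp] at e
    exact e.trans (Category.comp_id _)

end Full

include hSR in
/-- **Refinement of sieves.** -/
theorem isStackFor_of_le (h𝒳 : IsFibGrpd 𝒳.p) (hS : Stk.IsStackFor S 𝒳)
    (hR : ∀ ⦃V : C⦄ (f : V ⟶ U), R f → Stk.IsPrestackFor (S.pullback f) 𝒳) : Stk.IsStackFor R 𝒳 := by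
  have hfa : (Stk.restr (j hSR) 𝒳).Faithful := restr_j_faithful hSR h𝒳 (fun V f hf => (hR f hf).2)
  have hfu : (Stk.restr (j hSR) 𝒳).Full := restr_j_full hSR h𝒳 hR
  have hSe : (Stk.restr (Stk.sieveIncl S) 𝒳).IsEquivalence := hS
  have e : Stk.restr (Stk.sieveIncl S) 𝒳 = Stk.restr (Stk.sieveIncl R) 𝒳 ⋙ Stk.restr (j hSR) 𝒳 := by
    rw [← RestrSrc.restr_comp, j_comp]
  have hes : (Stk.restr (j hSR) 𝒳).EssSurj := by
    constructor
    intro t
    obtain ⟨G, ⟨γ⟩⟩ := Functor.EssSurj.mem_essImage (Stk.restr (Stk.sieveIncl S) 𝒳) t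
    refine ⟨(Stk.restr (Stk.sieveIncl R) 𝒳).obj G, ⟨?_⟩⟩
    exact eqToIso (by rw [e]; rfl) ≪≫ γ
  have hje : (Stk.restr (j hSR) 𝒳).IsEquivalence := { }
  have hcomp : (Stk.restr (Stk.sieveIncl R) 𝒳 ⋙ Stk.restr (j hSR) 𝒳).IsEquivalence := by
    rw [← e]
    exact hSe
  exact Functor.isEquivalence_of_comp_right (Stk.restr (Stk.sieveIncl R) 𝒳) (Stk.restr (j hSR) 𝒳)

end Groth.Agent.Lib.Helper65.SieveRefine
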