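import Groth.Prelude.Def_AlgSt6

/-!
# Helper65: basic torsor computations in the quotient category `[X/G]` with sheaf torsors (`AlgSt.SpQuotSt`)

Transport to `Over B` (`B` an fppf sheaf) of helper66's `QuotStBasic` / `QuotStHom` (which are for schemes over `S`).
-/

set_option autoImplicit false
set_option backward.isDefEq.respectTransparency false
set_option backward.isDefEq.respectTransparency.types false
set_option linter.unusedSimpArgs false
set_option linter.unusedVariables false

universe u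

open CategoryTheory CategoryTheory.Limits MonoidalCategory CartesianMonoidalCategory MonObj GrpObj AlgebraicGeometry

namespace Groth.Agent.Lib.Helper65.SpQ

open AlgSt

variable {S : Scheme.{u}} {K : Precoverage Scheme.{u}} {B : AlgSp.Sp S} {G : Over B} [GrpObj G] {X : Over B}
  {aX : AlgSp.GAction G X}

/-- `(g, (h, t)) ↦ (g h) · s(t)` equals `(g, (h, t)) ↦ g · (h · s(t))`. -/
theorem leftMul_act_comp {Y T : Over B} (a : AlgSp.GAction G Y) (s : T ⟶ Y) :
    (spLeftMul G T).act ≫ (G ◁ s) ≫ a.act = (G ◁ ((G ◁ s) ≫ a.act)) ≫ a.act := by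
  have hμ : fst (G ⊗ G) Y ≫ μ[G] = (fst _ _ ≫ fst G G) * (fst _ _ ≫ snd G G) := by
    rw [Hom.mul_def, ← comp_lift, lift_fst_snd, Category.comp_id]
  have h : (spLeftMul G T).act ≫ (G ◁ s) = (G ◁ (G ◁ s)) ≫ (α_ G G Y).inv ≫ (μ[G] ▷ Y) := by
    apply CartesianMonoidalCategory.hom_ext
    · simp only [spLeftMul, Category.assoc, lift_fst, lift_snd, lift_fst_assoc, lift_snd_assoc, comp_lift, comp_mul, whiskerLeft_fst, whiskerLeft_snd, whiskerLeft_fst_assoc, whiskerLeft_snd_assoc, whiskerRight_fst, whiskerRight_snd, whiskerRight_fst_assoc, whiskerRight_snd_assoc, associator_hom_fst, associator_hom_snd_fst, associator_hom_snd_snd, associator_hom_snd_fst_assoc, associator_hom_snd_snd_assoc, associator_inv_fst_fst, associator_inv_fst_snd, associator_inv_snd, associator_inv_fst_fst_assoc, associator_inv_fst_snd_assoc, associator_inv_snd_assoc, hμ]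
    · simp only [spLeftMul, Category.assoc, lift_fst, lift_snd, lift_fst_assoc, lift_snd_assoc, comp_lift, comp_mul, whiskerLeft_fst, whiskerLeft_snd, whiskerLeft_fst_assoc, whiskerLeft_snd_assoc, whiskerRight_fst, whiskerRight_snd, whiskerRight_fst_assoc, whiskerRight_snd_assoc, associator_hom_fst, associator_hom_snd_fst, associator_hom_snd_snd, associator_hom_snd_fst_assoc, associator_hom_snd_snd_assoc, associator_inv_fst_fst, associator_inv_fst_snd, associator_inv_snd, associator_inv_fst_fst_assoc, associator_inv_fst_snd_assoc, associator_inv_snd_assoc]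
  have hm : (G ◁ a.act) ≫ a.act = (α_ G G Y).inv ≫ (μ[G] ▷ Y) ≫ a.act := by
    rw [a.mul_act, Iso.inv_hom_id_assoc]
  rw [MonoidalCategory.whiskerLeft_comp, Category.assoc, hm, reassoc_of% h]

/-- `(p q) · y = p · (q · y)` on `T`-points. -/
theorem act_mul_pt {T Y : Over B} (a : AlgSp.GAction G Y) (p q : T ⟶ G) (y : T ⟶ Y) :
    lift (p * q) y ≫ a.act = lift p (lift q y ≫ a.act) ≫ a.act := by
  have h1 : lift (p * q) y = lift (lift p q) y ≫ (μ[G] ▷ Y) := by
    apply CartesianMonoidalCategory.hom_ext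
    · simp only [Hom.mul_def, Category.assoc, lift_fst, lift_snd, whiskerRight_fst, whiskerRight_snd,
        lift_fst_assoc, lift_snd_assoc]
    · simp only [Hom.mul_def, Category.assoc, lift_fst, lift_snd, whiskerRight_fst, whiskerRight_snd,
        lift_fst_assoc, lift_snd_assoc]
  have h2 : lift (lift p q) y ≫ (α_ G G Y).hom ≫ (G ◁ a.act) = lift p (lift q y ≫ a.act) := by
    apply CartesianMonoidalCategory.hom_ext
    · simp only [Category.assoc, lift_fst, lift_snd, whiskerLeft_fst, whiskerLeft_snd, associator_hom_fst,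
        lift_fst_assoc, lift_snd_assoc]
    · simp only [Category.assoc, lift_fst, lift_snd, whiskerLeft_fst, whiskerLeft_snd,
        lift_fst_assoc, lift_snd_assoc]
      rw [← Category.assoc (α_ G G Y).hom, ← Category.assoc (lift (lift p q) y)]
      congr 1
      apply CartesianMonoidalCategory.hom_ext
      · simp only [Category.assoc, lift_fst, lift_snd, associator_hom_snd_fst, lift_fst_assoc, lift_snd_assoc]
      · simp only [Category.assoc, lift_fst, lift_snd, associator_hom_snd_snd, lift_fst_assoc, lift_snd_assoc]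
  rw [h1, Category.assoc, a.mul_act, ← h2]
  simp only [Category.assoc]

/-- `1 · y = y` on `T`-points. -/
theorem act_one_pt {T Y : Over B} (a : AlgSp.GAction G Y) (y : T ⟶ Y) :
    lift (1 : T ⟶ G) y ≫ a.act = y := by
  have h1 : lift (1 : T ⟶ G) y = lift (toUnit T) y ≫ (η[G] ▷ Y) := by
    apply CartesianMonoidalCategory.hom_ext
    · simp only [Hom.one_def, Category.assoc, lift_fst, whiskerRight_fst, lift_fst_assoc]
    · simp only [Category.assoc, lift_snd, whiskerRight_snd]
  rw [h1, Category.assoc, a.one_act, leftUnitor_hom, lift_snd]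

/-- `(k, t) ↦ (k g(t), f(t))`. -/
noncomputable def rightMulMap {T T' : Over B} (f : T ⟶ T') (g : T ⟶ G) : G ⊗ T ⟶ G ⊗ T' :=
  lift (fst G T * (snd G T ≫ g)) (snd G T ≫ f)

theorem rightMulMap_eqv {T T' : Over B} (f : T ⟶ T') (g : T ⟶ G) :
    (spLeftMul G T).act ≫ rightMulMap f g = (G ◁ rightMulMap f g) ≫ (spLeftMul G T').act := by
  apply CartesianMonoidalCategory.hom_ext
  · simp only [spLeftMul, rightMulMap, Category.assoc, lift_fst, lift_snd, lift_fst_assoc, lift_snd_assoc,
      comp_lift, comp_mul, whiskerLeft_fst, whiskerLeft_snd, whiskerLeft_fst_assoc, whiskerLeft_snd_assoc]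
    rw [_root_.mul_assoc]
  · simp only [spLeftMul, rightMulMap, Category.assoc, lift_fst, lift_snd, lift_fst_assoc, lift_snd_assoc,
      comp_lift, comp_mul, whiskerLeft_fst, whiskerLeft_snd, whiskerLeft_fst_assoc, whiskerLeft_snd_assoc]

theorem rightMulMap_comp {T T' T'' : Over B} (f : T ⟶ T') (g : T ⟶ G) (f' : T' ⟶ T'') (g' : T' ⟶ G) :
    rightMulMap f g ≫ rightMulMap f' g' = rightMulMap (f ≫ f') (g * (f ≫ g')) := by
  apply CartesianMonoidalCategory.hom_ext
  · simp only [rightMulMap, Category.assoc, lift_fst, lift_snd, lift_fst_assoc, lift_snd_assoc,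
      comp_lift, comp_mul]
    rw [_root_.mul_assoc]
  · simp only [rightMulMap, Category.assoc, lift_fst, lift_snd, lift_fst_assoc, lift_snd_assoc,
      comp_lift, comp_mul]

theorem rightMulMap_id_one (T : Over B) : rightMulMap (𝟙 T) (1 : T ⟶ G) = 𝟙 (G ⊗ T) := by
  apply CartesianMonoidalCategory.hom_ext
  · simp only [rightMulMap, lift_fst, Category.id_comp, comp_one, _root_.mul_one]
  · simp only [rightMulMap, lift_snd, Category.id_comp, Category.comp_id]

theorem rightMulMap_one {T T' : Over B} (f : T ⟶ T') : rightMulMap f (1 : T ⟶ G) = G ◁ f := by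
  apply CartesianMonoidalCategory.hom_ext
  · simp only [rightMulMap, lift_fst, comp_one, _root_.mul_one, whiskerLeft_fst]
  · simp only [rightMulMap, lift_snd, whiskerLeft_snd]

theorem rightMulMap_snd {T T' : Over B} (f : T ⟶ T') (g : T ⟶ G) :
    rightMulMap f g ≫ snd G T' = snd G T ≫ f := lift_snd _ _

theorem isIso_rightMulMap_id {T : Over B} (g : T ⟶ G) : IsIso (rightMulMap (𝟙 T) g) := by
  refine ⟨⟨rightMulMap (𝟙 T) g⁻¹, ?_, ?_⟩⟩
  · rw [rightMulMap_comp, Category.id_comp, Category.id_comp, _root_.mul_inv_cancel, rightMulMap_id_one]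
  · rw [rightMulMap_comp, Category.id_comp, Category.id_comp, _root_.inv_mul_cancel, rightMulMap_id_one]

theorem rightMulMap_cart {T T' : Over B} (f : T ⟶ T') (g : T ⟶ G) :
    IsPullback (rightMulMap f g) (snd G T) (snd G T') f := by
  have h1 : rightMulMap f g = rightMulMap (𝟙 T) g ≫ (G ◁ f) := by
    rw [← rightMulMap_one, rightMulMap_comp, Category.id_comp, Category.id_comp, _root_.mul_one]
  have := isIso_rightMulMap_id g
  have h2 : IsPullback (rightMulMap (𝟙 T) g) (snd G T) (snd G T) (𝟙 T) :=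
    IsPullback.of_horiz_isIso ⟨by rw [rightMulMap_snd]⟩
  have h3 := h2.paste_horiz (isPullback_whiskerLeft' (G := G) f)
  rw [h1]
  simpa using h3

theorem rightMulMap_wφ {T T' : Over B} (f : T ⟶ T') (g : T ⟶ G) (x : T ⟶ X) (x' : T' ⟶ X)
    (hg : lift g (f ≫ x') ≫ aX.act = x) :
    rightMulMap f g ≫ (G ◁ x') ≫ aX.act = (G ◁ x) ≫ aX.act := by
  have h1 : rightMulMap f g ≫ (G ◁ x') = lift (fst G T * (snd G T ≫ g)) (snd G T ≫ f ≫ x') := by
    apply CartesianMonoidalCategory.hom_ext
    · simp only [rightMulMap, Category.assoc, lift_fst, lift_snd, whiskerLeft_fst, lift_fst_assoc]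
    · simp only [rightMulMap, Category.assoc, lift_fst, lift_snd, whiskerLeft_snd, lift_snd_assoc]
  have h2 : (G ◁ x) = lift (fst G T) (lift (snd G T ≫ g) (snd G T ≫ f ≫ x') ≫ aX.act) := by
    apply CartesianMonoidalCategory.hom_ext
    · simp only [lift_fst, whiskerLeft_fst]
    · simp only [lift_snd, whiskerLeft_snd]
      rw [← hg, ← Category.assoc, comp_lift]
  rw [← Category.assoc, h1, act_mul_pt, ← h2]

theorem rightMulMap_injective {T T' : Over B} (f : T ⟶ T') {g g' : T ⟶ G}
    (h : rightMulMap f g = rightMulMap f g') : g = g' := by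
  have key : ∀ g : T ⟶ G, lift (1 : T ⟶ G) (𝟙 T) ≫ rightMulMap f g ≫ fst G T' = g := by
    intro g
    simp only [rightMulMap, lift_fst, comp_mul, lift_fst, lift_snd_assoc, Category.id_comp, _root_.one_mul]
  rw [← key g, ← key g', h]

/-- Raw form: an equivariant map `G ×_B T ⟶ G ×_B T'` over `b` compatible with the maps to `X` is right
multiplication by a point of `G`. -/
theorem exists_eq_rightMulMap_raw {T T' : Over B} (x : T ⟶ X) (x' : T' ⟶ X) (b : T ⟶ T')
    (top : G ⊗ T ⟶ G ⊗ T')
    (heqv : (spLeftMul G T).act ≫ top = (G ◁ top) ≫ (spLeftMul G T').act)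
    (hw : top ≫ snd G T' = snd G T ≫ b)
    (hφ : top ≫ (G ◁ x') ≫ aX.act = (G ◁ x) ≫ aX.act) :
    ∃ g : T ⟶ G, lift g (b ≫ x') ≫ aX.act = x ∧ top = rightMulMap b g := by
  let e : T ⟶ G ⊗ T := lift (1 : T ⟶ G) (𝟙 T)
  refine ⟨e ≫ top ≫ fst G T', ?_, ?_⟩
  · have h1 : e ≫ top ≫ (G ◁ x') = lift (e ≫ top ≫ fst G T') (b ≫ x') := by
      apply CartesianMonoidalCategory.hom_ext
      · simp only [Category.assoc, lift_fst, whiskerLeft_fst]
      · simp only [Category.assoc, lift_snd, whiskerLeft_snd]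
        rw [reassoc_of% hw]
        simp only [e, lift_snd_assoc, Category.id_comp]
    have h2 : e ≫ (G ◁ x) = lift (1 : T ⟶ G) x := by
      apply CartesianMonoidalCategory.hom_ext
      · simp only [e, Category.assoc, lift_fst, whiskerLeft_fst]
      · simp only [e, Category.assoc, lift_snd, whiskerLeft_snd, lift_snd_assoc, Category.id_comp]
    calc lift (e ≫ top ≫ fst G T') (b ≫ x') ≫ aX.act
        = (e ≫ top ≫ (G ◁ x')) ≫ aX.act := by rw [h1]
      _ = e ≫ top ≫ (G ◁ x') ≫ aX.act := by simp only [Category.assoc]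
      _ = e ≫ (G ◁ x) ≫ aX.act := by rw [hφ]
      _ = (e ≫ (G ◁ x)) ≫ aX.act := by simp only [Category.assoc]
      _ = x := by rw [h2, act_one_pt]
  · have hm : (G ◁ e) ≫ (spLeftMul G T).act = 𝟙 (G ⊗ T) := by
      apply CartesianMonoidalCategory.hom_ext
      · simp only [spLeftMul, e, Category.assoc, lift_fst, lift_snd, comp_mul, whiskerLeft_fst,
          whiskerLeft_snd_assoc, lift_fst_assoc, Category.id_comp, comp_one, _root_.mul_one]
      · simp only [spLeftMul, e, Category.assoc, lift_fst, lift_snd, whiskerLeft_snd_assoc,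
          lift_snd_assoc, Category.id_comp, Category.comp_id]
    have h4 : top = (G ◁ e) ≫ (G ◁ top) ≫ (spLeftMul G T').act := by
      rw [← heqv, reassoc_of% hm]
    apply CartesianMonoidalCategory.hom_ext
    · have h5 : (G ◁ e) ≫ (G ◁ top) ≫ (spLeftMul G T').act ≫ fst G T' =
          fst G T * (snd G T ≫ e ≫ top ≫ fst G T') := by
        simp only [spLeftMul, Category.assoc, lift_fst, lift_snd, comp_mul, whiskerLeft_fst,
          whiskerLeft_fst_assoc, whiskerLeft_snd_assoc, lift_fst_assoc]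
      have h6 : top ≫ fst G T' = (G ◁ e) ≫ (G ◁ top) ≫ (spLeftMul G T').act ≫ fst G T' := by
        conv_lhs => rw [h4]
        simp only [Category.assoc]
      calc top ≫ fst G T' = fst G T * (snd G T ≫ e ≫ top ≫ fst G T') := h6.trans h5
        _ = rightMulMap b (e ≫ top ≫ fst G T') ≫ fst G T' := (lift_fst _ _).symm
    · rw [rightMulMap_snd, hw]

theorem unit_whisker_act {T Y : Over B} (a : AlgSp.GAction G Y) (σ : T ⟶ Y) :
    lift (1 : T ⟶ G) (𝟙 T) ≫ (G ◁ σ) ≫ a.act = σ := by
  have h2 : lift (1 : T ⟶ G) (𝟙 T) ≫ (G ◁ σ) = lift (1 : T ⟶ G) σ := by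
    apply CartesianMonoidalCategory.hom_ext
    · simp only [Category.assoc, lift_fst, whiskerLeft_fst]
    · simp only [Category.assoc, lift_snd, whiskerLeft_snd, lift_snd_assoc, Category.id_comp]
  rw [← Category.assoc, h2, act_one_pt]

theorem whisker_unit_leftMul (T : Over B) :
    (G ◁ lift (1 : T ⟶ G) (𝟙 T)) ≫ (spLeftMul G T).act = 𝟙 (G ⊗ T) := by
  apply CartesianMonoidalCategory.hom_ext
  · simp only [spLeftMul, Category.assoc, lift_fst, lift_snd, comp_mul, whiskerLeft_fst,
      whiskerLeft_snd_assoc, lift_fst_assoc, Category.id_comp, comp_one, _root_.mul_one]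
  · simp only [spLeftMul, Category.assoc, lift_fst, lift_snd, whiskerLeft_snd_assoc,
      lift_snd_assoc, Category.id_comp, Category.comp_id]

/-- the action on points is compatible with an equivariant morphism -/
theorem lift_act_comp {Y Y' : Over B} (a : AlgSp.GAction G Y) (a' : AlgSp.GAction G Y') (top : Y ⟶ Y')
    (heq : a.act ≫ top = (G ◁ top) ≫ a'.act) {T : Over B} (gg : T ⟶ G) (p : T ⟶ Y) :
    (lift gg p ≫ a.act) ≫ top = lift gg (p ≫ top) ≫ a'.act := by
  rw [Category.assoc, heq, ← Category.assoc]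
  congr 1
  apply CartesianMonoidalCategory.hom_ext
  · rw [Category.assoc, whiskerLeft_fst, lift_fst, lift_fst]
  · rw [Category.assoc, whiskerLeft_snd, lift_snd_assoc, lift_snd]

/-! ### Trivial objects -/

section Triv

variable [K.HasIsos]

variable (K aX) in
/-- The trivial object over `T` attached to a section `β` of `B` and a `T`-point `x` of `X` over `β`. -/
noncomputable def trivObj (T : Over S) (β : (AlgSp.yon S).obj T ⟶ B) (x : Over.mk β ⟶ X) : SpQuotObj K G aX where
  base := T
  b := β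
  P := G ⊗ Over.mk β
  act := spLeftMul G _
  π := snd G _
  cart := isPullback_spLeftMul _
  loc := hasSecLoc_of_section K (snd G (Over.mk β)).left
    (lift (toUnit _ ≫ η[G]) (𝟙 (Over.mk β))).left (by
      rw [← Over.comp_left, lift_snd, Over.id_left]; rfl)
  φ := (G ◁ x) ≫ aX.act
  eqv := leftMul_act_comp aX x

theorem spQuotMap_obj (a : (ofSp X.left).obj) :
    (spQuotMap K G aX).obj a = trivObj K aX a.base (secYon a ≫ X.hom) (secOver a) := rfl

/-- A point `s` of the torsor of `A` over `f : T ⟶ A.base` trivialises the pullback of `A` to `T`. -/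
noncomputable def trivHom (A : SpQuotObj K G aX) {T : Over S} {β : (AlgSp.yon S).obj T ⟶ B} (f : T ⟶ A.base)
    (w : (AlgSp.yon S).map f ≫ A.b = β) (s : Over.mk β ⟶ A.P) (hs : s ≫ A.π = bHom f w)
    (x : Over.mk β ⟶ X) (hx : s ≫ A.φ = x) :
    trivObj K aX T β x ⟶ A where
  base := f
  wb := w
  top := (G ◁ s) ≫ A.act.act
  eqv := leftMul_act_comp A.act s
  cart := by
    have := (isPullback_whiskerLeft' (G := G) s).paste_horiz A.cart
    rwa [hs] at this
  wφ := by
    subst hx
    change ((G ◁ s) ≫ A.act.act) ≫ A.φ = (G ◁ (s ≫ A.φ)) ≫ aX.act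
    rw [Category.assoc, A.eqv, MonoidalCategory.whiskerLeft_comp, Category.assoc]

/-- The morphism of trivial objects over `f` given by right multiplication by `g`. -/
noncomputable def trivMor {T T' : Over S} {β : (AlgSp.yon S).obj T ⟶ B} {β' : (AlgSp.yon S).obj T' ⟶ B}
    (f : T ⟶ T') (w : (AlgSp.yon S).map f ≫ β' = β) (g : Over.mk β ⟶ G) (x : Over.mk β ⟶ X)
    (x' : Over.mk β' ⟶ X) (hg : lift g (bHom f w ≫ x') ≫ aX.act = x) :
    trivObj K aX T β x ⟶ trivObj K aX T' β' x' where
  base := f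
  wb := w
  top := rightMulMap (bHom f w) g
  eqv := rightMulMap_eqv _ g
  cart := rightMulMap_cart _ g
  wφ := rightMulMap_wφ _ g x x' hg

/-- Every morphism between trivial objects is right multiplication by a point of `G`. -/
theorem exists_eq_rightMulMap {T T' : Over S} {β : (AlgSp.yon S).obj T ⟶ B} {β' : (AlgSp.yon S).obj T' ⟶ B}
    (x : Over.mk β ⟶ X) (x' : Over.mk β' ⟶ X) (h : trivObj K aX T β x ⟶ trivObj K aX T' β' x') :
    ∃ g : Over.mk β ⟶ G, lift g (bHom h.base h.wb ≫ x') ≫ aX.act = x ∧ h.top = rightMulMap (bHom h.base h.wb) g :=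
  exists_eq_rightMulMap_raw x x' (bHom h.base h.wb) h.top h.eqv h.cart.w h.wφ

end Triv

/-! ### Isomorphisms -/

theorem isIso_bHom {T T' : Over S} {b : (AlgSp.yon S).obj T ⟶ B} {b' : (AlgSp.yon S).obj T' ⟶ B} (f : T ⟶ T')
    (w : (AlgSp.yon S).map f ≫ b' = b) [IsIso f] : IsIso (bHom f w) := by
  have : IsIso ((Over.forget B).map (bHom f w)) := inferInstanceAs (IsIso ((AlgSp.yon S).map f))
  exact isIso_of_reflects_iso _ (Over.forget B)

theorem bHom_comp_bHom {T T' T'' : Over S} {b : (AlgSp.yon S).obj T ⟶ B} {b' : (AlgSp.yon S).obj T' ⟶ B}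
    {b'' : (AlgSp.yon S).obj T'' ⟶ B} (f : T ⟶ T') (g : T' ⟶ T'') (w : (AlgSp.yon S).map f ≫ b' = b)
    (w' : (AlgSp.yon S).map g ≫ b'' = b') :
    bHom f w ≫ bHom g w' = bHom (f ≫ g) (by rw [Functor.map_comp, Category.assoc, w', w]) :=
  (bHom_comp f g w w' _).symm

theorem bHom_congr {T T' : Over S} {b : (AlgSp.yon S).obj T ⟶ B} {b' : (AlgSp.yon S).obj T' ⟶ B} {f f' : T ⟶ T'}
    (e : f = f') (w : (AlgSp.yon S).map f ≫ b' = b) :
    bHom f w = bHom f' (by rw [← e]; exact w) := by
  subst e; rfl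

/-- The inverse of a morphism of `[X/G]` over an isomorphism of bases. -/
noncomputable def invOfIsIsoBase {A A' : SpQuotObj K G aX} (h : A ⟶ A') [IsIso h.base] : A' ⟶ A :=
  have hb : IsIso (bHom h.base h.wb) := isIso_bHom _ _
  have : IsIso h.top := h.cart.isIso_fst_of_isIso
  have wb' : (AlgSp.yon S).map (inv h.base) ≫ A.b = A'.b := by
    rw [← h.wb, ← Category.assoc, ← Functor.map_comp, IsIso.inv_hom_id, CategoryTheory.Functor.map_id,
      Category.id_comp]
  { base := inv h.base
    wb := wb'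
    top := inv h.top
    eqv := by
      have h1 : A.act.act ≫ h.top = (G ◁ h.top) ≫ A'.act.act := h.eqv
      have h2 : (G ◁ inv h.top) ≫ (G ◁ h.top) = 𝟙 _ := by
        rw [← MonoidalCategory.whiskerLeft_comp, IsIso.inv_hom_id, MonoidalCategory.whiskerLeft_id]
      rw [IsIso.comp_inv_eq, Category.assoc, h1, reassoc_of% h2]
    cart := by
      have : IsIso (bHom (inv h.base) wb') := isIso_bHom _ _
      refine IsPullback.of_horiz_isIso ⟨?_⟩
      have e : bHom h.base h.wb ≫ bHom (inv h.base) wb' = 𝟙 _ := by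
        rw [bHom_comp_bHom, bHom_congr (IsIso.hom_inv_id h.base), bHom_id]
      rw [IsIso.inv_comp_eq, ← Category.assoc, h.cart.w, Category.assoc, e, Category.comp_id]
    wφ := by rw [IsIso.inv_comp_eq]; exact h.wφ.symm }

theorem isIso_of_isIso_base {A A' : SpQuotObj K G aX} (h : A ⟶ A') [IsIso h.base] : IsIso h := by
  have hb : IsIso (bHom h.base h.wb) := isIso_bHom _ _
  have : IsIso h.top := h.cart.isIso_fst_of_isIso
  refine ⟨⟨invOfIsIsoBase h, ?_, ?_⟩⟩
  · apply SpQuotObj.hom_ext
    · change h.base ≫ inv h.base = 𝟙 _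
      simp
    · change h.top ≫ inv h.top = 𝟙 _
      simp
  · apply SpQuotObj.hom_ext
    · change inv h.base ≫ h.base = 𝟙 _
      simp
    · change inv h.top ≫ h.top = 𝟙 _
      simp

theorem hom_isHomLift_base {A A' : SpQuotObj K G aX} (ψ : A ⟶ A') :
    (SpQuotSt K G aX).p.IsHomLift ψ.base ψ :=
  inferInstanceAs ((SpQuotObj.forget K G aX).IsHomLift ((SpQuotObj.forget K G aX).map ψ) ψ)

/-! ### Points of a torsor -/

section Torsor

/-- two points of a torsor over the same point of the base differ by a point of the group: existence -/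
theorem exists_transl (A : SpQuotObj K G aX) {T : Over B} (p p' : T ⟶ A.P) (h : p ≫ A.π = p' ≫ A.π) :
    ∃ gg : T ⟶ G, lift gg p' ≫ A.act.act = p := by
  refine ⟨A.cart.lift p p' h ≫ fst G A.P, ?_⟩
  have e : lift (A.cart.lift p p' h ≫ fst G A.P) p' = A.cart.lift p p' h := by
    apply CartesianMonoidalCategory.hom_ext
    · rw [lift_fst]
    · rw [lift_snd]; exact (A.cart.lift_snd p p' h).symm
  rw [e]
  exact A.cart.lift_fst p p' h

/-- two points of a torsor over the same point of the base differ by a unique point of the group: uniqueness -/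
theorem transl_unique (A : SpQuotObj K G aX) {T : Over B} (p' : T ⟶ A.P) (gg gg' : T ⟶ G)
    (h : lift gg p' ≫ A.act.act = lift gg' p' ≫ A.act.act) : gg = gg' := by
  have e : lift gg p' = lift gg' p' := by
    apply A.cart.hom_ext
    · exact h
    · rw [lift_snd, lift_snd]
  have := congrArg (fun t => t ≫ fst G A.P) e
  simpa using this

/-- the structure map of a torsor is invariant, on points -/
theorem lift_act_π (A : SpQuotObj K G aX) {T : Over B} (gg : T ⟶ G) (p : T ⟶ A.P) :
    (lift gg p ≫ A.act.act) ≫ A.π = p ≫ A.π := by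
  rw [Category.assoc, A.cart.w, ← Category.assoc, lift_snd]

end Torsor

end Groth.Agent.Lib.Helper65.SpQ
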