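import Groth.Agent.Lib.Helper65.SpQRep
import Groth.Agent.Lib.Helper66.SpTorsor1
import Groth.Agent.Lib.Helper65.RepPsh
import Groth.Agent.Lib.Helper65.RepDesc
import Groth.Agent.Lib.Helper65.LocalProps

/-!
# Helper65: properties of `X ⟶ [X/G]` (sheaf torsors) inherited from `G ⟶ B`
-/

set_option autoImplicit false
set_option backward.isDefEq.respectTransparency false
set_option backward.isDefEq.respectTransparency.types false
set_option linter.unusedSimpArgs false
set_option linter.unusedVariables false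
set_option linter.unusedSectionVars false

universe u

open CategoryTheory CategoryTheory.Limits MonoidalCategory CartesianMonoidalCategory MonObj GrpObj AlgebraicGeometry

namespace Groth.Agent.Lib.Helper65.SpQ

open AlgSt Groth.Agent.Lib.Helper66.SpTorsor

variable {S : Scheme.{u}} {B : AlgSp.Sp S} {G : Over B} [GrpObj G] {X : Over B}
  {aX : AlgSp.GAction G X}

/-- A property of `G ⟶ B`, stable under base change and fppf local on the base, is a property of the projection of
every fppf sheaf torsor. -/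
theorem prop_π (P : MorphismProperty (AlgSp.Sp S)) (hPb : StableBC P)
    (hloc : AlgSp.IsLocalOnBase AlgSp.IsFppfCover P) (hB : AlgSp.IsAlgSpace B) (hG : AlgSp.IsAlgSpace G.left)
    (hP : P G.hom) (A : SpQuotObj Scheme.fppfPrecoverage G aX) : P A.π.left := by
  obtain ⟨J, V, h, s, hs, h1, h2, h3⟩ := exists_sections A
  have hcov := isFppfCover_yon V h h1 h2 h3
  have hdata : ∀ i, ∃ (Q : AlgSp.Sp S) (fst : Q ⟶ A.P.left) (snd : Q ⟶ (AlgSp.yon S).obj (V i)) (pG : Q ⟶ G.left),
      IsPullback fst snd A.π.left ((AlgSp.yon S).map (h i)) ∧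
      IsPullback pG snd G.hom ((AlgSp.yon S).map (h i) ≫ A.b) := fun i =>
    isPullback_of_section A (h i) (s i) (hs i)
  choose Q fst snd pG sq1 sq2 using hdata
  have hQ : ∀ i, AlgSp.IsAlgSpace (Q i) := fun i =>
    Groth.Agent.H52.isAlgSpace_of_isPullback (sq2 i) hG hB (AlgSp.IsAlgSpace.yon_obj _)
  refine (hloc (fun i => (AlgSp.yon S).obj (V i)) (fun i => (AlgSp.yon S).map (h i))
    (AlgSp.IsAlgSpace.yon_obj _) (fun i => AlgSp.IsAlgSpace.yon_obj _) hcov
    A.π.left (isAlgSpace_torsor hB hG A) Q snd fst hQ sq1).2 ?_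
  intro i
  exact hPb hG hB (hQ i) (AlgSp.IsAlgSpace.yon_obj _) G.hom ((AlgSp.yon S).map (h i) ≫ A.b) (snd i) (pG i)
    (sq2 i) hP

/-- The projection of an fppf sheaf torsor is surjective. -/
theorem isSurjectiveMor_π (A : SpQuotObj Scheme.fppfPrecoverage G aX) : AlgSp.IsSurjectiveMor A.π.left := by
  obtain ⟨J, V, h, s, hs, h1, h2, h3⟩ := exists_sections A
  intro x
  obtain ⟨u, rfl⟩ := Groth.Agent.Lib.Helper54.exists_ofScheme_eq A.base x
  obtain ⟨i, v, hv⟩ := h3 u
  refine ⟨AlgSp.Points.map (s i) (AlgSp.Points.ofScheme (V i) v), ?_⟩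
  rw [← AlgSp.Points.map_comp, hs i]
  refine (AlgSp.Points.map_yon_map_apply (h i) v).trans (congrArg _ ?_)
  exact hv

theorem comp_eqToHom_prop (P : MorphismProperty (AlgSp.Sp S)) {K : Precoverage Scheme.{u}}
    (hP : ∀ A : SpQuotObj K G aX, P A.π.left)
    (A : SpQuotObj K G aX) (T : Over S) (e : A.base = T) :
    P (A.π.left ≫ (AlgSp.yon S).map (eqToHom e)) := by
  subst e
  rw [eqToHom_refl, CategoryTheory.Functor.map_id]
  exact (Category.comp_id A.π.left).symm ▸ hP A

/-- The representing space and equivalence: a property of the torsor projections is a property of `X ⟶ [X/G]`. -/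
theorem repByAlgSpWith_spQuotMap (P : MorphismProperty (AlgSp.Sp S))
    (hB : AlgSp.IsAlgSpace B) (hG : AlgSp.IsAlgSpace G.left)
    (hP : ∀ A : SpQuotObj Scheme.fppfPrecoverage G aX, P A.π.left) :
    AlgSt.RepByAlgSpWith P (spQuotMap Scheme.fppfPrecoverage G aX) := by
  intro U y
  refine ⟨⟨topP y, isAlgSpace_torsor hB hG (topObj y)⟩, repF y, repF_isEquivOver y, ?_⟩
  change P (AlgSt.spMapOfOver (BasedFunctor.comp (ofSpMap (topπ y)) (toOverCat U)))
  rw [spMapOfOver_ofSpMap_toOverCat]
  exact comp_eqToHom_prop P hP _ _ _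

end Groth.Agent.Lib.Helper65.SpQ
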