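import Groth.Agent.Lib.Helper65.SpQFib
import Groth.Agent.Lib.Helper65.BasedEquiv
import Groth.Agent.Lib.Helper65.FpMap
import Groth.Agent.Lib.Helper65.OfPshMap

/-!
# Helper65: representability of `X ⟶ [X/G]` (sheaf torsors): the fibre product `T ×_{[X/G]} X` is the torsor

Transport of helper66's `QuotStRep`.
-/

set_option autoImplicit false
set_option backward.isDefEq.respectTransparency false
set_option backward.isDefEq.respectTransparency.types false
set_option linter.unusedSimpArgs false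
set_option linter.unusedVariables false
set_option linter.unusedSectionVars false

universe u

open CategoryTheory CategoryTheory.Limits MonoidalCategory CartesianMonoidalCategory MonObj GrpObj AlgebraicGeometry

namespace Groth.Agent.Lib.Helper65.SpQ

open AlgSt

variable {S : Scheme.{u}} {K : Precoverage Scheme.{u}} {B : AlgSp.Sp S} {G : Over B} [GrpObj G] {X : Over B}
  {aX : AlgSp.GAction G X}

section Yon

/-- `secYon` of a section of `h_T`. -/
theorem uliftYonedaEquiv_symm_up {T T' : Over S} (g : T' ⟶ T) :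
    ((AlgSp.J S).uliftYonedaEquiv).symm (⟨g⟩ : ((AlgSp.yon S).obj T).obj.obj (Opposite.op T')) =
      (AlgSp.yon S).map g := by
  apply (AlgSp.J S).uliftYonedaEquiv.injective
  rw [Equiv.apply_symm_apply]
  exact ((AlgSp.J S).uliftYonedaEquiv_uliftYoneda_map g).symm

/-- `secYon` is compatible with maps of sheaves. -/
theorem secYon_ofSpMap {Y Y' : Over B} (φ : Y ⟶ Y') (w : (ofSp Y.left).obj) :
    secYon (X := Y') ((ofSpMap φ.left).obj w) = secYon (X := Y) w ≫ φ.left :=
  ((AlgSp.J S).uliftYonedaEquiv_symm_naturality_right w.base φ.left w.sec).symm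

end Yon

variable [K.HasIsos]

/-- The morphism from a trivial object given by an (absolute) point of the torsor. -/
noncomputable def trivHom₀ (A : SpQuotObj K G aX) (c : (ofSp X.left).obj) (f : c.base ⟶ A.base)
    (s₀ : (AlgSp.yon S).obj c.base ⟶ A.P.left) (h1 : s₀ ≫ A.π.left = (AlgSp.yon S).map f)
    (h2 : s₀ ≫ A.φ.left = secYon c) : (spQuotMap K G aX).obj c ⟶ A :=
  have hP : s₀ ≫ A.P.hom = secYon c ≫ X.hom := by
    rw [← h2, Category.assoc, Over.w A.φ]
  have w : (AlgSp.yon S).map f ≫ A.b = secYon c ≫ X.hom := by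
    rw [← h1, Category.assoc, ← hP]
    congr 1
    exact Over.w A.π
  trivHom A f w (Over.homMk s₀ hP) (Over.OverMorphism.ext h1) (secOver c) (Over.OverMorphism.ext h2)

/-- The pullback square of a morphism of `[X/G]`, in sheaves. -/
theorem cartL {A A' : SpQuotObj K G aX} (h : A ⟶ A') :
    IsPullback h.top.left A.π.left A'.π.left ((AlgSp.yon S).map h.base) :=
  h.cart.map (Over.forget B)

variable {U : Over S} (y : FibCat.overCat U ⥤ᵇ SpQuotSt K G aX)

theorem y_base (a : Over U) : (y.obj a).base = a.left := y.w_obj a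

theorem y_map_base {a' a : Over U} (k : a' ⟶ a) :
    (y.map k).base = eqToHom (y_base y a') ≫ k.left ≫ eqToHom (y_base y a).symm :=
  Functor.congr_hom y.w k

/-- The map to the terminal object of `Over U`. -/
def toTerm (a : Over U) : a ⟶ Over.mk (𝟙 U) := Over.homMk a.hom (by simp)

/-- The object over `U` itself. -/
noncomputable abbrev topObj : SpQuotObj K G aX := y.obj (Over.mk (𝟙 U))

theorem topObj_base : (topObj y).base = U := y_base y (Over.mk (𝟙 U))

/-- The canonical morphism to the top object. -/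
noncomputable abbrev toTop (a : Over U) : y.obj a ⟶ topObj y := y.map (toTerm a)

theorem toTop_base (a : Over U) :
    (toTop y a).base = eqToHom (y_base y a) ≫ a.hom ≫ eqToHom (topObj_base y).symm :=
  y_map_base y (toTerm a)

theorem map_toTop {a' a : Over U} (k : a' ⟶ a) : y.map k ≫ toTop y a = toTop y a' := by
  rw [toTop, toTop, ← y.map_comp]
  congr 1
  apply Over.OverMorphism.ext
  change k.left ≫ a.hom = a'.hom
  exact Over.w k

/-- the top torsor, as a sheaf -/
noncomputable abbrev topP : AlgSp.Sp S := (topObj y).P.left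

/-- The structure map of the top torsor, to `h_U`. -/
noncomputable abbrev topπ : topP y ⟶ (AlgSp.yon S).obj U :=
  (topObj y).π.left ≫ (AlgSp.yon S).map (eqToHom (topObj_base y))

/-- `s₀ : h_{a.left} ⟶ P` lies over the structure map of `a`. -/
def Compat (a : Over U) (s₀ : (AlgSp.yon S).obj a.left ⟶ topP y) : Prop :=
  s₀ ≫ topπ y = (AlgSp.yon S).map a.hom

theorem Compat.eq {a : Over U} {s₀ : (AlgSp.yon S).obj a.left ⟶ topP y} (hs : Compat y a s₀) :
    s₀ ≫ (topObj y).π.left =
      (AlgSp.yon S).map (eqToHom (y_base y a).symm) ≫ (AlgSp.yon S).map (toTop y a).base := by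
  have h : (s₀ ≫ (topObj y).π.left) ≫ (AlgSp.yon S).map (eqToHom (topObj_base y)) =
      (AlgSp.yon S).map a.hom := by
    rw [Category.assoc]; exact hs
  rw [← cancel_mono ((AlgSp.yon S).map (eqToHom (topObj_base y))), h, ← Functor.map_comp, ← Functor.map_comp,
    toTop_base]
  congr 1
  simp

/-- The section of the torsor of `y a` induced by `s₀`. -/
noncomputable def sec (a : Over U) (s₀ : (AlgSp.yon S).obj a.left ⟶ topP y) (hs : Compat y a s₀) :
    (AlgSp.yon S).obj a.left ⟶ (y.obj a).P.left :=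
  (cartL (toTop y a)).lift s₀ ((AlgSp.yon S).map (eqToHom (y_base y a).symm)) hs.eq

theorem sec_top (a : Over U) (s₀ : (AlgSp.yon S).obj a.left ⟶ topP y) (hs : Compat y a s₀) :
    sec y a s₀ hs ≫ (toTop y a).top.left = s₀ := (cartL (toTop y a)).lift_fst _ _ _

theorem sec_π (a : Over U) (s₀ : (AlgSp.yon S).obj a.left ⟶ topP y) (hs : Compat y a s₀) :
    sec y a s₀ hs ≫ (y.obj a).π.left = (AlgSp.yon S).map (eqToHom (y_base y a).symm) :=
  (cartL (toTop y a)).lift_snd _ _ _

theorem sec_unique (a : Over U) (s₀ : (AlgSp.yon S).obj a.left ⟶ topP y) (hs : Compat y a s₀)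
    (σ' : (AlgSp.yon S).obj a.left ⟶ (y.obj a).P.left)
    (h1 : σ' ≫ (toTop y a).top.left = s₀)
    (h2 : σ' ≫ (y.obj a).π.left = (AlgSp.yon S).map (eqToHom (y_base y a).symm)) :
    σ' = sec y a s₀ hs := by
  apply (cartL (toTop y a)).hom_ext
  · rw [h1, sec_top]
  · rw [h2, sec_π]

theorem sec_φ (a : Over U) (s₀ : (AlgSp.yon S).obj a.left ⟶ topP y) (hs : Compat y a s₀) :
    sec y a s₀ hs ≫ (y.obj a).φ.left = s₀ ≫ (topObj y).φ.left := by
  have h : (toTop y a).top.left ≫ (topObj y).φ.left = (y.obj a).φ.left :=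
    congrArg (fun m => m.left) (toTop y a).wφ
  rw [← h, ← Category.assoc, sec_top]

/-- The point of `X` attached to a point of the top torsor. -/
noncomputable def cOf (a : Over U) (s₀ : (AlgSp.yon S).obj a.left ⟶ topP y) : (ofSp X.left).obj :=
  ⟨a.left, (AlgSp.J S).uliftYonedaEquiv (s₀ ≫ (topObj y).φ.left)⟩

theorem secYon_cOf (a : Over U) (s₀ : (AlgSp.yon S).obj a.left ⟶ topP y) :
    secYon (cOf y a s₀) = s₀ ≫ (topObj y).φ.left :=
  Equiv.symm_apply_apply _ _

/-- The trivialisation of `y a` induced by `s₀`. -/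
noncomputable def triv (a : Over U) (s₀ : (AlgSp.yon S).obj a.left ⟶ topP y) (hs : Compat y a s₀) :
    (spQuotMap K G aX).obj (cOf y a s₀) ⟶ y.obj a :=
  trivHom₀ (y.obj a) (cOf y a s₀) (eqToHom (y_base y a).symm) (sec y a s₀ hs) (sec_π y a s₀ hs)
    ((sec_φ y a s₀ hs).trans (secYon_cOf y a s₀).symm)

theorem triv_base (a : Over U) (s₀ : (AlgSp.yon S).obj a.left ⟶ topP y) (hs : Compat y a s₀) :
    (triv y a s₀ hs).base = eqToHom (y_base y a).symm := rfl

theorem triv_top_left (a : Over U) (s₀ : (AlgSp.yon S).obj a.left ⟶ topP y) (hs : Compat y a s₀) :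
    ∃ (hP : sec y a s₀ hs ≫ (y.obj a).P.hom = secYon (cOf y a s₀) ≫ X.hom),
      (triv y a s₀ hs).top = (G ◁ (Over.homMk (sec y a s₀ hs) hP :
        Over.mk (secYon (cOf y a s₀) ≫ X.hom) ⟶ (y.obj a).P)) ≫ (y.obj a).act.act :=
  ⟨_, rfl⟩

instance (a : Over U) (s₀ : (AlgSp.yon S).obj a.left ⟶ topP y) (hs : Compat y a s₀) :
    IsIso (triv y a s₀ hs) := by
  have : IsIso (triv y a s₀ hs).base := by rw [triv_base]; infer_instance
  exact isIso_of_isIso_base _

theorem triv_isHomLift (a : Over U) (s₀ : (AlgSp.yon S).obj a.left ⟶ topP y) (hs : Compat y a s₀) :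
    (SpQuotSt K G aX).p.IsHomLift (𝟙 a.left) (triv y a s₀ hs) := by
  apply IsHomLift.of_fac' (SpQuotSt K G aX).p (𝟙 a.left) (triv y a s₀ hs) rfl (y_base y a)
  change (triv y a s₀ hs).base = _
  rw [triv_base]
  simp

theorem sec_naturality {a' a : Over U} (k : a' ⟶ a) (s₀ : (AlgSp.yon S).obj a.left ⟶ topP y)
    (hs : Compat y a s₀) (s₀' : (AlgSp.yon S).obj a'.left ⟶ topP y) (hs' : Compat y a' s₀')
    (hk : (AlgSp.yon S).map k.left ≫ s₀ = s₀') :
    sec y a' s₀' hs' ≫ (y.map k).top.left = (AlgSp.yon S).map k.left ≫ sec y a s₀ hs := by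
  apply (cartL (toTop y a)).hom_ext
  · have h1 : (y.map k).top.left ≫ (toTop y a).top.left = (toTop y a').top.left :=
      congrArg (fun m => m.top.left) (map_toTop y k)
    rw [Category.assoc, h1, sec_top, Category.assoc, sec_top, hk]
  · have h2 : (y.map k).top.left ≫ (y.obj a).π.left = (y.obj a').π.left ≫ (AlgSp.yon S).map (y.map k).base :=
      (cartL (y.map k)).w
    rw [Category.assoc, h2, ← Category.assoc, sec_π, Category.assoc, sec_π, y_map_base,
      ← Functor.map_comp, ← Functor.map_comp]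
    congr 1
    simp

theorem triv_naturality {a' a : Over U} (k : a' ⟶ a) (s₀ : (AlgSp.yon S).obj a.left ⟶ topP y)
    (hs : Compat y a s₀) (s₀' : (AlgSp.yon S).obj a'.left ⟶ topP y) (hs' : Compat y a' s₀')
    (hk : (AlgSp.yon S).map k.left ≫ s₀ = s₀')
    (v : (spQuotMap K G aX).obj (cOf y a' s₀') ⟶ (spQuotMap K G aX).obj (cOf y a s₀))
    (hvb : v.base = k.left)
    (hvt : ∀ w, v.top = G ◁ bHom k.left w) :
    triv y a' s₀' hs' ≫ y.map k = v ≫ triv y a s₀ hs := by
  apply SpQuotObj.hom_ext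
  · change (triv y a' s₀' hs').base ≫ (y.map k).base = v.base ≫ (triv y a s₀ hs).base
    rw [triv_base, triv_base, y_map_base, hvb]
    simp
  · change (triv y a' s₀' hs').top ≫ (y.map k).top = v.top ≫ (triv y a s₀ hs).top
    have h1 : (y.obj a').act.act ≫ (y.map k).top = (G ◁ (y.map k).top) ≫ (y.obj a).act.act := (y.map k).eqv
    obtain ⟨hP, e⟩ := triv_top_left y a s₀ hs
    obtain ⟨hP', e'⟩ := triv_top_left y a' s₀' hs'
    have hw : (AlgSp.yon S).map k.left ≫ secYon (cOf y a s₀) ≫ X.hom = secYon (cOf y a' s₀') ≫ X.hom := by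
      rw [secYon_cOf, secYon_cOf, ← hk]
      simp only [Category.assoc]
    rw [e, e', hvt hw, Category.assoc, h1, ← Category.assoc, ← MonoidalCategory.whiskerLeft_comp,
      ← Category.assoc, ← MonoidalCategory.whiskerLeft_comp]
    congr 2
    apply Over.OverMorphism.ext
    exact sec_naturality y k s₀ hs s₀' hs' hk

section Functor

open Groth.Agent.Lib.Helper65

/-- The functor to the slice attached to the structure map of the top torsor. -/
noncomputable abbrev aF : ofSp (topP y) ⥤ᵇ FibCat.overCat U :=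
  BasedFunctor.comp (ofSpMap (topπ y)) (toOverCat U)

/-- The object of `Over U` attached to a point of the torsor. -/
noncomputable abbrev aOf (w : (ofSp (topP y)).obj) : Over U := (aF y).obj w

theorem aOf_left (w : (ofSp (topP y)).obj) : (aOf y w).left = w.base := rfl

theorem aOf_hom (w : (ofSp (topP y)).obj) : (aOf y w).hom = ((topπ y).hom.app _ w.sec).down := rfl

/-- the point `h_T ⟶ P` of a section -/
noncomputable abbrev pt (w : (ofSp (topP y)).obj) : (AlgSp.yon S).obj w.base ⟶ topP y :=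
  secYon (X := (topObj y).P) w

theorem compat_aOf (w : (ofSp (topP y)).obj) : Compat y (aOf y w) (pt y w) := by
  change pt y w ≫ topπ y = (AlgSp.yon S).map ((topπ y).hom.app _ w.sec).down
  rw [← uliftYonedaEquiv_symm_up]
  exact (AlgSp.J S).uliftYonedaEquiv_symm_naturality_right w.base (topπ y) w.sec

/-- The object of `ofSp X` attached to a point of the torsor. -/
noncomputable abbrev bOf (w : (ofSp (topP y)).obj) : (ofSp X.left).obj := cOf y (aOf y w) (pt y w)

/-- The trivialisation attached to a point of the torsor. -/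
noncomputable abbrev trivOf (w : (ofSp (topP y)).obj) : (spQuotMap K G aX).obj (bOf y w) ⟶ y.obj (aOf y w) :=
  triv y (aOf y w) (pt y w) (compat_aOf y w)

/-- The object of the fibre product attached to a point of the torsor. -/
noncomputable def repObj (w : (ofSp (topP y)).obj) : (FibCat.fp y (spQuotMap K G aX)).obj :=
  ⟨{ fst := aOf y w
     snd := bOf y w
     iso := (asIso (trivOf y w)).symm },
    by
      change (SpQuotSt K G aX).p.IsHomLift (𝟙 w.base) (asIso (trivOf y w)).inv
      have : (SpQuotSt K G aX).p.IsHomLift (𝟙 w.base) (asIso (trivOf y w)).hom :=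
        triv_isHomLift y (aOf y w) (pt y w) (compat_aOf y w)
      exact IsHomLift.lift_id_inv (SpQuotSt K G aX).p w.base (asIso (trivOf y w))⟩

theorem repObj_iso_hom (w : (ofSp (topP y)).obj) : (repObj y w).obj.iso.hom = inv (trivOf y w) := rfl

/-- The morphism of `Over U` attached to a morphism of points. -/
noncomputable abbrev aMap {w' w : (ofSp (topP y)).obj} (τ : w' ⟶ w) : aOf y w' ⟶ aOf y w := (aF y).map τ

theorem pt_comp {w' w : (ofSp (topP y)).obj} (τ : w' ⟶ w) : (AlgSp.yon S).map τ.hom ≫ pt y w = pt y w' :=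
  secYon_comp (X := (topObj y).P) τ

/-- The morphism of `ofSp X` attached to a morphism of points. -/
noncomputable def bMap {w' w : (ofSp (topP y)).obj} (τ : w' ⟶ w) : bOf y w' ⟶ bOf y w :=
  ⟨τ.hom, by
    change X.left.obj.map τ.hom.op ((AlgSp.J S).uliftYonedaEquiv (pt y w ≫ (topObj y).φ.left)) =
      (AlgSp.J S).uliftYonedaEquiv (pt y w' ≫ (topObj y).φ.left)
    rw [(AlgSp.J S).uliftYonedaEquiv_naturality, ← Category.assoc]
    congr 2
    exact pt_comp y τ⟩

theorem rep_square {w' w : (ofSp (topP y)).obj} (τ : w' ⟶ w) :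
    y.map (aMap y τ) ≫ (repObj y w).obj.iso.hom =
      (repObj y w').obj.iso.hom ≫ (spQuotMap K G aX).map (bMap y τ) := by
  rw [repObj_iso_hom, repObj_iso_hom, IsIso.comp_inv_eq, Category.assoc, IsIso.eq_inv_comp]
  exact triv_naturality y (aMap y τ) (pt y w) (compat_aOf y w) (pt y w') (compat_aOf y w') (pt_comp y τ)
    ((spQuotMap K G aX).map (bMap y τ)) rfl (fun _ => rfl)

/-- The functor from the torsor to the fibre product. -/
noncomputable def repF : ofSp (topP y) ⥤ᵇ FibCat.fp y (spQuotMap K G aX) where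
  toFunctor :=
    { obj := repObj y
      map := fun {w' w} τ => fpHomMk (aMap y τ) (bMap y τ) (rep_square y τ)
      map_id := fun w => by
        apply fp_hom_ext
        · apply Over.OverMorphism.ext; rfl
        · apply Stk.EltObj.hom_ext; rfl
      map_comp := fun τ τ' => by
        apply fp_hom_ext
        · apply Over.OverMorphism.ext; rfl
        · apply Stk.EltObj.hom_ext; rfl }
  w := rfl

theorem repF_comp_fpFst :
    BasedFunctor.comp (repF y) (FibCat.fpFst y (spQuotMap K G aX)) = aF y := rfl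

instance repF_faithful : (repF y).toFunctor.Faithful where
  map_injective := by
    intro w' w τ τ' h
    apply Stk.EltObj.hom_ext
    have h1 := congrArg (fun m => m.hom.fst.left) h
    exact h1

theorem pt_injective {T : Over S} {F : AlgSp.Sp S} (x x' : F.obj.obj (Opposite.op T))
    (h : (GrothendieckTopology.uliftYonedaEquiv.{u + 1} (AlgSp.J S)).symm x =
      (GrothendieckTopology.uliftYonedaEquiv.{u + 1} (AlgSp.J S)).symm x') : x = x' :=
  (GrothendieckTopology.uliftYonedaEquiv.{u + 1} (AlgSp.J S)).symm.injective h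

instance repF_full : (repF y).toFunctor.Full where
  map_surjective := by
    intro w' w m
    have hw := fp_hom_w m
    obtain ⟨u, hu⟩ : ∃ u : aOf y w' ⟶ aOf y w, u = m.hom.fst := ⟨_, rfl⟩
    obtain ⟨v, hv⟩ : ∃ v : bOf y w' ⟶ bOf y w, v = m.hom.snd := ⟨_, rfl⟩
    have hw' : trivOf y w' ≫ y.map u = (spQuotMap K G aX).map v ≫ trivOf y w := by
      have h1 : y.map u ≫ inv (trivOf y w) = inv (trivOf y w') ≫ (spQuotMap K G aX).map v := by
        rw [hu, hv]; exact hw
      rw [← IsIso.eq_inv_comp, ← Category.assoc, ← h1, Category.assoc, IsIso.inv_hom_id, Category.comp_id]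
    have hb := congrArg (fun k => k.base) hw'
    have ht := congrArg (fun k => k.top) hw'
    have hb' : eqToHom (y_base y (aOf y w')).symm ≫ (y.map u).base =
        v.hom ≫ eqToHom (y_base y (aOf y w)).symm := hb
    rw [y_map_base] at hb'
    have huv : u.left = v.hom := by
      simp only [eqToHom_trans_assoc, eqToHom_refl, Category.id_comp] at hb'
      exact (cancel_mono _).1 hb'
    obtain ⟨hP, e⟩ := triv_top_left y (aOf y w) (pt y w) (compat_aOf y w)
    obtain ⟨hP', e'⟩ := triv_top_left y (aOf y w') (pt y w') (compat_aOf y w')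
    have hwv : (AlgSp.yon S).map v.hom ≫ secYon (bOf y w) ≫ X.hom = secYon (bOf y w') ≫ X.hom := by
      rw [← Category.assoc, secYon_comp v]
    have ht' : ((G ◁ (Over.homMk (sec y (aOf y w') (pt y w') (compat_aOf y w')) hP' :
        Over.mk (secYon (bOf y w') ≫ X.hom) ⟶ (y.obj (aOf y w')).P)) ≫ (y.obj (aOf y w')).act.act) ≫
        (y.map u).top = (G ◁ bHom v.hom hwv) ≫
          (G ◁ (Over.homMk (sec y (aOf y w) (pt y w) (compat_aOf y w)) hP :
            Over.mk (secYon (bOf y w) ≫ X.hom) ⟶ (y.obj (aOf y w)).P)) ≫ (y.obj (aOf y w)).act.act := by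
      rw [← e, ← e']
      exact ht
    have h3 : (Over.homMk (sec y (aOf y w') (pt y w') (compat_aOf y w')) hP' :
        Over.mk (secYon (bOf y w') ≫ X.hom) ⟶ (y.obj (aOf y w')).P) ≫ (y.map u).top =
        bHom v.hom hwv ≫ (Over.homMk (sec y (aOf y w) (pt y w) (compat_aOf y w)) hP :
            Over.mk (secYon (bOf y w) ≫ X.hom) ⟶ (y.obj (aOf y w)).P) := by
      have h4 := congrArg (fun k => lift (1 : Over.mk (secYon (bOf y w') ≫ X.hom) ⟶ G) (𝟙 _) ≫ k) ht'
      simp only [] at h4
      rw [← MonoidalCategory.whiskerLeft_comp_assoc, unit_whisker_act, Category.assoc,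
        ← Category.assoc (lift (1 : Over.mk (secYon (bOf y w') ≫ X.hom) ⟶ G) (𝟙 _)), ← Category.assoc,
        Category.assoc (lift _ _), unit_whisker_act] at h4
      exact h4
    have h5 := congrArg (fun k => k.left ≫ (toTop y (aOf y w)).top.left) h3
    simp only [Over.comp_left, Over.homMk_left, Category.assoc] at h5
    have h6 : (y.map u).top.left ≫ (toTop y (aOf y w)).top.left = (toTop y (aOf y w')).top.left :=
      congrArg (fun k => k.top.left) (map_toTop y u)
    rw [h6, sec_top, sec_top] at h5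
    have h7 : (topP y).obj.map u.left.op w.sec = w'.sec := by
      apply pt_injective
      refine ((AlgSp.J S).uliftYonedaEquiv_symm_naturality_left u.left (topP y) w.sec).symm.trans ?_
      rw [huv]
      exact h5.symm
    refine ⟨⟨u.left, h7⟩, ?_⟩
    apply fp_hom_ext
    · apply Over.OverMorphism.ext
      exact congrArg (fun k => k.left) hu
    · apply Stk.EltObj.hom_ext
      exact huv.trans (congrArg (fun k => k.hom) hv)

theorem ess_core (a : Over U) (b : (ofSp X.left).obj)
    (jh : y.obj a ⟶ (spQuotMap K G aX).obj b) (ji : (spQuotMap K G aX).obj b ⟶ y.obj a)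
    (hji : ji ≫ jh = 𝟙 _) (hij : jh ≫ ji = 𝟙 _)
    (hY : (SpQuotSt K G aX).p.IsHomLift (𝟙 a.left) jh) :
    ∃ (W : (ofSp (topP y)).obj) (α₁ : aOf y W ≅ a) (α₂ : bOf y W ≅ b),
      (FibCat.overCat U).p.IsHomLift (𝟙 a.left) α₁.hom ∧
      trivOf y W ≫ y.map α₁.hom ≫ jh = (spQuotMap K G aX).map α₂.hom := by
  have hab : b.base = a.left := IsHomLift.codomain_eq (SpQuotSt K G aX).p (𝟙 a.left) jh
  obtain ⟨bb, bs⟩ := b
  have hab' : bb = a.left := hab
  subst hab'
  have hbase : jh.base = eqToHom (y_base y a) := by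
    have h0 : jh.base = eqToHom (y_base y a) ≫ 𝟙 a.left ≫ eqToHom hab.symm :=
      IsHomLift.fac' (SpQuotSt K G aX).p (𝟙 a.left) jh
    rw [h0]
    simp
  have hinvbase : ji.base = eqToHom (y_base y a).symm := by
    have h1 : ji.base ≫ jh.base = 𝟙 _ := congrArg (fun k => k.base) hji
    rw [hbase] at h1
    have h2 := congrArg (fun k => k ≫ eqToHom (y_base y a).symm) h1
    simp only [Category.assoc, eqToHom_trans, eqToHom_refl, Category.comp_id, Category.id_comp] at h2
    exact h2
  obtain ⟨b, hb⟩ : ∃ b : (ofSp X.left).obj, b = ⟨a.left, bs⟩ := ⟨_, rfl⟩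
  obtain ⟨Tb, hTb⟩ : ∃ Tb : Over B, Tb = Over.mk (secYon (X := X) ⟨a.left, bs⟩ ≫ X.hom) := ⟨_, rfl⟩
  obtain ⟨jt, hjt⟩ : ∃ jt : (y.obj a).P ⟶ G ⊗ Over.mk (secYon (X := X) ⟨a.left, bs⟩ ≫ X.hom), jt = jh.top :=
    ⟨_, rfl⟩
  obtain ⟨it, hit⟩ : ∃ it : G ⊗ Over.mk (secYon (X := X) ⟨a.left, bs⟩ ≫ X.hom) ⟶ (y.obj a).P, it = ji.top :=
    ⟨_, rfl⟩
  let e : Over.mk (secYon (X := X) ⟨a.left, bs⟩ ≫ X.hom) ⟶ G ⊗ Over.mk (secYon (X := X) ⟨a.left, bs⟩ ≫ X.hom) :=
    lift (1 : Over.mk (secYon (X := X) ⟨a.left, bs⟩ ≫ X.hom) ⟶ G) (𝟙 _)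
  -- the section of the torsor of `y a` given by the unit section of the trivial torsor
  let σ₀ : (AlgSp.yon S).obj a.left ⟶ (y.obj a).P.left := (e ≫ it).left
  have hσπ : σ₀ ≫ (y.obj a).π.left = (AlgSp.yon S).map (eqToHom (y_base y a).symm) := by
    have h1 : it ≫ (y.obj a).π = snd G _ ≫ bHom ji.base ji.wb := by rw [hit]; exact ji.cart.w
    have h2 : (e ≫ it) ≫ (y.obj a).π = bHom ji.base ji.wb := by
      rw [Category.assoc, h1, ← Category.assoc, lift_snd, Category.id_comp]
    have h3 := congrArg (fun m => m.left) h2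
    simp only [Over.comp_left] at h3
    rw [← hinvbase]
    exact h3
  let s : (AlgSp.yon S).obj a.left ⟶ topP y := σ₀ ≫ (toTop y a).top.left
  have hs : Compat y a s := by
    have h1 : (toTop y a).top.left ≫ (topObj y).π.left =
        (y.obj a).π.left ≫ (AlgSp.yon S).map (toTop y a).base := (cartL (toTop y a)).w
    change (σ₀ ≫ (toTop y a).top.left) ≫ (topObj y).π.left ≫ (AlgSp.yon S).map (eqToHom (topObj_base y)) =
      (AlgSp.yon S).map a.hom
    rw [Category.assoc, reassoc_of% h1, reassoc_of% hσπ, ← Functor.map_comp, ← Functor.map_comp, toTop_base]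
    congr 1
    simp
  have hsec : sec y a s hs = σ₀ := (sec_unique y a s hs σ₀ rfl hσπ).symm
  have hsφ : s ≫ (topObj y).φ.left = secYon (X := X) ⟨a.left, bs⟩ := by
    have h1 : it ≫ (y.obj a).φ = (G ◁ secOver (X := X) ⟨a.left, bs⟩) ≫ aX.act := by rw [hit]; exact ji.wφ
    have h2 : (toTop y a).top.left ≫ (topObj y).φ.left = (y.obj a).φ.left :=
      congrArg (fun m => m.left) (toTop y a).wφ
    have h3 : (e ≫ it) ≫ (y.obj a).φ = secOver (X := X) ⟨a.left, bs⟩ := by
      rw [Category.assoc, h1]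
      exact unit_whisker_act aX _
    change (σ₀ ≫ (toTop y a).top.left) ≫ (topObj y).φ.left = _
    rw [Category.assoc, h2]
    exact congrArg (fun m => m.left) h3
  let W : (ofSp (topP y)).obj := ⟨a.left, (AlgSp.J S).uliftYonedaEquiv s⟩
  have hptW : pt y W = s := Equiv.symm_apply_apply _ _
  let α₁ : aOf y W ≅ a := Over.isoMk (Iso.refl a.left) (by
    change 𝟙 a.left ≫ a.hom = ((topπ y).hom.app _ ((AlgSp.J S).uliftYonedaEquiv s)).down
    rw [Category.id_comp, ← (AlgSp.J S).uliftYonedaEquiv_comp, hs, (AlgSp.J S).uliftYonedaEquiv_uliftYoneda_map])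
  have hWsec : (bOf y W).sec = bs := by
    change (AlgSp.J S).uliftYonedaEquiv (pt y W ≫ (topObj y).φ.left) = bs
    rw [hptW, hsφ]
    exact Equiv.apply_symm_apply _ _
  let α₂ : bOf y W ≅ ⟨a.left, bs⟩ := eltIsoMk (Iso.refl a.left) (by
    rw [hWsec]
    exact psh_map_id _ _)
  refine ⟨W, α₁, α₂, ?_, ?_⟩
  · have : (FibCat.overCat U).p.IsHomLift ((FibCat.overCat U).p.map α₁.hom) α₁.hom := inferInstance
    exact this
  · obtain ⟨hP, etop⟩ := triv_top_left y (aOf y W) (pt y W) (compat_aOf y W)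
    apply SpQuotObj.hom_ext
    · change (trivOf y W).base ≫ (y.map α₁.hom).base ≫ jh.base = 𝟙 a.left
      rw [triv_base, y_map_base, hbase]
      simp [α₁]
    · change (trivOf y W).top ≫ (y.map α₁.hom).top ≫ jh.top = G ◁ bHom (𝟙 a.left) _
      have h2 : (y.obj a).act.act ≫ jt = (G ◁ jt) ≫ (spLeftMul G _).act := by rw [hjt]; exact jh.eqv
      have h2' : (y.obj (aOf y W)).act.act ≫ (y.map α₁.hom).top =
          (G ◁ (y.map α₁.hom).top) ≫ (y.obj a).act.act := (y.map α₁.hom).eqv
      have h3 : it ≫ jt = 𝟙 _ := by rw [hit, hjt]; exact congrArg (fun k => k.top) hji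
      have hwb : (AlgSp.yon S).map (𝟙 a.left) ≫ secYon (X := X) ⟨a.left, bs⟩ ≫ X.hom =
          secYon (bOf y W) ≫ X.hom := by
        rw [CategoryTheory.Functor.map_id, Category.id_comp, secYon_cOf, hptW, hsφ]
      have key : (Over.homMk (sec y (aOf y W) (pt y W) (compat_aOf y W)) hP :
          Over.mk (secYon (bOf y W) ≫ X.hom) ⟶ (y.obj (aOf y W)).P) ≫ (y.map α₁.hom).top ≫ jt =
          bHom (𝟙 a.left) hwb ≫ e := by
        apply Over.OverMorphism.ext
        have n1 := sec_naturality y α₁.hom s hs (pt y W) (compat_aOf y W) (by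
          change (AlgSp.yon S).map (𝟙 a.left) ≫ s = pt y W
          rw [CategoryTheory.Functor.map_id, Category.id_comp, hptW])
        have n2 : σ₀ ≫ jt.left = e.left := by
          change (e ≫ it).left ≫ jt.left = e.left
          rw [← Over.comp_left, Category.assoc, h3, Category.comp_id]
        simp only [Over.comp_left, Over.homMk_left]
        rw [← Category.assoc, n1, hsec, Category.assoc, n2]
        rfl
      rw [etop, ← hjt, Category.assoc, reassoc_of% h2', h2, ← Category.assoc, ← Category.assoc,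
        ← MonoidalCategory.whiskerLeft_comp, ← MonoidalCategory.whiskerLeft_comp, Category.assoc, key,
        MonoidalCategory.whiskerLeft_comp, Category.assoc, whisker_unit_leftMul, Category.comp_id]

theorem repF_essSurjOver : EssSurjOver (repF y) := by
  apply essSurjOver_fp_of
  intro Y
  obtain ⟨W, α₁, α₂, h1, h2⟩ := ess_core y Y.obj.fst Y.obj.snd Y.obj.iso.hom Y.obj.iso.inv
    Y.obj.iso.inv_hom_id Y.obj.iso.hom_inv_id Y.property
  refine ⟨W, α₁, α₂, h1, ?_⟩
  change y.map α₁.hom ≫ Y.obj.iso.hom = inv (trivOf y W) ≫ (spQuotMap K G aX).map α₂.hom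
  rw [IsIso.eq_inv_comp]
  exact h2

theorem repF_isEquivOver : FibCat.IsEquivOver (repF y) :=
  isEquivOver_of_ff_ess (repF y) (repF_essSurjOver y)

end Functor

end Groth.Agent.Lib.Helper65.SpQ
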