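import Mathlib.Topology.Spectral.ConstructibleTopology
import Mathlib.Topology.Spectral.Basic
import Mathlib.Topology.Sober
import Mathlib.Topology.QuasiSeparated
import Mathlib.Topology.Separation.Basic

/-!
# Helper65: quotients of spectral spaces by open spectral equivalence relations

Let `U`, `R` be spectral spaces, `p : U → Y` a continuous open surjection and `s t : R → U` spectral maps
such that `p a = p b ↔ ∃ r, s r = a ∧ t r = b`.  Then `Y` is a spectral space.  The proofs use the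
compactness of the constructible (patch) topology.
-/

set_option autoImplicit false

open Topology TopologicalSpace Set

namespace Groth.Agent.Lib.Helper65.SpectralQuot

section Patch

variable {X : Type*} [TopologicalSpace X]

/-- Closed for the constructible topology. -/
def PatchClosed (A : Set X) : Prop := IsClosed[constructibleTopology X] A

theorem patchClosed_of_isCompact_isOpen {A : Set X} (hc : IsCompact A) (ho : IsOpen A) :
    PatchClosed A := by
  have h : IsOpen[constructibleTopology X] Aᶜ :=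
    IsCompact.isOpen_constructibleTopology_of_isClosed (s := Aᶜ) (by rwa [compl_compl])
      ho.isClosed_compl
  exact (@isOpen_compl_iff X A (constructibleTopology X)).1 h

theorem isOpen_constructibleTopology_of_isOpen [PrespectralSpace X] {A : Set X} (ho : IsOpen A) :
    IsOpen[constructibleTopology X] A := by
  obtain ⟨𝒮, h𝒮, rfl⟩ := PrespectralSpace.isTopologicalBasis.open_eq_sUnion ho
  exact @isOpen_sUnion X (constructibleTopology X) 𝒮 fun V hV =>
    (h𝒮 hV).2.isOpen_constructibleTopology_of_isOpen (h𝒮 hV).1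

theorem patchClosed_of_isClosed [PrespectralSpace X] {A : Set X} (hA : IsClosed A) :
    PatchClosed A :=
  (@isOpen_compl_iff X A (constructibleTopology X)).1
    (isOpen_constructibleTopology_of_isOpen hA.isOpen_compl)

theorem PatchClosed.inter {A B : Set X} (hA : PatchClosed A) (hB : PatchClosed B) :
    PatchClosed (A ∩ B) :=
  @IsClosed.inter X A B (constructibleTopology X) hA hB

theorem compactSpace_constructibleTopology [SpectralSpace X] :
    @CompactSpace X (constructibleTopology X) :=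
  @Function.Surjective.compactSpace (WithConstructibleTopology X) X _ (constructibleTopology X)
    (WithTopology.ofTopology) (WithTopology.continuous_ofTopology _) _
    (WithTopology.ofTopology_surjective _)

/-- In a spectral space, a directed family of nonempty patch closed sets has a common point. -/
theorem nonempty_iInter_of_directed_patchClosed [SpectralSpace X] {ι : Type*} [Nonempty ι]
    (A : ι → Set X) (hd : Directed (· ⊇ ·) A) (hne : ∀ i, (A i).Nonempty)
    (hcl : ∀ i, PatchClosed (A i)) : (⋂ i, A i).Nonempty := by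
  have hc := compactSpace_constructibleTopology (X := X)
  exact @IsCompact.nonempty_iInter_of_directed_nonempty_isCompact_isClosed X
    (constructibleTopology X) ι _ A hd hne
    (fun i => @IsClosed.isCompact X (constructibleTopology X) (A i) hc (hcl i)) hcl

end Patch

section Quot

variable {U R Y : Type*} [TopologicalSpace U] [TopologicalSpace R] [TopologicalSpace Y]

/-- A continuous open surjection `p : U → Y` whose equivalence relation is the image of a pair of spectral
maps `s t : R → U`. -/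
structure Rel (p : U → Y) (s t : R → U) : Prop where
  cont : Continuous p
  isOpenMap : IsOpenMap p
  surj : Function.Surjective p
  s_cont : Continuous s
  t_cont : Continuous t
  s_comp : ∀ V : Set U, IsOpen V → IsCompact V → IsCompact (s ⁻¹' V)
  t_comp : ∀ V : Set U, IsOpen V → IsCompact V → IsCompact (t ⁻¹' V)
  rel : ∀ a b, p a = p b ↔ ∃ r, s r = a ∧ t r = b

variable {p : U → Y} {s t : R → U}

theorem Rel.preimage_image (h : Rel p s t) (V : Set U) : p ⁻¹' (p '' V) = t '' (s ⁻¹' V) := by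
  ext a
  constructor
  · rintro ⟨v, hv, hva⟩
    obtain ⟨r, hr1, hr2⟩ := (h.rel v a).1 hva
    exact ⟨r, by rw [mem_preimage, hr1]; exact hv, hr2⟩
  · rintro ⟨r, hr, rfl⟩
    exact ⟨s r, hr, (h.rel (s r) (t r)).2 ⟨r, rfl, rfl⟩⟩

theorem Rel.isCompact_preimage_image (h : Rel p s t) {V : Set U} (hVo : IsOpen V)
    (hVc : IsCompact V) : IsCompact (p ⁻¹' (p '' V)) := by
  rw [h.preimage_image]
  exact (h.s_comp V hVo hVc).image h.t_cont

theorem Rel.isCompact_preimage (h : Rel p s t) [PrespectralSpace U] {K : Set Y} (hKo : IsOpen K)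
    (hKc : IsCompact K) : IsCompact (p ⁻¹' K) := by
  obtain ⟨V, hVc, hV⟩ := h.isOpenMap.exists_opens_image_eq_of_prespectralSpace h.cont
    (by rw [h.surj.range_eq]; exact subset_univ _) hKo hKc
  rw [← hV]
  exact h.isCompact_preimage_image V.2 hVc

theorem Rel.compactSpace (h : Rel p s t) [CompactSpace U] : CompactSpace Y :=
  h.surj.compactSpace h.cont

theorem Rel.prespectralSpace (h : Rel p s t) [PrespectralSpace U] : PrespectralSpace Y := by
  refine PrespectralSpace.of_isTopologicalBasis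
    (B := {K | ∃ V : Set U, IsOpen V ∧ IsCompact V ∧ p '' V = K}) ?_ ?_
  · refine isTopologicalBasis_of_isOpen_of_nhds ?_ ?_
    · rintro _ ⟨V, hVo, -, rfl⟩
      exact h.isOpenMap V hVo
    · intro y O hy hO
      obtain ⟨u, rfl⟩ := h.surj y
      obtain ⟨V, ⟨hVo, hVc⟩, huV, hVO⟩ :=
        PrespectralSpace.isTopologicalBasis.exists_subset_of_mem_open
          (show u ∈ p ⁻¹' O from hy) (hO.preimage h.cont)
      refine ⟨p '' V, ⟨V, hVo, hVc, rfl⟩, ⟨u, huV, rfl⟩, ?_⟩
      rintro _ ⟨v, hv, rfl⟩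
      exact hVO hv
  · rintro _ ⟨V, -, hVc, rfl⟩
    exact hVc.image h.cont

theorem Rel.quasiSeparatedSpace (h : Rel p s t) [PrespectralSpace U] [QuasiSeparatedSpace U] :
    QuasiSeparatedSpace Y := by
  refine ⟨fun K₁ K₂ ho₁ hc₁ ho₂ hc₂ => ?_⟩
  have e : K₁ ∩ K₂ = p '' (p ⁻¹' K₁ ∩ p ⁻¹' K₂) := by
    rw [← preimage_inter, image_preimage_eq _ h.surj]
  rw [e]
  exact (QuasiSeparatedSpace.inter_isCompact _ _ (ho₁.preimage h.cont)
    (h.isCompact_preimage ho₁ hc₁) (ho₂.preimage h.cont) (h.isCompact_preimage ho₂ hc₂)).image h.cont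

/-- A nonempty closed subset of a sober space has a point without proper generizations inside it. -/
theorem exists_maximal_point [QuasiSober U] [T0Space U] (Z : Set U) (hZ : IsClosed Z)
    (hne : Z.Nonempty) : ∃ ξ ∈ Z, ∀ z ∈ Z, z ⤳ ξ → z = ξ := by
  obtain ⟨z₀, hz₀⟩ := hne
  have : QuasiSober Z := hZ.isClosedEmbedding_subtypeVal.quasiSober
  let c : Set Z := irreducibleComponent (⟨z₀, hz₀⟩ : Z)
  have hc : IsIrreducible c := isIrreducible_irreducibleComponent
  have hcc : IsClosed c := isClosed_irreducibleComponent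
  have hξ' : IsGenericPoint hc.genericPoint c := hc.isGenericPoint_genericPoint hcc
  refine ⟨hc.genericPoint.1, hc.genericPoint.2, fun z hz hsp => ?_⟩
  have hsp' : (⟨z, hz⟩ : Z) ⤳ hc.genericPoint := (subtype_specializes_iff _ _).2 hsp
  have h1 : c ⊆ closure {(⟨z, hz⟩ : Z)} := by
    rw [← hξ'.def]
    exact specializes_iff_closure_subset.1 hsp'
  have h2 : closure {(⟨z, hz⟩ : Z)} = c :=
    eq_irreducibleComponent isIrreducible_singleton.closure.isPreirreducible h1
  have h3 : Inseparable (⟨z, hz⟩ : Z) hc.genericPoint :=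
    inseparable_iff_closure_eq.2 (h2.trans hξ'.def.symm)
  exact congrArg Subtype.val h3.eq

theorem Rel.map_eq_of_maximal (h : Rel p s t) [SpectralSpace U] [SpectralSpace R] (u ξ : U)
    (hξ : p ξ ∈ closure {p u})
    (hmax : ∀ z, p z ∈ closure {p u} → z ⤳ ξ → z = ξ) : p ξ = p u := by
  let ι := {M : Set U // IsOpen M ∧ IsCompact M ∧ u ∈ M} ×
    {N : Set U // IsOpen N ∧ IsCompact N ∧ ξ ∈ N}
  let A : ι → Set R := fun i => (s ⁻¹' closure {u} ∩ s ⁻¹' i.1.1) ∩ t ⁻¹' i.2.1
  have i₀ : ι := (⟨univ, isOpen_univ, isCompact_univ, mem_univ _⟩,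
    ⟨univ, isOpen_univ, isCompact_univ, mem_univ _⟩)
  have : Nonempty ι := ⟨i₀⟩
  have hd : Directed (· ⊇ ·) A := by
    intro i j
    refine ⟨(⟨i.1.1 ∩ j.1.1, i.1.2.1.inter j.1.2.1,
      QuasiSeparatedSpace.inter_isCompact _ _ i.1.2.1 i.1.2.2.1 j.1.2.1 j.1.2.2.1,
      ⟨i.1.2.2.2, j.1.2.2.2⟩⟩, ⟨i.2.1 ∩ j.2.1, i.2.2.1.inter j.2.2.1,
      QuasiSeparatedSpace.inter_isCompact _ _ i.2.2.1 i.2.2.2.1 j.2.2.1 j.2.2.2.1,
      ⟨i.2.2.2.2, j.2.2.2.2⟩⟩), ?_, ?_⟩
    · intro r hr
      exact ⟨⟨hr.1.1, hr.1.2.1⟩, hr.2.1⟩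
    · intro r hr
      exact ⟨⟨hr.1.1, hr.1.2.2⟩, hr.2.2⟩
  have hne : ∀ i, (A i).Nonempty := by
    intro i
    have hopen : IsOpen (p '' i.2.1) := h.isOpenMap _ i.2.2.1
    have hmem : p u ∈ p '' i.2.1 := by
      obtain ⟨y, hy1, hy2⟩ := mem_closure_iff.1 hξ _ hopen ⟨ξ, i.2.2.2.2, rfl⟩
      rw [mem_singleton_iff] at hy2
      rwa [hy2] at hy1
    obtain ⟨n, hn, hpn⟩ := hmem
    obtain ⟨r, hr1, hr2⟩ := (h.rel u n).1 hpn.symm
    refine ⟨r, ⟨?_, ?_⟩, ?_⟩
    · rw [mem_preimage, hr1]
      exact subset_closure rfl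
    · rw [mem_preimage, hr1]
      exact i.1.2.2.2
    · rw [mem_preimage, hr2]
      exact hn
  have hcl : ∀ i, PatchClosed (A i) := fun i =>
    ((patchClosed_of_isClosed (isClosed_closure.preimage h.s_cont)).inter
      (patchClosed_of_isCompact_isOpen (h.s_comp _ i.1.2.1 i.1.2.2.1)
        (i.1.2.1.preimage h.s_cont))).inter
      (patchClosed_of_isCompact_isOpen (h.t_comp _ i.2.2.1 i.2.2.2.1) (i.2.2.1.preimage h.t_cont))
  obtain ⟨r, hr⟩ := nonempty_iInter_of_directed_patchClosed A hd hne hcl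
  rw [mem_iInter] at hr
  have hsr : s r = u := by
    have h1 : u ⤳ s r := specializes_iff_mem_closure.2 (hr i₀).1.1
    have h2 : s r ⤳ u := by
      rw [specializes_iff_forall_open]
      intro O hO huO
      obtain ⟨M, ⟨hMo, hMc⟩, huM, hMO⟩ :=
        PrespectralSpace.isTopologicalBasis.exists_subset_of_mem_open huO hO
      exact hMO (hr (⟨M, hMo, hMc, huM⟩, i₀.2)).1.2
    exact (h2.antisymm h1).eq
  have htr : t r ⤳ ξ := by
    rw [specializes_iff_forall_open]
    intro O hO hξO
    obtain ⟨N, ⟨hNo, hNc⟩, hξN, hNO⟩ :=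
      PrespectralSpace.isTopologicalBasis.exists_subset_of_mem_open hξO hO
    exact hNO (hr (i₀.1, ⟨N, hNo, hNc, hξN⟩)).2
  have hpt : p (t r) = p u := by
    rw [← hsr]
    exact ((h.rel (s r) (t r)).2 ⟨r, rfl, rfl⟩).symm
  have hteq : t r = ξ := hmax (t r) (by rw [hpt]; exact subset_closure rfl) htr
  rw [← hteq, hpt]

theorem Rel.t0Space (h : Rel p s t) [SpectralSpace U] [SpectralSpace R] : T0Space Y := by
  refine ⟨fun x x' hxx' => ?_⟩
  obtain ⟨u, rfl⟩ := h.surj x
  obtain ⟨u', rfl⟩ := h.surj x'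
  have hcl : closure {p u} = closure {p u'} := inseparable_iff_closure_eq.1 hxx'
  obtain ⟨ξ, hξZ, hmax⟩ := exists_maximal_point (p ⁻¹' closure {p u})
    (isClosed_closure.preimage h.cont) ⟨u, subset_closure rfl⟩
  have h1 : p ξ = p u := h.map_eq_of_maximal u ξ hξZ (fun z hz hsp => hmax z hz hsp)
  have h2 : p ξ = p u' := h.map_eq_of_maximal u' ξ (hcl ▸ hξZ)
    (fun z hz hsp => hmax z (by rw [mem_preimage, hcl]; exact hz) hsp)
  exact h1.symm.trans h2

theorem Rel.quasiSober (h : Rel p s t) [SpectralSpace U] [PrespectralSpace Y]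
    [QuasiSeparatedSpace Y] : QuasiSober Y := by
  refine ⟨fun {T} hT hTc => ?_⟩
  let ι := {K : Set Y // IsOpen K ∧ IsCompact K ∧ (T ∩ K).Nonempty}
  let A : ι → Set U := fun K => p ⁻¹' T ∩ p ⁻¹' K.1
  obtain ⟨t₀, ht₀⟩ := hT.nonempty
  obtain ⟨K₀, ⟨hK₀o, hK₀c⟩, htK₀, -⟩ :=
    PrespectralSpace.isTopologicalBasis.exists_subset_of_mem_open (mem_univ t₀) isOpen_univ
  have i₀ : ι := ⟨K₀, hK₀o, hK₀c, ⟨t₀, ht₀, htK₀⟩⟩
  have : Nonempty ι := ⟨i₀⟩
  have hd : Directed (· ⊇ ·) A := by
    intro K K'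
    refine ⟨⟨K.1 ∩ K'.1, K.2.1.inter K'.2.1,
      QuasiSeparatedSpace.inter_isCompact _ _ K.2.1 K.2.2.1 K'.2.1 K'.2.2.1,
      hT.isPreirreducible K.1 K'.1 K.2.1 K'.2.1 K.2.2.2 K'.2.2.2⟩, ?_, ?_⟩
    · intro r hr
      exact ⟨hr.1, hr.2.1⟩
    · intro r hr
      exact ⟨hr.1, hr.2.2⟩
  have hne : ∀ K, (A K).Nonempty := fun K => by
    obtain ⟨y, hyT, hyK⟩ := K.2.2.2
    obtain ⟨u, rfl⟩ := h.surj y
    exact ⟨u, hyT, hyK⟩
  have hcl : ∀ K, PatchClosed (A K) := fun K =>
    (patchClosed_of_isClosed (hTc.preimage h.cont)).inter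
      (patchClosed_of_isCompact_isOpen (h.isCompact_preimage K.2.1 K.2.2.1)
        (K.2.1.preimage h.cont))
  obtain ⟨u, hu⟩ := nonempty_iInter_of_directed_patchClosed A hd hne hcl
  rw [mem_iInter] at hu
  refine ⟨p u, ?_⟩
  change closure {p u} = T
  apply subset_antisymm
  · exact closure_minimal (singleton_subset_iff.2 (hu i₀).1) hTc
  · intro y hy
    rw [mem_closure_iff]
    intro O hO hyO
    obtain ⟨K, ⟨hKo, hKc⟩, hyK, hKO⟩ :=
      PrespectralSpace.isTopologicalBasis.exists_subset_of_mem_open hyO hO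
    exact ⟨p u, hKO (hu ⟨K, hKo, hKc, ⟨y, hy, hyK⟩⟩).2, rfl⟩

/-- **The quotient of a spectral space by an open spectral equivalence relation is spectral.** -/
theorem Rel.spectralSpace (h : Rel p s t) [SpectralSpace U] [SpectralSpace R] : SpectralSpace Y := by
  have h1 := h.compactSpace
  have h2 := h.prespectralSpace
  have h3 := h.quasiSeparatedSpace
  have h4 := h.t0Space
  have h5 := h.quasiSober
  exact { }

end Quot

end Groth.Agent.Lib.Helper65.SpectralQuot
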