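import Groth.Agent.Lib.Helper65.StTop2
import Mathlib.AlgebraicGeometry.Noetherian
import Mathlib.Topology.Sober

/-!
# Helper65: the space of points of a locally Noetherian algebraic stack
-/

set_option autoImplicit false

universe v u

open CategoryTheory CategoryTheory.Functor CategoryTheory.Limits AlgebraicGeometry TopologicalSpace

namespace Groth.Agent.Lib.Helper65

open FibCat Groth.Agent.Lib.Helper31

section Topology

/-- The continuous image of a Noetherian subset is Noetherian. -/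
theorem noetherianSpace_image {X : Type u} {Y : Type v} [TopologicalSpace X] [TopologicalSpace Y]
    {f : X → Y} (hf : Continuous f) (A : Set X) [hA : NoetherianSpace A] :
    NoetherianSpace (f '' A) := by
  rw [noetherianSpace_set_iff] at hA ⊢
  intro t ht
  have h1 : t = f '' (A ∩ f ⁻¹' t) := by
    ext y
    constructor
    · intro hy
      obtain ⟨a, ha, rfl⟩ := ht hy
      exact ⟨a, ⟨ha, hy⟩, rfl⟩
    · rintro ⟨a, ⟨-, ha⟩, rfl⟩
      exact ha
  rw [h1]
  exact (hA _ Set.inter_subset_left).image hf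

/-- A space covered by images of continuous open maps from quasi-sober Noetherian spaces is quasi-sober. -/
theorem quasiSober_of_forall_open_chart {Y : Type v} [TopologicalSpace Y]
    (h : ∀ y : Y, ∃ (X : Type u) (_ : TopologicalSpace X) (_ : QuasiSober X) (_ : NoetherianSpace X)
      (f : X → Y), Continuous f ∧ IsOpenMap f ∧ y ∈ Set.range f) : QuasiSober Y := by
  constructor
  intro T hT hTc
  obtain ⟨t, ht⟩ := hT.nonempty
  obtain ⟨X, _, _, _, f, hf, hfo, ⟨u, rfl⟩⟩ := h t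
  have hZc : IsClosed (f ⁻¹' T) := hTc.preimage hf
  obtain ⟨Sset, hfin, hcl, hirr, hZ⟩ := NoetherianSpace.exists_finite_set_isClosed_irreducible hZc
  have hro : IsOpen (Set.range f) := hfo.isOpen_range
  -- `T ∩ range f` is dense in `T`
  have hdense : T ⊆ closure (T ∩ Set.range f) := by
    intro y hy
    rw [mem_closure_iff]
    intro o ho hyo
    have := hT.isPreirreducible o (Set.range f) ho hro ⟨y, hy, hyo⟩ ⟨f u, ht, u, rfl⟩
    obtain ⟨z, hz1, hz2, hz3⟩ := this
    exact ⟨z, hz2, hz1, hz3⟩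
  have himg : T ∩ Set.range f = ⋃ Z ∈ Sset, f '' Z := by
    ext y
    simp only [Set.mem_inter_iff, Set.mem_range, Set.mem_iUnion, Set.mem_image, exists_prop]
    constructor
    · rintro ⟨hy, a, rfl⟩
      have ha : a ∈ f ⁻¹' T := hy
      rw [hZ] at ha
      obtain ⟨Z, hZS, haZ⟩ := ha
      exact ⟨Z, hZS, a, haZ, rfl⟩
    · rintro ⟨Z, hZS, a, haZ, rfl⟩
      have ha : a ∈ f ⁻¹' T := by rw [hZ]; exact ⟨Z, hZS, haZ⟩
      exact ⟨ha, a, rfl⟩
  rw [himg, hfin.closure_biUnion] at hdense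
  -- irreducibility picks one component
  have hsub : T ⊆ ⋃₀ ↑(hfin.toFinset.image fun Z => closure (f '' Z)) := by
    intro y hy
    obtain ⟨Z, hZS, hyZ⟩ := Set.mem_iUnion₂.1 (hdense hy)
    refine ⟨closure (f '' Z), ?_, hyZ⟩
    simp only [Finset.coe_image, Set.mem_image, Finset.mem_coe, Set.Finite.mem_toFinset]
    exact ⟨Z, hZS, rfl⟩
  obtain ⟨z, hz, hTz⟩ := isIrreducible_iff_sUnion_isClosed.1 hT _ (by
    intro z hz
    obtain ⟨Z, -, rfl⟩ := Finset.mem_image.1 hz
    exact isClosed_closure) hsub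
  obtain ⟨Z, hZS, rfl⟩ := Finset.mem_image.1 hz
  rw [Set.Finite.mem_toFinset] at hZS
  obtain ⟨ξ, hξ⟩ := QuasiSober.sober (hirr Z hZS) (hcl Z hZS)
  refine ⟨f ξ, ?_⟩
  have hZT : f '' Z ⊆ T := by
    rintro _ ⟨a, ha, rfl⟩
    have : a ∈ f ⁻¹' T := by rw [hZ]; exact ⟨Z, hZS, ha⟩
    exact this
  have hξZ : ξ ∈ Z := by rw [← hξ.def]; exact subset_closure rfl
  apply subset_antisymm
  · exact closure_minimal (Set.singleton_subset_iff.2 (hZT ⟨ξ, hξZ, rfl⟩)) hTc
  · refine hTz.trans (closure_minimal ?_ isClosed_closure)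
    rw [← hξ.def]
    refine (image_closure_subset_closure_image hf).trans ?_
    rw [Set.image_singleton]

end Topology

section Stack

variable {S : Scheme.{u}} {𝒳 : AlgSt.Cat S}

/-- Every point of a locally Noetherian stack with a smooth atlas has a Noetherian open neighbourhood. -/
theorem exists_noetherian_open_nhd (h𝒳 : IsFibGrpd 𝒳.p)
    (hatlas : AlgSt.HasAtlas (AlgSp.LocP @Smooth) 𝒳)
    (hN : AlgSt.SmoothLocally (fun T ↦ IsLocallyNoetherian T) 𝒳) (x : AlgSt.Points 𝒳) :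
    ∃ U : Set (AlgSt.Points 𝒳), IsOpen U ∧ x ∈ U ∧ NoetherianSpace U := by
  obtain ⟨U₀, x₀, hx1, hx2⟩ := hatlas
  obtain ⟨u, rfl⟩ := ofChart_surjective h𝒳 x₀ hx2 x
  have hcont := continuous_ofChart h𝒳 ⟨U₀, x₀, hx1, hx2⟩ x₀
  have hLN : IsLocallyNoetherian U₀.left := hN U₀ x₀ hx1
  obtain ⟨A, hA, huA, -⟩ :=
    TopologicalSpace.Opens.isBasis_iff_nbhd.1 U₀.left.isBasis_affineOpens (U := ⊤) (x := u) trivial
  have hAN : NoetherianSpace (A : Set ↥U₀.left) := by
    have : IsNoetherianRing Γ(U₀.left, A) := IsLocallyNoetherian.component_noetherian ⟨A, hA⟩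
    exact noetherianSpace_of_isAffineOpen A hA
  exact ⟨AlgSt.Points.ofChart x₀ '' (A : Set ↥U₀.left),
    isOpenMap_ofChart_smooth h𝒳 x₀ hx1 _ A.2, ⟨u, huA, rfl⟩, noetherianSpace_image hcont _⟩

/-- The space of points of a quasi-compact locally Noetherian stack is Noetherian. -/
theorem noetherianSpace_points (h𝒳 : IsFibGrpd 𝒳.p)
    (hatlas : AlgSt.HasAtlas (AlgSp.LocP @Smooth) 𝒳) (hqc : AlgSt.IsQuasiCompact 𝒳)
    (hN : AlgSt.SmoothLocally (fun T ↦ IsLocallyNoetherian T) 𝒳) :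
    NoetherianSpace (AlgSt.Points 𝒳) := by
  obtain ⟨U, x, hU, hx1, hx2⟩ := hqc
  have hcont := continuous_ofChart h𝒳 hatlas x
  have hLN : IsLocallyNoetherian U.left := hN U x hx1
  have : IsNoetherian U.left := { }
  exact noetherianSpace_of_surjective (AlgSt.Points.ofChart x) hcont (ofChart_surjective h𝒳 x hx2)

/-- The space of points of a locally Noetherian stack with a smooth atlas is quasi-sober. -/
theorem quasiSober_points (h𝒳 : IsFibGrpd 𝒳.p)
    (hatlas : AlgSt.HasAtlas (AlgSp.LocP @Smooth) 𝒳)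
    (hN : AlgSt.SmoothLocally (fun T ↦ IsLocallyNoetherian T) 𝒳) :
    QuasiSober (AlgSt.Points 𝒳) := by
  apply quasiSober_of_forall_open_chart.{u+1, u}
  intro y
  obtain ⟨U₀, x₀, hx1, hx2⟩ := hatlas
  obtain ⟨u, rfl⟩ := ofChart_surjective h𝒳 x₀ hx2 y
  have hcont := continuous_ofChart h𝒳 ⟨U₀, x₀, hx1, hx2⟩ x₀
  have hLN : IsLocallyNoetherian U₀.left := hN U₀ x₀ hx1
  obtain ⟨A, hA, huA, -⟩ :=
    TopologicalSpace.Opens.isBasis_iff_nbhd.1 U₀.left.isBasis_affineOpens (U := ⊤) (x := u) trivial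
  have hAN : NoetherianSpace (A : Set ↥U₀.left) := by
    have : IsNoetherianRing Γ(U₀.left, A) := IsLocallyNoetherian.component_noetherian ⟨A, hA⟩
    exact noetherianSpace_of_isAffineOpen A hA
  have hemb : Topology.IsOpenEmbedding (Subtype.val : ↥(A : Set ↥U₀.left) → ↥U₀.left) :=
    A.2.isOpenEmbedding_subtypeVal
  refine ⟨↥(A : Set ↥U₀.left), inferInstance, hemb.quasiSober, hAN,
    AlgSt.Points.ofChart x₀ ∘ Subtype.val, hcont.comp continuous_subtype_val,
    (isOpenMap_ofChart_smooth h𝒳 x₀ hx1).comp hemb.isOpenMap, ⟨⟨u, huA⟩, rfl⟩⟩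

end Stack

end Groth.Agent.Lib.Helper65
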