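import Groth.Agent.Lib.Helper65.StPoints2
import Groth.Agent.Lib.Helper65.SmoothLocal2

/-!
# Helper65: the topology on the points of an algebraic stack
-/

set_option autoImplicit false
set_option backward.isDefEq.respectTransparency false
set_option backward.isDefEq.respectTransparency.types false

universe u

open CategoryTheory CategoryTheory.Functor CategoryTheory.Limits Opposite AlgebraicGeometry

namespace Groth.Agent.Lib.Helper65

open FibCat Groth.Agent.Lib.Helper31

variable {S : Scheme.{u}} {𝒳 : AlgSt.Cat S}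

/-- Comparison of two scheme charts of `𝒳` through an etale atlas of their 2-fibre product. -/
theorem exists_chart_square (h𝒳 : IsFibGrpd 𝒳.p) {U V : Over S} (x : FibCat.overCat U ⥤ᵇ 𝒳)
    (v : FibCat.overCat V ⥤ᵇ 𝒳) (G : AlgSp.Space S) (e : AlgSt.ofSp G.obj ⥤ᵇ fp x v)
    (he : IsEquivOver e) :
    ∃ (T : Over S) (p : (AlgSp.yon S).obj T ⟶ G.obj) (a : T ⟶ U) (b : T ⟶ V),
      AlgSp.RepWith @Etale p ∧ AlgSp.RepWith @Surjective p ∧
      (AlgSp.yon S).map a = p ≫ AlgSt.spMapOfOver (BasedFunctor.comp e (fpFst x v)) ∧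
      (AlgSp.yon S).map b = p ≫ AlgSt.spMapOfOver (BasedFunctor.comp e (fpSnd x v)) ∧
      (∀ t : ↥T.left, AlgSt.Points.ofChart x (a.left t) = AlgSt.Points.ofChart v (b.left t)) ∧
      (∀ (u : ↥U.left) (v' : ↥V.left), AlgSt.Points.ofChart x u = AlgSt.Points.ofChart v v' →
        ∃ t : ↥T.left, a.left t = u ∧ b.left t = v') := by
  obtain ⟨T, p, hpe, hps⟩ := G.property.atlas
  let c : FibCat.overCat T ⥤ᵇ AlgSt.ofSp G.obj :=
    BasedFunctor.comp (AlgSt.ofOverCat T) (AlgSt.ofSpMap p)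
  let ΦU : FibCat.overCat T ⥤ᵇ FibCat.overCat U :=
    BasedFunctor.comp (BasedFunctor.comp c e) (fpFst x v)
  let ΦV : FibCat.overCat T ⥤ᵇ FibCat.overCat V :=
    BasedFunctor.comp (BasedFunctor.comp c e) (fpSnd x v)
  obtain ⟨a, ha, ⟨iU⟩⟩ := exists_iso_overMap ΦU
  obtain ⟨b, hb, ⟨iV⟩⟩ := exists_iso_overMap ΦV
  have ha' : (AlgSp.yon S).map a = p ≫ AlgSt.spMapOfOver (BasedFunctor.comp e (fpFst x v)) := by
    rw [ha, ← spMapOfOver_ofSpMap_comp]
    rfl
  have hb' : (AlgSp.yon S).map b = p ≫ AlgSt.spMapOfOver (BasedFunctor.comp e (fpSnd x v)) := by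
    rw [hb, ← spMapOfOver_ofSpMap_comp]
    rfl
  have hmapU : ∀ t : ↥T.left, AlgSt.Points.map ΦU (chartPt T t) = chartPt U (a.left t) := fun t => by
    rw [points_map_congr iU, points_map_overMap_chartPt]
  have hmapV : ∀ t : ↥T.left, AlgSt.Points.map ΦV (chartPt T t) = chartPt V (b.left t) := fun t => by
    rw [points_map_congr iV, points_map_overMap_chartPt]
  refine ⟨T, p, a, b, hpe, hps, ha', hb', fun t => ?_, fun u v' h => ?_⟩
  · rw [ofChart_eq, ofChart_eq, ← hmapU, ← hmapV, ← points_map_comp, ← points_map_comp]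
    exact points_map_congr (bWhiskerLeftIso (BasedFunctor.comp c e) (fpIso x v)) _
  · rw [ofChart_eq, ofChart_eq] at h
    obtain ⟨w, hw1, hw2⟩ := exists_points_fp (isFibGrpd_overForget V) h𝒳 (isFibGrpd_overForget U) v x
      (chartPt U u) (chartPt V v') h
    obtain ⟨w', rfl⟩ := (points_map_bijective_of_isEquivOver e he).2 w
    obtain ⟨w'', rfl⟩ := points_map_chart_surjective p hps w'
    obtain ⟨t, rfl⟩ := (chartPt_bijective T).2 w''
    refine ⟨t, ?_, ?_⟩
    · apply (chartPt_bijective U).1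
      rw [← hmapU, ← hw1]
      change AlgSt.Points.map (BasedFunctor.comp (BasedFunctor.comp c e) (fpFst x v)) _ = _
      rw [points_map_comp, points_map_comp]
    · apply (chartPt_bijective V).1
      rw [← hmapV, ← hw2]
      change AlgSt.Points.map (BasedFunctor.comp (BasedFunctor.comp c e) (fpSnd x v)) _ = _
      rw [points_map_comp, points_map_comp]

section Aux

theorem prop_left_of_locP (P : MorphismProperty Scheme.{u}) {T U : Over S} {G : AlgSp.Sp S} (a : T ⟶ U)
    (p : (AlgSp.yon S).obj T ⟶ G) (hpe : AlgSp.RepWith @Etale p) (d : G ⟶ (AlgSp.yon S).obj U)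
    (hd : AlgSp.LocP P d) (ha : (AlgSp.yon S).map a = p ≫ d) : P a.left :=
  AlgSp.locP_yon_map (by rw [ha]; exact locP_precomp_etale _ p hpe _ hd)

theorem surjective_left_of_surjective {T U : Over S} {G : AlgSp.Sp S} (a : T ⟶ U)
    (p : (AlgSp.yon S).obj T ⟶ G) (hps : AlgSp.RepWith @Surjective p) (d : G ⟶ (AlgSp.yon S).obj U)
    (hd : AlgSp.IsSurjectiveMor d) (ha : (AlgSp.yon S).map a = p ≫ d) :
    Function.Surjective a.left.base := by
  apply surjective_of_points_map_yon
  rw [ha]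
  intro z
  obtain ⟨y, rfl⟩ := hd z
  obtain ⟨t, rfl⟩ := Groth.Agent.H52.surjective_points_of_repWith_surjective p hps y
  exact ⟨t, AlgSp.Points.map_comp _ _ t⟩

theorem isOpenMap_of_flat_lfp {X Y : Scheme.{u}} (f : X ⟶ Y) (h1 : Flat f)
    (h2 : LocallyOfFinitePresentation f) : IsOpenMap f.base :=
  f.isOpenMap

end Aux

section Top

/-- For a stack with a smooth surjective atlas, every scheme chart induces a continuous map on points. -/
theorem continuous_ofChart (h𝒳 : IsFibGrpd 𝒳.p) (hatlas : AlgSt.HasAtlas (AlgSp.LocP @Smooth) 𝒳)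
    {U : Over S} (x : FibCat.overCat U ⥤ᵇ 𝒳) : Continuous (AlgSt.Points.ofChart x) := by
  obtain ⟨V₀, v₀, hv1, hv2⟩ := hatlas
  rw [continuous_def]
  intro W hW
  obtain ⟨G, e, he, hsm, hsurj⟩ := repByAlgSpWith_and stableBC_isSurjectiveMor v₀ hv1 hv2 U x
  obtain ⟨T, p, a, b, hpe, hps, ha, hb, h1, -⟩ := exists_chart_square h𝒳 x v₀ G e he
  have hasm : Smooth a.left := prop_left_of_locP @Smooth a p hpe _ hsm ha
  have hasurj : Function.Surjective a.left.base := surjective_left_of_surjective a p hps _ hsurj ha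
  have haopen : IsOpenMap a.left.base := isOpenMap_of_flat_lfp a.left inferInstance inferInstance
  have hO : IsOpen (AlgSt.Points.ofChart v₀ ⁻¹' W) := hW V₀ v₀ hv1
  have hpre : a.left.base ⁻¹' (AlgSt.Points.ofChart x ⁻¹' W) =
      b.left.base ⁻¹' (AlgSt.Points.ofChart v₀ ⁻¹' W) := by
    ext t
    change AlgSt.Points.ofChart x (a.left t) ∈ W ↔ AlgSt.Points.ofChart v₀ (b.left t) ∈ W
    rw [h1 t]
  have hopen : IsOpen (a.left.base ⁻¹' (AlgSt.Points.ofChart x ⁻¹' W)) := by
    rw [hpre]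
    exact hO.preimage b.left.continuous
  have := haopen _ hopen
  rwa [Set.image_preimage_eq _ hasurj] at this

/-- For a stack with a smooth surjective atlas, a flat and locally finitely presented scheme chart induces an open
map on points. -/
theorem isOpenMap_ofChart (h𝒳 : IsFibGrpd 𝒳.p) {U : Over S} (x : FibCat.overCat U ⥤ᵇ 𝒳)
    (hx₁ : AlgSt.RepByAlgSpWith (AlgSp.LocP @Flat) x)
    (hx₂ : AlgSt.RepByAlgSpWith (AlgSp.LocP @LocallyOfFinitePresentation) x) :
    IsOpenMap (AlgSt.Points.ofChart x) := by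
  intro A hA V v hv
  have hx := repByAlgSpWith_and
    (stableBC_locP (S := S) @LocallyOfFinitePresentation (Or.inr (Or.inl rfl))) x hx₁ hx₂
  obtain ⟨G, e, he, hfl, hfp⟩ := hx V v
  -- `e : ofSp G ≃ fp v x`; swap to `fp x v`
  let E : AlgSt.ofSp G.obj ⥤ᵇ fp x v := BasedFunctor.comp e (fpSwap v x)
  have hE : IsEquivOver E := isEquivOver_comp _ _ he (fpSwap_isEquivOver v x)
  obtain ⟨T, p, a, b, hpe, hps, ha, hb, h1, h2⟩ := exists_chart_square h𝒳 x v G E hE
  have hbfl : Flat b.left := prop_left_of_locP @Flat b p hpe _ hfl hb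
  have hbfp : LocallyOfFinitePresentation b.left :=
    prop_left_of_locP @LocallyOfFinitePresentation b p hpe _ hfp hb
  have hbopen : IsOpenMap b.left.base := isOpenMap_of_flat_lfp b.left hbfl hbfp
  have heq : AlgSt.Points.ofChart v ⁻¹' (AlgSt.Points.ofChart x '' A) =
      b.left.base '' (a.left.base ⁻¹' A) := by
    ext v'
    constructor
    · rintro ⟨u, hu, huv⟩
      obtain ⟨t, rfl, rfl⟩ := h2 u v' huv
      exact ⟨t, hu, rfl⟩
    · rintro ⟨t, ht, rfl⟩
      exact ⟨a.left t, ht, h1 t⟩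
  rw [heq]
  exact hbopen _ (hA.preimage a.left.continuous)

/-- Continuity of the map on points of a morphism of stacks with smooth atlases. -/
theorem continuous_points_map {𝒴 : AlgSt.Cat S} (h𝒴 : IsFibGrpd 𝒴.p)
    (hatlas : AlgSt.HasAtlas (AlgSp.LocP @Smooth) 𝒴) (f : 𝒳 ⥤ᵇ 𝒴) :
    Continuous (AlgSt.Points.map f) := by
  rw [continuous_def]
  intro W hW U x hx
  have h := (continuous_ofChart h𝒴 hatlas (BasedFunctor.comp x f)).isOpen_preimage W hW
  exact h

end Top

end Groth.Agent.Lib.Helper65
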