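import Groth.Agent.Lib.Helper65.StSurj
import Groth.Agent.Lib.Helper65.QCompact
import Groth.Agent.Lib.Helper65.MonoFull

/-!
# Helper65: open maps on points, local quasi-compactness, quasi-compact stacks, monomorphisms
-/

set_option autoImplicit false
set_option backward.isDefEq.respectTransparency false
set_option backward.isDefEq.respectTransparency.types false

universe u

open CategoryTheory CategoryTheory.Functor CategoryTheory.Limits Opposite AlgebraicGeometry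

namespace Groth.Agent.Lib.Helper65

open FibCat Groth.Agent.Lib.Helper31

variable {S : Scheme.{u}} {𝒳 : AlgSt.Cat S}

section SpaceCharts

/-- A flat, locally finitely presented morphism from an algebraic space to a stack is open on points. -/
theorem isOpenMap_points_map_space (h𝒳 : IsFibGrpd 𝒳.p) (U : AlgSp.Space S)
    (u : AlgSt.ofSp U.obj ⥤ᵇ 𝒳) (hu₁ : AlgSt.RepByAlgSpWith (AlgSp.LocP @Flat) u)
    (hu₂ : AlgSt.RepByAlgSpWith (AlgSp.LocP @LocallyOfFinitePresentation) u) :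
    IsOpenMap (AlgSt.Points.map u) := by
  obtain ⟨T, p, hpe, hps⟩ := U.property.atlas
  have hc := chartFunctor_smooth U p hpe
  have hfib : IsFibGrpd (AlgSt.ofSp U.obj).p := Stk.isFibGrpd_ofPsh _
  have hx₁ : AlgSt.RepByAlgSpWith (AlgSp.LocP @Flat) (BasedFunctor.comp (chartFunctor p) u) :=
    repByAlgSpWith_comp _ (stableBC_locP _ (Or.inr (Or.inr (Or.inl rfl))))
      (stableComp_locP _ (Or.inr (Or.inr (Or.inl rfl)))) isLocalOnBase_fppf_locP_flat
      (isFibGrpd_overForget T) hfib (chartFunctor p) u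
      (repByAlgSpWith_mono (locP_mono smooth_le_flat) _ hc) hu₁
  have hx₂ : AlgSt.RepByAlgSpWith (AlgSp.LocP @LocallyOfFinitePresentation)
      (BasedFunctor.comp (chartFunctor p) u) :=
    repByAlgSpWith_comp _ (stableBC_locP _ (Or.inr (Or.inl rfl)))
      (stableComp_locP _ (Or.inr (Or.inl rfl))) isLocalOnBase_fppf_locP_lfp
      (isFibGrpd_overForget T) hfib (chartFunctor p) u
      (repByAlgSpWith_mono (locP_mono smooth_le_lfp) _ hc) hu₂
  intro W hW
  have hA : IsOpen (AlgSt.Points.ofChart (chartFunctor p) ⁻¹' W) := hW T _ hc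
  have heq : AlgSt.Points.map u '' W =
      AlgSt.Points.ofChart (BasedFunctor.comp (chartFunctor p) u) ''
        (AlgSt.Points.ofChart (chartFunctor p) ⁻¹' W) := by
    ext z
    constructor
    · rintro ⟨w, hw, rfl⟩
      obtain ⟨w'', rfl⟩ := points_map_chart_surjective p hps w
      obtain ⟨t, rfl⟩ := (chartPt_bijective T).2 w''
      exact ⟨t, hw, by rw [ofChart_eq, points_map_comp]⟩
    · rintro ⟨t, ht, rfl⟩
      exact ⟨AlgSt.Points.ofChart (chartFunctor p) t, ht, by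
        rw [ofChart_eq, ofChart_eq]
        exact (points_map_comp _ _ _).symm⟩
  rw [heq]
  exact isOpenMap_ofChart h𝒳 _ hx₁ hx₂ _ hA

theorem isOpen_iff_preimage_space_chart (h𝒳 : IsFibGrpd 𝒳.p)
    (hatlas : AlgSt.HasAtlas (AlgSp.LocP @Smooth) 𝒳) (U : AlgSp.Space S)
    (p : AlgSt.ofSp U.obj ⥤ᵇ 𝒳) (hp₁ : AlgSt.RepByAlgSpWith (AlgSp.LocP @Flat) p)
    (hp₂ : AlgSt.RepByAlgSpWith (AlgSp.LocP @LocallyOfFinitePresentation) p)
    (hp₃ : AlgSt.RepByAlgSpWith AlgSp.IsSurjectiveMor p) (W : Set (AlgSt.Points 𝒳)) :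
    IsOpen W ↔ IsOpen (AlgSt.Points.map p ⁻¹' W) := by
  constructor
  · intro hW
    exact (continuous_points_map h𝒳 hatlas p).isOpen_preimage W hW
  · intro hW
    have hsurj : Function.Surjective (AlgSt.Points.map p) :=
      isSurjective_of_repByAlgSpWith (Stk.isFibGrpd_ofPsh _) h𝒳 p hp₃
    have := isOpenMap_points_map_space h𝒳 U p hp₁ hp₂ _ hW
    rwa [Set.image_preimage_eq _ hsurj] at this

end SpaceCharts

section Atlas

theorem ofChart_surjective (h𝒳 : IsFibGrpd 𝒳.p) {U : Over S} (x : FibCat.overCat U ⥤ᵇ 𝒳)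
    (hx : AlgSt.RepByAlgSpWith AlgSp.IsSurjectiveMor x) :
    Function.Surjective (AlgSt.Points.ofChart x) := by
  intro z
  obtain ⟨w, rfl⟩ := isSurjective_of_repByAlgSpWith (isFibGrpd_overForget U) h𝒳 x hx z
  obtain ⟨t, rfl⟩ := (chartPt_bijective U).2 w
  exact ⟨t, rfl⟩

theorem isOpenMap_ofChart_smooth (h𝒳 : IsFibGrpd 𝒳.p) {U : Over S} (x : FibCat.overCat U ⥤ᵇ 𝒳)
    (hx : AlgSt.RepByAlgSpWith (AlgSp.LocP @Smooth) x) : IsOpenMap (AlgSt.Points.ofChart x) :=
  isOpenMap_ofChart h𝒳 x (repByAlgSpWith_mono (locP_mono smooth_le_flat) _ hx)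
    (repByAlgSpWith_mono (locP_mono smooth_le_lfp) _ hx)

/-- The points of a stack with a smooth atlas form a locally quasi-compact space. -/
theorem exists_isOpen_isCompact_nhd (h𝒳 : IsFibGrpd 𝒳.p)
    (hatlas : AlgSt.HasAtlas (AlgSp.LocP @Smooth) 𝒳) (x : AlgSt.Points 𝒳) (W : Set (AlgSt.Points 𝒳))
    (hW : IsOpen W) (hx : x ∈ W) :
    ∃ V : Set (AlgSt.Points 𝒳), IsOpen V ∧ IsCompact V ∧ x ∈ V ∧ V ⊆ W := by
  obtain ⟨U₀, x₀, hx1, hx2⟩ := hatlas
  obtain ⟨u, rfl⟩ := ofChart_surjective h𝒳 x₀ hx2 x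
  have hcont := continuous_ofChart h𝒳 ⟨U₀, x₀, hx1, hx2⟩ x₀
  let O : U₀.left.Opens := ⟨AlgSt.Points.ofChart x₀ ⁻¹' W, hcont.isOpen_preimage W hW⟩
  obtain ⟨A, hA, huA, hAO⟩ :=
    TopologicalSpace.Opens.isBasis_iff_nbhd.1 U₀.left.isBasis_affineOpens (U := O) (x := u) hx
  refine ⟨AlgSt.Points.ofChart x₀ '' (A : Set ↥U₀.left),
    isOpenMap_ofChart_smooth h𝒳 x₀ hx1 _ A.2, ?_, ⟨u, huA, rfl⟩, ?_⟩
  · exact (IsAffineOpen.isCompact hA).image hcont
  · rintro _ ⟨t, ht, rfl⟩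
    exact hAO ht

end Atlas

end Groth.Agent.Lib.Helper65
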