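import Groth.Agent.Lib.Helper65.StHomeo
import Groth.Agent.Lib.Helper65.SpaceDM

/-!
# Helper65: topological properties of maps on points, their invariance and descent
-/

set_option autoImplicit false
set_option backward.isDefEq.respectTransparency false
set_option backward.isDefEq.respectTransparency.types false

universe u

open CategoryTheory CategoryTheory.Functor CategoryTheory.Limits Opposite AlgebraicGeometry

namespace Groth.Agent.Lib.Helper65

open FibCat Groth.Agent.Lib.Helper31

/-- A property of maps between topological spaces, invariant under homeomorphisms and descending along open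
surjections in the way needed for maps on points of stacks. -/
structure TopProp where
  /-- the property -/
  P : ∀ {A B : Type (u + 1)} [TopologicalSpace A] [TopologicalSpace B], (A → B) → Prop
  inv : ∀ {A B A' B' : Type (u + 1)} [TopologicalSpace A] [TopologicalSpace B] [TopologicalSpace A']
    [TopologicalSpace B'] (a : A' ≃ₜ A) (b : B ≃ₜ B') (f : A → B) (f' : A' → B'),
    (∀ x, f' x = b (f (a x))) → P f → P f'
  desc : ∀ {A B V Z : Type (u + 1)} [TopologicalSpace A] [TopologicalSpace B] [TopologicalSpace V]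
    [TopologicalSpace Z] (q : A → B) (p₁ : A → V) (φ : B → Z) (z : V → Z), Continuous q → Continuous z →
    IsOpenMap z → Function.Surjective z → Continuous φ → (∀ a, φ (q a) = z (p₁ a)) →
    (∀ t b, z t = φ b → ∃ a, p₁ a = t ∧ q a = b) → P p₁ → P φ

section Desc

variable {A B V Z : Type (u + 1)} [TopologicalSpace A] [TopologicalSpace B] [TopologicalSpace V]
  [TopologicalSpace Z] (q : A → B) (p₁ : A → V) (φ : B → Z) (z : V → Z)

theorem preimage_image_eq_of_fp (hcomm : ∀ a, φ (q a) = z (p₁ a))
    (hfp : ∀ t b, z t = φ b → ∃ a, p₁ a = t ∧ q a = b) (W : Set B) :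
    z ⁻¹' (φ '' W) = p₁ '' (q ⁻¹' W) := by
  ext t
  constructor
  · rintro ⟨b, hb, hbt⟩
    obtain ⟨a, ha1, ha2⟩ := hfp t b hbt.symm
    exact ⟨a, by rw [Set.mem_preimage, ha2]; exact hb, ha1⟩
  · rintro ⟨a, ha, rfl⟩
    exact ⟨q a, ha, hcomm a⟩

theorem isOpenMap_desc (hq : Continuous q) (hz : Continuous z) (hzo : IsOpenMap z)
    (hzs : Function.Surjective z) (hcomm : ∀ a, φ (q a) = z (p₁ a))
    (hfp : ∀ t b, z t = φ b → ∃ a, p₁ a = t ∧ q a = b) (h : IsOpenMap p₁) : IsOpenMap φ := by
  intro W hW
  rw [← (hzo.isQuotientMap hz hzs).isOpen_preimage, preimage_image_eq_of_fp q p₁ φ z hcomm hfp]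
  exact h _ (hW.preimage hq)

theorem isClosedMap_desc (hq : Continuous q) (hz : Continuous z) (hzo : IsOpenMap z)
    (hzs : Function.Surjective z) (hcomm : ∀ a, φ (q a) = z (p₁ a))
    (hfp : ∀ t b, z t = φ b → ∃ a, p₁ a = t ∧ q a = b) (h : IsClosedMap p₁) : IsClosedMap φ := by
  intro W hW
  rw [← (hzo.isQuotientMap hz hzs).isClosed_preimage, preimage_image_eq_of_fp q p₁ φ z hcomm hfp]
  exact h _ (hW.preimage hq)

theorem injective_desc (hzs : Function.Surjective z)
    (hfp : ∀ t b, z t = φ b → ∃ a, p₁ a = t ∧ q a = b) (h : Function.Injective p₁) :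
    Function.Injective φ := by
  intro b b' hbb'
  obtain ⟨t, ht⟩ := hzs (φ b)
  obtain ⟨a, ha1, ha2⟩ := hfp t b ht
  obtain ⟨a', ha1', ha2'⟩ := hfp t b' (ht.trans hbb')
  have : a = a' := h (ha1.trans ha1'.symm)
  rw [← ha2, ← ha2', this]

theorem surjective_desc (hzs : Function.Surjective z) (hcomm : ∀ a, φ (q a) = z (p₁ a))
    (h : Function.Surjective p₁) : Function.Surjective φ := by
  intro c
  obtain ⟨t, rfl⟩ := hzs c
  obtain ⟨a, rfl⟩ := h t
  exact ⟨q a, hcomm a⟩

end Desc

/-- Open maps. -/
def TopProp.open : TopProp.{u} where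
  P f := IsOpenMap f
  inv a b f f' h hf := by
    have : f' = b ∘ f ∘ a := funext h
    rw [this]
    exact b.isOpenMap.comp (hf.comp a.isOpenMap)
  desc q p₁ φ z hq hz hzo hzs _ hcomm hfp h := isOpenMap_desc q p₁ φ z hq hz hzo hzs hcomm hfp h

/-- Closed maps. -/
def TopProp.closed : TopProp.{u} where
  P f := IsClosedMap f
  inv a b f f' h hf := by
    have : f' = b ∘ f ∘ a := funext h
    rw [this]
    exact b.isClosedMap.comp (hf.comp a.isClosedMap)
  desc q p₁ φ z hq hz hzo hzs _ hcomm hfp h := isClosedMap_desc q p₁ φ z hq hz hzo hzs hcomm hfp h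

/-- Injective maps. -/
def TopProp.injective : TopProp.{u} where
  P f := Function.Injective f
  inv a b f f' h hf := by
    have : f' = b ∘ f ∘ a := funext h
    rw [this]
    exact b.injective.comp (hf.comp a.injective)
  desc q p₁ φ z _ _ _ hzs _ _ hfp h := injective_desc q p₁ φ z hzs hfp h

/-- Homeomorphisms. -/
def TopProp.homeo : TopProp.{u} where
  P f := IsHomeomorph f
  inv a b f f' h hf := by
    have : f' = b ∘ f ∘ a := funext h
    rw [this]
    exact b.isHomeomorph.comp (hf.comp a.isHomeomorph)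
  desc q p₁ φ z hq hz hzo hzs hφ hcomm hfp h :=
    ⟨hφ, isOpenMap_desc q p₁ φ z hq hz hzo hzs hcomm hfp h.isOpenMap,
      injective_desc q p₁ φ z hzs hfp h.injective, surjective_desc q p₁ φ z hzs hcomm h.surjective⟩

/-- Quotient maps. -/
def TopProp.quotient : TopProp.{u} where
  P f := Topology.IsQuotientMap f
  inv a b f f' h hf := by
    have : f' = b ∘ f ∘ a := funext h
    rw [this]
    exact b.isQuotientMap.comp (hf.comp a.isQuotientMap)
  desc q p₁ φ z hq hz hzo hzs hφ hcomm _ h := by
    have h1 : Topology.IsQuotientMap (z ∘ p₁) := (hzo.isQuotientMap hz hzs).comp h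
    have h2 : z ∘ p₁ = φ ∘ q := funext fun a => (hcomm a).symm
    rw [h2] at h1
    exact Topology.IsQuotientMap.of_comp hq hφ h1

end Groth.Agent.Lib.Helper65
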