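import Groth.Agent.Lib.Helper65.StUniv
import Groth.Agent.Lib.Helper65.LocalEss
import Groth.Agent.Lib.Helper65.StSurj
import Groth.Agent.S12763

/-!
# Helper65: universally injective morphisms of algebraic stacks
-/

set_option autoImplicit false

universe u

open CategoryTheory CategoryTheory.Functor CategoryTheory.Limits Opposite AlgebraicGeometry

namespace Groth.Agent.Lib.Helper65

open FibCat Groth.Agent.Lib.Helper31

variable {S : Scheme.{u}} {𝒳 𝒴 𝒵 𝒲 : AlgSt.Cat S}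

/-- Injectivity on points of a base change, through pasting of fibre products. -/
theorem injective_fpFst_paste (h : 𝒲 ⥤ᵇ 𝒵) (g : 𝒵 ⥤ᵇ 𝒴) (f : 𝒳 ⥤ᵇ 𝒴)
    (hinj : Function.Injective (AlgSt.Points.map (fpFst (BasedFunctor.comp h g) f))) :
    Function.Injective (AlgSt.Points.map (fpFst h (fpFst g f))) := by
  have hb := points_map_bijective_of_isEquivOver _ (fpPasteFst_isEquivOver h g f)
  intro a b hab
  apply hb.1
  apply hinj
  rw [← points_map_comp, ← points_map_comp, fpPasteFst_comp_fpFst]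
  exact hab

theorem injective_fpFst_unpaste (h : 𝒲 ⥤ᵇ 𝒵) (g : 𝒵 ⥤ᵇ 𝒴) (f : 𝒳 ⥤ᵇ 𝒴)
    (hinj : Function.Injective (AlgSt.Points.map (fpFst h (fpFst g f)))) :
    Function.Injective (AlgSt.Points.map (fpFst (BasedFunctor.comp h g) f)) := by
  have hb := points_map_bijective_of_isEquivOver _ (fpPasteFst_isEquivOver h g f)
  intro a b hab
  obtain ⟨a', rfl⟩ := hb.2 a
  obtain ⟨b', rfl⟩ := hb.2 b
  rw [← points_map_comp, ← points_map_comp, fpPasteFst_comp_fpFst] at hab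
  rw [hinj hab]

/-- Injectivity on points of a base change only depends on the base-change functor up to isomorphism. -/
theorem injective_fpFst_of_iso {z z' : 𝒵 ⥤ᵇ 𝒴} (e : z ≅ z') (f : 𝒳 ⥤ᵇ 𝒴)
    (hinj : Function.Injective (AlgSt.Points.map (fpFst z f))) :
    Function.Injective (AlgSt.Points.map (fpFst z' f)) := by
  let Φ : fp z' f ⥤ᵇ fp z f :=
    fpMap (F := z') (G := f) (F' := z) (G' := f) (BasedFunctor.id 𝒵) (BasedFunctor.id 𝒳)
      (BasedFunctor.id 𝒴) e.symm (Iso.refl _)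
  have hΦ : IsEquivOver Φ :=
    fpMap_isEquivOver _ _ _ _ _ (isEquivOver_id _) (isEquivOver_id _) (isEquivOver_id _)
  have hb := points_map_bijective_of_isEquivOver _ hΦ
  have hfst : BasedFunctor.comp Φ (fpFst z f) = fpFst z' f := rfl
  intro a b hab
  apply hb.1
  apply hinj
  rw [← points_map_comp, ← points_map_comp, hfst]
  exact hab

/-- A universally injective morphism to an algebraic stack is injective on points. -/
theorem injective_of_isUnivInjective (h𝒴 : AlgSt.IsAlgStack Scheme.fppfPrecoverage 𝒴) (f : 𝒳 ⥤ᵇ 𝒴)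
    (hf : AlgSt.IsUnivInjective Scheme.fppfPrecoverage f) :
    Function.Injective (AlgSt.Points.map f) := by
  have h1 := hf 𝒴 h𝒴 (BasedFunctor.id 𝒴)
  have hb := points_map_bijective_of_isEquivOver _
    (fpSnd_isEquivOver (BasedFunctor.id 𝒴) f (isEquivOver_id 𝒴))
  intro a b hab
  obtain ⟨a', rfl⟩ := hb.2 a
  obtain ⟨b', rfl⟩ := hb.2 b
  have e := fpIso (BasedFunctor.id 𝒴) f
  have ha : AlgSt.Points.map (fpFst (BasedFunctor.id 𝒴) f) a' =
      AlgSt.Points.map f (AlgSt.Points.map (fpSnd (BasedFunctor.id 𝒴) f) a') := by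
    rw [← points_map_comp, ← points_map_congr e, points_map_comp, points_map_id]
  have hb' : AlgSt.Points.map (fpFst (BasedFunctor.id 𝒴) f) b' =
      AlgSt.Points.map f (AlgSt.Points.map (fpSnd (BasedFunctor.id 𝒴) f) b') := by
    rw [← points_map_comp, ← points_map_congr e, points_map_comp, points_map_id]
  rw [h1 (ha.trans (hab.trans hb'.symm))]

/-- The key step: if the base change of `b₁` along `a₁` is injective on points and `z'` is a point of the
source of `a₁`, then two points of the source of `b₁` over the image of `z'` are equal. -/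
theorem eq_of_injective_fpFst {𝒜 ℬ : AlgSt.Cat S} (h𝒜 : IsFibGrpd 𝒜.p) (hℬ : IsFibGrpd ℬ.p)
    (h𝒵 : IsFibGrpd 𝒵.p) (a₁ : 𝒜 ⥤ᵇ 𝒵) (b₁ : ℬ ⥤ᵇ 𝒵)
    (hinj : Function.Injective (AlgSt.Points.map (fpFst a₁ b₁)))
    (z' : AlgSt.Points 𝒜) (p q : AlgSt.Points ℬ)
    (hp : AlgSt.Points.map b₁ p = AlgSt.Points.map a₁ z')
    (hq : AlgSt.Points.map b₁ q = AlgSt.Points.map a₁ z') : p = q := by
  obtain ⟨p', hp1, hp2⟩ := exists_points_fp hℬ h𝒵 h𝒜 b₁ a₁ z' p hp.symm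
  obtain ⟨q', hq1, hq2⟩ := exists_points_fp hℬ h𝒵 h𝒜 b₁ a₁ z' q hq.symm
  have : p' = q' := hinj (hp1.trans hq1.symm)
  rw [← hp2, ← hq2, this]

end Groth.Agent.Lib.Helper65

namespace Groth.Agent.Lib.Helper65

open FibCat Groth.Agent.Lib.Helper31

variable {S : Scheme.{u}} {𝒳 𝒴 𝒵 𝒲 : AlgSt.Cat S}

theorem isUnivInjective_fpFst (f : 𝒳 ⥤ᵇ 𝒴) (g : 𝒵 ⥤ᵇ 𝒴)
    (hf : AlgSt.IsUnivInjective Scheme.fppfPrecoverage f) :
    AlgSt.IsUnivInjective Scheme.fppfPrecoverage (fpFst g f) := by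
  intro 𝒲 h𝒲 h
  exact injective_fpFst_paste h g f (hf 𝒲 h𝒲 (BasedFunctor.comp h g))

theorem isUnivInjective_comp (h𝒴 : AlgSt.IsAlgStack Scheme.fppfPrecoverage 𝒴)
    (h𝒵 : AlgSt.IsAlgStack Scheme.fppfPrecoverage 𝒵)
    (f : 𝒳 ⥤ᵇ 𝒴) (g : 𝒴 ⥤ᵇ 𝒵) (hf : AlgSt.IsUnivInjective Scheme.fppfPrecoverage f)
    (hg : AlgSt.IsUnivInjective Scheme.fppfPrecoverage g) :
    AlgSt.IsUnivInjective Scheme.fppfPrecoverage (BasedFunctor.comp f g) := by
  intro 𝒲 h𝒲 h
  have halg : AlgSt.IsAlgStack Scheme.fppfPrecoverage (fp h g) :=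
    Groth.Agent.S12763.result h𝒵.isStack h𝒵.diag h𝒲 h𝒴 h g
  have hb := points_map_bijective_of_isEquivOver _ (fpPasteSnd_isEquivOver h g f)
  intro a b hab
  obtain ⟨a', rfl⟩ := hb.2 a
  obtain ⟨b', rfl⟩ := hb.2 b
  rw [← points_map_comp, ← points_map_comp, fpPasteSnd_comp_fpFst, points_map_comp,
    points_map_comp] at hab
  rw [hf (fp h g) halg (fpSnd h g) (hg 𝒲 h𝒲 h hab)]

end Groth.Agent.Lib.Helper65

namespace Groth.Agent.Lib.Helper65

open FibCat Groth.Agent.Lib.Helper31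

variable {S : Scheme.{u}} {𝒳 𝒴 𝒵 𝒲 : AlgSt.Cat S}

/-- Universal injectivity can be checked after base change along a surjective morphism from an algebraic
stack `𝒲` (whose fibre products with algebraic stacks over `𝒴` are algebraic). -/
theorem isUnivInjective_of_fpFst_surjective (h𝒳 : IsFibGrpd 𝒳.p)
    (h𝒴 : AlgSt.IsAlgStack Scheme.fppfPrecoverage 𝒴)
    (h𝒲 : AlgSt.IsAlgStack Scheme.fppfPrecoverage 𝒲) (f : 𝒳 ⥤ᵇ 𝒴) (w : 𝒲 ⥤ᵇ 𝒴)
    (hw : AlgSt.RepByAlgSpWith AlgSp.IsSurjectiveMor w)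
    (h : AlgSt.IsUnivInjective Scheme.fppfPrecoverage (fpFst w f)) :
    AlgSt.IsUnivInjective Scheme.fppfPrecoverage f := by
  intro 𝒵 h𝒵 g
  have hA : AlgSt.IsAlgStack Scheme.fppfPrecoverage (fp g w) :=
    Groth.Agent.S12763.result h𝒴.isStack h𝒴.diag h𝒵 h𝒲 g w
  have hsurj : AlgSt.IsSurjective (fpFst g w) :=
    isSurjective_of_repByAlgSpWith hA.isStack.1 h𝒵.isStack.1 _
      (repByAlgSpWith_fpFst AlgSp.IsSurjectiveMor w g hw)
  have hinj1 := h (fp g w) hA (fpSnd g w)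
  have hinj2 := injective_fpFst_unpaste (fpSnd g w) w f hinj1
  have hinj3 := injective_fpFst_of_iso (fpIso g w).symm f hinj2
  have hinj4 := injective_fpFst_paste (fpFst g w) g f hinj3
  intro p q hpq
  obtain ⟨z', hz'⟩ := hsurj (AlgSt.Points.map (fpFst g f) p)
  exact eq_of_injective_fpFst hA.isStack.1 (isFibGrpd_fp g f h𝒵.isStack.1 h𝒳 h𝒴.isStack.1)
    h𝒵.isStack.1 (fpFst g w) (fpFst g f) hinj4 z' p q hz'.symm (hpq ▸ hz'.symm)

end Groth.Agent.Lib.Helper65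

namespace Groth.Agent.Lib.Helper65

open FibCat Groth.Agent.Lib.Helper31

variable {S : Scheme.{u}} {𝒳 𝒴 𝒵 𝒲 : AlgSt.Cat S}

/-- Universal injectivity can be checked after base change to affine schemes. -/
theorem isUnivInjective_of_forall_affine (h𝒳 : IsFibGrpd 𝒳.p) (h𝒴 : IsFibGrpd 𝒴.p) (f : 𝒳 ⥤ᵇ 𝒴)
    (h : ∀ (Z : Over S) [IsAffine Z.left] (z : FibCat.overCat Z ⥤ᵇ 𝒴),
      AlgSt.IsUnivInjective Scheme.fppfPrecoverage (fpFst z f)) :
    AlgSt.IsUnivInjective Scheme.fppfPrecoverage f := by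
  intro 𝒵 h𝒵 g p q hpq
  obtain ⟨pz, hpz⟩ := AlgSt.Points.mk_surjective (AlgSt.Points.map (fpFst g f) p)
  obtain ⟨y, hy⟩ := exists_functor_of_fpt h𝒵.isStack.1 pz
  haveI : IsAffine (Over.mk pz.str).left :=
    (inferInstance : IsAffine (Spec (CommRingCat.of pz.K)))
  have hinjZ := h (Over.mk pz.str) (BasedFunctor.comp y g)
  have hinj1 := injective_of_isUnivInjective (isAlgStack_overCat (Over.mk pz.str)) _ hinjZ
  have hinj2 := injective_fpFst_paste y g f hinj1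
  refine eq_of_injective_fpFst (isFibGrpd_overForget _) (isFibGrpd_fp g f h𝒵.isStack.1 h𝒳 h𝒴)
    h𝒵.isStack.1 y (fpFst g f) hinj2 _ p q (hpz.symm.trans hy.symm) ?_
  rw [← hpq]
  exact hpz.symm.trans hy.symm

end Groth.Agent.Lib.Helper65
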