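import Groth.Agent.Lib.Helper65.SubSt
import Groth.Agent.Lib.Helper65.MonoFull
import Groth.Agent.Lib.Helper65.AlgSpMono
import Groth.Agent.Lib.Helper65.AlgStInv
import Groth.Agent.Lib.Helper65.LocalProps
import Groth.Agent.Lib.Helper65.GerbeBasic
import Groth.Agent.Lib.Helper65.FpFib

/-!
# Helper65: the substack attached to an immersion (essential image)
-/

set_option autoImplicit false

universe u

open CategoryTheory CategoryTheory.Functor CategoryTheory.Limits Opposite AlgebraicGeometry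

namespace Groth.Agent.Lib.Helper65

open FibCat Groth.Agent.Lib.Helper31

variable {S : Scheme.{u}} {𝒵 𝒳 : AlgSt.Cat S}

/-- The essential image of a functor over the base. -/
def essImage (i : 𝒵 ⥤ᵇ 𝒳) : 𝒳.obj → Prop := fun x => ∃ z : 𝒵.obj, Nonempty (i.obj z ≅ x)

theorem essImage_isClosedUnderIsomorphisms (i : 𝒵 ⥤ᵇ 𝒳) :
    ObjectProperty.IsClosedUnderIsomorphisms (essImage i) where
  of_iso := by
    rintro x y e ⟨z, ⟨e'⟩⟩
    exact ⟨z, ⟨e' ≪≫ e⟩⟩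

/-- The factorisation of a functor through its essential image. -/
def toEssImage (i : 𝒵 ⥤ᵇ 𝒳) : 𝒵 ⥤ᵇ AlgSt.fullSub 𝒳 (essImage i) :=
  liftFullSub (essImage i) i (fun z => ⟨z, ⟨Iso.refl _⟩⟩)

theorem toEssImage_comp_subIncl (i : 𝒵 ⥤ᵇ 𝒳) :
    BasedFunctor.comp (toEssImage i) (AlgSt.subIncl 𝒳 (essImage i)) = i := rfl

theorem toEssImage_essSurjOver (h𝒵 : IsFibGrpd 𝒵.p) (h𝒳 : IsFibGrpd 𝒳.p) (i : 𝒵 ⥤ᵇ 𝒳) :
    EssSurjOver (toEssImage i) := by
  rintro ⟨x, z, ⟨e⟩⟩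
  obtain ⟨z', c, hc⟩ := exists_lift_of_eq h𝒵 (i.w_obj z).symm (𝒳.p.map e.inv)
  have h1 : 𝒳.p.IsHomLift (𝒳.p.map e.inv) (i.map c) := inferInstance
  have h2 : 𝒳.p.IsHomLift (𝒳.p.map e.hom) e.hom := inferInstance
  have h3 : 𝒳.p.IsHomLift (𝒳.p.map e.inv ≫ 𝒳.p.map e.hom) (i.map c ≫ e.hom) := inferInstance
  have h4 : 𝒳.p.map e.inv ≫ 𝒳.p.map e.hom = 𝟙 (𝒳.p.obj x) := by
    rw [← Functor.map_comp, e.inv_hom_id, CategoryTheory.Functor.map_id]
  rw [h4] at h3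
  have hiso : IsIso (i.map c ≫ e.hom) := isIso_of_isHomLift_id h𝒳 _ h3
  let ε : i.obj z' ≅ x := @asIso _ _ _ _ (i.map c ≫ e.hom) hiso
  refine ⟨z', ObjectProperty.isoMk (essImage i) ε, ?_⟩
  rw [fullSub_isHomLift_iff]
  exact h3

theorem toEssImage_isEquivOver (h𝒵 : IsFibGrpd 𝒵.p) (h𝒳 : IsFibGrpd 𝒳.p) (i : 𝒵 ⥤ᵇ 𝒳)
    [i.toFunctor.Full] [i.toFunctor.Faithful] : IsEquivOver (toEssImage i) := by
  have : (toEssImage i).toFunctor.Full :=
    (inferInstance : (ObjectProperty.lift (essImage i) i.toFunctor _).Full)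
  have : (toEssImage i).toFunctor.Faithful :=
    (inferInstance : (ObjectProperty.lift (essImage i) i.toFunctor _).Faithful)
  exact isEquivOver_of_ff_ess _ (toEssImage_essSurjOver h𝒵 h𝒳 i)

/-- A strictly full subcategory through which `i` factors by an equivalence is the essential image. -/
theorem eq_essImage_of_equiv (i : 𝒵 ⥤ᵇ 𝒳) (Q' : 𝒳.obj → Prop)
    (hQ' : ObjectProperty.IsClosedUnderIsomorphisms Q')
    (i' : 𝒵 ⥤ᵇ AlgSt.fullSub 𝒳 Q') (hi' : IsEquivOver i')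
    (e : BasedFunctor.comp i' (AlgSt.subIncl 𝒳 Q') ≅ i) : Q' = essImage i := by
  obtain ⟨-, -, hess⟩ := isEquivOver_full_faithful_ess i' hi'
  funext x
  apply propext
  constructor
  · intro hx
    obtain ⟨z, ε, -⟩ := hess ⟨x, hx⟩
    refine ⟨z, ⟨?_⟩⟩
    exact (((BasedNatTrans.forgetful _ _).mapIso e).app z).symm ≪≫
      (ObjectProperty.ι Q').mapIso ε
  · rintro ⟨z, ⟨ε⟩⟩
    have h1 : Q' (i'.obj z).obj := (i'.obj z).property
    exact hQ'.of_iso ((((BasedNatTrans.forgetful _ _).mapIso e).app z) ≪≫ ε) h1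

end Groth.Agent.Lib.Helper65
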