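import Groth.Prelude.Def_NonAbH2
import Groth.Prelude.Def_ChGrp
import Mathlib.CategoryTheory.Sites.Hypercover.Zero

/-!
# Composition of torsors: local triviality and the cartesian square (helper65)
-/

set_option autoImplicit false
set_option backward.isDefEq.respectTransparency false
set_option backward.isDefEq.respectTransparency.types false
universe v₁ u₁ u

namespace Groth.Agent.Lib.Helper65.TorsorComp

open CategoryTheory Limits AlgebraicGeometry MonoidalCategory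
open CartesianMonoidalCategory MonObj

section General

variable {C : Type u₁} [Category.{v₁} C]

/-- A commutative square is cartesian as soon as it is so on points. -/
theorem isPullback_of_points {P A B D : C} (f : P ⟶ A) (g : P ⟶ B) (h : A ⟶ D) (k : B ⟶ D)
    (w : f ≫ h = g ≫ k)
    (H : ∀ (T : C) (x : T ⟶ A) (y : T ⟶ B), x ≫ h = y ≫ k → ∃! z : T ⟶ P, z ≫ f = x ∧ z ≫ g = y) :
    IsPullback f g h k := by
  refine ⟨⟨w⟩, ⟨PullbackCone.IsLimit.mk w (fun s => (H s.pt s.fst s.snd s.condition).choose) ?_ ?_ ?_⟩⟩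
  · intro s
    exact (H s.pt s.fst s.snd s.condition).choose_spec.1.1
  · intro s
    exact (H s.pt s.fst s.snd s.condition).choose_spec.1.2
  · intro s m h1 h2
    exact (H s.pt s.fst s.snd s.condition).choose_spec.2 m ⟨h1, h2⟩

end General

section LocTriv

/-- Local triviality composes, for a precoverage stable under base change and composition. -/
theorem isLocallyTrivialFor_comp (K : Precoverage Scheme.{u}) [K.IsStableUnderBaseChange]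
    [K.IsStableUnderComposition] {X Y Z : Scheme.{u}} (f : X ⟶ Y) (g : Y ⟶ Z)
    (h₁ : NonAbH1.IsLocallyTrivialFor K (Over.mk f : Over Y))
    (h₂ : NonAbH1.IsLocallyTrivialFor K (Over.mk g : Over Z)) :
    NonAbH1.IsLocallyTrivialFor K (Over.mk (f ≫ g) : Over Z) := by
  obtain ⟨R₁, hR₁, hs₁⟩ := h₁
  obtain ⟨R₂, hR₂, hs₂⟩ := h₂
  obtain ⟨E₁, rfl⟩ := R₁.exists_eq_preZeroHypercover
  obtain ⟨E₂, rfl⟩ := R₂.exists_eq_preZeroHypercover
  let 𝒰₁ : K.ZeroHypercover Y := ⟨E₁, hR₁⟩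
  let 𝒰₂ : K.ZeroHypercover Z := ⟨E₂, hR₂⟩
  choose t ht using fun i : E₂.I₀ => hs₂ (E₂.f i) ⟨i⟩
  choose s hs using fun j : E₁.I₀ => hs₁ (E₁.f j) ⟨j⟩
  let 𝒲 : K.ZeroHypercover Z := 𝒰₂.bind (fun i => 𝒰₁.pullback₁ (t i))
  refine ⟨𝒲.presieve₀, 𝒲.mem₀, ?_⟩
  rintro S' _ ⟨⟨i, j⟩⟩
  refine ⟨pullback.snd (t i) (E₁.f j) ≫ s j, ?_⟩
  change (pullback.snd (t i) (E₁.f j) ≫ s j) ≫ f ≫ g = pullback.fst (t i) (E₁.f j) ≫ E₂.f i
  have e1 : s j ≫ f = E₁.f j := hs j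
  have e2 : t i ≫ g = E₂.f i := ht i
  rw [Category.assoc, reassoc_of% e1, ← pullback.condition_assoc, e2]

end LocTriv

section Cart

variable {S : Scheme.{u}} {G N Q H X Y Z : Over S} [GrpObj G] [GrpObj N] [GrpObj Q] [GrpObj H]

/-- Composition of torsors: the cartesian action square. -/
theorem isPullback_comp
    (iN : N ⟶ G) [IsMonHom iN] (q : G ⟶ Q) [IsMonHom q] (hker : AlgGrp.IsKernel iN q)
    (iH : H ⟶ G) [IsIso (iH ≫ q)]
    (a : AlgGrp.Action G X) (φ₁ : X ⟶ Y)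
    (h₁ : IsPullback (a.restrict iN).act (snd N X) φ₁ φ₁)
    (aY : AlgGrp.Action Q Y) (hequiv : (q ⊗ₘ φ₁) ≫ aY.act = a.act ≫ φ₁)
    (φ₂ : Y ⟶ Z) (h₂ : IsPullback aY.act (snd Q Y) φ₂ φ₂) :
    IsPullback a.act (snd G X) (φ₁ ≫ φ₂) (φ₁ ≫ φ₂) := by
  -- equivariance on points
  have heq : ∀ {T : Over S} (g : T ⟶ G) (x : T ⟶ X),
      (lift g x ≫ a.act) ≫ φ₁ = lift (g ≫ q) (x ≫ φ₁) ≫ aY.act := by
    intro T g x
    rw [Category.assoc, ← hequiv, lift_map_assoc]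
  -- invariance of φ₂ on points
  have hinv₂ : ∀ {T : Over S} (c : T ⟶ Q) (y : T ⟶ Y), (lift c y ≫ aY.act) ≫ φ₂ = y ≫ φ₂ := by
    intro T c y
    rw [Category.assoc, h₂.w, lift_snd_assoc]
  have w : a.act ≫ φ₁ ≫ φ₂ = snd G X ≫ φ₁ ≫ φ₂ := by
    apply AlgGrp.Action.hom_ext_lift₂
    intro T g x
    rw [← Category.assoc, ← Category.assoc, heq, hinv₂, lift_snd_assoc, Category.assoc]
  refine isPullback_of_points _ _ _ _ w ?_
  intro T x₁ x₂ hx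
  -- step 1: the element of Q
  have hx' : (x₁ ≫ φ₁) ≫ φ₂ = (x₂ ≫ φ₁) ≫ φ₂ := by simpa using hx
  obtain ⟨c, hcact⟩ : ∃ c : T ⟶ Q, lift c (x₂ ≫ φ₁) ≫ aY.act = x₁ ≫ φ₁ := by
    obtain ⟨w₂, hw₂a, hw₂b⟩ := h₂.exists_lift (x₁ ≫ φ₁) (x₂ ≫ φ₁) hx'
    refine ⟨w₂ ≫ fst Q Y, ?_⟩
    have e : lift (w₂ ≫ fst Q Y) (x₂ ≫ φ₁) = w₂ := by
      apply CartesianMonoidalCategory.hom_ext
      · rw [lift_fst]
      · rw [lift_snd, hw₂b]
    rw [e, hw₂a]
  -- uniqueness of c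
  have hcuniq : ∀ c' : T ⟶ Q, lift c' (x₂ ≫ φ₁) ≫ aY.act = x₁ ≫ φ₁ → c' = c := by
    intro c' hc'
    have e : lift c' (x₂ ≫ φ₁) = lift c (x₂ ≫ φ₁) :=
      h₂.hom_ext (by rw [hc', hcact]) (by rw [lift_snd, lift_snd])
    have h3 := congrArg (· ≫ fst Q Y) e
    simpa using h3
  -- step 2: lift to G
  obtain ⟨h, hhq⟩ : ∃ h : T ⟶ G, h ≫ q = c :=
    ⟨c ≫ inv (iH ≫ q) ≫ iH, by
      rw [Category.assoc, Category.assoc, IsIso.inv_hom_id, Category.comp_id]⟩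
  obtain ⟨x₂', hx₂'⟩ : ∃ x₂' : T ⟶ X, x₂' = lift h x₂ ≫ a.act := ⟨_, rfl⟩
  have hx₂'φ : x₂' ≫ φ₁ = x₁ ≫ φ₁ := by rw [hx₂', heq, hhq, hcact]
  -- step 3: the element of N
  obtain ⟨n, hnact⟩ : ∃ n : T ⟶ N, lift (n ≫ iN) x₂' ≫ a.act = x₁ := by
    obtain ⟨w₁, hw₁a, hw₁b⟩ := h₁.exists_lift x₁ x₂' hx₂'φ.symm
    refine ⟨w₁ ≫ fst N X, ?_⟩
    have e : lift (w₁ ≫ fst N X) x₂' = w₁ := by
      apply CartesianMonoidalCategory.hom_ext
      · rw [lift_fst]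
      · rw [lift_snd, hw₁b]
    rw [← AlgGrp.Action.lift_restrict_act iN a, e, hw₁a]
  have hnuniq : ∀ n' : T ⟶ N, lift (n' ≫ iN) x₂' ≫ a.act = x₁ → n' = n := by
    intro n' hn'
    have e : lift n' x₂' = lift n x₂' :=
      h₁.hom_ext
        (by rw [AlgGrp.Action.lift_restrict_act iN a, AlgGrp.Action.lift_restrict_act iN a, hn', hnact])
        (by rw [lift_snd, lift_snd])
    have h3 := congrArg (· ≫ fst N X) e
    simpa using h3
  refine ⟨lift ((n ≫ iN) * h) x₂, ⟨?_, lift_snd _ _⟩, ?_⟩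
  · rw [AlgGrp.Action.lift_mul_act, ← hx₂', hnact]
  · rintro z ⟨hz1, hz2⟩
    obtain ⟨g', hg'⟩ : ∃ g' : T ⟶ G, g' = z ≫ fst G X := ⟨_, rfl⟩
    have hz : z = lift g' x₂ := by
      apply CartesianMonoidalCategory.hom_ext
      · rw [lift_fst, hg']
      · rw [lift_snd, hz2]
    have hg'act : lift g' x₂ ≫ a.act = x₁ := by rw [← hz, hz1]
    have hg'q : g' ≫ q = c := by
      apply hcuniq
      rw [← heq, hg'act]
    -- g' * h⁻¹ lies in the kernel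
    have hk : (g' * h⁻¹) ≫ q = toUnit T ≫ η[Q] := by
      rw [MonObj.mul_comp, GrpObj.inv_comp, hg'q, hhq, mul_inv_cancel, Hom.one_def]
    obtain ⟨n', hn'1, -⟩ := hker.exists_lift (g' * h⁻¹) (toUnit T) hk
    have hg'eq : g' = (n' ≫ iN) * h := by rw [hn'1, inv_mul_cancel_right]
    have hn'n : n' = n := by
      apply hnuniq
      rw [hx₂', ← AlgGrp.Action.lift_mul_act, ← hg'eq, hg'act]
    rw [hz, hg'eq, hn'n]

end Cart

end Groth.Agent.Lib.Helper65.TorsorComp
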