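import Groth.Prelude.Def_W4stkalgstUpp
import Mathlib.CategoryTheory.Localization.CalculusOfFractions
import Mathlib.CategoryTheory.FiberedCategory.Fibered
import Mathlib.CategoryTheory.Limits.Shapes.Pullback.IsPullback.Basic
import Mathlib.CategoryTheory.Limits.Preserves.Shapes.Equalizers
import Mathlib.CategoryTheory.Limits.Shapes.FiniteLimits

/-!
# Helper65: the class `R` of `u_pp 𝒮` admits a right calculus of fractions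
-/

set_option autoImplicit false

universe v₃ u₃ v₂ u₂ v u

open CategoryTheory CategoryTheory.Functor CategoryTheory.Limits

namespace Groth.Agent.Lib.Helper65.UppFrac

open Stk

variable {C : Type u} [Category.{v} C] {D : Type u₂} [Category.{v₂} D] {u : C ⥤ D}
  {𝒮 : BasedCategory.{v₃, u₃} C}

theorem isStronglyCartesian_map_self' {x y : 𝒮.obj} {R S : C} (f : R ⟶ S) (φ : x ⟶ y)
    (h : 𝒮.p.IsStronglyCartesian f φ) : 𝒮.p.IsStronglyCartesian (𝒮.p.map φ) φ := by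
  have h' : 𝒮.p.IsHomLift f φ := inferInstance
  revert h
  obtain ⟨⟩ := h'
  intro h
  exact h

/-- strongly cartesian lifts with a prescribed base -/
theorem exists_cart [𝒮.p.IsFibered] (x : 𝒮.obj) {E : C} (e : E ⟶ 𝒮.p.obj x) :
    ∃ (y : 𝒮.obj) (hy : 𝒮.p.obj y = E) (τ : y ⟶ x),
      𝒮.p.IsStronglyCartesian (𝒮.p.map τ) τ ∧ 𝒮.p.map τ = eqToHom hy ≫ e := by
  obtain ⟨y, τ, hτ⟩ := IsPreFibered.exists_isCartesian' (p := 𝒮.p) (a := x) e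
  have hτs : 𝒮.p.IsStronglyCartesian e τ := inferInstance
  have hy : 𝒮.p.obj y = E := IsHomLift.domain_eq 𝒮.p e τ
  refine ⟨y, hy, τ, isStronglyCartesian_map_self' e τ hτs, ?_⟩
  have := IsHomLift.fac' 𝒮.p e τ
  simpa using this

theorem uppR_id (a : UppObj u 𝒮) : uppR u 𝒮 (𝟙 a) := by
  refine ⟨?_, ?_⟩
  · change 𝒮.p.IsStronglyCartesian (𝒮.p.map (𝟙 a.x)) (𝟙 a.x)
    infer_instance
  · change IsIso (𝟙 a.V)
    infer_instance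

theorem uppR_comp {a b c : UppObj u 𝒮} (f : a ⟶ b) (g : b ⟶ c) (hf : uppR u 𝒮 f) (hg : uppR u 𝒮 g) :
    uppR u 𝒮 (f ≫ g) := by
  obtain ⟨hf1, hf2⟩ := hf
  obtain ⟨hg1, hg2⟩ := hg
  refine ⟨?_, ?_⟩
  · change 𝒮.p.IsStronglyCartesian (𝒮.p.map (f.top ≫ g.top)) (f.top ≫ g.top)
    rw [𝒮.p.map_comp]
    infer_instance
  · change IsIso (f.bot ≫ g.bot)
    infer_instance

instance : (uppR u 𝒮).IsMultiplicative where
  id_mem a := uppR_id a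
  comp_mem f g hf hg := uppR_comp f g hf hg

theorem exists_rightFraction_aux {a b b' : UppObj u 𝒮} (f : a ⟶ b') (s : b ⟶ b') (hs : uppR u 𝒮 s)
    {E : C} (pr₁ : E ⟶ 𝒮.p.obj a.x) (pr₂ : E ⟶ 𝒮.p.obj b.x)
    (hpb : IsPullback (u.map pr₁) (u.map pr₂) (u.map (𝒮.p.map f.top)) (u.map (𝒮.p.map s.top)))
    (hcomm : pr₁ ≫ 𝒮.p.map f.top = pr₂ ≫ 𝒮.p.map s.top)
    (y : 𝒮.obj) (hy : 𝒮.p.obj y = E) (τ : y ⟶ a.x) (hτ : 𝒮.p.IsStronglyCartesian (𝒮.p.map τ) τ)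
    (hfac : 𝒮.p.map τ = eqToHom hy ≫ pr₁) :
    ∃ (a' : UppObj u 𝒮) (t : a' ⟶ a) (g : a' ⟶ b), uppR u 𝒮 t ∧ t ≫ f = g ≫ s := by
  subst hy
  rw [eqToHom_refl, Category.id_comp] at hfac
  subst hfac
  obtain ⟨hs1, hs2⟩ := hs
  have hcompat : a.φ ≫ u.map (𝒮.p.map f.top) = (f.bot ≫ inv s.bot ≫ b.φ) ≫ u.map (𝒮.p.map s.top) := by
    rw [f.w, Category.assoc, Category.assoc, s.w, IsIso.inv_hom_id_assoc]
  have hl1 : hpb.lift a.φ (f.bot ≫ inv s.bot ≫ b.φ) hcompat ≫ u.map (𝒮.p.map τ) = a.φ := hpb.lift_fst _ _ _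
  have hl2 : hpb.lift a.φ (f.bot ≫ inv s.bot ≫ b.φ) hcompat ≫ u.map pr₂ = f.bot ≫ inv s.bot ≫ b.φ :=
    hpb.lift_snd _ _ _
  have hf' : 𝒮.p.map (τ ≫ f.top) = pr₂ ≫ 𝒮.p.map s.top := by rw [𝒮.p.map_comp, hcomm]
  have hg1 : 𝒮.p.IsHomLift pr₂ (IsStronglyCartesian.map 𝒮.p (𝒮.p.map s.top) s.top hf' (τ ≫ f.top)) :=
    inferInstance
  have hg2 : 𝒮.p.map (IsStronglyCartesian.map 𝒮.p (𝒮.p.map s.top) s.top hf' (τ ≫ f.top)) = pr₂ :=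
    (IsHomLift.eq_of_isHomLift 𝒮.p pr₂ _).symm
  have hg3 : IsStronglyCartesian.map 𝒮.p (𝒮.p.map s.top) s.top hf' (τ ≫ f.top) ≫ s.top = τ ≫ f.top :=
    IsStronglyCartesian.fac _ _ _ _ _
  refine ⟨⟨y, a.V, hpb.lift a.φ (f.bot ≫ inv s.bot ≫ b.φ) hcompat⟩,
    ⟨τ, 𝟙 a.V, by rw [hl1, Category.id_comp]⟩,
    ⟨IsStronglyCartesian.map 𝒮.p (𝒮.p.map s.top) s.top hf' (τ ≫ f.top), f.bot ≫ inv s.bot, by
      rw [hg2, hl2, Category.assoc]⟩, ⟨hτ, ?_⟩, ?_⟩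
  · change IsIso (𝟙 a.V)
    infer_instance
  · apply UppObj.hom_ext
    · exact hg3.symm
    · change 𝟙 a.V ≫ f.bot = (f.bot ≫ inv s.bot) ≫ s.bot
      rw [Category.id_comp, Category.assoc, IsIso.inv_hom_id, Category.comp_id]

theorem ext_aux {a b c : UppObj u 𝒮} (f₁ f₂ : a ⟶ b) (s : b ⟶ c) (hs : uppR u 𝒮 s)
    (h : f₁ ≫ s = f₂ ≫ s) {E : C} (e : E ⟶ 𝒮.p.obj a.x)
    (he : e ≫ 𝒮.p.map f₁.top = e ≫ 𝒮.p.map f₂.top)
    (hE : ∀ {Z : D} (k : Z ⟶ u.obj (𝒮.p.obj a.x)),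
      k ≫ u.map (𝒮.p.map f₁.top) = k ≫ u.map (𝒮.p.map f₂.top) → ∃ l : Z ⟶ u.obj E, l ≫ u.map e = k)
    (y : 𝒮.obj) (hy : 𝒮.p.obj y = E) (τ : y ⟶ a.x) (hτ : 𝒮.p.IsStronglyCartesian (𝒮.p.map τ) τ)
    (hfac : 𝒮.p.map τ = eqToHom hy ≫ e) :
    ∃ (a' : UppObj u 𝒮) (t : a' ⟶ a) (_ : uppR u 𝒮 t), t ≫ f₁ = t ≫ f₂ := by
  subst hy
  rw [eqToHom_refl, Category.id_comp] at hfac
  subst hfac
  obtain ⟨hs1, hs2⟩ := hs
  have htop : f₁.top ≫ s.top = f₂.top ≫ s.top := congrArg (fun m => m.top) h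
  have hbot : f₁.bot ≫ s.bot = f₂.bot ≫ s.bot := congrArg (fun m => m.bot) h
  have hbot' : f₁.bot = f₂.bot := by rwa [cancel_mono] at hbot
  have hk : a.φ ≫ u.map (𝒮.p.map f₁.top) = a.φ ≫ u.map (𝒮.p.map f₂.top) := by
    rw [f₁.w, f₂.w, hbot']
  obtain ⟨l, hl⟩ := hE a.φ hk
  have hmap : 𝒮.p.map (τ ≫ f₁.top) = 𝒮.p.map (τ ≫ f₂.top) := by
    rw [𝒮.p.map_comp, 𝒮.p.map_comp, he]
  have i1 : 𝒮.p.IsHomLift (𝒮.p.map (τ ≫ f₁.top)) (τ ≫ f₂.top) := by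
    rw [hmap]
    infer_instance
  have i2 : 𝒮.p.IsHomLift (𝒮.p.map (τ ≫ f₁.top) ≫ 𝒮.p.map s.top) ((τ ≫ f₁.top) ≫ s.top) := inferInstance
  have i3 : 𝒮.p.IsHomLift (𝒮.p.map (τ ≫ f₁.top) ≫ 𝒮.p.map s.top) ((τ ≫ f₂.top) ≫ s.top) := inferInstance
  have htop' : τ ≫ f₁.top = τ ≫ f₂.top := by
    apply IsStronglyCartesian.ext 𝒮.p (𝒮.p.map s.top) s.top (𝒮.p.map (τ ≫ f₁.top))
    rw [Category.assoc, Category.assoc, htop]
  refine ⟨⟨y, a.V, l⟩, ⟨τ, 𝟙 a.V, by rw [hl, Category.id_comp]⟩, ⟨hτ, ?_⟩, ?_⟩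
  · change IsIso (𝟙 a.V)
    infer_instance
  · apply UppObj.hom_ext
    · exact htop'
    · change 𝟙 a.V ≫ f₁.bot = 𝟙 a.V ≫ f₂.bot
      rw [hbot']

variable (u 𝒮)

theorem hasRightCalculusOfFractions [𝒮.p.IsFibered] [HasPullbacks C] [HasEqualizers C]
    [PreservesLimitsOfShape WalkingCospan u] [PreservesLimitsOfShape WalkingParallelPair u] :
    (uppR u 𝒮).HasRightCalculusOfFractions where
  exists_rightFraction := by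
    intro a b φ
    -- φ.f : a ⟶ φ.Y', φ.s : b ⟶ φ.Y'
    have hpb0 := IsPullback.of_hasPullback (𝒮.p.map φ.f.top) (𝒮.p.map φ.s.top)
    obtain ⟨y, hy, τ, hτ, hfac⟩ := exists_cart (𝒮 := 𝒮) a.x
      (pullback.fst (𝒮.p.map φ.f.top) (𝒮.p.map φ.s.top))
    obtain ⟨a', t, g, ht, hcomm⟩ := exists_rightFraction_aux (u := u) φ.f φ.s φ.hs
      (pullback.fst (𝒮.p.map φ.f.top) (𝒮.p.map φ.s.top))
      (pullback.snd (𝒮.p.map φ.f.top) (𝒮.p.map φ.s.top)) (hpb0.map u) pullback.condition y hy τ hτ hfac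
    exact ⟨⟨t, ht, g⟩, hcomm⟩
  ext := by
    intro a b c f₁ f₂ s hs h
    obtain ⟨y, hy, τ, hτ, hfac⟩ := exists_cart (𝒮 := 𝒮) a.x
      (equalizer.ι (𝒮.p.map f₁.top) (𝒮.p.map f₂.top))
    refine ext_aux (u := u) f₁ f₂ s hs h (equalizer.ι (𝒮.p.map f₁.top) (𝒮.p.map f₂.top))
      (equalizer.condition _ _) ?_ y hy τ hτ hfac
    intro Z k hk
    have hlim := isLimitForkMapOfIsLimit u (equalizer.condition (𝒮.p.map f₁.top) (𝒮.p.map f₂.top))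
      (equalizerIsEqualizer (𝒮.p.map f₁.top) (𝒮.p.map f₂.top))
    obtain ⟨l, hl⟩ := Fork.IsLimit.lift' hlim k hk
    exact ⟨l, hl⟩

end Groth.Agent.Lib.Helper65.UppFrac
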