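import Groth.Prelude.Def_W4stkalgstUpp
import Groth.Prelude.Def_FibCat2
import Groth.Agent.Lib.Helper65.UppFrac
import Groth.Agent.Lib.Helper31.FibCat

/-!
# Helper65: the localisation `u_p 𝒮` is fibred over `D`
-/

set_option autoImplicit false
set_option backward.isDefEq.respectTransparency false
set_option backward.isDefEq.respectTransparency.types false

universe v₃ u₃ v₂ u₂ v u

open CategoryTheory CategoryTheory.Functor CategoryTheory.Limits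

namespace Groth.Agent.Lib.Helper65.UpFib

open Stk MorphismProperty

variable {C : Type u} [Category.{v} C] {D : Type u₂} [Category.{v₂} D] (u : C ⥤ D)
  (𝒮 : BasedCategory.{v₃, u₃} C)

/-- the localisation functor -/
abbrev L : UppObj u 𝒮 ⥤ (uppR u 𝒮).Localization := (uppR u 𝒮).Q

/-- the structure functor of `u_p 𝒮` -/
noncomputable abbrev P : (uppR u 𝒮).Localization ⥤ D :=
  Localization.Construction.lift (UppObj.forget u 𝒮) (uppR_isInvertedBy u 𝒮)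

theorem up_p : (Stk.up u 𝒮).p = P u 𝒮 := rfl

theorem P_map_L {a b : UppObj u 𝒮} (f : a ⟶ b) : (P u 𝒮).map ((L u 𝒮).map f) = f.bot := by
  have := Functor.congr_hom
    (Localization.Construction.fac (UppObj.forget u 𝒮) (uppR_isInvertedBy u 𝒮)) f
  simpa using this

theorem exists_obj (c : (uppR u 𝒮).Localization) : ∃ c₀ : UppObj u 𝒮, c = (L u 𝒮).obj c₀ :=
  ⟨(Localization.Construction.objEquiv (uppR u 𝒮)).symm c,
    ((Localization.Construction.objEquiv (uppR u 𝒮)).apply_symm_apply c).symm⟩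

variable {u 𝒮}

theorem P_map_frac {a b : UppObj u 𝒮} (φ : (uppR u 𝒮).RightFraction a b) :
    φ.s.bot ≫ (P u 𝒮).map (φ.map (L u 𝒮) (Localization.inverts _ _)) = φ.f.bot := by
  rw [← P_map_L u 𝒮 φ.s, ← (P u 𝒮).map_comp, RightFraction.map_s_comp_map, P_map_L]

theorem isHomLift_of_map_eq {a b : (uppR u 𝒮).Localization} (φ : a ⟶ b)
    (f : (P u 𝒮).obj a ⟶ (P u 𝒮).obj b) (h : (P u 𝒮).map φ = f) : (P u 𝒮).IsHomLift f φ := by
  subst h
  infer_instance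

theorem frac_comp_map {a b c : UppObj u 𝒮} {a' : UppObj u 𝒮} (s : a' ⟶ a) (hs : uppR u 𝒮 s)
    (k : a' ⟶ b) (m : b ⟶ c) :
    (RightFraction.mk s hs k).map (L u 𝒮) (Localization.inverts _ _) ≫ (L u 𝒮).map m =
      (RightFraction.mk s hs (k ≫ m)).map (L u 𝒮) (Localization.inverts _ _) := by
  simp [RightFraction.map]

/-- change of the `D`-component -/
def baseChg (a₀ : UppObj u 𝒮) {R : D} (f : R ⟶ a₀.V) : (⟨a₀.x, R, f ≫ a₀.φ⟩ : UppObj u 𝒮) ⟶ a₀ :=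
  ⟨𝟙 a₀.x, f, by simp⟩

theorem isIso_bot {a b : UppObj u 𝒮} (s : a ⟶ b) (hs : uppR u 𝒮 s) : IsIso s.bot := hs.2

theorem isStronglyCartesian_baseChg [(uppR u 𝒮).HasRightCalculusOfFractions]
    (a₀ : UppObj u 𝒮) {R : D} (f : R ⟶ a₀.V) :
    (P u 𝒮).IsStronglyCartesian f ((L u 𝒮).map (baseChg a₀ f)) := by
  have hlift : (P u 𝒮).IsHomLift f ((L u 𝒮).map (baseChg a₀ f)) :=
    isHomLift_of_map_eq _ _ (P_map_L u 𝒮 (baseChg a₀ f))
  refine { universal_property' := ?_ }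
  intro c g φ' hφ'
  obtain ⟨c₀, rfl⟩ := exists_obj u 𝒮 c
  obtain ⟨ψ, rfl⟩ := Localization.exists_rightFraction (L u 𝒮) (uppR u 𝒮) φ'
  have hP : g ≫ f = (P u 𝒮).map (ψ.map (L u 𝒮) (Localization.inverts _ _)) :=
    IsHomLift.eq_of_isHomLift (p := P u 𝒮) (a := (L u 𝒮).obj c₀) (b := (L u 𝒮).obj a₀) (g ≫ f)
      (ψ.map (L u 𝒮) (Localization.inverts _ _))
  have hkey : ψ.s.bot ≫ g ≫ f = ψ.f.bot := by rw [hP]; exact P_map_frac ψ
  have := isIso_bot ψ.s ψ.hs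
  -- the lift
  let χ₀ : ψ.X' ⟶ (⟨a₀.x, R, f ≫ a₀.φ⟩ : UppObj u 𝒮) :=
    ⟨ψ.f.top, ψ.s.bot ≫ g, by
      rw [ψ.f.w, ← hkey]
      simp⟩
  have hχ₀ : χ₀ ≫ baseChg a₀ f = ψ.f := by
    apply UppObj.hom_ext
    · exact Category.comp_id _
    · change (ψ.s.bot ≫ g) ≫ f = ψ.f.bot
      rw [Category.assoc, hkey]
  have hχP : (P u 𝒮).map ((RightFraction.mk ψ.s ψ.hs χ₀).map (L u 𝒮) (Localization.inverts _ _)) = g := by
    have h := P_map_frac (RightFraction.mk ψ.s ψ.hs χ₀)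
    have h' : ψ.s.bot ≫ (P u 𝒮).map
        ((RightFraction.mk ψ.s ψ.hs χ₀).map (L u 𝒮) (Localization.inverts _ _)) = ψ.s.bot ≫ g := h
    exact (cancel_epi ψ.s.bot).1 h'
  refine ⟨(RightFraction.mk ψ.s ψ.hs χ₀).map (L u 𝒮) (Localization.inverts _ _),
    ⟨isHomLift_of_map_eq _ _ hχP, ?_⟩, ?_⟩
  · rw [frac_comp_map, hχ₀]
  · rintro χ' ⟨hχ'1, hχ'2⟩
    obtain ⟨ψ', rfl⟩ := Localization.exists_rightFraction (L u 𝒮) (uppR u 𝒮) χ'
    have := isIso_bot ψ'.s ψ'.hs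
    have hP' : g = (P u 𝒮).map (ψ'.map (L u 𝒮) (Localization.inverts _ _)) :=
      IsHomLift.eq_of_isHomLift (p := P u 𝒮) (a := (L u 𝒮).obj c₀)
        (b := (L u 𝒮).obj (⟨a₀.x, R, f ≫ a₀.φ⟩ : UppObj u 𝒮)) g
        (ψ'.map (L u 𝒮) (Localization.inverts _ _))
    have hkey' : ψ'.s.bot ≫ g = ψ'.f.bot := by rw [hP']; exact P_map_frac ψ'
    have h2 : (RightFraction.mk ψ'.s ψ'.hs (ψ'.f ≫ baseChg a₀ f)).map (L u 𝒮) (Localization.inverts _ _) =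
        ψ.map (L u 𝒮) (Localization.inverts _ _) := by
      rw [← frac_comp_map]
      exact hχ'2
    rw [RightFraction.map_eq_iff] at h2
    obtain ⟨Z, t₁, t₂, hst, hft, ht⟩ := h2
    rw [RightFraction.map_eq_iff]
    refine ⟨Z, t₁, t₂, hst, ?_, ht⟩
    have hst' : t₁.bot ≫ ψ'.s.bot = t₂.bot ≫ ψ.s.bot := congrArg (fun m => m.bot) hst
    have hft' : t₁.top ≫ ψ'.f.top ≫ 𝟙 _ = t₂.top ≫ ψ.f.top := congrArg (fun m => m.top) hft
    apply UppObj.hom_ext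
    · change t₁.top ≫ ψ'.f.top = t₂.top ≫ ψ.f.top
      rw [← hft', Category.comp_id]
    · change t₁.bot ≫ ψ'.f.bot = t₂.bot ≫ ψ.s.bot ≫ g
      rw [← hkey', ← Category.assoc, hst', Category.assoc]

theorem isFibered [(uppR u 𝒮).HasRightCalculusOfFractions] : (Stk.up u 𝒮).p.IsFibered := by
  rw [up_p]
  apply IsFibered.of_exists_isStronglyCartesian
  intro a R f
  obtain ⟨a₀, rfl⟩ := exists_obj u 𝒮 a
  exact ⟨_, (L u 𝒮).map (baseChg a₀ f), isStronglyCartesian_baseChg a₀ f⟩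

theorem isFibGrpd [(uppR u 𝒮).HasRightCalculusOfFractions] (h𝒮 : FibCat.IsFibGrpd 𝒮.p) :
    FibCat.IsFibGrpd (Stk.up u 𝒮).p := by
  rw [up_p]
  refine ⟨?_, ?_⟩
  · intro x V f
    obtain ⟨a₀, rfl⟩ := exists_obj u 𝒮 x
    have := isStronglyCartesian_baseChg a₀ f
    exact ⟨_, (L u 𝒮).map (baseChg a₀ f), inferInstance⟩
  · intro y x φ
    obtain ⟨a₀, rfl⟩ := exists_obj u 𝒮 x
    obtain ⟨c₀, rfl⟩ := exists_obj u 𝒮 y
    obtain ⟨ψ, rfl⟩ := Localization.exists_rightFraction (L u 𝒮) (uppR u 𝒮) φ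
    -- factor the numerator
    let h₁ : ψ.X' ⟶ (⟨a₀.x, ψ.X'.V, ψ.f.bot ≫ a₀.φ⟩ : UppObj u 𝒮) :=
      ⟨ψ.f.top, 𝟙 _, by rw [ψ.f.w, Category.id_comp]⟩
    have hh₁ : uppR u 𝒮 h₁ := ⟨h𝒮.isStronglyCartesian ψ.f.top, by change IsIso (𝟙 _); infer_instance⟩
    have hfac : h₁ ≫ baseChg a₀ ψ.f.bot = ψ.f := by
      apply UppObj.hom_ext
      · exact Category.comp_id _
      · exact Category.id_comp _
    have : IsIso ((L u 𝒮).map h₁) := Localization.inverts (L u 𝒮) (uppR u 𝒮) h₁ hh₁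
    have : IsIso ((L u 𝒮).map ψ.s) := Localization.inverts (L u 𝒮) (uppR u 𝒮) ψ.s ψ.hs
    have hφ : ψ.map (L u 𝒮) (Localization.inverts _ _) =
        (inv ((L u 𝒮).map ψ.s) ≫ (L u 𝒮).map h₁) ≫ (L u 𝒮).map (baseChg a₀ ψ.f.bot) := by
      rw [Category.assoc, ← (L u 𝒮).map_comp, hfac]
      rfl
    rw [hφ, (P u 𝒮).map_comp, P_map_L]
    have := isStronglyCartesian_baseChg a₀ ψ.f.bot
    change (P u 𝒮).IsStronglyCartesian
      ((P u 𝒮).map (inv ((L u 𝒮).map ψ.s) ≫ (L u 𝒮).map h₁) ≫ ψ.f.bot)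
      ((inv ((L u 𝒮).map ψ.s) ≫ (L u 𝒮).map h₁) ≫ (L u 𝒮).map (baseChg a₀ ψ.f.bot))
    infer_instance

end Groth.Agent.Lib.Helper65.UpFib
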