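import Groth.Prelude.Def_AlgSt
import Groth.Agent.Lib.Helper31.Yoneda2
import Groth.Agent.Lib.Helper31.FibCatFiber
import Groth.Agent.Lib.Helper65.BasedPost

/-!
# Helper65: 2-Yoneda and postcomposition — full faithfulness of a functor over the base can be tested on
functors out of the slices
-/

set_option autoImplicit false
set_option backward.isDefEq.respectTransparency false
set_option backward.isDefEq.respectTransparency.types false

universe v₅ u₅ v₄ u₄ v₃ u₃ v₂ u₂ v u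

open CategoryTheory CategoryTheory.Functor

namespace Groth.Agent.Lib.Helper65

open FibCat Groth.Agent.Lib.Helper31

variable {C : Type u} [Category.{v} C]
variable {𝒳 : BasedCategory.{v₂, u₂} C} {𝒴 : BasedCategory.{v₃, u₃} C}

theorem post_evalAtId (F : 𝒳 ⥤ᵇ 𝒴) (U : C) :
    post (overCat U) F ⋙ evalAtId 𝒴 U = evalAtId 𝒳 U ⋙ fiberFunctor F U := rfl

theorem fiberFunctor_faithful_of_post (h𝒳 : IsFibGrpd 𝒳.p) (h𝒴 : IsFibGrpd 𝒴.p) (F : 𝒳 ⥤ᵇ 𝒴) (U : C)
    (h : (post (overCat U) F).Faithful) : (fiberFunctor F U).Faithful := by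
  have e1 : (evalAtId 𝒳 U).IsEquivalence := evalAtId_isEquivalence_of_isFibGrpd h𝒳 U
  have e2 : (evalAtId 𝒴 U).IsEquivalence := evalAtId_isEquivalence_of_isFibGrpd h𝒴 U
  have h1 : (evalAtId 𝒳 U ⋙ fiberFunctor F U).Faithful := by
    rw [← post_evalAtId]; infer_instance
  refine CategoryTheory.Functor.faithful_of_comp_essSurj (fiberFunctor F U) (evalAtId 𝒳 U)
    (fun X₁ X₂ f g hfg => ?_)
  obtain ⟨f', rfl⟩ := (evalAtId 𝒳 U).map_surjective f
  obtain ⟨g', rfl⟩ := (evalAtId 𝒳 U).map_surjective g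
  congr 1
  exact (evalAtId 𝒳 U ⋙ fiberFunctor F U).map_injective hfg

theorem fiberFunctor_full_of_post (h𝒳 : IsFibGrpd 𝒳.p) (h𝒴 : IsFibGrpd 𝒴.p) (F : 𝒳 ⥤ᵇ 𝒴) (U : C)
    (h : (post (overCat U) F).Full) : (fiberFunctor F U).Full := by
  have e1 : (evalAtId 𝒳 U).IsEquivalence := evalAtId_isEquivalence_of_isFibGrpd h𝒳 U
  have e2 : (evalAtId 𝒴 U).IsEquivalence := evalAtId_isEquivalence_of_isFibGrpd h𝒴 U
  have h1 : (evalAtId 𝒳 U ⋙ fiberFunctor F U).Full := by
    rw [← post_evalAtId]; infer_instance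
  refine CategoryTheory.Functor.full_of_comp_essSurj (fiberFunctor F U) (evalAtId 𝒳 U)
    (fun X₁ X₂ φ => ?_)
  obtain ⟨g, hg⟩ := (evalAtId 𝒳 U ⋙ fiberFunctor F U).map_surjective φ
  exact ⟨(evalAtId 𝒳 U).map g, hg⟩

/-- Full faithfulness of a functor over the base between categories fibred in groupoids can be tested after
postcomposition on functors out of the slices. -/
theorem fullyFaithful_iff_post (h𝒳 : IsFibGrpd 𝒳.p) (h𝒴 : IsFibGrpd 𝒴.p) (F : 𝒳 ⥤ᵇ 𝒴) :
    (F.toFunctor.Full ∧ F.toFunctor.Faithful) ↔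
      ∀ U : C, (post (overCat U) F).Full ∧ (post (overCat U) F).Faithful := by
  constructor
  · rintro ⟨h1, h2⟩ U
    exact ⟨post_full _ F, post_faithful _ F⟩
  · intro h
    exact ⟨full_of_fiberFunctor_full F h𝒳 h𝒴 (fun U => fiberFunctor_full_of_post h𝒳 h𝒴 F U (h U).1),
      faithful_of_fiberFunctor_faithful F h𝒳 h𝒴
        (fun U => fiberFunctor_faithful_of_post h𝒳 h𝒴 F U (h U).2)⟩

end Groth.Agent.Lib.Helper65
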